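import Cfsg.Agent.H8.OutTool2

/-!
# Kernel-checkable upper bounds for subgroups: closed transversals of a three-point stabiliser chain
-/

set_option autoImplicit false
set_option linter.all false
set_option maxHeartbeats 400000

namespace Cfsg.Agent.H8

theorem mem_closed {G : Type*} [Group G] [Finite G] (M S : Set G) (h : ∀ t ∈ S, ∀ m ∈ M, m * t ∈ M) :
    ∀ t ∈ Subgroup.closure S, ∀ m ∈ M, m * t ∈ M := by
  intro t ht
  induction ht using Subgroup.closure_induction with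
  | mem x hx => exact h x hx
  | one => intro m hm; rwa [mul_one]
  | mul x y _ _ hx hy => intro m hm; rw [← mul_assoc]; exact hy _ (hx _ hm)
  | inv x _ hx =>
    have hp : ∀ k : ℕ, ∀ m ∈ M, m * x ^ k ∈ M := by
      intro k
      induction k with
      | zero => intro m hm; rwa [pow_zero, mul_one]
      | succ k ih => intro m hm; rw [pow_succ, ← mul_assoc]; exact hx _ (ih m hm)
    have e : x⁻¹ = x ^ (orderOf x - 1) := by
      rw [eq_comm, ← mul_eq_one_iff_eq_inv, ← pow_succ, Nat.sub_add_cancel (orderOf_pos x), pow_orderOf_eq_one]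
    rw [e]
    exact hp _

section

variable {G : Type*} [Group G] (s : Nat → G) {n L : Nat} {T : Nat → Nat → Nat} {inv : Nat → Nat}
  (hT : TableOK n L T inv) (ρ : G →* Equiv.Perm (Fin n)) (hρ : ∀ l < L, ρ (s l) = permL hT l)

include hρ in
theorem walk_spec (K : Subgroup G) (b : Fin n) (Q : Nat → Nat) (gens : List (List Nat))
    (hgL : ∀ w ∈ gens, ∀ l ∈ w, l < L) (hgK : ∀ w ∈ gens, (w.map s).prod ∈ K) : ∀ (fuel : Nat) (x : Fin n),
    ∃ u ∈ K, (x = b → u = 1) ∧ ∀ (k : List Nat → Bool) (xs : List (Fin n)),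
      walkF Q (gens.map (·.map T)) b k fuel x (xs.map Fin.val) = true →
        act ρ x u = b ∧ k (xs.map fun y => ((act ρ y u : Fin n) : Nat)) = true := by
  intro fuel
  induction fuel with
  | zero =>
    intro x
    exact ⟨1, K.one_mem, fun _ => rfl, fun k xs h => absurd (show (false : Bool) = true from h) (by decide)⟩
  | succ fuel ih =>
    intro x
    by_cases hb : x = b
    · refine ⟨1, K.one_mem, fun _ => rfl, fun k xs h => ⟨by rw [act_one, hb], ?_⟩⟩
      have e : walkF Q (gens.map (·.map T)) b k (fuel + 1) x (xs.map Fin.val) =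
        @Bool.rec (fun _ => Bool)
          (force (Nat.land (Q x) (nat_lit 15)) fun c =>
            trT (getL [] (gens.map (·.map T)) c) (fun x' => mapF (getL [] (gens.map (·.map T)) c)
              (xs.map Fin.val) (fun xs' => walkF Q (gens.map (·.map T)) b k fuel x' xs')) x)
          (k (xs.map Fin.val)) (Nat.beq x b) := rfl
      rw [e] at h
      have hbb : Nat.beq x b = true := by rw [hb]; exact Nat.beq_refl b
      rw [hbb] at h
      have h2 : (xs.map fun y => ((act ρ y 1 : Fin n) : Nat)) = xs.map Fin.val := by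
        apply List.map_congr_left
        intro y _
        rw [act_one]
      rw [h2]
      exact h
    · have hw : ∃ w : List Nat, (w = [] ∨ w ∈ gens) ∧
          getL [] (gens.map (·.map T)) (Nat.land (Q x) (nat_lit 15)) = w.map T := by
        rcases getL_mem_or ([] : List (Nat → Nat)) (gens.map (·.map T)) (Nat.land (Q x) (nat_lit 15)) with h4 | h4
        · exact ⟨[], Or.inl rfl, h4⟩
        · obtain ⟨w, hw, hw'⟩ := List.mem_map.1 h4
          exact ⟨w, Or.inr hw, hw'.symm⟩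
      obtain ⟨w, hw, hw'⟩ := hw
      have hwL : ∀ l ∈ w, l < L := by
        rcases hw with rfl | hw
        · simp
        · exact hgL w hw
      have hwm : (w.map s).prod ∈ K := by
        rcases hw with rfl | hw
        · simp
        · exact hgK w hw
      obtain ⟨u, hu, _, hk⟩ := ih (act ρ x (w.map s).prod)
      refine ⟨(w.map s).prod * u, K.mul_mem hwm hu, fun h => absurd h hb, ?_⟩
      intro k xs h
      have e : walkF Q (gens.map (·.map T)) b k (fuel + 1) x (xs.map Fin.val) =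
        @Bool.rec (fun _ => Bool)
          (force (Nat.land (Q x) (nat_lit 15)) fun c =>
            trT (getL [] (gens.map (·.map T)) c) (fun x' => mapF (getL [] (gens.map (·.map T)) c)
              (xs.map Fin.val) (fun xs' => walkF Q (gens.map (·.map T)) b k fuel x' xs')) x)
          (k (xs.map Fin.val)) (Nat.beq x b) := rfl
      rw [e] at h
      have hbb : Nat.beq x b = false := by
        cases h5 : Nat.beq x b with
        | false => rfl
        | true => exact absurd (Fin.ext (Nat.eq_of_beq_eq_true h5)) hb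
      rw [hbb] at h
      have h' : (force (Nat.land (Q x) (nat_lit 15)) fun c =>
            trT (getL [] (gens.map (·.map T)) c) (fun x' => mapF (getL [] (gens.map (·.map T)) c)
              (xs.map Fin.val) (fun xs' => walkF Q (gens.map (·.map T)) b k fuel x' xs')) x) = true := h
      rw [force_eq, hw', trT_eq, mapF_eq] at h'
      have ex : trN T w x = ((act ρ x (w.map s).prod : Fin n) : Nat) := (act_word s hT ρ hρ x w hwL).symm
      have exs : (xs.map Fin.val).map (trN T w) = (xs.map fun y => act ρ y (w.map s).prod).map Fin.val := by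
        rw [List.map_map, List.map_map]
        apply List.map_congr_left
        intro y _
        exact (act_word s hT ρ hρ y w hwL).symm
      rw [ex, exs] at h'
      obtain ⟨h6, h7⟩ := hk k _ h'
      refine ⟨by rw [act_mul]; exact h6, ?_⟩
      rw [List.map_map] at h7
      have e2 : (xs.map fun y => ((act ρ y ((w.map s).prod * u) : Fin n) : Nat)) =
          xs.map ((fun y => ((act ρ y u : Fin n) : Nat)) ∘ fun y => act ρ y (w.map s).prod) := by
        apply List.map_congr_left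
        intro y _
        change _ = ((act ρ (act ρ y (w.map s).prod) u : Fin n) : Nat)
        rw [act_mul]
      rw [e2]
      exact h7

/-- accept if the point is in the orbit -/
noncomputable def acc2 (Q2 : Nat → Nat) (xs : List Nat) : Bool :=
  @List.rec Nat (fun _ => Bool) false (fun z _ _ => Nat.ble (nat_lit 1) (Q2 z)) xs

/-- accept if the pair sifts -/
noncomputable def acc1 (Q1 : Nat → Nat) (fg1 : List (List (Nat → Nat))) (b1 : Nat) (Q2 : Nat → Nat) (fuel : Nat)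
    (xs : List Nat) : Bool :=
  @List.rec Nat (fun _ => Bool) false (fun q rest _ => walkF Q1 fg1 b1 (acc2 Q2) fuel q rest) xs

/-- accept exactly one list -/
noncomputable def eqL1 (b : Nat) (xs : List Nat) : Bool :=
  @List.rec Nat (fun _ => Bool) false (fun z _ _ => Nat.beq z b) xs

noncomputable def eqL2 (b1 b2 : Nat) (xs : List Nat) : Bool :=
  @List.rec Nat (fun _ => Bool) false (fun z rest _ => band (Nat.beq z b1) (eqL1 b2 rest)) xs

/-- table of images of the base points -/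
noncomputable def ckU (Q0 : Nat → Nat) (fg0 : List (List (Nat → Nat))) (b0 b1 b2 : Nat) (U1 U2 : Nat → Nat) (fuel i : Nat) : Bool :=
  walkF Q0 fg0 b0 (eqL2 b1 b2) fuel i [U1 i, U2 i]

/-- sifting of a Schreier generator -/
noncomputable def ckS0 (Q0 : Nat → Nat) (fg0 : List (List (Nat → Nat))) (b0 : Nat) (Q1 : Nat → Nat)
    (fg1 : List (List (Nat → Nat))) (b1 : Nat) (Q2 : Nat → Nat) (U1 U2 : Nat → Nat) (fuel : Nat) (t : Nat → Nat) (i : Nat) : Bool :=
  force (t i) fun i' => force (t (U1 i)) fun p1 => force (t (U2 i)) fun p2 =>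
    walkF Q0 fg0 b0 (acc1 Q1 fg1 b1 Q2 fuel) fuel i' [p1, p2]

noncomputable def ckV (Q1 : Nat → Nat) (fg1 : List (List (Nat → Nat))) (b1 b2 : Nat) (V2 : Nat → Nat) (fuel i : Nat) : Bool :=
  @Nat.rec (fun _ => Bool) true (fun _ _ => walkF Q1 fg1 b1 (eqL1 b2) fuel i [V2 i]) (Q1 i)

noncomputable def ckS1 (Q1 : Nat → Nat) (fg1 : List (List (Nat → Nat))) (b1 : Nat) (Q2 : Nat → Nat) (V2 : Nat → Nat)
    (fuel : Nat) (t : Nat → Nat) (i : Nat) : Bool :=
  @Nat.rec (fun _ => Bool) true (fun _ _ => force (t i) fun i' => force (t (V2 i)) fun p2 =>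
    band (Nat.ble (nat_lit 1) (Q1 i')) (walkF Q1 fg1 b1 (acc2 Q2) fuel i' [p2])) (Q1 i)

noncomputable def ckC2 (Q2 t : Nat → Nat) (i : Nat) : Bool :=
  @Nat.rec (fun _ => Bool) true (fun _ _ => Nat.ble (nat_lit 1) (Q2 (t i))) (Q2 i)

theorem natrec_true {Q : Nat} {c : Bool} (h : @Nat.rec (fun _ => Bool) true (fun _ _ => c) Q = true) (hQ : Q ≠ 0) : c = true := by
  cases Q with
  | zero => exact absurd rfl hQ
  | succ k => exact h

/-- the data of a verified chain for a subgroup -/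
structure SiftOK (K0 K1 K2 : Subgroup G) (b0 b1 b2 : Fin n) (Q1 Q2 : Nat → Nat) : Prop where
  lev0 : ∀ g ∈ K0, act ρ b0 g = b0 → g ∈ K1
  lev1 : ∀ g ∈ K1, act ρ b1 g = b1 → g ∈ K2
  orb1 : ∀ g ∈ K1, Q1 (act ρ b1 g : Fin n) ≠ 0
  orb2 : ∀ g ∈ K2, Q2 (act ρ b2 g : Fin n) ≠ 0

include hρ in
theorem sift_ok [Finite G] (g0 g1 g2 : List (List Nat)) (t0 t1 t2 : List (List Nat)) (b0 b1 b2 : Fin n)
    (Q0 Q1 Q2 U1 U2 V2 : Nat → Nat) (fuel : Nat)
    (hg0 : ∀ w ∈ g0, ∀ l ∈ w, l < L) (hg1 : ∀ w ∈ g1, ∀ l ∈ w, l < L) (hg2 : ∀ w ∈ g2, ∀ l ∈ w, l < L)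
    (h10 : ∀ w ∈ g1, w ∈ g0) (h21 : ∀ w ∈ g2, w ∈ g1)
    (hU : ∀ i < n, U1 i < n ∧ U2 i < n) (hV : ∀ i < n, V2 i < n)
    (ht0 : ∀ w ∈ t0, w ∈ g0) (ht1 : ∀ w ∈ t1, w ∈ g1) (ht2 : ∀ w ∈ t2, w ∈ g2)
    (hc0 : wordGroup s g0 = wordGroup s t0) (hc1 : wordGroup s g1 = wordGroup s t1) (hc2 : wordGroup s g2 = wordGroup s t2)
    (hfix0 : ∀ g ∈ wordGroup s g1, act ρ b0 g = b0) (hfix1 : ∀ g ∈ wordGroup s g2, act ρ b1 g = b1)
    (hbase : ∀ g : G, act ρ b0 g = b0 → act ρ b1 g = b1 → act ρ b2 g = b2 → g = 1)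
    (hQ1 : Q1 b1 ≠ 0) (hQ2 : Q2 b2 ≠ 0)
    (hreach : ∀ z : Fin n, Q2 z ≠ 0 → ∃ k ∈ wordGroup s g2, act ρ b2 k = z)
    (c0 : ∀ i < n, ckU Q0 (g0.map (·.map T)) b0 b1 b2 U1 U2 fuel i = true)
    (c1 : ∀ i < n, ckV Q1 (g1.map (·.map T)) b1 b2 V2 fuel i = true)
    (d0 : ∀ w ∈ t0, ∀ i < n, ckS0 Q0 (g0.map (·.map T)) b0 Q1 (g1.map (·.map T)) b1 Q2 U1 U2 fuel (trN T w) i = true)
    (d1 : ∀ w ∈ t1, ∀ i < n, ckS1 Q1 (g1.map (·.map T)) b1 Q2 V2 fuel (trN T w) i = true)
    (d2 : ∀ w ∈ t2, ∀ i < n, ckC2 Q2 (trN T w) i = true) :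
    SiftOK ρ (wordGroup s g0) (wordGroup s g1) (wordGroup s g2) b0 b1 b2 Q1 Q2 := by
  classical
  set K0 := wordGroup s g0 with hK0
  set K1 := wordGroup s g1 with hK1
  set K2 := wordGroup s g2 with hK2
  have h10' : K1 ≤ K0 := wordGroup_mono s g0 g1 h10
  have h21' : K2 ≤ K1 := wordGroup_mono s g1 g2 h21
  -- the two transversals
  have hu := fun x => walk_spec s hT ρ hρ K0 b0 Q0 g0 hg0 (fun w hw => mem_wordGroup s g0 w hw) fuel x
  have hv := fun x => walk_spec s hT ρ hρ K1 b1 Q1 g1 hg1 (fun w hw => mem_wordGroup s g1 w hw) fuel x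
  choose u huK hu1 hu using hu
  choose v hvK hv1 hv using hv
  have inv_act : ∀ (x y : Fin n) (g : G), act ρ x g = y → act ρ y g⁻¹ = x := by
    intro x y g h
    rw [← h, ← act_mul, mul_inv_cancel, act_one]
  -- base images
  have hU1 : ∀ i : Fin n, act ρ ⟨U1 i, (hU i i.2).1⟩ (u i) = b1 ∧ act ρ ⟨U2 i, (hU i i.2).2⟩ (u i) = b2 ∧ act ρ i (u i) = b0 := by
    intro i
    have h := c0 i i.2
    unfold ckU at h
    obtain ⟨h1, h2⟩ := hu i (eqL2 b1 b2) [⟨U1 i, (hU i i.2).1⟩, ⟨U2 i, (hU i i.2).2⟩] h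
    have h3 : band (Nat.beq ((act ρ ⟨U1 i, (hU i i.2).1⟩ (u i) : Fin n) : Nat) b1)
      (Nat.beq ((act ρ ⟨U2 i, (hU i i.2).2⟩ (u i) : Fin n) : Nat) b2) = true := h2
    rw [band_eq_true] at h3
    exact ⟨Fin.ext (Nat.eq_of_beq_eq_true h3.1), Fin.ext (Nat.eq_of_beq_eq_true h3.2), h1⟩
  have hV1 : ∀ i : Fin n, Q1 i ≠ 0 → act ρ ⟨V2 i, hV i i.2⟩ (v i) = b2 ∧ act ρ i (v i) = b1 := by
    intro i hi
    have h := c1 i i.2
    unfold ckV at h
    have h' := natrec_true h hi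
    obtain ⟨h1, h2⟩ := hv i (eqL1 b2) [⟨V2 i, hV i i.2⟩] h'
    exact ⟨Fin.ext (Nat.eq_of_beq_eq_true h2), h1⟩
  -- orbit of `K2`
  have orb2 : ∀ g ∈ K2, Q2 (act ρ b2 g : Fin n) ≠ 0 := by
    have hcl := mem_closed {g : G | Q2 (act ρ b2 g : Fin n) ≠ 0} {g | ∃ w ∈ t2, g = (w.map s).prod} (by
      rintro t ⟨w, hw, rfl⟩ m hm
      have hm' : Q2 (act ρ b2 m : Fin n) ≠ 0 := hm
      have h := d2 w hw (act ρ b2 m) (act ρ b2 m).2
      unfold ckC2 at h
      have h' : 1 ≤ Q2 (trN T w (act ρ b2 m : Fin n)) := Nat.le_of_ble_eq_true (natrec_true h hm')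
      change Q2 (act ρ b2 (m * (w.map s).prod) : Fin n) ≠ 0
      rw [act_mul, act_word s hT ρ hρ _ w (hg2 w (ht2 w hw))]
      omega)
    intro g hg
    rw [hc2] at hg
    have := hcl g hg 1 (by change Q2 (act ρ b2 1 : Fin n) ≠ 0; rw [act_one]; exact hQ2)
    rwa [one_mul] at this
  have inK2 : ∀ h : G, act ρ b0 h = b0 → act ρ b1 h = b1 → Q2 (act ρ b2 h : Fin n) ≠ 0 → h ∈ K2 := by
    intro h h0 h1 h2
    obtain ⟨k, hk, hk2⟩ := hreach _ h2
    have hk0 := hfix0 k (h21' hk)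
    have hk1 := hfix1 k hk
    have : h * k⁻¹ = 1 := by
      apply hbase
      · rw [act_mul, h0]; exact inv_act _ _ _ hk0
      · rw [act_mul, h1]; exact inv_act _ _ _ hk1
      · rw [act_mul]; exact inv_act _ _ _ hk2
    rw [mul_inv_eq_one.1 this]
    exact hk
  -- level one
  have cl1 : ∀ g ∈ K1, Q1 (act ρ b1 g : Fin n) ≠ 0 ∧ g * v (act ρ b1 g) ∈ K2 := by
    have hcl := mem_closed {g : G | g ∈ K1 ∧ Q1 (act ρ b1 g : Fin n) ≠ 0 ∧ g * v (act ρ b1 g) ∈ K2} {g | ∃ w ∈ t1, g = (w.map s).prod} (by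
      rintro t ⟨w, hw, rfl⟩ m ⟨hmK, hm1, hm2⟩
      have hwL := hg1 w (ht1 w hw)
      have hwK : (w.map s).prod ∈ K1 := mem_wordGroup s g1 w (ht1 w hw)
      set x := act ρ b1 m with hx
      have h := d1 w hw x x.2
      unfold ckS1 at h
      have h' := natrec_true h hm1
      rw [force_eq, force_eq, band_eq_true] at h'
      obtain ⟨h3, h4⟩ := h'
      have ex : ((act ρ x (w.map s).prod : Fin n) : Nat) = trN T w x := act_word s hT ρ hρ x w hwL
      have ey : ((act ρ ⟨V2 x, hV x x.2⟩ (w.map s).prod : Fin n) : Nat) = trN T w (V2 x) := act_word s hT ρ hρ _ w hwL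
      have h3' : Q1 ((act ρ x (w.map s).prod : Fin n) : Nat) ≠ 0 := by
        rw [ex]; have : 1 ≤ Q1 (trN T w x) := Nat.le_of_ble_eq_true h3; omega
      rw [← ex, ← ey] at h4
      obtain ⟨h5, h6⟩ := hv (act ρ x (w.map s).prod) (acc2 Q2) [act ρ ⟨V2 x, hV x x.2⟩ (w.map s).prod] h4
      have h6' : Q2 ((act ρ (act ρ ⟨V2 x, hV x x.2⟩ (w.map s).prod) (v (act ρ x (w.map s).prod)) : Fin n) : Nat) ≠ 0 := by
        have : Nat.ble (nat_lit 1) (Q2 ((act ρ (act ρ ⟨V2 x, hV x x.2⟩ (w.map s).prod) (v (act ρ x (w.map s).prod)) : Fin n) : Nat)) = true := h6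
        have h8 : 1 ≤ Q2 ((act ρ (act ρ ⟨V2 x, hV x x.2⟩ (w.map s).prod) (v (act ρ x (w.map s).prod)) : Fin n) : Nat) := Nat.le_of_ble_eq_true this
        omega
      obtain ⟨hx1, hx2⟩ := hV1 x hm1
      have hh : (v x)⁻¹ * (w.map s).prod * v (act ρ x (w.map s).prod) ∈ K2 := by
        apply inK2
        · exact hfix0 _ (K1.mul_mem (K1.mul_mem (K1.inv_mem (hvK x)) hwK) (hvK _))
        · rw [act_mul, act_mul, inv_act _ _ _ hx2]; exact h5
        · rw [act_mul, act_mul, inv_act _ _ _ hx1]; exact h6'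
      refine ⟨K1.mul_mem hmK hwK, by rw [act_mul]; exact h3', ?_⟩
      rw [act_mul, ← hx]
      have e : m * (w.map s).prod * v (act ρ x (w.map s).prod) = (m * v x) * ((v x)⁻¹ * (w.map s).prod * v (act ρ x (w.map s).prod)) := by group
      rw [e]
      exact K2.mul_mem hm2 hh)
    intro g hg
    have hg' := hg
    rw [hc1] at hg'
    have := hcl g hg' 1 ⟨K1.one_mem, by rw [act_one]; exact hQ1, by rw [act_one, hv1 b1 rfl, mul_one]; exact K2.one_mem⟩
    rw [one_mul] at this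
    exact this.2
  have lev1 : ∀ g ∈ K1, act ρ b1 g = b1 → g ∈ K2 := by
    intro g hg h
    have := (cl1 g hg).2
    rwa [h, hv1 b1 rfl, mul_one] at this
  have inK1 : ∀ h : G, act ρ b0 h = b0 → acc1 Q1 (g1.map (·.map T)) b1 Q2 fuel
      [((act ρ b1 h : Fin n) : Nat), ((act ρ b2 h : Fin n) : Nat)] = true → h ∈ K1 := by
    intro h h0 ha
    have ha' : walkF Q1 (g1.map (·.map T)) b1 (acc2 Q2) fuel ((act ρ b1 h : Fin n) : Nat) [((act ρ b2 h : Fin n) : Nat)] = true := ha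
    obtain ⟨h5, h6⟩ := hv (act ρ b1 h) (acc2 Q2) [act ρ b2 h] ha'
    have h6' : Nat.ble (nat_lit 1) (Q2 ((act ρ (act ρ b2 h) (v (act ρ b1 h)) : Fin n) : Nat)) = true := h6
    have h7 : h * v (act ρ b1 h) ∈ K2 := by
      apply inK2
      · rw [act_mul, h0]; exact hfix0 _ (hvK _)
      · rw [act_mul]; exact h5
      · rw [act_mul]; have h8 : 1 ≤ Q2 ((act ρ (act ρ b2 h) (v (act ρ b1 h)) : Fin n) : Nat) := Nat.le_of_ble_eq_true h6'; omega
    have e : h = (h * v (act ρ b1 h)) * (v (act ρ b1 h))⁻¹ := by group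
    rw [e]
    exact K1.mul_mem (h21' h7) (K1.inv_mem (hvK _))
  have cl0 : ∀ g ∈ K0, g * u (act ρ b0 g) ∈ K1 := by
    have hcl := mem_closed {g : G | g * u (act ρ b0 g) ∈ K1} {g | ∃ w ∈ t0, g = (w.map s).prod} (by
      rintro t ⟨w, hw, rfl⟩ m hm
      have hwL := hg0 w (ht0 w hw)
      set x := act ρ b0 m with hx
      have h := d0 w hw x x.2
      unfold ckS0 at h
      rw [force_eq, force_eq, force_eq] at h
      have ex : ((act ρ x (w.map s).prod : Fin n) : Nat) = trN T w x := act_word s hT ρ hρ x w hwL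
      have e1 : ((act ρ ⟨U1 x, (hU x x.2).1⟩ (w.map s).prod : Fin n) : Nat) = trN T w (U1 x) := act_word s hT ρ hρ _ w hwL
      have e2 : ((act ρ ⟨U2 x, (hU x x.2).2⟩ (w.map s).prod : Fin n) : Nat) = trN T w (U2 x) := act_word s hT ρ hρ _ w hwL
      rw [← ex, ← e1, ← e2] at h
      obtain ⟨h5, h6⟩ := hu (act ρ x (w.map s).prod) _ [act ρ ⟨U1 x, (hU x x.2).1⟩ (w.map s).prod, act ρ ⟨U2 x, (hU x x.2).2⟩ (w.map s).prod] h
      obtain ⟨hx1, hx2, hx0⟩ := hU1 x
      have hh : (u x)⁻¹ * (w.map s).prod * u (act ρ x (w.map s).prod) ∈ K1 := by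
        apply inK1
        · rw [act_mul, act_mul, inv_act _ _ _ hx0]; exact h5
        · rw [act_mul, act_mul, inv_act _ _ _ hx1, act_mul, act_mul, inv_act _ _ _ hx2]; exact h6
      change m * (w.map s).prod * u (act ρ b0 (m * (w.map s).prod)) ∈ K1
      rw [act_mul, ← hx]
      have e : m * (w.map s).prod * u (act ρ x (w.map s).prod) = (m * u x) * ((u x)⁻¹ * (w.map s).prod * u (act ρ x (w.map s).prod)) := by group
      rw [e]
      exact K1.mul_mem hm hh)
    intro g hg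
    have hg' := hg
    rw [hc0] at hg'
    have := hcl g hg' 1 (by change (1 : G) * u (act ρ b0 1) ∈ K1; rw [act_one, hu1 b0 rfl, mul_one]; exact K1.one_mem)
    rw [one_mul] at this
    exact this
  have lev0 : ∀ g ∈ K0, act ρ b0 g = b0 → g ∈ K1 := by
    intro g hg h
    have := cl0 g hg
    rwa [h, hu1 b0 rfl, mul_one] at this
  exact ⟨lev0, lev1, fun g hg => (cl1 g hg).1, orb2⟩

end

end Cfsg.Agent.H8
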