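import Cfsg.Prelude.Def_KGroupFacts

/-! # The outer automorphism group is an isomorphism invariant -/

set_option autoImplicit false

namespace Cfsg.Agent.H8

theorem map_inn {G : Type*} {H : Type*} [Group G] [Group H] (e : G ≃* H) :
    (Cfsg.Inn G).map (MulAut.congr e : MulAut G ≃* MulAut H).toMonoidHom = Cfsg.Inn H := by
  ext x
  constructor
  · rintro ⟨_, ⟨g, rfl⟩, rfl⟩
    refine ⟨e g, ?_⟩
    ext y
    simp [MulAut.congr, MulAut.conj_apply]
  · rintro ⟨h, rfl⟩
    refine ⟨MulAut.conj (e.symm h), ⟨e.symm h, rfl⟩, ?_⟩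
    ext y
    simp [MulAut.congr, MulAut.conj_apply]

theorem card_out_congr {G : Type*} {H : Type*} [Group G] [Group H] (e : G ≃* H) :
    Nat.card (Cfsg.Out G) = Nat.card (Cfsg.Out H) :=
  Nat.card_congr (QuotientGroup.congr (Cfsg.Inn G) (Cfsg.Inn H) (MulAut.congr e) (map_inn e)).toEquiv

end Cfsg.Agent.H8
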