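import Cfsg.Agent.H8.Lt2
import Cfsg.Agent.H8.OutIso
import Cfsg.Prelude.Def_Spor_Conway

/-!
# Inner products of coded vectors, transport between vector stabilisers
-/

set_option autoImplicit false
set_option linter.all false

namespace Cfsg.Agent.H8.Lt

open Cfsg Cfsg.Agent.H7 Cfsg.Agent.H8

noncomputable def dotN (k c d : ℕ) : ℕ :=
  @Nat.rec (fun _ => ℕ → ℕ → ℕ → ℕ) (fun _ _ acc => acc)
    (fun _ ih c d acc => ih (Nat.div c 16) (Nat.div d 16) (Nat.add acc (Nat.mul (Nat.mod c 16) (Nat.mod d 16)))) k c d 0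

noncomputable def sumN (k c : ℕ) : ℕ :=
  @Nat.rec (fun _ => ℕ → ℕ → ℕ) (fun _ acc => acc)
    (fun _ ih c acc => ih (Nat.div c 16) (Nat.add acc (Nat.mod c 16))) k c 0

theorem dotN_aux (k : ℕ) : ∀ c d acc, @Nat.rec (fun _ => ℕ → ℕ → ℕ → ℕ) (fun _ _ acc => acc)
    (fun _ ih c d acc => ih (Nat.div c 16) (Nat.div d 16) (Nat.add acc (Nat.mul (Nat.mod c 16) (Nat.mod d 16)))) k c d acc =
    acc + ∑ i ∈ Finset.range k, dv c i * dv d i := by
  induction k with
  | zero => intro c d acc; simp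
  | succ k ih =>
    intro c d acc
    have h := ih (c / 16) (d / 16) (acc + (c % 16) * (d % 16))
    rw [Finset.sum_range_succ']
    have e : ∀ i ∈ Finset.range k, dv c (i + 1) * dv d (i + 1) = dv (c / 16) i * dv (d / 16) i := by
      intro i _; rw [dv_succ, dv_succ]
    rw [Finset.sum_congr rfl e, dv_zero, dv_zero]
    refine h.trans ?_
    ring

theorem sumN_aux (k : ℕ) : ∀ c acc, @Nat.rec (fun _ => ℕ → ℕ → ℕ) (fun _ acc => acc)
    (fun _ ih c acc => ih (Nat.div c 16) (Nat.add acc (Nat.mod c 16))) k c acc =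
    acc + ∑ i ∈ Finset.range k, dv c i := by
  induction k with
  | zero => intro c acc; simp
  | succ k ih =>
    intro c acc
    have h := ih (c / 16) (acc + c % 16)
    rw [Finset.sum_range_succ']
    have e : ∀ i ∈ Finset.range k, dv c (i + 1) = dv (c / 16) i := fun i _ => dv_succ c i
    rw [Finset.sum_congr rfl e, dv_zero]
    refine h.trans ?_
    ring

theorem dotN_eq (c d : ℕ) : dotN 24 c d = ∑ i ∈ Finset.range 24, dv c i * dv d i := by
  unfold dotN; rw [dotN_aux]; simp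

theorem sumN_eq (c : ℕ) : sumN 24 c = ∑ i ∈ Finset.range 24, dv c i := by
  unfold sumN; rw [sumN_aux]; simp

/-- the inner product of two coded vectors is `pb - nb`. -/
noncomputable def ckDot (c d pb nb : ℕ) : Bool :=
  Nat.beq (Nat.add (dotN 24 c d) (Nat.add 1536 (Nat.mul 8 nb)))
    (Nat.mul 8 (Nat.add (Nat.add (sumN 24 c) (sumN 24 d)) pb))

theorem ckDot_spec {c d pb nb : ℕ} (hc : isLV c = true) (hd : isLV d = true) (h : ckDot c d pb nb = true) :
    bL (lv c hc) (lv d hd) = (pb : ℤ) - nb := by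
  have h1 : dotN 24 c d + (1536 + 8 * nb) = 8 * (sumN 24 c + sumN 24 d + pb) := Nat.eq_of_beq_eq_true h
  rw [dotN_eq, sumN_eq, sumN_eq] at h1
  have h2 := bL_co (lv c hc) (lv d hd)
  have e : ∀ i ∈ Finset.range 24, co (lv c hc) i * co (lv d hd) i =
      (dv c i : ℤ) * dv d i - 8 * dv c i - 8 * dv d i + 64 := by
    intro i hi
    rw [co_lv hc (Finset.mem_range.1 hi), co_lv hd (Finset.mem_range.1 hi)]
    ring
  rw [Finset.sum_congr rfl e, Finset.sum_add_distrib, Finset.sum_sub_distrib, Finset.sum_sub_distrib,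
    ← Finset.mul_sum, ← Finset.mul_sum, Finset.sum_const, Finset.card_range] at h2
  have h3 : ((∑ i ∈ Finset.range 24, dv c i * dv d i : ℕ) : ℤ) + (1536 + 8 * nb) =
      8 * ((∑ i ∈ Finset.range 24, dv c i : ℕ) + (∑ i ∈ Finset.range 24, dv d i : ℕ) + pb) := by exact_mod_cast h1
  push_cast at h3
  simp only [nsmul_eq_mul] at h2
  push_cast at h2
  linarith

theorem lv_inj {c d : ℕ} {hc : isLV c = true} {hd : isLV d = true} (hc' : c < 16 ^ 24) (hd' : d < 16 ^ 24)
    (h : lv c hc = lv d hd) : c = d := by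
  have h1 : ∀ i < 24, dv c i = dv d i := by
    intro i hi
    have := co_lv hc hi
    rw [h, co_lv hd hi] at this
    omega
  have key : ∀ k, ∀ c d : ℕ, c < 16 ^ k → d < 16 ^ k → (∀ i < k, dv c i = dv d i) → c = d := by
    intro k
    induction k with
    | zero => intro c d hc hd _; simp at hc hd; omega
    | succ k ih =>
      intro c d hc hd h
      have h0 := h 0 (by omega)
      rw [dv_zero, dv_zero] at h0
      have h2 := ih (c / 16) (d / 16) (by rw [pow_succ] at hc; omega) (by rw [pow_succ] at hd; omega) (fun i hi => by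
        have := h (i + 1) (by omega)
        rwa [dv_succ, dv_succ] at this)
      omega
  exact key 24 c d hc' hd' h1

/-! ### stabilisers -/

theorem stab_conj {v v' : leechLattice} (g : Co0) (hv : g • v = v') :
    Nonempty (↥(MulAction.stabilizer Co0 v) ≃* ↥(MulAction.stabilizer Co0 v')) := by
  have h := pair_stab_equiv g hv hv
  rwa [inf_idem, inf_idem] at h

/-- the stabiliser inside the permutation group -/
theorem stab_perm (v : leechLattice) :
    Nonempty (↥(Co0 ⊓ MulAction.stabilizer (Equiv.Perm leechLattice) v) ≃* ↥(MulAction.stabilizer Co0 v)) :=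
  ⟨{ toFun := fun g => ⟨⟨g.1, g.2.1⟩, g.2.2⟩
     invFun := fun g => ⟨g.1.1, g.1.2, g.2⟩
     left_inv := fun _ => rfl
     right_inv := fun _ => rfl
     map_mul' := fun _ _ => rfl }⟩

theorem stab_perm2 (v w : leechLattice) :
    Nonempty (↥((Co0 ⊓ MulAction.stabilizer (Equiv.Perm leechLattice) v) ⊓ MulAction.stabilizer (Equiv.Perm leechLattice) w) ≃*
      ↥(MulAction.stabilizer Co0 v ⊓ MulAction.stabilizer Co0 w)) :=
  ⟨{ toFun := fun g => ⟨⟨g.1, g.2.1.1⟩, g.2.1.2, g.2.2⟩
     invFun := fun g => ⟨g.1.1, ⟨g.1.2, g.2.1⟩, g.2.2⟩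
     left_inv := fun _ => rfl
     right_inv := fun _ => rfl
     map_mul' := fun _ _ => rfl }⟩

theorem leechV_neg : Spor.leechV = - t3 := by
  apply Subtype.ext
  funext p
  show Spor.vecV p = - (if p = gpt 23 then 5 else 1)
  unfold Spor.vecV
  rw [show gpt 23 = none from rfl]
  split_ifs <;> norm_num

theorem leechU_eq : Spor.leechU = t2 := by
  apply Subtype.ext
  funext p
  have h := t2_apply p
  rw [h]
  show Spor.vecU p = _
  unfold Spor.vecU
  rw [show gpt 23 = none from rfl, show gpt 0 = some 0 from rfl]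
  by_cases h1 : p = none
  · rw [if_pos (Or.inl h1), if_pos h1]
  · by_cases h2 : p = some 0
    · rw [if_pos (Or.inr h2), if_neg h1, if_pos h2]
    · rw [if_neg (by rintro (h | h) <;> contradiction), if_neg h1, if_neg h2]

theorem leechU'_eq : Spor.leechU' = a0 := by
  apply Subtype.ext
  funext p
  have h := a0_apply p
  rw [h]
  show Spor.vecU' p = _
  unfold Spor.vecU'
  rw [show gpt 23 = none from rfl, show gpt 0 = some 0 from rfl]

theorem stab_neg (v : leechLattice) : MulAction.stabilizer Co0 (-v) = MulAction.stabilizer Co0 v := by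
  ext g
  rw [MulAction.mem_stabilizer_iff, MulAction.mem_stabilizer_iff, co0_neg, neg_inj]

/-- the stabiliser of a norm 6 vector is `Co3` -/
theorem co3_iso (v : leechLattice) (hv : bL v v = 6) : Nonempty (↥Spor.Co3 ≃* ↥(MulAction.stabilizer Co0 v)) := by
  obtain ⟨g, hg⟩ := to_t3 v hv
  obtain ⟨e1⟩ := stab_perm Spor.leechV
  obtain ⟨e2⟩ := stab_conj g hg
  rw [leechV_neg, stab_neg] at e1
  unfold Spor.Co3
  rw [leechV_neg]
  exact ⟨e1.trans e2.symm⟩

theorem co2_iso (v : leechLattice) (hv : bL v v = 4) : Nonempty (↥Spor.Co2 ≃* ↥(MulAction.stabilizer Co0 v)) := by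
  obtain ⟨g, hg⟩ := to_t2 v hv
  obtain ⟨e1⟩ := stab_perm Spor.leechU
  obtain ⟨e2⟩ := stab_conj g hg
  rw [leechU_eq] at e1
  unfold Spor.Co2
  rw [leechU_eq]
  exact ⟨e1.trans e2.symm⟩

theorem mcl_iso' (v w : leechLattice) (hv : bL v v = 6) (hw : bL w w = 4) (hvw : bL w v = 3) :
    Nonempty (↥(MulAction.stabilizer Co0 v ⊓ MulAction.stabilizer Co0 w) ≃* ↥McLS) := by
  obtain ⟨g, hg1, hg2⟩ := mcl_pair w (v - w) hw (by
    rw [bL_sub, bL_sub_right, bL_sub_right, hv, hw, bL_comm v w, hvw]; norm_num) (by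
    rw [bL_sub_right, hvw, hw]; norm_num)
  rw [add_sub_cancel] at hg2
  exact pair_stab_equiv g hg2 hg1

theorem mcl_iso (v w : leechLattice) (hv : bL v v = 6) (hw : bL w w = 4) (hvw : bL w v = 3) :
    Nonempty (↥Spor.McL ≃* ↥(MulAction.stabilizer Co0 v ⊓ MulAction.stabilizer Co0 w)) := by
  obtain ⟨e1⟩ := mcl_iso' v w hv hw hvw
  obtain ⟨e2⟩ := stab_perm2 Spor.leechV Spor.leechU
  unfold Spor.McL Spor.Co3
  rw [leechV_neg, leechU_eq] at e2 ⊢
  rw [stab_neg] at e2
  exact ⟨e2.trans e1.symm⟩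

theorem hs_iso' (v w : leechLattice) (hv : bL v v = 6) (hw : bL w w = 4) (hvw : bL w v = 2) :
    Nonempty (↥(MulAction.stabilizer Co0 v ⊓ MulAction.stabilizer Co0 w) ≃* ↥HSS) := by
  obtain ⟨g, hg1, hg2⟩ := hs_pair w v hw hv hvw
  rw [inf_comm]
  exact pair_stab_equiv g hg1 hg2

theorem hs_iso (v w : leechLattice) (hv : bL v v = 6) (hw : bL w w = 4) (hvw : bL w v = 2) :
    Nonempty (↥Spor.HS ≃* ↥(MulAction.stabilizer Co0 v ⊓ MulAction.stabilizer Co0 w)) := by
  obtain ⟨e1⟩ := hs_iso' v w hv hw hvw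
  obtain ⟨e2⟩ := stab_perm2 Spor.leechV Spor.leechU'
  unfold Spor.HS Spor.Co3
  rw [leechV_neg, leechU'_eq] at e2 ⊢
  rw [stab_neg] at e2
  have e : HSS = MulAction.stabilizer Co0 t3 ⊓ MulAction.stabilizer Co0 a0 := inf_comm _ _
  rw [e] at e1
  exact ⟨e2.trans e1.symm⟩

theorem card_stab6 (v : leechLattice) (hv : bL v v = 6) : Nat.card (MulAction.stabilizer Co0 v) = 495766656000 := by
  obtain ⟨g, hg⟩ := to_t3 v hv
  obtain ⟨e⟩ := stab_conj g hg
  rw [Nat.card_congr e.toEquiv, card_stab_t3]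

theorem simple_of_iso {G H : Type*} [Group G] [Group H] (e : G ≃* H) (h : IsSimpleGroup H) : IsSimpleGroup G :=
  e.isSimpleGroup_congr.mpr h

theorem simple_stab6 (v : leechLattice) (hv : bL v v = 6) : IsSimpleGroup (MulAction.stabilizer Co0 v) := by
  obtain ⟨g, hg⟩ := to_t3 v hv
  obtain ⟨e⟩ := stab_conj g hg
  exact simple_of_iso e co3_simple

theorem card_stab4 (v : leechLattice) (hv : bL v v = 4) : Nat.card (MulAction.stabilizer Co0 v) = 42305421312000 := by
  obtain ⟨g, hg⟩ := to_t2 v hv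
  obtain ⟨e⟩ := stab_conj g hg
  rw [Nat.card_congr e.toEquiv, card_stab_t2]

theorem simple_stab4 (v : leechLattice) (hv : bL v v = 4) : IsSimpleGroup (MulAction.stabilizer Co0 v) := by
  obtain ⟨g, hg⟩ := to_t2 v hv
  obtain ⟨e⟩ := stab_conj g hg
  exact simple_of_iso e co2_simple

/-- the 552 vectors -/
theorem count552 (v : leechLattice) (hv : bL v v = 6) : {x : leechLattice | bL x x = 4 ∧ bL x v = 3}.ncard = 552 := by
  obtain ⟨g, hg⟩ := to_t3 v hv
  have e : V552 = (fun x => g • x) '' {x : leechLattice | bL x x = 4 ∧ bL x v = 3} := by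
    ext x
    constructor
    · rintro ⟨h1, h2⟩
      refine ⟨g⁻¹ • x, ⟨?_, ?_⟩, smul_inv_smul g x⟩
      · rw [co0_bL, h1]
      · rw [← hg] at h2
        rw [← co0_bL g, smul_inv_smul]
        exact h2
    · rintro ⟨y, ⟨h1, h2⟩, rfl⟩
      refine ⟨by rw [co0_bL]; exact h1, ?_⟩
      rw [← hg, co0_bL]
      exact h2
  rw [← V552_ncard, e, Set.ncard_image_of_injective _ (MulAction.injective g)]

end Cfsg.Agent.H8.Lt
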