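import Cfsg.Agent.S1573
import Cfsg.Agent.H8.Lt3

/-! # The 4600 minimal vectors with inner product -2 with a minimal vector -/

set_option autoImplicit false

namespace Cfsg.Agent.H8.Lt

open Cfsg Cfsg.Agent.H7

theorem count4600 (v : leechLattice) (hv : bL v v = 4) : {x : leechLattice | bL x x = 4 ∧ bL x v = -2}.ncard = 4600 := by
  have h := Cfsg.Agent.S1573.n2 hv
  have e : {w : leechLattice | bL w w = 4 ∧ bL v w = -2} = {x : leechLattice | bL x x = 4 ∧ bL x v = -2} := by
    ext x
    show bL x x = 4 ∧ bL v x = -2 ↔ bL x x = 4 ∧ bL x v = -2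
    rw [bL_comm v x]
  rw [← e, h]

end Cfsg.Agent.H8.Lt
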