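import Cfsg.Agent.H8.CosetPres

/-!
# Gluing chunks of a check, and relations proved by blocks
-/

set_option autoImplicit false
set_option linter.all false

namespace Cfsg.Agent.H8

theorem allR_of_forall (f : Nat → Bool) (n : Nat) (h : ∀ i < n, f i = true) : allR f 0 n = true := by
  induction n with
  | zero => rfl
  | succ n ih =>
    have e : allR f 0 (n + 1) = @Bool.rec (fun _ => Bool) false (allR f 0 n) (force (Nat.add 0 n) f) := rfl
    rw [e, force_eq, show Nat.add 0 n = n from Nat.zero_add n, h n (Nat.lt_succ_self n)]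
    exact ih fun i hi => h i (Nat.lt_succ_of_lt hi)

/-- the first facts define the nodes along a word. -/
noncomputable def ckPathF (F : Nat → Nat) (w : List Nat) : Nat → Bool :=
  @List.rec Nat (fun _ => Nat → Bool) (fun _ => true)
    (fun l _ ih k => band (Nat.beq (F k) (Nat.add k (Nat.add (Nat.mul (nat_lit 1048576) (Nat.succ k))
      (Nat.mul (nat_lit 1099511627776) l)))) (force (Nat.succ k) ih)) w

theorem ckPathF_cons (F : Nat → Nat) (l : Nat) (w : List Nat) (k : Nat) (h : ckPathF F (l :: w) k = true) :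
    F k = k + 1048576 * (k + 1) + 1099511627776 * l ∧ ckPathF F w (k + 1) = true := by
  have h' : band (Nat.beq (F k) (Nat.add k (Nat.add (Nat.mul (nat_lit 1048576) (Nat.succ k))
      (Nat.mul (nat_lit 1099511627776) l)))) (force (Nat.succ k) (ckPathF F w)) = true := h
  rw [band_eq_true, force_eq] at h'
  refine ⟨?_, h'.2⟩
  have := Nat.eq_of_beq_eq_true h'.1
  rw [this]
  show k + (1048576 * (k + 1) + 1099511627776 * l) = _
  omega

theorem fact_decode {G : Type*} [Group G] (s : Nat → G) (rep : Nat → G) (F : Nat → Nat) (g x y l : Nat)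
    (hx : x < 2 ^ 20) (hy : y < 2 ^ 20) (hF : F g = x + 1048576 * y + 1099511627776 * l)
    (h : FactP (⊥ : Subgroup G) s rep (F g)) : rep x * s l = rep y := by
  have hL : Nat.land (F g) 1048575 = x := by
    change F g &&& (2 ^ 20 - 1) = x
    rw [Nat.and_two_pow_sub_one_eq_mod, hF]; omega
  have hY : Nat.land (Nat.shiftRight (F g) 20) 1048575 = y := by
    change (F g >>> 20) &&& (2 ^ 20 - 1) = y
    rw [Nat.and_two_pow_sub_one_eq_mod, Nat.shiftRight_eq_div_pow, hF]; omega
  have hZ : Nat.shiftRight (F g) 40 = l := by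
    change (F g >>> 40) = l
    rw [Nat.shiftRight_eq_div_pow, hF]; omega
  unfold FactP at h
  rw [hL, hY, hZ, Subgroup.mem_bot] at h
  exact mul_inv_eq_one.1 h

theorem path_prod {G : Type*} [Group G] (s : Nat → G) (rep : Nat → G) (F : Nat → Nat) (w : List Nat) :
    ∀ k, k + w.length < 2 ^ 20 → (∀ g < k + w.length, FactP (⊥ : Subgroup G) s rep (F g)) →
      ckPathF F w k = true → rep (k + w.length) = rep k * (w.map s).prod := by
  induction w with
  | nil => intro k _ _ _; simp
  | cons l w ih =>
    intro k hk hf h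
    obtain ⟨h1, h2⟩ := ckPathF_cons F l w k h
    have h3 := fact_decode s rep F k k (k + 1) l (by omega) (by simp at hk; omega) h1 (hf k (by simp))
    have h4 := ih (k + 1) (by simp at hk ⊢; omega) (fun g hg => hf g (by simp at hg ⊢; omega)) h2
    rw [List.length_cons, show k + (w.length + 1) = k + 1 + w.length by omega, h4, ← h3, List.map_cons,
      List.prod_cons, mul_assoc]

/-- a relation proved by a block over the trivial subgroup. -/
theorem rel_of_block {G : Type*} [Group G] (s : Nat → G) (inv : Nat → Nat) (L : Nat) (TD F : Nat → Nat)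
    (RB : List (List Nat)) (hinv : ∀ l, s (inv l) = (s l)⁻¹) (h31 : s 31 = 1)
    (hRB : ∀ b ∈ RB, RelOK s L b) (lines : List Nat)
    (hck : ckBlock 1 0 0 (fun _ _ => 0) inv TD F RB lines 0 = true) (w : List Nat) (hw : ckPathF F w 0 = true)
    (hlen : w.length ≤ lines.length) (hlen2 : w.length < 2 ^ 20) (f : Nat) (hf : f < lines.length)
    (hlast : F f = w.length + 1099511627776 * 31) : (w.map s).prod = 1 := by
  have h1 := ckBlock_sound (⊥ : Subgroup G) s 1 L 0 0 (fun _ _ => 0) inv (fun _ => 0) TD F RB hinv h31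
    (fun l _ i _ h => absurd h (Nat.not_lt_zero _)) hRB lines 0 (by simp) hck
  have h2 := path_prod s (repOf s (extD 1 (fun _ => 0) TD)) F w 0 (by omega) (fun g hg => h1 g (by omega)) hw
  have h3 := fact_decode s (repOf s (extD 1 (fun _ => 0) TD)) F f w.length 0 31 hlen2 (by norm_num)
    (by rw [hlast]) (h1 f (by omega))
  rw [repOf_zero, h31, mul_one] at h3
  rw [Nat.zero_add, repOf_zero, one_mul] at h2
  rw [← h2, h3]

end Cfsg.Agent.H8
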