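import Cfsg.Agent.H8.T.Co2Ox
import Cfsg.Agent.H8.T.Co2OF
import Cfsg.Agent.H8.T.Co2Ob
import Cfsg.Agent.H8.LtCo2

/-!
# Automorphisms of the group LtCo2.G
-/

set_option Elab.async false
set_option autoImplicit false
set_option linter.all false
set_option maxRecDepth 100000
set_option maxHeartbeats 2000000

namespace Cfsg.Agent.H8.Co2O

open Cfsg.Spor
open Cfsg.Agent.H8

noncomputable def s : Nat → LtCo2.G := OT.extI Cfsg.Agent.H8.LtCo2.s 3 bws

theorem s_lt (l : Nat) (h : l < 3) : s l = Cfsg.Agent.H8.LtCo2.s l := OT.extI_lt _ _ _ l h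

noncomputable def ρ : LtCo2.G →* Equiv.Perm (Fin 4600) := Cfsg.Agent.H8.LtCo2.ρ

theorem hρ : ∀ l < 59, ρ (s l) = permL tok l :=
  OT.extI_rho tok ρ bws Cfsg.Agent.H8.LtCo2.s 3 (by
    intro l hl
    have h0 : ρ (Cfsg.Agent.H8.LtCo2.s l) = permL Cfsg.Agent.H8.LtC2.tok l := Cfsg.Agent.H8.LtCo2.hρ l hl
    rw [h0]
    ext j
    rw [permL_apply Cfsg.Agent.H8.LtC2.tok l hl, permL_apply tok l (lt_trans hl (by decide)), hii l hl,
      hTT _ (Cfsg.Agent.H8.LtC2.tok.inv_lt l hl)]) (by decide) hwb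

theorem inj : Function.Injective ρ := Cfsg.Agent.H8.LtCo2.ρ_injective

theorem cardG : Nat.card LtCo2.G = 42305421312000 := Cfsg.Agent.H8.LtCo2.cardG

theorem xchain : wordGroup s xG0 = ⊤ ∧ (∀ g ∈ wordGroup s xG0, xQ0 (act ρ ⟨982, by decide⟩ g : Fin 4600) ≠ 0) ∧ (∀ g ∈ wordGroup s xG0, act ρ ⟨982, by decide⟩ g = ⟨982, by decide⟩ → g ∈ wordGroup s xG1) ∧
    (∀ g ∈ wordGroup s xG1, xQ1 (act ρ ⟨3949, by decide⟩ g : Fin 4600) ≠ 0) ∧ (∀ g ∈ wordGroup s xG1, act ρ ⟨3949, by decide⟩ g = ⟨3949, by decide⟩ → g ∈ wordGroup s xG2) ∧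
    (∀ g ∈ wordGroup s xG2, xQ2 (act ρ ⟨2378, by decide⟩ g : Fin 4600) ≠ 0) ∧ (∀ g ∈ wordGroup s xG2, act ρ ⟨2378, by decide⟩ g = ⟨2378, by decide⟩ → g ∈ wordGroup s xG3) ∧
    (∀ g ∈ wordGroup s xG3, xQ3 (act ρ ⟨1735, by decide⟩ g : Fin 4600) ≠ 0) ∧ (∀ g ∈ wordGroup s xG3, act ρ ⟨1735, by decide⟩ g = ⟨1735, by decide⟩ → g ∈ wordGroup s xG4) ∧
    (∀ g ∈ wordGroup s xG4, xQ4 (act ρ ⟨3494, by decide⟩ g : Fin 4600) ≠ 0) ∧ (∀ g ∈ wordGroup s xG4, act ρ ⟨3494, by decide⟩ g = ⟨3494, by decide⟩ → g ∈ wordGroup s ([] : List (List Nat))) := by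
  haveI : Finite LtCo2.G := Nat.finite_of_card_ne_zero (by rw [cardG]; decide)
  have k0 := card_step s tok ρ hρ xQ0 4600 xG0 xG1 (by decide) ⟨982, by decide⟩ xr0 xc0
    (by decide) (by decide +kernel) inferInstance
  have k1 := card_step s tok ρ hρ xQ1 2816 xG1 xG2 (by decide) ⟨3949, by decide⟩ xr1 xc1
    (by decide) (by decide +kernel) inferInstance
  have k2 := card_step s tok ρ hρ xQ2 567 xG2 xG3 (by decide) ⟨2378, by decide⟩ xr2 xc2
    (by decide) (by decide +kernel) inferInstance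
  have k3 := card_step s tok ρ hρ xQ3 360 xG3 xG4 (by decide) ⟨1735, by decide⟩ xr3 xc3
    (by decide) (by decide +kernel) inferInstance
  have k4 := card_step s tok ρ hρ xQ4 16 xG4 ([] : List (List Nat)) (by decide) ⟨3494, by decide⟩ xr4 xc4
    (by decide) (by decide +kernel) inferInstance
  have k : Nat.card (wordGroup s xG0) ≤ 42305421312000 := by rw [← cardG]; exact Subgroup.card_le_card_group _
  have kl : 0 < Nat.card (wordGroup s ([] : List (List Nat))) := Nat.card_pos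
  have e0 : Nat.card (wordGroup s xG0) = 42305421312000 := by omega
  have e1 : Nat.card (wordGroup s xG1) = 9196830720 := by omega
  have e2 : Nat.card (wordGroup s xG2) = 3265920 := by omega
  have e3 : Nat.card (wordGroup s xG3) = 5760 := by omega
  have e4 : Nat.card (wordGroup s xG4) = 16 := by omega
  have e5 : Nat.card (wordGroup s ([] : List (List Nat))) = 1 := by omega
  have x0 := exact_step s tok ρ xQ0 4600 xG0 xG1 (by decide) ⟨982, by decide⟩ xr0 xc0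
    (by decide) (by decide +kernel) inferInstance hρ (by rw [e0, e1])
  have x1 := exact_step s tok ρ xQ1 2816 xG1 xG2 (by decide) ⟨3949, by decide⟩ xr1 xc1
    (by decide) (by decide +kernel) inferInstance hρ (by rw [e1, e2])
  have x2 := exact_step s tok ρ xQ2 567 xG2 xG3 (by decide) ⟨2378, by decide⟩ xr2 xc2
    (by decide) (by decide +kernel) inferInstance hρ (by rw [e2, e3])
  have x3 := exact_step s tok ρ xQ3 360 xG3 xG4 (by decide) ⟨1735, by decide⟩ xr3 xc3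
    (by decide) (by decide +kernel) inferInstance hρ (by rw [e3, e4])
  have x4 := exact_step s tok ρ xQ4 16 xG4 ([] : List (List Nat)) (by decide) ⟨3494, by decide⟩ xr4 xc4
    (by decide) (by decide +kernel) inferInstance hρ (by rw [e4, e5])
  exact ⟨Subgroup.eq_top_of_card_eq _ (by rw [e0, cardG]), x0.1, x0.2, x1.1, x1.2, x2.1, x2.2, x3.1, x3.2, x4.1, x4.2⟩

theorem xbot : wordGroup s ([] : List (List Nat)) = ⊥ := by
  unfold wordGroup
  rw [eq_bot_iff, Subgroup.closure_le]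
  rintro g ⟨w, hw, _⟩
  simp at hw

theorem xp0 : act ρ ⟨982, by decide⟩ ((([3] : List Nat).map s).prod ^ 0) = (⟨982, by decide⟩ : Fin 4600) :=
  Fin.ext (by rw [OT.iter_fin s tok ρ [3] (by decide) hρ]; decide +kernel)
theorem xp1 : act ρ ⟨982, by decide⟩ ((([3] : List Nat).map s).prod ^ 1) = (⟨3949, by decide⟩ : Fin 4600) :=
  Fin.ext (by rw [OT.iter_fin s tok ρ [3] (by decide) hρ]; decide +kernel)
theorem xp2 : act ρ ⟨982, by decide⟩ ((([3] : List Nat).map s).prod ^ 2) = (⟨2378, by decide⟩ : Fin 4600) :=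
  Fin.ext (by rw [OT.iter_fin s tok ρ [3] (by decide) hρ]; decide +kernel)
theorem xp3 : act ρ ⟨982, by decide⟩ ((([3] : List Nat).map s).prod ^ 3) = (⟨1735, by decide⟩ : Fin 4600) :=
  Fin.ext (by rw [OT.iter_fin s tok ρ [3] (by decide) hρ]; decide +kernel)
theorem xp4 : act ρ ⟨982, by decide⟩ ((([3] : List Nat).map s).prod ^ 4) = (⟨3494, by decide⟩ : Fin 4600) :=
  Fin.ext (by rw [OT.iter_fin s tok ρ [3] (by decide) hρ]; decide +kernel)

/-- an element fixing the base is trivial. -/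
theorem xbase (g : LtCo2.G) (h0 : act ρ ⟨982, by decide⟩ g = (⟨982, by decide⟩ : Fin 4600)) (h1 : act ρ ⟨3949, by decide⟩ g = (⟨3949, by decide⟩ : Fin 4600)) (h2 : act ρ ⟨2378, by decide⟩ g = (⟨2378, by decide⟩ : Fin 4600)) (h3 : act ρ ⟨1735, by decide⟩ g = (⟨1735, by decide⟩ : Fin 4600)) (h4 : act ρ ⟨3494, by decide⟩ g = (⟨3494, by decide⟩ : Fin 4600)) : g = 1 := by
  have g0 : g ∈ wordGroup s xG0 := by rw [xchain.1]; exact Subgroup.mem_top g
  have g1 := xchain.2.2.1 g g0 h0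
  have g2 := xchain.2.2.2.2.1 g g1 h1
  have g3 := xchain.2.2.2.2.2.2.1 g g2 h2
  have g4 := xchain.2.2.2.2.2.2.2.2.1 g g3 h3
  have g5 := xchain.2.2.2.2.2.2.2.2.2.2 g g4 h4
  rw [xbot] at g5
  exact Subgroup.mem_bot.1 g5

theorem xrej : Rej ρ (⊤ : Subgroup LtCo2.G) ((List.range 5).map fun i => act ρ ⟨982, by decide⟩ ((([3] : List Nat).map s).prod ^ i)) xK0 := by
  have e : ((List.range 5).map fun i => act ρ (⟨982, by decide⟩ : Fin 4600) ((([3] : List Nat).map s).prod ^ i)) = [(⟨982, by decide⟩ : Fin 4600), (⟨3949, by decide⟩ : Fin 4600), (⟨2378, by decide⟩ : Fin 4600), (⟨1735, by decide⟩ : Fin 4600), (⟨3494, by decide⟩ : Fin 4600)] := by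
    change [act ρ (⟨982, by decide⟩ : Fin 4600) ((([3] : List Nat).map s).prod ^ 0), act ρ (⟨982, by decide⟩ : Fin 4600) ((([3] : List Nat).map s).prod ^ 1), act ρ (⟨982, by decide⟩ : Fin 4600) ((([3] : List Nat).map s).prod ^ 2), act ρ (⟨982, by decide⟩ : Fin 4600) ((([3] : List Nat).map s).prod ^ 3), act ρ (⟨982, by decide⟩ : Fin 4600) ((([3] : List Nat).map s).prod ^ 4)] = _
    rw [xp0, xp1, xp2, xp3, xp4]
  rw [e, ← xchain.1]
  exact (Rej_step s tok ρ hρ (wordGroup s xG0) (wordGroup s xG1) ⟨982, by decide⟩ [(⟨3949, by decide⟩ : Fin 4600), (⟨2378, by decide⟩ : Fin 4600), (⟨1735, by decide⟩ : Fin 4600), (⟨3494, by decide⟩ : Fin 4600)] _ xQ0 xG0 12 (by decide)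
    (fun w hw => mem_wordGroup s _ w hw) xchain.2.1 xchain.2.2.1 (Rej_step s tok ρ hρ (wordGroup s xG1) (wordGroup s xG2) ⟨3949, by decide⟩ [(⟨2378, by decide⟩ : Fin 4600), (⟨1735, by decide⟩ : Fin 4600), (⟨3494, by decide⟩ : Fin 4600)] _ xQ1 xG1 12 (by decide)
    (fun w hw => mem_wordGroup s _ w hw) xchain.2.2.2.1 xchain.2.2.2.2.1 (Rej_step s tok ρ hρ (wordGroup s xG2) (wordGroup s xG3) ⟨2378, by decide⟩ [(⟨1735, by decide⟩ : Fin 4600), (⟨3494, by decide⟩ : Fin 4600)] _ xQ2 xG2 12 (by decide)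
    (fun w hw => mem_wordGroup s _ w hw) xchain.2.2.2.2.2.1 xchain.2.2.2.2.2.2.1 (Rej_step s tok ρ hρ (wordGroup s xG3) (wordGroup s xG4) ⟨1735, by decide⟩ [(⟨3494, by decide⟩ : Fin 4600)] _ xQ3 xG3 12 (by decide)
    (fun w hw => mem_wordGroup s _ w hw) xchain.2.2.2.2.2.2.2.1 xchain.2.2.2.2.2.2.2.2.1 (Rej_step s tok ρ hρ (wordGroup s xG4) (wordGroup s ([] : List (List Nat))) ⟨3494, by decide⟩ [] _ xQ4 xG4 12 (by decide)
    (fun w hw => mem_wordGroup s _ w hw) xchain.2.2.2.2.2.2.2.2.2.1 xchain.2.2.2.2.2.2.2.2.2.2 (Rej_nil ρ _ _))))))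
theorem Fchain : wordGroup s FG0 = ⊤ ∧ (∀ g ∈ wordGroup s FG0, FQ0 (act ρ ⟨1055, by decide⟩ g : Fin 4600) ≠ 0) ∧ (∀ g ∈ wordGroup s FG0, act ρ ⟨1055, by decide⟩ g = ⟨1055, by decide⟩ → g ∈ wordGroup s FG1) ∧
    (∀ g ∈ wordGroup s FG1, FQ1 (act ρ ⟨2775, by decide⟩ g : Fin 4600) ≠ 0) ∧ (∀ g ∈ wordGroup s FG1, act ρ ⟨2775, by decide⟩ g = ⟨2775, by decide⟩ → g ∈ wordGroup s FG2) ∧
    (∀ g ∈ wordGroup s FG2, FQ2 (act ρ ⟨3346, by decide⟩ g : Fin 4600) ≠ 0) ∧ (∀ g ∈ wordGroup s FG2, act ρ ⟨3346, by decide⟩ g = ⟨3346, by decide⟩ → g ∈ wordGroup s FG3) ∧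
    (∀ g ∈ wordGroup s FG3, FQ3 (act ρ ⟨1685, by decide⟩ g : Fin 4600) ≠ 0) ∧ (∀ g ∈ wordGroup s FG3, act ρ ⟨1685, by decide⟩ g = ⟨1685, by decide⟩ → g ∈ wordGroup s FG4) ∧
    (∀ g ∈ wordGroup s FG4, FQ4 (act ρ ⟨3226, by decide⟩ g : Fin 4600) ≠ 0) ∧ (∀ g ∈ wordGroup s FG4, act ρ ⟨3226, by decide⟩ g = ⟨3226, by decide⟩ → g ∈ wordGroup s FG5) ∧
    (∀ g ∈ wordGroup s FG5, FQ5 (act ρ ⟨2070, by decide⟩ g : Fin 4600) ≠ 0) ∧ (∀ g ∈ wordGroup s FG5, act ρ ⟨2070, by decide⟩ g = ⟨2070, by decide⟩ → g ∈ wordGroup s ([] : List (List Nat))) := by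
  haveI : Finite LtCo2.G := Nat.finite_of_card_ne_zero (by rw [cardG]; decide)
  have k0 := card_step s tok ρ hρ FQ0 4600 FG0 FG1 (by decide) ⟨1055, by decide⟩ Fr0 Fc0
    (by decide) (by decide +kernel) inferInstance
  have k1 := card_step s tok ρ hρ FQ1 2816 FG1 FG2 (by decide) ⟨2775, by decide⟩ Fr1 Fc1
    (by decide) (by decide +kernel) inferInstance
  have k2 := card_step s tok ρ hρ FQ2 567 FG2 FG3 (by decide) ⟨3346, by decide⟩ Fr2 Fc2
    (by decide) (by decide +kernel) inferInstance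
  have k3 := card_step s tok ρ hρ FQ3 96 FG3 FG4 (by decide) ⟨1685, by decide⟩ Fr3 Fc3
    (by decide) (by decide +kernel) inferInstance
  have k4 := card_step s tok ρ hρ FQ4 60 FG4 FG5 (by decide) ⟨3226, by decide⟩ Fr4 Fc4
    (by decide) (by decide +kernel) inferInstance
  have k5 := card_step s tok ρ hρ FQ5 1 FG5 ([] : List (List Nat)) (by decide) ⟨2070, by decide⟩ Fr5 Fc5
    (by decide) (by decide +kernel) inferInstance
  have k : Nat.card (wordGroup s FG0) ≤ 42305421312000 := by rw [← cardG]; exact Subgroup.card_le_card_group _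
  have kl : 0 < Nat.card (wordGroup s ([] : List (List Nat))) := Nat.card_pos
  have e0 : Nat.card (wordGroup s FG0) = 42305421312000 := by omega
  have e1 : Nat.card (wordGroup s FG1) = 9196830720 := by omega
  have e2 : Nat.card (wordGroup s FG2) = 3265920 := by omega
  have e3 : Nat.card (wordGroup s FG3) = 5760 := by omega
  have e4 : Nat.card (wordGroup s FG4) = 60 := by omega
  have e5 : Nat.card (wordGroup s FG5) = 1 := by omega
  have e6 : Nat.card (wordGroup s ([] : List (List Nat))) = 1 := by omega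
  have x0 := exact_step s tok ρ FQ0 4600 FG0 FG1 (by decide) ⟨1055, by decide⟩ Fr0 Fc0
    (by decide) (by decide +kernel) inferInstance hρ (by rw [e0, e1])
  have x1 := exact_step s tok ρ FQ1 2816 FG1 FG2 (by decide) ⟨2775, by decide⟩ Fr1 Fc1
    (by decide) (by decide +kernel) inferInstance hρ (by rw [e1, e2])
  have x2 := exact_step s tok ρ FQ2 567 FG2 FG3 (by decide) ⟨3346, by decide⟩ Fr2 Fc2
    (by decide) (by decide +kernel) inferInstance hρ (by rw [e2, e3])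
  have x3 := exact_step s tok ρ FQ3 96 FG3 FG4 (by decide) ⟨1685, by decide⟩ Fr3 Fc3
    (by decide) (by decide +kernel) inferInstance hρ (by rw [e3, e4])
  have x4 := exact_step s tok ρ FQ4 60 FG4 FG5 (by decide) ⟨3226, by decide⟩ Fr4 Fc4
    (by decide) (by decide +kernel) inferInstance hρ (by rw [e4, e5])
  have x5 := exact_step s tok ρ FQ5 1 FG5 ([] : List (List Nat)) (by decide) ⟨2070, by decide⟩ Fr5 Fc5
    (by decide) (by decide +kernel) inferInstance hρ (by rw [e5, e6])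
  exact ⟨Subgroup.eq_top_of_card_eq _ (by rw [e0, cardG]), x0.1, x0.2, x1.1, x1.2, x2.1, x2.2, x3.1, x3.2, x4.1, x4.2, x5.1, x5.2⟩

theorem Fbot : wordGroup s ([] : List (List Nat)) = ⊥ := by
  unfold wordGroup
  rw [eq_bot_iff, Subgroup.closure_le]
  rintro g ⟨w, hw, _⟩
  simp at hw

theorem Fp0 : act ρ ⟨1055, by decide⟩ ((([23] : List Nat).map s).prod ^ 0) = (⟨1055, by decide⟩ : Fin 4600) :=
  Fin.ext (by rw [OT.iter_fin s tok ρ [23] (by decide) hρ]; decide +kernel)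
theorem Fp1 : act ρ ⟨1055, by decide⟩ ((([23] : List Nat).map s).prod ^ 1) = (⟨2775, by decide⟩ : Fin 4600) :=
  Fin.ext (by rw [OT.iter_fin s tok ρ [23] (by decide) hρ]; decide +kernel)
theorem Fp2 : act ρ ⟨1055, by decide⟩ ((([23] : List Nat).map s).prod ^ 2) = (⟨3346, by decide⟩ : Fin 4600) :=
  Fin.ext (by rw [OT.iter_fin s tok ρ [23] (by decide) hρ]; decide +kernel)
theorem Fp3 : act ρ ⟨1055, by decide⟩ ((([23] : List Nat).map s).prod ^ 3) = (⟨1685, by decide⟩ : Fin 4600) :=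
  Fin.ext (by rw [OT.iter_fin s tok ρ [23] (by decide) hρ]; decide +kernel)
theorem Fp4 : act ρ ⟨1055, by decide⟩ ((([23] : List Nat).map s).prod ^ 4) = (⟨3226, by decide⟩ : Fin 4600) :=
  Fin.ext (by rw [OT.iter_fin s tok ρ [23] (by decide) hρ]; decide +kernel)
theorem Fp5 : act ρ ⟨1055, by decide⟩ ((([23] : List Nat).map s).prod ^ 5) = (⟨2070, by decide⟩ : Fin 4600) :=
  Fin.ext (by rw [OT.iter_fin s tok ρ [23] (by decide) hρ]; decide +kernel)
theorem Fp6 : act ρ ⟨1055, by decide⟩ ((([23] : List Nat).map s).prod ^ 6) = (⟨2892, by decide⟩ : Fin 4600) :=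
  Fin.ext (by rw [OT.iter_fin s tok ρ [23] (by decide) hρ]; decide +kernel)
theorem Fp7 : act ρ ⟨1055, by decide⟩ ((([23] : List Nat).map s).prod ^ 7) = (⟨4008, by decide⟩ : Fin 4600) :=
  Fin.ext (by rw [OT.iter_fin s tok ρ [23] (by decide) hρ]; decide +kernel)
theorem Fp8 : act ρ ⟨1055, by decide⟩ ((([23] : List Nat).map s).prod ^ 8) = (⟨2302, by decide⟩ : Fin 4600) :=
  Fin.ext (by rw [OT.iter_fin s tok ρ [23] (by decide) hρ]; decide +kernel)

/-- an element fixing the base is trivial. -/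
theorem Fbase (g : LtCo2.G) (h0 : act ρ ⟨1055, by decide⟩ g = (⟨1055, by decide⟩ : Fin 4600)) (h1 : act ρ ⟨2775, by decide⟩ g = (⟨2775, by decide⟩ : Fin 4600)) (h2 : act ρ ⟨3346, by decide⟩ g = (⟨3346, by decide⟩ : Fin 4600)) (h3 : act ρ ⟨1685, by decide⟩ g = (⟨1685, by decide⟩ : Fin 4600)) (h4 : act ρ ⟨3226, by decide⟩ g = (⟨3226, by decide⟩ : Fin 4600)) (h5 : act ρ ⟨2070, by decide⟩ g = (⟨2070, by decide⟩ : Fin 4600)) : g = 1 := by
  have g0 : g ∈ wordGroup s FG0 := by rw [Fchain.1]; exact Subgroup.mem_top g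
  have g1 := Fchain.2.2.1 g g0 h0
  have g2 := Fchain.2.2.2.2.1 g g1 h1
  have g3 := Fchain.2.2.2.2.2.2.1 g g2 h2
  have g4 := Fchain.2.2.2.2.2.2.2.2.1 g g3 h3
  have g5 := Fchain.2.2.2.2.2.2.2.2.2.2.1 g g4 h4
  have g6 := Fchain.2.2.2.2.2.2.2.2.2.2.2.2 g g5 h5
  rw [Fbot] at g6
  exact Subgroup.mem_bot.1 g6

theorem Frej : Rej ρ (⊤ : Subgroup LtCo2.G) ((List.range 9).map fun i => act ρ ⟨1055, by decide⟩ ((([23] : List Nat).map s).prod ^ i)) FK0 := by
  have e : ((List.range 9).map fun i => act ρ (⟨1055, by decide⟩ : Fin 4600) ((([23] : List Nat).map s).prod ^ i)) = [(⟨1055, by decide⟩ : Fin 4600), (⟨2775, by decide⟩ : Fin 4600), (⟨3346, by decide⟩ : Fin 4600), (⟨1685, by decide⟩ : Fin 4600), (⟨3226, by decide⟩ : Fin 4600), (⟨2070, by decide⟩ : Fin 4600), (⟨2892, by decide⟩ : Fin 4600), (⟨4008, by decide⟩ : Fin 4600), (⟨2302, by decide⟩ : Fin 4600)] := by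
    change [act ρ (⟨1055, by decide⟩ : Fin 4600) ((([23] : List Nat).map s).prod ^ 0), act ρ (⟨1055, by decide⟩ : Fin 4600) ((([23] : List Nat).map s).prod ^ 1), act ρ (⟨1055, by decide⟩ : Fin 4600) ((([23] : List Nat).map s).prod ^ 2), act ρ (⟨1055, by decide⟩ : Fin 4600) ((([23] : List Nat).map s).prod ^ 3), act ρ (⟨1055, by decide⟩ : Fin 4600) ((([23] : List Nat).map s).prod ^ 4), act ρ (⟨1055, by decide⟩ : Fin 4600) ((([23] : List Nat).map s).prod ^ 5), act ρ (⟨1055, by decide⟩ : Fin 4600) ((([23] : List Nat).map s).prod ^ 6), act ρ (⟨1055, by decide⟩ : Fin 4600) ((([23] : List Nat).map s).prod ^ 7), act ρ (⟨1055, by decide⟩ : Fin 4600) ((([23] : List Nat).map s).prod ^ 8)] = _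
    rw [Fp0, Fp1, Fp2, Fp3, Fp4, Fp5, Fp6, Fp7, Fp8]
  rw [e, ← Fchain.1]
  exact (Rej_step s tok ρ hρ (wordGroup s FG0) (wordGroup s FG1) ⟨1055, by decide⟩ [(⟨2775, by decide⟩ : Fin 4600), (⟨3346, by decide⟩ : Fin 4600), (⟨1685, by decide⟩ : Fin 4600), (⟨3226, by decide⟩ : Fin 4600), (⟨2070, by decide⟩ : Fin 4600), (⟨2892, by decide⟩ : Fin 4600), (⟨4008, by decide⟩ : Fin 4600), (⟨2302, by decide⟩ : Fin 4600)] _ FQ0 FG0 12 (by decide)
    (fun w hw => mem_wordGroup s _ w hw) Fchain.2.1 Fchain.2.2.1 (Rej_step s tok ρ hρ (wordGroup s FG1) (wordGroup s FG2) ⟨2775, by decide⟩ [(⟨3346, by decide⟩ : Fin 4600), (⟨1685, by decide⟩ : Fin 4600), (⟨3226, by decide⟩ : Fin 4600), (⟨2070, by decide⟩ : Fin 4600), (⟨2892, by decide⟩ : Fin 4600), (⟨4008, by decide⟩ : Fin 4600), (⟨2302, by decide⟩ : Fin 4600)] _ FQ1 FG1 12 (by decide)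
    (fun w hw => mem_wordGroup s _ w hw) Fchain.2.2.2.1 Fchain.2.2.2.2.1 (Rej_step s tok ρ hρ (wordGroup s FG2) (wordGroup s FG3) ⟨3346, by decide⟩ [(⟨1685, by decide⟩ : Fin 4600), (⟨3226, by decide⟩ : Fin 4600), (⟨2070, by decide⟩ : Fin 4600), (⟨2892, by decide⟩ : Fin 4600), (⟨4008, by decide⟩ : Fin 4600), (⟨2302, by decide⟩ : Fin 4600)] _ FQ2 FG2 12 (by decide)
    (fun w hw => mem_wordGroup s _ w hw) Fchain.2.2.2.2.2.1 Fchain.2.2.2.2.2.2.1 (Rej_step s tok ρ hρ (wordGroup s FG3) (wordGroup s FG4) ⟨1685, by decide⟩ [(⟨3226, by decide⟩ : Fin 4600), (⟨2070, by decide⟩ : Fin 4600), (⟨2892, by decide⟩ : Fin 4600), (⟨4008, by decide⟩ : Fin 4600), (⟨2302, by decide⟩ : Fin 4600)] _ FQ3 FG3 12 (by decide)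
    (fun w hw => mem_wordGroup s _ w hw) Fchain.2.2.2.2.2.2.2.1 Fchain.2.2.2.2.2.2.2.2.1 (Rej_step s tok ρ hρ (wordGroup s FG4) (wordGroup s FG5) ⟨3226, by decide⟩ [(⟨2070, by decide⟩ : Fin 4600), (⟨2892, by decide⟩ : Fin 4600), (⟨4008, by decide⟩ : Fin 4600), (⟨2302, by decide⟩ : Fin 4600)] _ FQ4 FG4 12 (by decide)
    (fun w hw => mem_wordGroup s _ w hw) Fchain.2.2.2.2.2.2.2.2.2.1 Fchain.2.2.2.2.2.2.2.2.2.2.1 (Rej_step s tok ρ hρ (wordGroup s FG5) (wordGroup s ([] : List (List Nat))) ⟨2070, by decide⟩ [(⟨2892, by decide⟩ : Fin 4600), (⟨4008, by decide⟩ : Fin 4600), (⟨2302, by decide⟩ : Fin 4600)] _ FQ5 FG5 12 (by decide)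
    (fun w hw => mem_wordGroup s _ w hw) Fchain.2.2.2.2.2.2.2.2.2.2.2.1 Fchain.2.2.2.2.2.2.2.2.2.2.2.2 (Rej_nil ρ _ _)))))))

/-- word identities are checked on the base. -/
theorem weq (u v : List Nat) (hu : ∀ l ∈ u, l < 59) (hv : ∀ l ∈ v, l < 59)
    (h : ∀ i ∈ ([1055, 2775, 3346, 1685, 3226, 2070] : List Nat), trN T' u i = trN T' v i) : (u.map s).prod = (v.map s).prod := by
  have key : ∀ b : Fin 4600, (b : Nat) ∈ ([1055, 2775, 3346, 1685, 3226, 2070] : List Nat) → act ρ b ((u.map s).prod * ((v.map s).prod)⁻¹) = b := by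
    intro b hb
    have h1 : act ρ b (u.map s).prod = act ρ b (v.map s).prod := by
      apply Fin.ext
      rw [act_word s tok ρ hρ b u hu, act_word s tok ρ hρ b v hv]
      exact h b hb
    rw [act_mul, h1, ← act_mul, mul_inv_cancel, act_one]
  exact mul_inv_eq_one.1 (Fbase _ (key ⟨1055, by decide⟩ (by decide)) (key ⟨2775, by decide⟩ (by decide)) (key ⟨3346, by decide⟩ (by decide)) (key ⟨1685, by decide⟩ (by decide)) (key ⟨3226, by decide⟩ (by decide)) (key ⟨2070, by decide⟩ (by decide)))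

theorem weq1 (u : List Nat) (hu : ∀ l ∈ u, l < 59)
    (h : ∀ i ∈ ([1055, 2775, 3346, 1685, 3226, 2070] : List Nat), trN T' u i = i) : (u.map s).prod = 1 :=
  weq u [] hu (by simp) h

def xw : List Nat := [3]
def fw : List Nat := [19]
def Fw : List Nat := [23]
def yw : List Nat := [21]
noncomputable def x : LtCo2.G := (xw.map s).prod
noncomputable def f : LtCo2.G := (fw.map s).prod
noncomputable def F : LtCo2.G := (Fw.map s).prod
noncomputable def y : LtCo2.G := (yw.map s).prod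

theorem x_pow : x ^ 11 = 1 := by
  unfold x
  rw [← wpow_prod]
  exact weq1 _ (by decide) (by decide +kernel)

theorem x_ne : x ≠ 1 := by
  intro h
  have h1 := act_word s tok ρ hρ ⟨982, by decide⟩ xw (by decide)
  have h2 : act ρ ⟨982, by decide⟩ (xw.map s).prod = (⟨982, by decide⟩ : Fin 4600) := by
    change act ρ ⟨982, by decide⟩ x = _
    rw [h, act_one]
  rw [h2] at h1
  exact absurd h1 (by decide +kernel)

instance prime_p : Fact (Nat.Prime 11) := ⟨by norm_num⟩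

theorem x_order : orderOf x = 11 := orderOf_eq_prime x_pow x_ne

theorem xf : x * f = f * x ^ 8 := by
  have h := weq (xw ++ fw) (fw ++ wpow xw 8) (by decide) (by decide) (by decide +kernel)
  rw [List.map_append, List.prod_append, List.map_append, List.prod_append, wpow_prod] at h
  exact h

theorem F_eq : F = f ^ 1 := by
  unfold F f
  rw [← wpow_prod]
  exact weq _ _ (by decide) (by decide) (by decide +kernel)

theorem F_pow : F ^ 10 = 1 := by
  unfold F
  rw [← wpow_prod]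
  exact weq1 _ (by decide) (by decide +kernel)

theorem Fy : F * y = y * F := by
  have h := weq (Fw ++ yw) (yw ++ Fw) (by decide) (by decide) (by decide +kernel)
  rw [List.map_append, List.prod_append, List.map_append, List.prod_append] at h
  exact h

theorem Cx (g : LtCo2.G) (h : x * g = g * x) : g ∈ Subgroup.zpowers x := by
  have hb : ∀ g : LtCo2.G, (∀ i < 5, act ρ (act ρ ⟨982, by decide⟩ (x ^ i)) g = act ρ ⟨982, by decide⟩ (x ^ i)) → g = 1 := by
    intro g hg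
    refine xbase g ?_ ?_ ?_ ?_ ?_
    · have := hg 0 (by decide)
      change act ρ (act ρ ⟨982, by decide⟩ ((([3] : List Nat).map s).prod ^ 0)) g = act ρ ⟨982, by decide⟩ ((([3] : List Nat).map s).prod ^ 0) at this
      rw [xp0] at this
      exact this
    · have := hg 1 (by decide)
      change act ρ (act ρ ⟨982, by decide⟩ ((([3] : List Nat).map s).prod ^ 1)) g = act ρ ⟨982, by decide⟩ ((([3] : List Nat).map s).prod ^ 1) at this
      rw [xp1] at this
      exact this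
    · have := hg 2 (by decide)
      change act ρ (act ρ ⟨982, by decide⟩ ((([3] : List Nat).map s).prod ^ 2)) g = act ρ ⟨982, by decide⟩ ((([3] : List Nat).map s).prod ^ 2) at this
      rw [xp2] at this
      exact this
    · have := hg 3 (by decide)
      change act ρ (act ρ ⟨982, by decide⟩ ((([3] : List Nat).map s).prod ^ 3)) g = act ρ ⟨982, by decide⟩ ((([3] : List Nat).map s).prod ^ 3) at this
      rw [xp3] at this
      exact this
    · have := hg 4 (by decide)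
      change act ρ (act ρ ⟨982, by decide⟩ ((([3] : List Nat).map s).prod ^ 4)) g = act ρ ⟨982, by decide⟩ ((([3] : List Nat).map s).prod ^ 4) at this
      rw [xp4] at this
      exact this
  have hen : ∀ g : LtCo2.G, x * g = g * x → ∃ a : Nat, ((act ρ ⟨982, by decide⟩ (g * x ^ a) : Fin 4600) : Nat) ∈ ([982, 1735] : List Nat) := by
    intro g hg
    exact conj_enum s tok ρ hρ xw xw (by decide) (by decide) ⟨982, by decide⟩ 5 5 xK0 xrej ([982, 1735] : List Nat) rfl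
      (fun q hq => OT.ckCand_sound _ _ _ _ q (allR_zero _ _ xS q hq)) g hg
  obtain ⟨w, hw, a, _, rfl⟩ := OT.cent_list ρ x 11 (by decide) x_pow ⟨982, by decide⟩ 5 hb ([982, 1735] : List Nat) hen
    ((List.range 11).map fun i => x ^ i) (by
    intro q hq
    have key : ∀ q ∈ ([982, 1735] : List Nat), ∃ i < 11, (trN T' xw)^[i] 982 = q := by decide +kernel
    obtain ⟨i, hi, h⟩ := key q hq
    refine ⟨x ^ i, List.mem_map.2 ⟨i, List.mem_range.2 hi, rfl⟩, by rw [← pow_succ', pow_succ], ?_⟩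
    unfold x
    rw [OT.iter_fin s tok ρ xw (by decide) hρ]
    exact h) g h
  obtain ⟨i, _, rfl⟩ := List.mem_map.1 hw
  exact mul_mem (Subgroup.pow_mem _ (Subgroup.mem_zpowers x) i) (Subgroup.pow_mem _ (Subgroup.mem_zpowers x) a)

/-- centraliser representatives. -/
def svW : List (Nat × List Nat) := [(82, [37, 40, 35, 33, 33, 36, 29, 32, 30, 30, 31, 25, 25, 28, 28, 26, 26, 22, 4, 19]), (596, [20, 21]), (719, [37, 40, 35, 33, 33, 36, 29, 32, 30, 30, 31, 25, 25, 28, 28, 26, 26, 22, 4, 19, 19, 19, 22]), (1055, [])]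
def cands : List (List Nat) := [[37, 40, 35, 33, 33, 36, 29, 32, 30, 30, 31, 25, 25, 28, 28, 26, 26, 22, 4, 19], [37, 40, 35, 33, 33, 36, 29, 32, 30, 30, 31, 25, 25, 28, 28, 26, 26, 22, 4, 19, 23], [37, 40, 35, 33, 33, 36, 29, 32, 30, 30, 31, 25, 25, 28, 28, 26, 26, 22, 4, 19, 23, 23], [37, 40, 35, 33, 33, 36, 29, 32, 30, 30, 31, 25, 25, 28, 28, 26, 26, 22, 4, 19, 23, 23, 23], [37, 40, 35, 33, 33, 36, 29, 32, 30, 30, 31, 25, 25, 28, 28, 26, 26, 22, 4, 19, 23, 23, 23, 23], [37, 40, 35, 33, 33, 36, 29, 32, 30, 30, 31, 25, 25, 28, 28, 26, 26, 22, 4, 19, 23, 23, 23, 23, 23], [37, 40, 35, 33, 33, 36, 29, 32, 30, 30, 31, 25, 25, 28, 28, 26, 26, 22, 4, 19, 23, 23, 23, 23, 23, 23], [37, 40, 35, 33, 33, 36, 29, 32, 30, 30, 31, 25, 25, 28, 28, 26, 26, 22, 4, 19, 23, 23, 23, 23, 23, 23, 23], [37, 40, 35, 33, 33, 36, 29, 32, 30, 30, 31, 25, 25, 28, 28, 26, 26, 22, 4, 19, 23, 23, 23, 23, 23, 23, 23, 23], [37, 40, 35, 33, 33, 36, 29,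 32, 30, 30, 31, 25, 25, 28, 28, 26, 26, 22, 4, 19, 23, 23, 23, 23, 23, 23, 23, 23, 23], [20, 21], [20, 21, 23], [20, 21, 23, 23], [20, 21, 23, 23, 23], [20, 21, 23, 23, 23, 23], [20, 21, 23, 23, 23, 23, 23], [20, 21, 23, 23, 23, 23, 23, 23], [20, 21, 23, 23, 23, 23, 23, 23, 23], [20, 21, 23, 23, 23, 23, 23, 23, 23, 23], [20, 21, 23, 23, 23, 23, 23, 23, 23, 23, 23], [37, 40, 35, 33, 33, 36, 29, 32, 30, 30, 31, 25, 25, 28, 28, 26, 26, 22, 4, 19, 19, 19, 22], [37, 40, 35, 33, 33, 36, 29, 32, 30, 30, 31, 25, 25, 28, 28, 26, 26, 22, 4, 19, 19, 19, 22, 23], [37, 40, 35, 33, 33, 36, 29, 32, 30, 30, 31, 25, 25, 28, 28, 26, 26, 22, 4, 19, 19, 19, 22, 23, 23], [37, 40, 35, 33, 33, 36, 29, 32, 30, 30, 31, 25, 25, 28, 28, 26, 26, 22, 4, 19, 19, 19, 22, 23, 23, 23], [37, 40, 35, 33, 33, 36, 29, 32, 30, 30, 31, 25, 25, 28, 28, 26, 26, 22, 4, 19, 19, 19, 22, 23, 23, 23, 23], [37, 40, 35, 33, 33, 36, 29, 32, 30, 30, 31, 25, 25, 28, 28,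 26, 26, 22, 4, 19, 19, 19, 22, 23, 23, 23, 23, 23], [37, 40, 35, 33, 33, 36, 29, 32, 30, 30, 31, 25, 25, 28, 28, 26, 26, 22, 4, 19, 19, 19, 22, 23, 23, 23, 23, 23, 23], [37, 40, 35, 33, 33, 36, 29, 32, 30, 30, 31, 25, 25, 28, 28, 26, 26, 22, 4, 19, 19, 19, 22, 23, 23, 23, 23, 23, 23, 23], [37, 40, 35, 33, 33, 36, 29, 32, 30, 30, 31, 25, 25, 28, 28, 26, 26, 22, 4, 19, 19, 19, 22, 23, 23, 23, 23, 23, 23, 23, 23], [37, 40, 35, 33, 33, 36, 29, 32, 30, 30, 31, 25, 25, 28, 28, 26, 26, 22, 4, 19, 19, 19, 22, 23, 23, 23, 23, 23, 23, 23, 23, 23], [], [23], [23, 23], [23, 23, 23], [23, 23, 23, 23], [23, 23, 23, 23, 23], [23, 23, 23, 23, 23, 23], [23, 23, 23, 23, 23, 23, 23], [23, 23, 23, 23, 23, 23, 23, 23], [23, 23, 23, 23, 23, 23, 23, 23, 23]]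
def rels3 : List (List Nat × Nat) := [([2, 0], 24), ([2, 1, 0], 24), ([2, 2, 0], 10), ([2, 2, 1], 1)]

def codes1 : List Nat := [1, 1, 1, 2, 1, 1, 1, 4, 3, 2, 4, 0, 4, 2, 1, 1, 1, 1, 1, 1, 1, 1, 1, 1, 1, 1, 1, 1, 2, 1, 1, 1, 1, 1, 1, 2, 1, 1, 1, 1]
def good1 : List (List Nat) := [[20, 21, 23]]
theorem tests1 : OT.ckTests T' (wpow xw 1) fw rels3 good1 cands codes1 = true := by decide +kernel

theorem rels3_ok : ∀ q ∈ rels3, (((OT.sub3 xw fw yw q.1).map s).prod) ^ q.2 = 1 := by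
  intro q hq
  rw [← wpow_prod]
  apply weq1
  · revert q hq; decide
  · revert q hq; decide +kernel

theorem svW_ok : ∀ q ∈ svW, F * (q.2.map s).prod = (q.2.map s).prod * F ∧
    ((act ρ ⟨1055, by decide⟩ (q.2.map s).prod : Fin 4600) : Nat) = q.1 := by
  intro q hq
  constructor
  · have h := weq (Fw ++ q.2) (q.2 ++ Fw) (by revert q hq; decide) (by revert q hq; decide) (by revert q hq; decide +kernel)
    rw [List.map_append, List.prod_append, List.map_append, List.prod_append] at h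
    exact h
  · rw [act_word s tok ρ hρ _ _ (by revert q hq; decide)]
    revert q hq; decide +kernel

theorem cent_cands (g : LtCo2.G) (h : F * g = g * F) : ∃ w ∈ cands, g = (w.map s).prod := by
  have hb : ∀ g : LtCo2.G, (∀ i < 9, act ρ (act ρ ⟨1055, by decide⟩ (F ^ i)) g = act ρ ⟨1055, by decide⟩ (F ^ i)) → g = 1 := by
    intro g hg
    refine Fbase g ?_ ?_ ?_ ?_ ?_ ?_
    · have := hg 0 (by decide)
      change act ρ (act ρ ⟨1055, by decide⟩ ((([23] : List Nat).map s).prod ^ 0)) g = act ρ ⟨1055, by decide⟩ ((([23] : List Nat).map s).prod ^ 0) at this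
      rw [Fp0] at this
      exact this
    · have := hg 1 (by decide)
      change act ρ (act ρ ⟨1055, by decide⟩ ((([23] : List Nat).map s).prod ^ 1)) g = act ρ ⟨1055, by decide⟩ ((([23] : List Nat).map s).prod ^ 1) at this
      rw [Fp1] at this
      exact this
    · have := hg 2 (by decide)
      change act ρ (act ρ ⟨1055, by decide⟩ ((([23] : List Nat).map s).prod ^ 2)) g = act ρ ⟨1055, by decide⟩ ((([23] : List Nat).map s).prod ^ 2) at this
      rw [Fp2] at this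
      exact this
    · have := hg 3 (by decide)
      change act ρ (act ρ ⟨1055, by decide⟩ ((([23] : List Nat).map s).prod ^ 3)) g = act ρ ⟨1055, by decide⟩ ((([23] : List Nat).map s).prod ^ 3) at this
      rw [Fp3] at this
      exact this
    · have := hg 4 (by decide)
      change act ρ (act ρ ⟨1055, by decide⟩ ((([23] : List Nat).map s).prod ^ 4)) g = act ρ ⟨1055, by decide⟩ ((([23] : List Nat).map s).prod ^ 4) at this
      rw [Fp4] at this
      exact this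
    · have := hg 5 (by decide)
      change act ρ (act ρ ⟨1055, by decide⟩ ((([23] : List Nat).map s).prod ^ 5)) g = act ρ ⟨1055, by decide⟩ ((([23] : List Nat).map s).prod ^ 5) at this
      rw [Fp5] at this
      exact this
  have hen : ∀ g : LtCo2.G, F * g = g * F → ∃ a : Nat, ((act ρ ⟨1055, by decide⟩ (g * F ^ a) : Fin 4600) : Nat) ∈ svW.map Prod.fst := by
    intro g hg
    exact conj_enum s tok ρ hρ Fw Fw (by decide) (by decide) ⟨1055, by decide⟩ 9 9 FK0 Frej (svW.map Prod.fst) rfl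
      (fun q hq => OT.ckCand_sound _ _ _ _ q (allR_zero _ _ FS q hq)) g hg
  obtain ⟨w, hw, a, ha, rfl⟩ := OT.cent_list ρ F 10 (by decide) F_pow ⟨1055, by decide⟩ 9 hb _ hen
    (svW.map fun q => (q.2.map s).prod) (by
    intro q hq
    obtain ⟨z, hz, rfl⟩ := List.mem_map.1 hq
    exact ⟨_, List.mem_map.2 ⟨z, hz, rfl⟩, svW_ok z hz⟩) g h
  obtain ⟨z, hz, rfl⟩ := List.mem_map.1 hw
  refine ⟨z.2 ++ wpow Fw a, ?_, ?_⟩
  · have key : ∀ z ∈ svW, ∀ a < 10, z.2 ++ wpow Fw a ∈ cands := by decide +kernel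
    exact key z hz a ha
  · rw [List.map_append, List.prod_append, wpow_prod]
    rfl


/-- straight-line program for the letters of the chain. -/
def prog : List (Nat × List Nat) := [(25, [21, 20, 3, 19, 19, 22, 22, 22, 3, 22, 3, 20, 4, 21, 20, 3, 21, 20]), (26, [19, 22, 4, 19, 22, 3, 19, 4, 21, 4, 21, 21, 21, 20, 20, 4, 19, 22]), (27, [22, 22, 19, 4, 21, 3, 19, 19, 22, 3, 22, 20, 4, 22, 4, 4, 21]), (28, [22, 3, 3, 21, 3, 19, 21, 4, 21, 20, 20, 4, 22, 3, 20, 21, 21]), (29, [28, 28, 28, 26, 27, 26, 27, 27, 25, 25, 25, 27, 27, 26, 28, 25]), (30, [26, 27, 25, 28, 28, 26, 26, 26, 28, 28, 25, 28, 25, 27, 27, 27]), (31, [28, 28, 25, 25, 25, 28, 26, 26, 26, 27, 27, 25, 28, 26, 27, 27, 27]), (32, [28, 28, 28, 25, 27, 26, 28, 28, 25, 25, 25, 27, 26, 26, 26, 27, 27]), (33, [32, 29, 29, 31, 31, 29, 29, 31, 30, 32, 32]), (34, [31, 31, 29, 32, 30, 30, 32, 32, 30, 30, 31]), (35, [32, 29, 31, 29, 29, 32]), (36, [31, 30, 30, 32, 30,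 31]), (37, [36, 33, 33, 36]), (38, [35, 34, 34, 35]), (39, [34, 34, 34, 35, 33, 35, 33, 36]), (40, [35, 34, 36, 34, 36, 33, 33, 33])]

theorem inv_letter (l l' : Nat) (h1 : l < 59) (h2 : l' < 59) (h : ∀ i ∈ ([1055, 2775, 3346, 1685, 3226, 2070] : List Nat), trN T' [l, l'] i = i) : s l' = (s l)⁻¹ := by
  have := weq1 [l, l'] (by intro k hk; simp only [List.mem_cons, List.not_mem_nil, or_false] at hk; rcases hk with rfl | rfl <;> assumption) h
  rw [List.map_cons, List.map_singleton, List.prod_cons, List.prod_singleton] at this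
  exact eq_inv_of_mul_eq_one_right this

theorem s_x : s 3 = x := by unfold x xw; simp
theorem s_f : s 19 = f := by unfold f fw; simp
theorem s_y : s 21 = y := by unfold y yw; simp
theorem s_x' : s 4 = x⁻¹ := by rw [← s_x]; exact inv_letter 3 4 (by decide) (by decide) (by decide +kernel)
theorem s_f' : s 20 = f⁻¹ := by rw [← s_f]; exact inv_letter 19 20 (by decide) (by decide) (by decide +kernel)
theorem s_y' : s 22 = y⁻¹ := by rw [← s_y]; exact inv_letter 21 22 (by decide) (by decide) (by decide +kernel)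

theorem prog_ok : ∀ e ∈ prog, s e.1 = (e.2.map s).prod := by
  intro e he
  have h := weq [e.1] e.2 (by revert e he; decide) (by revert e he; decide) (by revert e he; decide +kernel)
  rw [List.map_singleton, List.prod_singleton] at h
  exact h

theorem gen_top : Subgroup.closure ({x, f, y} : Set LtCo2.G) = ⊤ := by
  rw [eq_top_iff, ← Fchain.1]
  have hx : x ∈ Subgroup.closure ({x, f, y} : Set LtCo2.G) := Subgroup.subset_closure (Or.inl rfl)
  have hf : f ∈ Subgroup.closure ({x, f, y} : Set LtCo2.G) := Subgroup.subset_closure (Or.inr (Or.inl rfl))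
  have hy : y ∈ Subgroup.closure ({x, f, y} : Set LtCo2.G) := Subgroup.subset_closure (Or.inr (Or.inr rfl))
  have h0 : ∀ l ∈ ([3, 19, 21, 4, 20, 22] : List Nat), s l ∈ Subgroup.closure ({x, f, y} : Set LtCo2.G) := by
    intro l hl
    simp only [List.mem_cons, List.not_mem_nil, or_false] at hl
    rcases hl with rfl | rfl | rfl | rfl | rfl | rfl
    · rw [s_x]; exact hx
    · rw [s_f]; exact hf
    · rw [s_y]; exact hy
    · rw [s_x']; exact inv_mem hx
    · rw [s_f']; exact inv_mem hf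
    · rw [s_y']; exact inv_mem hy
  have h1 := OT.slp_mem s (Subgroup.closure ({x, f, y} : Set LtCo2.G)) prog _ h0 (by decide) prog_ok
  unfold wordGroup
  rw [Subgroup.closure_le]
  rintro _ ⟨w, hw, rfl⟩
  have key : ∀ w ∈ FG0, ∃ l, w = [l] ∧ (l ∈ ([3, 19, 21, 4, 20, 22] : List Nat) ∨ l ∈ prog.map Prod.fst) := by
    intro w hw
    have key2 : ∀ w ∈ FG0, w = [w.headD 0] ∧ (w.headD 0 ∈ ([3, 19, 21, 4, 20, 22] : List Nat) ∨ w.headD 0 ∈ prog.map Prod.fst) := by decide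
    exact ⟨_, key2 w hw⟩
  obtain ⟨l, rfl, hl⟩ := key w hw
  rw [List.map_singleton, List.prod_singleton]
  rcases hl with hl | hl
  · exact h0 l hl
  · obtain ⟨e, he, rfl⟩ := List.mem_map.1 hl
    exact h1 e he


theorem out_le : Finite (Cfsg.Out LtCo2.G) ∧ Nat.card (Cfsg.Out LtCo2.G) ≤ 1 := by
  haveI : Finite LtCo2.G := Nat.finite_of_card_ne_zero (by rw [cardG]; decide)
  refine OT.out_card_le 11 x f y x_order (by rw [cardG]; decide) Cx 8 xf (by decide) [1] ?_ gen_top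
    ([(1, ((([20, 21, 23] : List Nat).map s).prod))]) ?_
  · have key : ∀ k : ZMod 11, k ≠ 0 → ∃ j ∈ ([1] : List ℕ), ∃ i < 11, k = (j : ZMod 11) * (8 : ZMod 11) ^ i := by decide +kernel
    intro k hk
    obtain ⟨j, hj, i, _, h⟩ := key k hk
    exact ⟨j, hj, i, by push_cast; exact h⟩
  · intro j hj β hβx hβf
    have hβF : β F = F := by rw [F_eq, map_pow, hβf]
    have hc : F * β y = β y * F := by
      have := congrArg β Fy
      rw [map_mul, map_mul, hβF] at this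
      exact this
    obtain ⟨w, hw, hwy⟩ := cent_cands (β y) hc
    simp only [List.mem_cons, List.not_mem_nil, or_false] at hj
    subst hj
    · have h := OT.good_of_tests s tok ρ hρ 1 xw fw yw (by decide) (by decide) rels3 rels3_ok good1 cands codes1 (by decide)
        (by decide) tests1 β hβx hβf w hw hwy
      unfold good1 at h
      simp only [List.mem_cons, List.not_mem_nil, or_false] at h
      subst h
      rw [hwy]; simp

theorem out_eq : Nat.card (Cfsg.Out LtCo2.G) = 1 := by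
  have h1 := out_le
  haveI := h1.1
  have h2 : 0 < Nat.card (Cfsg.Out LtCo2.G) := Nat.card_pos
  omega


end Cfsg.Agent.H8.Co2O
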