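import Cfsg.Agent.H8.T.LtC3

/-!
# The group `Co3` acting on 552 vectors
-/

set_option autoImplicit false
set_option linter.all false
set_option maxRecDepth 100000

namespace Cfsg.Agent.H8.LtCo3

open Cfsg Cfsg.Agent.H7 Cfsg.Agent.H8 Cfsg.Agent.H8.Lt Cfsg.Agent.H8.LtC3

theorem tot0 : Tot R0 := tot_of_gen (okB_spec okR0).2.small (okB_spec okR0).1 _ okI0 gen_lv
theorem tot1 : Tot R1 := tot_of_gen (okB_spec okR1).2.small (okB_spec okR1).1 _ okI1 gen_lv
theorem tot2 : Tot R2 := tot_of_gen (okB_spec okR2).2.small (okB_spec okR2).1 _ okI2 gen_lv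

noncomputable def A : ℕ → Co0
  | 0 => elt R0 (okB_spec okR0).2 tot0
  | 1 => elt R1 (okB_spec okR1).2 tot1
  | 2 => elt R2 (okB_spec okR2).2 tot2
  | _ => 1

theorem A_sq (l : ℕ) : A l * A l = 1 := by
  match l with
  | 0 => exact elt_sq _ _
  | 1 => exact elt_sq _ _
  | 2 => exact elt_sq _ _
  | _ + 3 => exact mul_one _

def w0 : leechLattice := lv W okW

theorem A_w0 (l : ℕ) : A l • w0 = w0 := by
  match l with
  | 0 => exact elt_eq _ _ (rel_of_ck (okB_spec okR0).2.small (okB_spec okR0).1 okW okW okW0)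
  | 1 => exact elt_eq _ _ (rel_of_ck (okB_spec okR1).2.small (okB_spec okR1).1 okW okW okW1)
  | 2 => exact elt_eq _ _ (rel_of_ck (okB_spec okR2).2.small (okB_spec okR2).1 okW okW okW2)
  | _ + 3 => exact one_smul _ _

theorem vC_ok {i : ℕ} (hi : i < 552) : isLV (VC i) = true := allR_zero _ _ vOK i hi

noncomputable def vec (i : Fin 552) : leechLattice := lv (VC i) (vC_ok i.2)

theorem VC_lt {i j : ℕ} (hij : i < j) (hj : j < 552) : VC i < VC j := by
  induction j with
  | zero => omega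
  | succ j ih =>
    have h1 : VC j < VC (j + 1) := by
      have := allR_zero _ _ vLt j (by omega)
      exact Nat.le_of_ble_eq_true this
    rcases Nat.lt_or_ge i j with h | h
    · exact lt_trans (ih h (by omega)) h1
    · have : i = j := by omega
      rw [this]; exact h1

theorem VC_bd {i : ℕ} (hi : i < 552) : VC i < 16 ^ 24 := by
  rcases Nat.lt_or_ge i 551 with h | h
  · exact lt_trans (VC_lt h (by norm_num)) vLast
  · have : i = 551 := by omega
    rw [this]; exact vLast

theorem vec_inj : Function.Injective vec := by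
  intro i j h
  have h1 := lv_inj (VC_bd i.2) (VC_bd j.2) h
  rcases Nat.lt_trichotomy (i : ℕ) j with h2 | h2 | h2
  · exact absurd h1 (Nat.ne_of_lt (VC_lt h2 j.2))
  · exact Fin.ext h2
  · exact absurd h1.symm (Nat.ne_of_lt (VC_lt h2 i.2))

theorem T_lt (l : ℕ) (hl : l < 3) (j : ℕ) (hj : j < 552) : T l j < 552 := tok.lt l hl j hj

theorem A_vec (l : ℕ) (hl : l < 3) (i : Fin 552) : A l • vec i = vec ⟨T l i, T_lt l hl i i.2⟩ := by
  interval_cases l
  · exact elt_eq _ _ (rel_of_ck (okB_spec okR0).2.small (okB_spec okR0).1 _ _ (allR_zero _ _ vA0 i i.2))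
  · exact elt_eq _ _ (rel_of_ck (okB_spec okR1).2.small (okB_spec okR1).1 _ _ (allR_zero _ _ vA1 i i.2))
  · exact elt_eq _ _ (rel_of_ck (okB_spec okR2).2.small (okB_spec okR2).1 _ _ (allR_zero _ _ vA2 i i.2))

theorem vec_norm (i : Fin 552) : bL (vec i) (vec i) = 4 := by
  have := ckDot_spec (vC_ok i.2) (vC_ok i.2) (allR_zero _ _ vN i i.2)
  rw [vec, this]; norm_num

theorem vec_w0 (i : Fin 552) : bL (vec i) w0 = 3 := by
  have := ckDot_spec (vC_ok i.2) okW (allR_zero _ _ vW i i.2)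
  rw [vec, w0, this]; norm_num

theorem w0_norm : bL w0 w0 = 6 := by
  have := ckDot_spec (pb := 6) (nb := 0) okW okW (by decide +kernel)
  rw [w0, this]; norm_num

theorem vec_surj (x : leechLattice) (h1 : bL x x = 4) (h2 : bL x w0 = 3) : ∃ i, vec i = x :=
  surj_of_ncard vec vec_inj {x | bL x x = 4 ∧ bL x w0 = 3} (fun i => ⟨vec_norm i, vec_w0 i⟩)
    (count552 w0 w0_norm) (by norm_num) x ⟨h1, h2⟩

abbrev G := MulAction.stabilizer Co0 w0

theorem G_inv (g : G) (i : Fin 552) : ∃ j, (g : Co0) • vec i = vec j := by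
  have hg : (g : Co0) • w0 = w0 := g.2
  obtain ⟨j, hj⟩ := vec_surj ((g : Co0) • vec i) (by rw [co0_bL, vec_norm]) (by
    have h := co0_bL (g : Co0) (vec i) w0
    rw [hg] at h
    rw [h, vec_w0])
  exact ⟨j, hj.symm⟩

noncomputable def s (l : ℕ) : G := ⟨A l, A_w0 l⟩

theorem s_sq (l : ℕ) : s l * s l = 1 := Subtype.ext (A_sq l)

theorem rho_ex : ∃ ρ : G →* Equiv.Perm (Fin 552), ∀ g i, vec (ρ g i) = g • vec i :=
  exists_rho vec vec_inj G_inv

noncomputable def ρ : G →* Equiv.Perm (Fin 552) := rho_ex.choose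

theorem ρ_spec (g : G) (i : Fin 552) : vec (ρ g i) = (g : Co0) • vec i := rho_ex.choose_spec g i

theorem hρ : ∀ l < 3, ρ (s l) = permL tok l := by
  intro l hl
  apply Equiv.ext
  intro i
  apply vec_inj
  rw [ρ_spec]
  have h : permL tok l i = ⟨T l i, T_lt l hl i i.2⟩ := Fin.ext (permL_apply tok l hl i)
  rw [h]
  exact A_vec l hl i

theorem cardG : Nat.card G = 495766656000 := card_stab6 w0 w0_norm

theorem simple : IsSimpleGroup G := simple_stab6 w0 w0_norm

theorem ρ_injective : Function.Injective ρ := by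
  rw [← MonoidHom.ker_eq_bot_iff]
  rcases simple.eq_bot_or_eq_top_of_normal ρ.ker inferInstance with h | h
  · exact h
  · exfalso
    have h1 : s 0 ∈ ρ.ker := by rw [h]; exact Subgroup.mem_top _
    rw [MonoidHom.mem_ker, hρ 0 (by norm_num)] at h1
    have h2 := congrArg (fun σ : Equiv.Perm (Fin 552) => ((σ ⟨2, by norm_num⟩ : Fin 552) : ℕ)) h1
    have h3 : T 0 2 = 2 := by
      have e := permL_apply tok 0 (by norm_num) ⟨2, by norm_num⟩
      exact e.symm.trans h2
    exact absurd h3 (by decide +kernel)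

end Cfsg.Agent.H8.LtCo3
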