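import Cfsg.Agent.H8.T.Co3Ox
import Cfsg.Agent.H8.T.Co3OF
import Cfsg.Agent.H8.T.Co3Ob
import Cfsg.Agent.H8.LtCo3

/-!
# Automorphisms of the group LtCo3.G
-/

set_option Elab.async false
set_option autoImplicit false
set_option linter.all false
set_option maxRecDepth 100000
set_option maxHeartbeats 2000000

namespace Cfsg.Agent.H8.Co3O

open Cfsg.Spor
open Cfsg.Agent.H8

noncomputable def s : Nat → LtCo3.G := OT.extI Cfsg.Agent.H8.LtCo3.s 3 bws

theorem s_lt (l : Nat) (h : l < 3) : s l = Cfsg.Agent.H8.LtCo3.s l := OT.extI_lt _ _ _ l h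

noncomputable def ρ : LtCo3.G →* Equiv.Perm (Fin 552) := Cfsg.Agent.H8.LtCo3.ρ

theorem hρ : ∀ l < 71, ρ (s l) = permL tok l :=
  OT.extI_rho tok ρ bws Cfsg.Agent.H8.LtCo3.s 3 (by
    intro l hl
    have h0 : ρ (Cfsg.Agent.H8.LtCo3.s l) = permL Cfsg.Agent.H8.LtC3.tok l := Cfsg.Agent.H8.LtCo3.hρ l hl
    rw [h0]
    ext j
    rw [permL_apply Cfsg.Agent.H8.LtC3.tok l hl, permL_apply tok l (lt_trans hl (by decide)), hii l hl,
      hTT _ (Cfsg.Agent.H8.LtC3.tok.inv_lt l hl)]) (by decide) hwb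

theorem inj : Function.Injective ρ := Cfsg.Agent.H8.LtCo3.ρ_injective

theorem cardG : Nat.card LtCo3.G = 495766656000 := Cfsg.Agent.H8.LtCo3.cardG

theorem xchain : wordGroup s xG0 = ⊤ ∧ (∀ g ∈ wordGroup s xG0, xQ0 (act ρ ⟨70, by decide⟩ g : Fin 552) ≠ 0) ∧ (∀ g ∈ wordGroup s xG0, act ρ ⟨70, by decide⟩ g = ⟨70, by decide⟩ → g ∈ wordGroup s xG1) ∧
    (∀ g ∈ wordGroup s xG1, xQ1 (act ρ ⟨468, by decide⟩ g : Fin 552) ≠ 0) ∧ (∀ g ∈ wordGroup s xG1, act ρ ⟨468, by decide⟩ g = ⟨468, by decide⟩ → g ∈ wordGroup s xG2) ∧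
    (∀ g ∈ wordGroup s xG2, xQ2 (act ρ ⟨473, by decide⟩ g : Fin 552) ≠ 0) ∧ (∀ g ∈ wordGroup s xG2, act ρ ⟨473, by decide⟩ g = ⟨473, by decide⟩ → g ∈ wordGroup s xG3) ∧
    (∀ g ∈ wordGroup s xG3, xQ3 (act ρ ⟨502, by decide⟩ g : Fin 552) ≠ 0) ∧ (∀ g ∈ wordGroup s xG3, act ρ ⟨502, by decide⟩ g = ⟨502, by decide⟩ → g ∈ wordGroup s xG4) ∧
    (∀ g ∈ wordGroup s xG4, xQ4 (act ρ ⟨332, by decide⟩ g : Fin 552) ≠ 0) ∧ (∀ g ∈ wordGroup s xG4, act ρ ⟨332, by decide⟩ g = ⟨332, by decide⟩ → g ∈ wordGroup s xG5) ∧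
    (∀ g ∈ wordGroup s xG5, xQ5 (act ρ ⟨194, by decide⟩ g : Fin 552) ≠ 0) ∧ (∀ g ∈ wordGroup s xG5, act ρ ⟨194, by decide⟩ g = ⟨194, by decide⟩ → g ∈ wordGroup s xG6) ∧
    (∀ g ∈ wordGroup s xG6, xQ6 (act ρ ⟨455, by decide⟩ g : Fin 552) ≠ 0) ∧ (∀ g ∈ wordGroup s xG6, act ρ ⟨455, by decide⟩ g = ⟨455, by decide⟩ → g ∈ wordGroup s ([] : List (List Nat))) := by
  haveI : Finite LtCo3.G := Nat.finite_of_card_ne_zero (by rw [cardG]; decide)
  have k0 := card_step s tok ρ hρ xQ0 552 xG0 xG1 (by decide) ⟨70, by decide⟩ xr0 xc0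
    (by decide) (by decide +kernel) inferInstance
  have k1 := card_step s tok ρ hρ xQ1 275 xG1 xG2 (by decide) ⟨468, by decide⟩ xr1 xc1
    (by decide) (by decide +kernel) inferInstance
  have k2 := card_step s tok ρ hρ xQ2 112 xG2 xG3 (by decide) ⟨473, by decide⟩ xr2 xc2
    (by decide) (by decide +kernel) inferInstance
  have k3 := card_step s tok ρ hρ xQ3 81 xG3 xG4 (by decide) ⟨502, by decide⟩ xr3 xc3
    (by decide) (by decide +kernel) inferInstance
  have k4 := card_step s tok ρ hρ xQ4 36 xG4 xG5 (by decide) ⟨332, by decide⟩ xr4 xc4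
    (by decide) (by decide +kernel) inferInstance
  have k5 := card_step s tok ρ hρ xQ5 10 xG5 xG6 (by decide) ⟨194, by decide⟩ xr5 xc5
    (by decide) (by decide +kernel) inferInstance
  have k6 := card_step s tok ρ hρ xQ6 1 xG6 ([] : List (List Nat)) (by decide) ⟨455, by decide⟩ xr6 xc6
    (by decide) (by decide +kernel) inferInstance
  have k : Nat.card (wordGroup s xG0) ≤ 495766656000 := by rw [← cardG]; exact Subgroup.card_le_card_group _
  have kl : 0 < Nat.card (wordGroup s ([] : List (List Nat))) := Nat.card_pos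
  have e0 : Nat.card (wordGroup s xG0) = 495766656000 := by omega
  have e1 : Nat.card (wordGroup s xG1) = 898128000 := by omega
  have e2 : Nat.card (wordGroup s xG2) = 3265920 := by omega
  have e3 : Nat.card (wordGroup s xG3) = 29160 := by omega
  have e4 : Nat.card (wordGroup s xG4) = 360 := by omega
  have e5 : Nat.card (wordGroup s xG5) = 10 := by omega
  have e6 : Nat.card (wordGroup s xG6) = 1 := by omega
  have e7 : Nat.card (wordGroup s ([] : List (List Nat))) = 1 := by omega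
  have x0 := exact_step s tok ρ xQ0 552 xG0 xG1 (by decide) ⟨70, by decide⟩ xr0 xc0
    (by decide) (by decide +kernel) inferInstance hρ (by rw [e0, e1])
  have x1 := exact_step s tok ρ xQ1 275 xG1 xG2 (by decide) ⟨468, by decide⟩ xr1 xc1
    (by decide) (by decide +kernel) inferInstance hρ (by rw [e1, e2])
  have x2 := exact_step s tok ρ xQ2 112 xG2 xG3 (by decide) ⟨473, by decide⟩ xr2 xc2
    (by decide) (by decide +kernel) inferInstance hρ (by rw [e2, e3])
  have x3 := exact_step s tok ρ xQ3 81 xG3 xG4 (by decide) ⟨502, by decide⟩ xr3 xc3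
    (by decide) (by decide +kernel) inferInstance hρ (by rw [e3, e4])
  have x4 := exact_step s tok ρ xQ4 36 xG4 xG5 (by decide) ⟨332, by decide⟩ xr4 xc4
    (by decide) (by decide +kernel) inferInstance hρ (by rw [e4, e5])
  have x5 := exact_step s tok ρ xQ5 10 xG5 xG6 (by decide) ⟨194, by decide⟩ xr5 xc5
    (by decide) (by decide +kernel) inferInstance hρ (by rw [e5, e6])
  have x6 := exact_step s tok ρ xQ6 1 xG6 ([] : List (List Nat)) (by decide) ⟨455, by decide⟩ xr6 xc6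
    (by decide) (by decide +kernel) inferInstance hρ (by rw [e6, e7])
  exact ⟨Subgroup.eq_top_of_card_eq _ (by rw [e0, cardG]), x0.1, x0.2, x1.1, x1.2, x2.1, x2.2, x3.1, x3.2, x4.1, x4.2, x5.1, x5.2, x6.1, x6.2⟩

theorem xbot : wordGroup s ([] : List (List Nat)) = ⊥ := by
  unfold wordGroup
  rw [eq_bot_iff, Subgroup.closure_le]
  rintro g ⟨w, hw, _⟩
  simp at hw

theorem xp0 : act ρ ⟨70, by decide⟩ ((([3] : List Nat).map s).prod ^ 0) = (⟨70, by decide⟩ : Fin 552) :=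
  Fin.ext (by rw [OT.iter_fin s tok ρ [3] (by decide) hρ]; decide +kernel)
theorem xp1 : act ρ ⟨70, by decide⟩ ((([3] : List Nat).map s).prod ^ 1) = (⟨468, by decide⟩ : Fin 552) :=
  Fin.ext (by rw [OT.iter_fin s tok ρ [3] (by decide) hρ]; decide +kernel)
theorem xp2 : act ρ ⟨70, by decide⟩ ((([3] : List Nat).map s).prod ^ 2) = (⟨473, by decide⟩ : Fin 552) :=
  Fin.ext (by rw [OT.iter_fin s tok ρ [3] (by decide) hρ]; decide +kernel)
theorem xp3 : act ρ ⟨70, by decide⟩ ((([3] : List Nat).map s).prod ^ 3) = (⟨502, by decide⟩ : Fin 552) :=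
  Fin.ext (by rw [OT.iter_fin s tok ρ [3] (by decide) hρ]; decide +kernel)
theorem xp4 : act ρ ⟨70, by decide⟩ ((([3] : List Nat).map s).prod ^ 4) = (⟨332, by decide⟩ : Fin 552) :=
  Fin.ext (by rw [OT.iter_fin s tok ρ [3] (by decide) hρ]; decide +kernel)
theorem xp5 : act ρ ⟨70, by decide⟩ ((([3] : List Nat).map s).prod ^ 5) = (⟨194, by decide⟩ : Fin 552) :=
  Fin.ext (by rw [OT.iter_fin s tok ρ [3] (by decide) hρ]; decide +kernel)
theorem xp6 : act ρ ⟨70, by decide⟩ ((([3] : List Nat).map s).prod ^ 6) = (⟨455, by decide⟩ : Fin 552) :=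
  Fin.ext (by rw [OT.iter_fin s tok ρ [3] (by decide) hρ]; decide +kernel)

/-- an element fixing the base is trivial. -/
theorem xbase (g : LtCo3.G) (h0 : act ρ ⟨70, by decide⟩ g = (⟨70, by decide⟩ : Fin 552)) (h1 : act ρ ⟨468, by decide⟩ g = (⟨468, by decide⟩ : Fin 552)) (h2 : act ρ ⟨473, by decide⟩ g = (⟨473, by decide⟩ : Fin 552)) (h3 : act ρ ⟨502, by decide⟩ g = (⟨502, by decide⟩ : Fin 552)) (h4 : act ρ ⟨332, by decide⟩ g = (⟨332, by decide⟩ : Fin 552)) (h5 : act ρ ⟨194, by decide⟩ g = (⟨194, by decide⟩ : Fin 552)) (h6 : act ρ ⟨455, by decide⟩ g = (⟨455, by decide⟩ : Fin 552)) : g = 1 := by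
  have g0 : g ∈ wordGroup s xG0 := by rw [xchain.1]; exact Subgroup.mem_top g
  have g1 := xchain.2.2.1 g g0 h0
  have g2 := xchain.2.2.2.2.1 g g1 h1
  have g3 := xchain.2.2.2.2.2.2.1 g g2 h2
  have g4 := xchain.2.2.2.2.2.2.2.2.1 g g3 h3
  have g5 := xchain.2.2.2.2.2.2.2.2.2.2.1 g g4 h4
  have g6 := xchain.2.2.2.2.2.2.2.2.2.2.2.2.1 g g5 h5
  have g7 := xchain.2.2.2.2.2.2.2.2.2.2.2.2.2.2 g g6 h6
  rw [xbot] at g7
  exact Subgroup.mem_bot.1 g7

theorem xrej : Rej ρ (⊤ : Subgroup LtCo3.G) ((List.range 7).map fun i => act ρ ⟨70, by decide⟩ ((([3] : List Nat).map s).prod ^ i)) xK0 := by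
  have e : ((List.range 7).map fun i => act ρ (⟨70, by decide⟩ : Fin 552) ((([3] : List Nat).map s).prod ^ i)) = [(⟨70, by decide⟩ : Fin 552), (⟨468, by decide⟩ : Fin 552), (⟨473, by decide⟩ : Fin 552), (⟨502, by decide⟩ : Fin 552), (⟨332, by decide⟩ : Fin 552), (⟨194, by decide⟩ : Fin 552), (⟨455, by decide⟩ : Fin 552)] := by
    change [act ρ (⟨70, by decide⟩ : Fin 552) ((([3] : List Nat).map s).prod ^ 0), act ρ (⟨70, by decide⟩ : Fin 552) ((([3] : List Nat).map s).prod ^ 1), act ρ (⟨70, by decide⟩ : Fin 552) ((([3] : List Nat).map s).prod ^ 2), act ρ (⟨70, by decide⟩ : Fin 552) ((([3] : List Nat).map s).prod ^ 3), act ρ (⟨70, by decide⟩ : Fin 552) ((([3] : List Nat).map s).prod ^ 4), act ρ (⟨70, by decide⟩ : Fin 552) ((([3] : List Nat).map s).prod ^ 5), act ρ (⟨70, by decide⟩ : Fin 552) ((([3] : List Nat).map s).prod ^ 6)] = _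
    rw [xp0, xp1, xp2, xp3, xp4, xp5, xp6]
  rw [e, ← xchain.1]
  exact (Rej_step s tok ρ hρ (wordGroup s xG0) (wordGroup s xG1) ⟨70, by decide⟩ [(⟨468, by decide⟩ : Fin 552), (⟨473, by decide⟩ : Fin 552), (⟨502, by decide⟩ : Fin 552), (⟨332, by decide⟩ : Fin 552), (⟨194, by decide⟩ : Fin 552), (⟨455, by decide⟩ : Fin 552)] _ xQ0 xG0 10 (by decide)
    (fun w hw => mem_wordGroup s _ w hw) xchain.2.1 xchain.2.2.1 (Rej_step s tok ρ hρ (wordGroup s xG1) (wordGroup s xG2) ⟨468, by decide⟩ [(⟨473, by decide⟩ : Fin 552), (⟨502, by decide⟩ : Fin 552), (⟨332, by decide⟩ : Fin 552), (⟨194, by decide⟩ : Fin 552), (⟨455, by decide⟩ : Fin 552)] _ xQ1 xG1 10 (by decide)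
    (fun w hw => mem_wordGroup s _ w hw) xchain.2.2.2.1 xchain.2.2.2.2.1 (Rej_step s tok ρ hρ (wordGroup s xG2) (wordGroup s xG3) ⟨473, by decide⟩ [(⟨502, by decide⟩ : Fin 552), (⟨332, by decide⟩ : Fin 552), (⟨194, by decide⟩ : Fin 552), (⟨455, by decide⟩ : Fin 552)] _ xQ2 xG2 10 (by decide)
    (fun w hw => mem_wordGroup s _ w hw) xchain.2.2.2.2.2.1 xchain.2.2.2.2.2.2.1 (Rej_step s tok ρ hρ (wordGroup s xG3) (wordGroup s xG4) ⟨502, by decide⟩ [(⟨332, by decide⟩ : Fin 552), (⟨194, by decide⟩ : Fin 552), (⟨455, by decide⟩ : Fin 552)] _ xQ3 xG3 10 (by decide)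
    (fun w hw => mem_wordGroup s _ w hw) xchain.2.2.2.2.2.2.2.1 xchain.2.2.2.2.2.2.2.2.1 (Rej_step s tok ρ hρ (wordGroup s xG4) (wordGroup s xG5) ⟨332, by decide⟩ [(⟨194, by decide⟩ : Fin 552), (⟨455, by decide⟩ : Fin 552)] _ xQ4 xG4 10 (by decide)
    (fun w hw => mem_wordGroup s _ w hw) xchain.2.2.2.2.2.2.2.2.2.1 xchain.2.2.2.2.2.2.2.2.2.2.1 (Rej_step s tok ρ hρ (wordGroup s xG5) (wordGroup s xG6) ⟨194, by decide⟩ [(⟨455, by decide⟩ : Fin 552)] _ xQ5 xG5 10 (by decide)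
    (fun w hw => mem_wordGroup s _ w hw) xchain.2.2.2.2.2.2.2.2.2.2.2.1 xchain.2.2.2.2.2.2.2.2.2.2.2.2.1 (Rej_step s tok ρ hρ (wordGroup s xG6) (wordGroup s ([] : List (List Nat))) ⟨455, by decide⟩ [] _ xQ6 xG6 10 (by decide)
    (fun w hw => mem_wordGroup s _ w hw) xchain.2.2.2.2.2.2.2.2.2.2.2.2.2.1 xchain.2.2.2.2.2.2.2.2.2.2.2.2.2.2 (Rej_nil ρ _ _))))))))
theorem Fchain : wordGroup s FG0 = ⊤ ∧ (∀ g ∈ wordGroup s FG0, FQ0 (act ρ ⟨45, by decide⟩ g : Fin 552) ≠ 0) ∧ (∀ g ∈ wordGroup s FG0, act ρ ⟨45, by decide⟩ g = ⟨45, by decide⟩ → g ∈ wordGroup s FG1) ∧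
    (∀ g ∈ wordGroup s FG1, FQ1 (act ρ ⟨52, by decide⟩ g : Fin 552) ≠ 0) ∧ (∀ g ∈ wordGroup s FG1, act ρ ⟨52, by decide⟩ g = ⟨52, by decide⟩ → g ∈ wordGroup s FG2) ∧
    (∀ g ∈ wordGroup s FG2, FQ2 (act ρ ⟨93, by decide⟩ g : Fin 552) ≠ 0) ∧ (∀ g ∈ wordGroup s FG2, act ρ ⟨93, by decide⟩ g = ⟨93, by decide⟩ → g ∈ wordGroup s FG3) ∧
    (∀ g ∈ wordGroup s FG3, FQ3 (act ρ ⟨423, by decide⟩ g : Fin 552) ≠ 0) ∧ (∀ g ∈ wordGroup s FG3, act ρ ⟨423, by decide⟩ g = ⟨423, by decide⟩ → g ∈ wordGroup s FG4) ∧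
    (∀ g ∈ wordGroup s FG4, FQ4 (act ρ ⟨453, by decide⟩ g : Fin 552) ≠ 0) ∧ (∀ g ∈ wordGroup s FG4, act ρ ⟨453, by decide⟩ g = ⟨453, by decide⟩ → g ∈ wordGroup s FG5) ∧
    (∀ g ∈ wordGroup s FG5, FQ5 (act ρ ⟨324, by decide⟩ g : Fin 552) ≠ 0) ∧ (∀ g ∈ wordGroup s FG5, act ρ ⟨324, by decide⟩ g = ⟨324, by decide⟩ → g ∈ wordGroup s ([] : List (List Nat))) := by
  haveI : Finite LtCo3.G := Nat.finite_of_card_ne_zero (by rw [cardG]; decide)
  have k0 := card_step s tok ρ hρ FQ0 552 FG0 FG1 (by decide) ⟨45, by decide⟩ Fr0 Fc0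
    (by decide) (by decide +kernel) inferInstance
  have k1 := card_step s tok ρ hρ FQ1 275 FG1 FG2 (by decide) ⟨52, by decide⟩ Fr1 Fc1
    (by decide) (by decide +kernel) inferInstance
  have k2 := card_step s tok ρ hρ FQ2 112 FG2 FG3 (by decide) ⟨93, by decide⟩ Fr2 Fc2
    (by decide) (by decide +kernel) inferInstance
  have k3 := card_step s tok ρ hρ FQ3 81 FG3 FG4 (by decide) ⟨423, by decide⟩ Fr3 Fc3
    (by decide) (by decide +kernel) inferInstance
  have k4 := card_step s tok ρ hρ FQ4 45 FG4 FG5 (by decide) ⟨453, by decide⟩ Fr4 Fc4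
    (by decide) (by decide +kernel) inferInstance
  have k5 := card_step s tok ρ hρ FQ5 8 FG5 ([] : List (List Nat)) (by decide) ⟨324, by decide⟩ Fr5 Fc5
    (by decide) (by decide +kernel) inferInstance
  have k : Nat.card (wordGroup s FG0) ≤ 495766656000 := by rw [← cardG]; exact Subgroup.card_le_card_group _
  have kl : 0 < Nat.card (wordGroup s ([] : List (List Nat))) := Nat.card_pos
  have e0 : Nat.card (wordGroup s FG0) = 495766656000 := by omega
  have e1 : Nat.card (wordGroup s FG1) = 898128000 := by omega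
  have e2 : Nat.card (wordGroup s FG2) = 3265920 := by omega
  have e3 : Nat.card (wordGroup s FG3) = 29160 := by omega
  have e4 : Nat.card (wordGroup s FG4) = 360 := by omega
  have e5 : Nat.card (wordGroup s FG5) = 8 := by omega
  have e6 : Nat.card (wordGroup s ([] : List (List Nat))) = 1 := by omega
  have x0 := exact_step s tok ρ FQ0 552 FG0 FG1 (by decide) ⟨45, by decide⟩ Fr0 Fc0
    (by decide) (by decide +kernel) inferInstance hρ (by rw [e0, e1])
  have x1 := exact_step s tok ρ FQ1 275 FG1 FG2 (by decide) ⟨52, by decide⟩ Fr1 Fc1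
    (by decide) (by decide +kernel) inferInstance hρ (by rw [e1, e2])
  have x2 := exact_step s tok ρ FQ2 112 FG2 FG3 (by decide) ⟨93, by decide⟩ Fr2 Fc2
    (by decide) (by decide +kernel) inferInstance hρ (by rw [e2, e3])
  have x3 := exact_step s tok ρ FQ3 81 FG3 FG4 (by decide) ⟨423, by decide⟩ Fr3 Fc3
    (by decide) (by decide +kernel) inferInstance hρ (by rw [e3, e4])
  have x4 := exact_step s tok ρ FQ4 45 FG4 FG5 (by decide) ⟨453, by decide⟩ Fr4 Fc4
    (by decide) (by decide +kernel) inferInstance hρ (by rw [e4, e5])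
  have x5 := exact_step s tok ρ FQ5 8 FG5 ([] : List (List Nat)) (by decide) ⟨324, by decide⟩ Fr5 Fc5
    (by decide) (by decide +kernel) inferInstance hρ (by rw [e5, e6])
  exact ⟨Subgroup.eq_top_of_card_eq _ (by rw [e0, cardG]), x0.1, x0.2, x1.1, x1.2, x2.1, x2.2, x3.1, x3.2, x4.1, x4.2, x5.1, x5.2⟩

theorem Fbot : wordGroup s ([] : List (List Nat)) = ⊥ := by
  unfold wordGroup
  rw [eq_bot_iff, Subgroup.closure_le]
  rintro g ⟨w, hw, _⟩
  simp at hw

theorem Fp0 : act ρ ⟨45, by decide⟩ ((([29] : List Nat).map s).prod ^ 0) = (⟨45, by decide⟩ : Fin 552) :=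
  Fin.ext (by rw [OT.iter_fin s tok ρ [29] (by decide) hρ]; decide +kernel)
theorem Fp1 : act ρ ⟨45, by decide⟩ ((([29] : List Nat).map s).prod ^ 1) = (⟨52, by decide⟩ : Fin 552) :=
  Fin.ext (by rw [OT.iter_fin s tok ρ [29] (by decide) hρ]; decide +kernel)
theorem Fp2 : act ρ ⟨45, by decide⟩ ((([29] : List Nat).map s).prod ^ 2) = (⟨93, by decide⟩ : Fin 552) :=
  Fin.ext (by rw [OT.iter_fin s tok ρ [29] (by decide) hρ]; decide +kernel)
theorem Fp3 : act ρ ⟨45, by decide⟩ ((([29] : List Nat).map s).prod ^ 3) = (⟨423, by decide⟩ : Fin 552) :=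
  Fin.ext (by rw [OT.iter_fin s tok ρ [29] (by decide) hρ]; decide +kernel)
theorem Fp4 : act ρ ⟨45, by decide⟩ ((([29] : List Nat).map s).prod ^ 4) = (⟨453, by decide⟩ : Fin 552) :=
  Fin.ext (by rw [OT.iter_fin s tok ρ [29] (by decide) hρ]; decide +kernel)
theorem Fp5 : act ρ ⟨45, by decide⟩ ((([29] : List Nat).map s).prod ^ 5) = (⟨324, by decide⟩ : Fin 552) :=
  Fin.ext (by rw [OT.iter_fin s tok ρ [29] (by decide) hρ]; decide +kernel)
theorem Fp6 : act ρ ⟨45, by decide⟩ ((([29] : List Nat).map s).prod ^ 6) = (⟨100, by decide⟩ : Fin 552) :=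
  Fin.ext (by rw [OT.iter_fin s tok ρ [29] (by decide) hρ]; decide +kernel)
theorem Fp7 : act ρ ⟨45, by decide⟩ ((([29] : List Nat).map s).prod ^ 7) = (⟨83, by decide⟩ : Fin 552) :=
  Fin.ext (by rw [OT.iter_fin s tok ρ [29] (by decide) hρ]; decide +kernel)
theorem Fp8 : act ρ ⟨45, by decide⟩ ((([29] : List Nat).map s).prod ^ 8) = (⟨349, by decide⟩ : Fin 552) :=
  Fin.ext (by rw [OT.iter_fin s tok ρ [29] (by decide) hρ]; decide +kernel)
theorem Fp9 : act ρ ⟨45, by decide⟩ ((([29] : List Nat).map s).prod ^ 9) = (⟨427, by decide⟩ : Fin 552) :=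
  Fin.ext (by rw [OT.iter_fin s tok ρ [29] (by decide) hρ]; decide +kernel)

/-- an element fixing the base is trivial. -/
theorem Fbase (g : LtCo3.G) (h0 : act ρ ⟨45, by decide⟩ g = (⟨45, by decide⟩ : Fin 552)) (h1 : act ρ ⟨52, by decide⟩ g = (⟨52, by decide⟩ : Fin 552)) (h2 : act ρ ⟨93, by decide⟩ g = (⟨93, by decide⟩ : Fin 552)) (h3 : act ρ ⟨423, by decide⟩ g = (⟨423, by decide⟩ : Fin 552)) (h4 : act ρ ⟨453, by decide⟩ g = (⟨453, by decide⟩ : Fin 552)) (h5 : act ρ ⟨324, by decide⟩ g = (⟨324, by decide⟩ : Fin 552)) : g = 1 := by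
  have g0 : g ∈ wordGroup s FG0 := by rw [Fchain.1]; exact Subgroup.mem_top g
  have g1 := Fchain.2.2.1 g g0 h0
  have g2 := Fchain.2.2.2.2.1 g g1 h1
  have g3 := Fchain.2.2.2.2.2.2.1 g g2 h2
  have g4 := Fchain.2.2.2.2.2.2.2.2.1 g g3 h3
  have g5 := Fchain.2.2.2.2.2.2.2.2.2.2.1 g g4 h4
  have g6 := Fchain.2.2.2.2.2.2.2.2.2.2.2.2 g g5 h5
  rw [Fbot] at g6
  exact Subgroup.mem_bot.1 g6

theorem Frej : Rej ρ (⊤ : Subgroup LtCo3.G) ((List.range 10).map fun i => act ρ ⟨45, by decide⟩ ((([29] : List Nat).map s).prod ^ i)) FK0 := by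
  have e : ((List.range 10).map fun i => act ρ (⟨45, by decide⟩ : Fin 552) ((([29] : List Nat).map s).prod ^ i)) = [(⟨45, by decide⟩ : Fin 552), (⟨52, by decide⟩ : Fin 552), (⟨93, by decide⟩ : Fin 552), (⟨423, by decide⟩ : Fin 552), (⟨453, by decide⟩ : Fin 552), (⟨324, by decide⟩ : Fin 552), (⟨100, by decide⟩ : Fin 552), (⟨83, by decide⟩ : Fin 552), (⟨349, by decide⟩ : Fin 552), (⟨427, by decide⟩ : Fin 552)] := by
    change [act ρ (⟨45, by decide⟩ : Fin 552) ((([29] : List Nat).map s).prod ^ 0), act ρ (⟨45, by decide⟩ : Fin 552) ((([29] : List Nat).map s).prod ^ 1), act ρ (⟨45, by decide⟩ : Fin 552) ((([29] : List Nat).map s).prod ^ 2), act ρ (⟨45, by decide⟩ : Fin 552) ((([29] : List Nat).map s).prod ^ 3), act ρ (⟨45, by decide⟩ : Fin 552) ((([29] : List Nat).map s).prod ^ 4), act ρ (⟨45, by decide⟩ : Fin 552) ((([29] : List Nat).map s).prod ^ 5), act ρ (⟨45, by decide⟩ : Fin 552) ((([29] : List Nat).map s).prod ^ 6), act ρ (⟨45,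 by decide⟩ : Fin 552) ((([29] : List Nat).map s).prod ^ 7), act ρ (⟨45, by decide⟩ : Fin 552) ((([29] : List Nat).map s).prod ^ 8), act ρ (⟨45, by decide⟩ : Fin 552) ((([29] : List Nat).map s).prod ^ 9)] = _
    rw [Fp0, Fp1, Fp2, Fp3, Fp4, Fp5, Fp6, Fp7, Fp8, Fp9]
  rw [e, ← Fchain.1]
  exact (Rej_step s tok ρ hρ (wordGroup s FG0) (wordGroup s FG1) ⟨45, by decide⟩ [(⟨52, by decide⟩ : Fin 552), (⟨93, by decide⟩ : Fin 552), (⟨423, by decide⟩ : Fin 552), (⟨453, by decide⟩ : Fin 552), (⟨324, by decide⟩ : Fin 552), (⟨100, by decide⟩ : Fin 552), (⟨83, by decide⟩ : Fin 552), (⟨349, by decide⟩ : Fin 552), (⟨427, by decide⟩ : Fin 552)] _ FQ0 FG0 8 (by decide)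
    (fun w hw => mem_wordGroup s _ w hw) Fchain.2.1 Fchain.2.2.1 (Rej_step s tok ρ hρ (wordGroup s FG1) (wordGroup s FG2) ⟨52, by decide⟩ [(⟨93, by decide⟩ : Fin 552), (⟨423, by decide⟩ : Fin 552), (⟨453, by decide⟩ : Fin 552), (⟨324, by decide⟩ : Fin 552), (⟨100, by decide⟩ : Fin 552), (⟨83, by decide⟩ : Fin 552), (⟨349, by decide⟩ : Fin 552), (⟨427, by decide⟩ : Fin 552)] _ FQ1 FG1 8 (by decide)
    (fun w hw => mem_wordGroup s _ w hw) Fchain.2.2.2.1 Fchain.2.2.2.2.1 (Rej_step s tok ρ hρ (wordGroup s FG2) (wordGroup s FG3) ⟨93, by decide⟩ [(⟨423, by decide⟩ : Fin 552), (⟨453, by decide⟩ : Fin 552), (⟨324, by decide⟩ : Fin 552), (⟨100, by decide⟩ : Fin 552), (⟨83, by decide⟩ : Fin 552), (⟨349, by decide⟩ : Fin 552), (⟨427, by decide⟩ : Fin 552)] _ FQ2 FG2 8 (by decide)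
    (fun w hw => mem_wordGroup s _ w hw) Fchain.2.2.2.2.2.1 Fchain.2.2.2.2.2.2.1 (Rej_step s tok ρ hρ (wordGroup s FG3) (wordGroup s FG4) ⟨423, by decide⟩ [(⟨453, by decide⟩ : Fin 552), (⟨324, by decide⟩ : Fin 552), (⟨100, by decide⟩ : Fin 552), (⟨83, by decide⟩ : Fin 552), (⟨349, by decide⟩ : Fin 552), (⟨427, by decide⟩ : Fin 552)] _ FQ3 FG3 8 (by decide)
    (fun w hw => mem_wordGroup s _ w hw) Fchain.2.2.2.2.2.2.2.1 Fchain.2.2.2.2.2.2.2.2.1 (Rej_step s tok ρ hρ (wordGroup s FG4) (wordGroup s FG5) ⟨453, by decide⟩ [(⟨324, by decide⟩ : Fin 552), (⟨100, by decide⟩ : Fin 552), (⟨83, by decide⟩ : Fin 552), (⟨349, by decide⟩ : Fin 552), (⟨427, by decide⟩ : Fin 552)] _ FQ4 FG4 8 (by decide)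
    (fun w hw => mem_wordGroup s _ w hw) Fchain.2.2.2.2.2.2.2.2.2.1 Fchain.2.2.2.2.2.2.2.2.2.2.1 (Rej_step s tok ρ hρ (wordGroup s FG5) (wordGroup s ([] : List (List Nat))) ⟨324, by decide⟩ [(⟨100, by decide⟩ : Fin 552), (⟨83, by decide⟩ : Fin 552), (⟨349, by decide⟩ : Fin 552), (⟨427, by decide⟩ : Fin 552)] _ FQ5 FG5 8 (by decide)
    (fun w hw => mem_wordGroup s _ w hw) Fchain.2.2.2.2.2.2.2.2.2.2.2.1 Fchain.2.2.2.2.2.2.2.2.2.2.2.2 (Rej_nil ρ _ _)))))))

/-- word identities are checked on the base. -/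
theorem weq (u v : List Nat) (hu : ∀ l ∈ u, l < 71) (hv : ∀ l ∈ v, l < 71)
    (h : ∀ i ∈ ([45, 52, 93, 423, 453, 324] : List Nat), trN T' u i = trN T' v i) : (u.map s).prod = (v.map s).prod := by
  have key : ∀ b : Fin 552, (b : Nat) ∈ ([45, 52, 93, 423, 453, 324] : List Nat) → act ρ b ((u.map s).prod * ((v.map s).prod)⁻¹) = b := by
    intro b hb
    have h1 : act ρ b (u.map s).prod = act ρ b (v.map s).prod := by
      apply Fin.ext
      rw [act_word s tok ρ hρ b u hu, act_word s tok ρ hρ b v hv]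
      exact h b hb
    rw [act_mul, h1, ← act_mul, mul_inv_cancel, act_one]
  exact mul_inv_eq_one.1 (Fbase _ (key ⟨45, by decide⟩ (by decide)) (key ⟨52, by decide⟩ (by decide)) (key ⟨93, by decide⟩ (by decide)) (key ⟨423, by decide⟩ (by decide)) (key ⟨453, by decide⟩ (by decide)) (key ⟨324, by decide⟩ (by decide)))

theorem weq1 (u : List Nat) (hu : ∀ l ∈ u, l < 71)
    (h : ∀ i ∈ ([45, 52, 93, 423, 453, 324] : List Nat), trN T' u i = i) : (u.map s).prod = 1 :=
  weq u [] hu (by simp) h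

def xw : List Nat := [3]
def fw : List Nat := [25]
def Fw : List Nat := [29]
def yw : List Nat := [27]
noncomputable def x : LtCo3.G := (xw.map s).prod
noncomputable def f : LtCo3.G := (fw.map s).prod
noncomputable def F : LtCo3.G := (Fw.map s).prod
noncomputable def y : LtCo3.G := (yw.map s).prod

theorem x_pow : x ^ 23 = 1 := by
  unfold x
  rw [← wpow_prod]
  exact weq1 _ (by decide) (by decide +kernel)

theorem x_ne : x ≠ 1 := by
  intro h
  have h1 := act_word s tok ρ hρ ⟨70, by decide⟩ xw (by decide)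
  have h2 : act ρ ⟨70, by decide⟩ (xw.map s).prod = (⟨70, by decide⟩ : Fin 552) := by
    change act ρ ⟨70, by decide⟩ x = _
    rw [h, act_one]
  rw [h2] at h1
  exact absurd h1 (by decide +kernel)

instance prime_p : Fact (Nat.Prime 23) := ⟨by norm_num⟩

theorem x_order : orderOf x = 23 := orderOf_eq_prime x_pow x_ne

theorem xf : x * f = f * x ^ 2 := by
  have h := weq (xw ++ fw) (fw ++ wpow xw 2) (by decide) (by decide) (by decide +kernel)
  rw [List.map_append, List.prod_append, List.map_append, List.prod_append, wpow_prod] at h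
  exact h

theorem F_eq : F = f ^ 1 := by
  unfold F f
  rw [← wpow_prod]
  exact weq _ _ (by decide) (by decide) (by decide +kernel)

theorem F_pow : F ^ 11 = 1 := by
  unfold F
  rw [← wpow_prod]
  exact weq1 _ (by decide) (by decide +kernel)

theorem Fy : F * y = y * F := by
  have h := weq (Fw ++ yw) (yw ++ Fw) (by decide) (by decide) (by decide +kernel)
  rw [List.map_append, List.prod_append, List.map_append, List.prod_append] at h
  exact h

theorem Cx (g : LtCo3.G) (h : x * g = g * x) : g ∈ Subgroup.zpowers x := by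
  have hb : ∀ g : LtCo3.G, (∀ i < 7, act ρ (act ρ ⟨70, by decide⟩ (x ^ i)) g = act ρ ⟨70, by decide⟩ (x ^ i)) → g = 1 := by
    intro g hg
    refine xbase g ?_ ?_ ?_ ?_ ?_ ?_ ?_
    · have := hg 0 (by decide)
      change act ρ (act ρ ⟨70, by decide⟩ ((([3] : List Nat).map s).prod ^ 0)) g = act ρ ⟨70, by decide⟩ ((([3] : List Nat).map s).prod ^ 0) at this
      rw [xp0] at this
      exact this
    · have := hg 1 (by decide)
      change act ρ (act ρ ⟨70, by decide⟩ ((([3] : List Nat).map s).prod ^ 1)) g = act ρ ⟨70, by decide⟩ ((([3] : List Nat).map s).prod ^ 1) at this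
      rw [xp1] at this
      exact this
    · have := hg 2 (by decide)
      change act ρ (act ρ ⟨70, by decide⟩ ((([3] : List Nat).map s).prod ^ 2)) g = act ρ ⟨70, by decide⟩ ((([3] : List Nat).map s).prod ^ 2) at this
      rw [xp2] at this
      exact this
    · have := hg 3 (by decide)
      change act ρ (act ρ ⟨70, by decide⟩ ((([3] : List Nat).map s).prod ^ 3)) g = act ρ ⟨70, by decide⟩ ((([3] : List Nat).map s).prod ^ 3) at this
      rw [xp3] at this
      exact this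
    · have := hg 4 (by decide)
      change act ρ (act ρ ⟨70, by decide⟩ ((([3] : List Nat).map s).prod ^ 4)) g = act ρ ⟨70, by decide⟩ ((([3] : List Nat).map s).prod ^ 4) at this
      rw [xp4] at this
      exact this
    · have := hg 5 (by decide)
      change act ρ (act ρ ⟨70, by decide⟩ ((([3] : List Nat).map s).prod ^ 5)) g = act ρ ⟨70, by decide⟩ ((([3] : List Nat).map s).prod ^ 5) at this
      rw [xp5] at this
      exact this
    · have := hg 6 (by decide)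
      change act ρ (act ρ ⟨70, by decide⟩ ((([3] : List Nat).map s).prod ^ 6)) g = act ρ ⟨70, by decide⟩ ((([3] : List Nat).map s).prod ^ 6) at this
      rw [xp6] at this
      exact this
  have hen : ∀ g : LtCo3.G, x * g = g * x → ∃ a : Nat, ((act ρ ⟨70, by decide⟩ (g * x ^ a) : Fin 552) : Nat) ∈ ([70, 194, 184] : List Nat) := by
    intro g hg
    exact conj_enum s tok ρ hρ xw xw (by decide) (by decide) ⟨70, by decide⟩ 7 7 xK0 xrej ([70, 194, 184] : List Nat) rfl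
      (fun q hq => OT.ckCand_sound _ _ _ _ q (allR_zero _ _ xS q hq)) g hg
  obtain ⟨w, hw, a, _, rfl⟩ := OT.cent_list ρ x 23 (by decide) x_pow ⟨70, by decide⟩ 7 hb ([70, 194, 184] : List Nat) hen
    ((List.range 23).map fun i => x ^ i) (by
    intro q hq
    have key : ∀ q ∈ ([70, 194, 184] : List Nat), ∃ i < 23, (trN T' xw)^[i] 70 = q := by decide +kernel
    obtain ⟨i, hi, h⟩ := key q hq
    refine ⟨x ^ i, List.mem_map.2 ⟨i, List.mem_range.2 hi, rfl⟩, by rw [← pow_succ', pow_succ], ?_⟩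
    unfold x
    rw [OT.iter_fin s tok ρ xw (by decide) hρ]
    exact h) g h
  obtain ⟨i, _, rfl⟩ := List.mem_map.1 hw
  exact mul_mem (Subgroup.pow_mem _ (Subgroup.mem_zpowers x) i) (Subgroup.pow_mem _ (Subgroup.mem_zpowers x) a)

/-- centraliser representatives. -/
def svW : List (Nat × List Nat) := [(45, []), (73, [25, 25, 28])]
def cands : List (List Nat) := [[], [29], [29, 29], [29, 29, 29], [29, 29, 29, 29], [29, 29, 29, 29, 29], [29, 29, 29, 29, 29, 29], [29, 29, 29, 29, 29, 29, 29], [29, 29, 29, 29, 29, 29, 29, 29], [29, 29, 29, 29, 29, 29, 29, 29, 29], [29, 29, 29, 29, 29, 29, 29, 29, 29, 29], [25, 25, 28], [25, 25, 28, 29], [25, 25, 28, 29, 29], [25, 25, 28, 29, 29, 29], [25, 25, 28, 29, 29, 29, 29], [25, 25, 28, 29, 29, 29, 29, 29], [25, 25, 28, 29, 29, 29, 29, 29, 29], [25, 25, 28, 29, 29, 29, 29, 29, 29, 29], [25, 25, 28, 29, 29, 29, 29, 29, 29, 29, 29], [25, 25, 28, 29, 29, 29, 29, 29, 29, 29, 29, 29], [25, 25, 28,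 29, 29, 29, 29, 29, 29, 29, 29, 29, 29]]
def rels3 : List (List Nat × Nat) := [([2, 0], 23), ([2, 1, 0], 11), ([2, 2, 0], 11)]

def codes1 : List Nat := [3, 1, 1, 1, 1, 1, 1, 1, 1, 1, 1, 1, 1, 0, 1, 1, 1, 1, 1, 1, 1, 1]
def good1 : List (List Nat) := [[25, 25, 28, 29, 29]]
theorem tests1 : OT.ckTests T' (wpow xw 1) fw rels3 good1 cands codes1 = true := by decide +kernel
def codes5 : List Nat := [3, 1, 1, 1, 1, 1, 1, 1, 1, 1, 1, 1, 1, 1, 1, 1, 1, 1, 1, 1, 2, 1]
def good5 : List (List Nat) := []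
theorem tests5 : OT.ckTests T' (wpow xw 5) fw rels3 good5 cands codes5 = true := by decide +kernel

theorem rels3_ok : ∀ q ∈ rels3, (((OT.sub3 xw fw yw q.1).map s).prod) ^ q.2 = 1 := by
  intro q hq
  rw [← wpow_prod]
  apply weq1
  · revert q hq; decide
  · revert q hq; decide +kernel

theorem svW_ok : ∀ q ∈ svW, F * (q.2.map s).prod = (q.2.map s).prod * F ∧
    ((act ρ ⟨45, by decide⟩ (q.2.map s).prod : Fin 552) : Nat) = q.1 := by
  intro q hq
  constructor
  · have h := weq (Fw ++ q.2) (q.2 ++ Fw) (by revert q hq; decide) (by revert q hq; decide) (by revert q hq; decide +kernel)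
    rw [List.map_append, List.prod_append, List.map_append, List.prod_append] at h
    exact h
  · rw [act_word s tok ρ hρ _ _ (by revert q hq; decide)]
    revert q hq; decide +kernel

theorem cent_cands (g : LtCo3.G) (h : F * g = g * F) : ∃ w ∈ cands, g = (w.map s).prod := by
  have hb : ∀ g : LtCo3.G, (∀ i < 10, act ρ (act ρ ⟨45, by decide⟩ (F ^ i)) g = act ρ ⟨45, by decide⟩ (F ^ i)) → g = 1 := by
    intro g hg
    refine Fbase g ?_ ?_ ?_ ?_ ?_ ?_
    · have := hg 0 (by decide)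
      change act ρ (act ρ ⟨45, by decide⟩ ((([29] : List Nat).map s).prod ^ 0)) g = act ρ ⟨45, by decide⟩ ((([29] : List Nat).map s).prod ^ 0) at this
      rw [Fp0] at this
      exact this
    · have := hg 1 (by decide)
      change act ρ (act ρ ⟨45, by decide⟩ ((([29] : List Nat).map s).prod ^ 1)) g = act ρ ⟨45, by decide⟩ ((([29] : List Nat).map s).prod ^ 1) at this
      rw [Fp1] at this
      exact this
    · have := hg 2 (by decide)
      change act ρ (act ρ ⟨45, by decide⟩ ((([29] : List Nat).map s).prod ^ 2)) g = act ρ ⟨45, by decide⟩ ((([29] : List Nat).map s).prod ^ 2) at this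
      rw [Fp2] at this
      exact this
    · have := hg 3 (by decide)
      change act ρ (act ρ ⟨45, by decide⟩ ((([29] : List Nat).map s).prod ^ 3)) g = act ρ ⟨45, by decide⟩ ((([29] : List Nat).map s).prod ^ 3) at this
      rw [Fp3] at this
      exact this
    · have := hg 4 (by decide)
      change act ρ (act ρ ⟨45, by decide⟩ ((([29] : List Nat).map s).prod ^ 4)) g = act ρ ⟨45, by decide⟩ ((([29] : List Nat).map s).prod ^ 4) at this
      rw [Fp4] at this
      exact this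
    · have := hg 5 (by decide)
      change act ρ (act ρ ⟨45, by decide⟩ ((([29] : List Nat).map s).prod ^ 5)) g = act ρ ⟨45, by decide⟩ ((([29] : List Nat).map s).prod ^ 5) at this
      rw [Fp5] at this
      exact this
  have hen : ∀ g : LtCo3.G, F * g = g * F → ∃ a : Nat, ((act ρ ⟨45, by decide⟩ (g * F ^ a) : Fin 552) : Nat) ∈ svW.map Prod.fst := by
    intro g hg
    exact conj_enum s tok ρ hρ Fw Fw (by decide) (by decide) ⟨45, by decide⟩ 10 10 FK0 Frej (svW.map Prod.fst) rfl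
      (fun q hq => OT.ckCand_sound _ _ _ _ q (allR_zero _ _ FS q hq)) g hg
  obtain ⟨w, hw, a, ha, rfl⟩ := OT.cent_list ρ F 11 (by decide) F_pow ⟨45, by decide⟩ 10 hb _ hen
    (svW.map fun q => (q.2.map s).prod) (by
    intro q hq
    obtain ⟨z, hz, rfl⟩ := List.mem_map.1 hq
    exact ⟨_, List.mem_map.2 ⟨z, hz, rfl⟩, svW_ok z hz⟩) g h
  obtain ⟨z, hz, rfl⟩ := List.mem_map.1 hw
  refine ⟨z.2 ++ wpow Fw a, ?_, ?_⟩
  · have key : ∀ z ∈ svW, ∀ a < 11, z.2 ++ wpow Fw a ∈ cands := by decide +kernel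
    exact key z hz a ha
  · rw [List.map_append, List.prod_append, wpow_prod]
    rfl


/-- straight-line program for the letters of the chain. -/
def prog : List (Nat × List Nat) := [(31, [25, 25, 4, 26, 3, 28, 25, 4]), (32, [3, 26, 27, 4, 25, 3, 26, 26]), (33, [3, 26, 28, 25, 25, 28, 4, 4, 28, 4, 28]), (34, [27, 3, 27, 3, 3, 27, 26, 26, 27, 25, 4]), (35, [33, 33, 32, 32, 33, 31, 31, 34, 34, 32]), (36, [31, 33, 33, 32, 32, 34, 31, 31, 34, 34]), (37, [33, 33, 32, 34, 34, 31, 34, 34, 34, 34, 31, 31, 34, 32]), (38, [31, 33, 32, 32, 33, 33, 33, 33, 32, 33, 33, 31, 34, 34]), (39, [35, 38, 35, 35, 35]), (40, [36, 36, 36, 37, 36]), (41, [38, 35, 35, 35, 37, 37, 35]), (42, [36, 38, 38, 36, 36, 36, 37]), (43, [40, 42, 40, 40, 40, 40]), (44, [39, 39, 39, 39, 41, 39]), (45, [40, 41, 40, 40]), (46, [39, 39, 42, 39]), (47, [43, 46, 46, 44]), (48, [43, 45, 45, 44]), (49, [46, 43, 46, 46, 44, 44]), (50, [43, 43, 45, 45, 44, 45])]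

theorem inv_letter (l l' : Nat) (h1 : l < 71) (h2 : l' < 71) (h : ∀ i ∈ ([45, 52, 93, 423, 453, 324] : List Nat), trN T' [l, l'] i = i) : s l' = (s l)⁻¹ := by
  have := weq1 [l, l'] (by intro k hk; simp only [List.mem_cons, List.not_mem_nil, or_false] at hk; rcases hk with rfl | rfl <;> assumption) h
  rw [List.map_cons, List.map_singleton, List.prod_cons, List.prod_singleton] at this
  exact eq_inv_of_mul_eq_one_right this

theorem s_x : s 3 = x := by unfold x xw; simp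
theorem s_f : s 25 = f := by unfold f fw; simp
theorem s_y : s 27 = y := by unfold y yw; simp
theorem s_x' : s 4 = x⁻¹ := by rw [← s_x]; exact inv_letter 3 4 (by decide) (by decide) (by decide +kernel)
theorem s_f' : s 26 = f⁻¹ := by rw [← s_f]; exact inv_letter 25 26 (by decide) (by decide) (by decide +kernel)
theorem s_y' : s 28 = y⁻¹ := by rw [← s_y]; exact inv_letter 27 28 (by decide) (by decide) (by decide +kernel)

theorem prog_ok : ∀ e ∈ prog, s e.1 = (e.2.map s).prod := by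
  intro e he
  have h := weq [e.1] e.2 (by revert e he; decide) (by revert e he; decide) (by revert e he; decide +kernel)
  rw [List.map_singleton, List.prod_singleton] at h
  exact h

theorem gen_top : Subgroup.closure ({x, f, y} : Set LtCo3.G) = ⊤ := by
  rw [eq_top_iff, ← Fchain.1]
  have hx : x ∈ Subgroup.closure ({x, f, y} : Set LtCo3.G) := Subgroup.subset_closure (Or.inl rfl)
  have hf : f ∈ Subgroup.closure ({x, f, y} : Set LtCo3.G) := Subgroup.subset_closure (Or.inr (Or.inl rfl))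
  have hy : y ∈ Subgroup.closure ({x, f, y} : Set LtCo3.G) := Subgroup.subset_closure (Or.inr (Or.inr rfl))
  have h0 : ∀ l ∈ ([3, 25, 27, 4, 26, 28] : List Nat), s l ∈ Subgroup.closure ({x, f, y} : Set LtCo3.G) := by
    intro l hl
    simp only [List.mem_cons, List.not_mem_nil, or_false] at hl
    rcases hl with rfl | rfl | rfl | rfl | rfl | rfl
    · rw [s_x]; exact hx
    · rw [s_f]; exact hf
    · rw [s_y]; exact hy
    · rw [s_x']; exact inv_mem hx
    · rw [s_f']; exact inv_mem hf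
    · rw [s_y']; exact inv_mem hy
  have h1 := OT.slp_mem s (Subgroup.closure ({x, f, y} : Set LtCo3.G)) prog _ h0 (by decide) prog_ok
  unfold wordGroup
  rw [Subgroup.closure_le]
  rintro _ ⟨w, hw, rfl⟩
  have key : ∀ w ∈ FG0, ∃ l, w = [l] ∧ (l ∈ ([3, 25, 27, 4, 26, 28] : List Nat) ∨ l ∈ prog.map Prod.fst) := by
    intro w hw
    have key2 : ∀ w ∈ FG0, w = [w.headD 0] ∧ (w.headD 0 ∈ ([3, 25, 27, 4, 26, 28] : List Nat) ∨ w.headD 0 ∈ prog.map Prod.fst) := by decide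
    exact ⟨_, key2 w hw⟩
  obtain ⟨l, rfl, hl⟩ := key w hw
  rw [List.map_singleton, List.prod_singleton]
  rcases hl with hl | hl
  · exact h0 l hl
  · obtain ⟨e, he, rfl⟩ := List.mem_map.1 hl
    exact h1 e he


theorem out_le : Finite (Cfsg.Out LtCo3.G) ∧ Nat.card (Cfsg.Out LtCo3.G) ≤ 1 := by
  haveI : Finite LtCo3.G := Nat.finite_of_card_ne_zero (by rw [cardG]; decide)
  refine OT.out_card_le 23 x f y x_order (by rw [cardG]; decide) Cx 2 xf (by decide) [1, 5] ?_ gen_top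
    ([(1, ((([25, 25, 28, 29, 29] : List Nat).map s).prod))]) ?_
  · have key : ∀ k : ZMod 23, k ≠ 0 → ∃ j ∈ ([1, 5] : List ℕ), ∃ i < 23, k = (j : ZMod 23) * (2 : ZMod 23) ^ i := by decide +kernel
    intro k hk
    obtain ⟨j, hj, i, _, h⟩ := key k hk
    exact ⟨j, hj, i, by push_cast; exact h⟩
  · intro j hj β hβx hβf
    have hβF : β F = F := by rw [F_eq, map_pow, hβf]
    have hc : F * β y = β y * F := by
      have := congrArg β Fy
      rw [map_mul, map_mul, hβF] at this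
      exact this
    obtain ⟨w, hw, hwy⟩ := cent_cands (β y) hc
    simp only [List.mem_cons, List.not_mem_nil, or_false] at hj
    rcases hj with rfl | rfl
    · have h := OT.good_of_tests s tok ρ hρ 1 xw fw yw (by decide) (by decide) rels3 rels3_ok good1 cands codes1 (by decide)
        (by decide) tests1 β hβx hβf w hw hwy
      unfold good1 at h
      simp only [List.mem_cons, List.not_mem_nil, or_false] at h
      subst h
      rw [hwy]; simp
    · have h := OT.good_of_tests s tok ρ hρ 5 xw fw yw (by decide) (by decide) rels3 rels3_ok good5 cands codes5 (by decide)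
        (by decide) tests5 β hβx hβf w hw hwy
      exact absurd h (by unfold good5; exact List.not_mem_nil)

theorem out_eq : Nat.card (Cfsg.Out LtCo3.G) = 1 := by
  have h1 := out_le
  haveI := h1.1
  have h2 : 0 < Nat.card (Cfsg.Out LtCo3.G) := Nat.card_pos
  omega


end Cfsg.Agent.H8.Co3O
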