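import Cfsg.Agent.H8.CosetGlue
import Cfsg.Agent.H8.CosetCls

/-!
# Gluing chunks of counts
-/

set_option autoImplicit false
set_option linter.all false
set_option maxHeartbeats 400000

namespace Cfsg.Agent.H8

theorem cntC_of_card (C : Nat → Nat) (c k n : Nat) : ∀ acc,
    acc + ((Finset.range n).filter (fun i => C i = c)).card = k → cntC C c k n acc = true := by
  induction n with
  | zero =>
    intro acc h
    have h2 : acc = k := by simpa using h
    show Nat.beq acc k = true
    rw [h2]
    exact Nat.beq_refl k
  | succ n ih =>
    intro acc h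
    show @Bool.rec (fun _ => Bool) (cntC C c k n acc) (force (Nat.succ acc) (cntC C c k n))
      (Nat.beq (C n) c) = true
    cases hb : Nat.beq (C n) c with
    | false =>
      rw [Finset.range_add_one, Finset.filter_insert, if_neg (Nat.ne_of_beq_eq_false hb)] at h
      exact ih acc h
    | true =>
      rw [Finset.range_add_one, Finset.filter_insert, if_pos (Nat.eq_of_beq_eq_true hb),
        Finset.card_insert_of_notMem (by simp)] at h
      show force (Nat.succ acc) (cntC C c k n) = true
      rw [force_eq]
      apply ih
      omega

/-- gluing counts. -/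
theorem cntC_add (C : Nat → Nat) (c k1 k2 lo len : Nat) (h1 : cntC C c k1 lo 0 = true)
    (h2 : cntC (fun i => C (Nat.add lo i)) c k2 len 0 = true) : cntC C c (k1 + k2) (lo + len) 0 = true := by
  apply cntC_of_card
  have e1 := cntC_sound _ _ _ _ _ h1
  have e2 := cntC_sound _ _ _ _ _ h2
  rw [Nat.zero_add] at e1 e2 ⊢
  rw [← e1, ← e2, Finset.range_add_eq_union, Finset.filter_union, Finset.card_union_of_disjoint]
  · congr 1
    rw [Finset.filter_map, Finset.card_map]
    rfl
  · rw [Finset.disjoint_left]
    intro i hi hi'
    simp only [Finset.mem_filter, Finset.mem_range, Finset.mem_map, addLeftEmbedding_apply] at hi hi'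
    obtain ⟨⟨j, _, rfl⟩, _⟩ := hi'
    omega

end Cfsg.Agent.H8
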