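import Mathlib

/-!
# The field with four elements, with kernel-friendly operations
-/

set_option autoImplicit false
set_option linter.all false

namespace Cfsg.Agent.H8

/-- the field with four elements `0, 1, w, w²`. -/
inductive F4 : Type
  | z | o | w | v
  deriving DecidableEq

namespace F4

noncomputable def add' (a b : F4) : F4 :=
  @F4.rec (fun _ => F4) b (@F4.rec (fun _ => F4) o z v w b) (@F4.rec (fun _ => F4) w v z o b)
    (@F4.rec (fun _ => F4) v w o z b) a

noncomputable def mul' (a b : F4) : F4 :=
  @F4.rec (fun _ => F4) z b (@F4.rec (fun _ => F4) z w v o b) (@F4.rec (fun _ => F4) z v o w b) a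

noncomputable def inv' (a : F4) : F4 := @F4.rec (fun _ => F4) z o v w a

instance instFintypeF4 : Fintype F4 := ⟨{z, o, w, v}, by intro x; cases x <;> decide⟩

noncomputable instance instAddF4 : Add F4 := ⟨add'⟩
noncomputable instance instMulF4 : Mul F4 := ⟨mul'⟩
noncomputable instance instZeroF4 : Zero F4 := ⟨z⟩
noncomputable instance instOneF4 : One F4 := ⟨o⟩
noncomputable instance instNegF4 : Neg F4 := ⟨fun a => a⟩
noncomputable instance instInvF4 : Inv F4 := ⟨inv'⟩

theorem zero_def : (0 : F4) = z := rfl
theorem one_def : (1 : F4) = o := rfl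

noncomputable instance instCommRingF4 : CommRing F4 where
  add_assoc := by intro a b c; cases a <;> cases b <;> cases c <;> rfl
  zero_add := by intro a; cases a <;> rfl
  add_zero := by intro a; cases a <;> rfl
  add_comm := by intro a b; cases a <;> cases b <;> rfl
  left_distrib := by intro a b c; cases a <;> cases b <;> cases c <;> rfl
  right_distrib := by intro a b c; cases a <;> cases b <;> cases c <;> rfl
  zero_mul := by intro a; cases a <;> rfl
  mul_zero := by intro a; cases a <;> rfl
  mul_assoc := by intro a b c; cases a <;> cases b <;> cases c <;> rfl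
  one_mul := by intro a; cases a <;> rfl
  mul_one := by intro a; cases a <;> rfl
  mul_comm := by intro a b; cases a <;> cases b <;> rfl
  neg_add_cancel := by intro a; cases a <;> rfl
  nsmul := nsmulRec
  zsmul := zsmulRec

noncomputable instance instFieldF4 : Field F4 where
  exists_pair_ne := ⟨z, o, by intro h; cases h⟩
  mul_inv_cancel := by intro a ha; cases a <;> first | exact absurd rfl ha | rfl
  inv_zero := rfl
  nnqsmul := _
  nnqsmul_def := fun _ _ => rfl
  qsmul := _
  qsmul_def := fun _ _ => rfl

theorem card_F4 : Fintype.card F4 = 4 := rfl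

theorem two_eq_zero : (1 : F4) + 1 = 0 := rfl

instance charTwo : CharP F4 2 := by
  apply CharTwo.of_one_ne_zero_of_two_eq_zero
  · exact one_ne_zero
  · rw [← one_add_one_eq_two]; exact two_eq_zero

theorem pow_two_eq (a : F4) : a ^ 2 = a * a := pow_two a

theorem pow_three {a : F4} (ha : a ≠ 0) : a ^ 3 = 1 := by
  rw [show (3 : ℕ) = 2 + 1 from rfl, pow_succ, pow_two]
  cases a <;> first | exact absurd rfl ha | rfl

theorem cases4 (a : F4) : a = 0 ∨ a = 1 ∨ a = w ∨ a = v := by
  cases a
  · exact Or.inl rfl
  · exact Or.inr (Or.inl rfl)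
  · exact Or.inr (Or.inr (Or.inl rfl))
  · exact Or.inr (Or.inr (Or.inr rfl))

/-- the element with a given number (`< 4`). -/
noncomputable def ofN (n : Nat) : F4 :=
  @Bool.rec (fun _ => F4) (@Bool.rec (fun _ => F4) (@Bool.rec (fun _ => F4) v w (Nat.beq n 2)) o (Nat.beq n 1)) z
    (Nat.beq n 0)

/-- boolean equality, reducing quickly. -/
noncomputable def beq' (a b : F4) : Bool :=
  @F4.rec (fun _ => Bool) (@F4.rec (fun _ => Bool) true false false false b)
    (@F4.rec (fun _ => Bool) false true false false b) (@F4.rec (fun _ => Bool) false false true false b)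
    (@F4.rec (fun _ => Bool) false false false true b) a

theorem eq_of_beq' {a b : F4} (h : beq' a b = true) : a = b := by
  cases a <;> cases b <;> first | rfl | exact absurd h (by decide)

end F4

end Cfsg.Agent.H8
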