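import Cfsg.Agent.H8.RelGroup
import Cfsg.Agent.H8.T.Fi22btO
import Cfsg.Agent.H8.T.Fi22atL
import Cfsg.Agent.H8.T.Fi22at
import Cfsg.Agent.H8.T.O73ct
import Cfsg.Agent.H8.T.O73dt
import Cfsg.Agent.H8.T.E6t
import Cfsg.Agent.H8.T.D5t
import Cfsg.Agent.H8.T.A4t
import Cfsg.Agent.H8.T.A3t
import Cfsg.Agent.H8.T.A2t
import Cfsg.Agent.H8.T.A1t
import Cfsg.Prelude.Def_Spor_Fi22
import Cfsg.Prelude.Def_Sporadic

/-!
# The presented Fischer group `Fi₂₂`
-/

set_option autoImplicit false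
set_option linter.all false
set_option maxRecDepth 100000

namespace Cfsg.Agent.H8.Fi22P

open Cfsg.Spor

/-- letter function. -/
def sF {P : Type*} [Group P] (f : Fi22.Gen → P) : Nat → P
  | 0 => f .a
  | 1 => f .b
  | 2 => f .c
  | 3 => f .d
  | 4 => f .e
  | 5 => f .f
  | 6 => f .g
  | 7 => f .h
  | 8 => f .i
  | _ => 1

theorem sF_sq {P : Type*} [Group P] (f : Fi22.Gen → P) (h : ∀ x, f x * f x = 1) : ∀ l, sF f l * sF f l = 1 := by
  intro l
  unfold sF
  split <;> first | exact h _ | exact one_mul 1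

theorem base_of {P : Type*} [Group P] (f : Fi22.Gen → P)
    (hc : ∀ x y m, coxLabel Fi22.edges x y = m → (f x * f y) ^ m = 1)
    (h1 : (f .d * f .c * f .b * f .d * f .e * f .f * f .d * f .h * f .i) ^ 10 = 1)
    (h2 : (f .a * f .b * f .c * f .d * f .e * f .f * f .h) ^ 9 = 1)
    (h3 : (f .b * f .c * f .d * f .e * f .f * f .g * f .h) ^ 9 = 1)
    : ∀ p ∈ Fi22at.rels2, ((p.1.map (sF f)).prod) ^ p.2 = 1 := by
  refine List.forall_mem_cons.2 ⟨(show (f .a * (f .b * 1)) ^ 3 = 1 from by rw [mul_one]; exact hc _ _ _ (by decide)), ?_⟩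
  refine List.forall_mem_cons.2 ⟨(show (f .a * (f .c * 1)) ^ 2 = 1 from by rw [mul_one]; exact hc _ _ _ (by decide)), ?_⟩
  refine List.forall_mem_cons.2 ⟨(show (f .a * (f .d * 1)) ^ 2 = 1 from by rw [mul_one]; exact hc _ _ _ (by decide)), ?_⟩
  refine List.forall_mem_cons.2 ⟨(show (f .a * (f .e * 1)) ^ 2 = 1 from by rw [mul_one]; exact hc _ _ _ (by decide)), ?_⟩
  refine List.forall_mem_cons.2 ⟨(show (f .a * (f .f * 1)) ^ 2 = 1 from by rw [mul_one]; exact hc _ _ _ (by decide)), ?_⟩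
  refine List.forall_mem_cons.2 ⟨(show (f .a * (f .g * 1)) ^ 2 = 1 from by rw [mul_one]; exact hc _ _ _ (by decide)), ?_⟩
  refine List.forall_mem_cons.2 ⟨(show (f .a * (f .h * 1)) ^ 2 = 1 from by rw [mul_one]; exact hc _ _ _ (by decide)), ?_⟩
  refine List.forall_mem_cons.2 ⟨(show (f .a * (f .i * 1)) ^ 2 = 1 from by rw [mul_one]; exact hc _ _ _ (by decide)), ?_⟩
  refine List.forall_mem_cons.2 ⟨(show (f .b * (f .c * 1)) ^ 3 = 1 from by rw [mul_one]; exact hc _ _ _ (by decide)), ?_⟩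
  refine List.forall_mem_cons.2 ⟨(show (f .b * (f .d * 1)) ^ 2 = 1 from by rw [mul_one]; exact hc _ _ _ (by decide)), ?_⟩
  refine List.forall_mem_cons.2 ⟨(show (f .b * (f .e * 1)) ^ 2 = 1 from by rw [mul_one]; exact hc _ _ _ (by decide)), ?_⟩
  refine List.forall_mem_cons.2 ⟨(show (f .b * (f .f * 1)) ^ 2 = 1 from by rw [mul_one]; exact hc _ _ _ (by decide)), ?_⟩
  refine List.forall_mem_cons.2 ⟨(show (f .b * (f .g * 1)) ^ 2 = 1 from by rw [mul_one]; exact hc _ _ _ (by decide)), ?_⟩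
  refine List.forall_mem_cons.2 ⟨(show (f .b * (f .h * 1)) ^ 2 = 1 from by rw [mul_one]; exact hc _ _ _ (by decide)), ?_⟩
  refine List.forall_mem_cons.2 ⟨(show (f .b * (f .i * 1)) ^ 2 = 1 from by rw [mul_one]; exact hc _ _ _ (by decide)), ?_⟩
  refine List.forall_mem_cons.2 ⟨(show (f .c * (f .d * 1)) ^ 3 = 1 from by rw [mul_one]; exact hc _ _ _ (by decide)), ?_⟩
  refine List.forall_mem_cons.2 ⟨(show (f .c * (f .e * 1)) ^ 2 = 1 from by rw [mul_one]; exact hc _ _ _ (by decide)), ?_⟩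
  refine List.forall_mem_cons.2 ⟨(show (f .c * (f .f * 1)) ^ 2 = 1 from by rw [mul_one]; exact hc _ _ _ (by decide)), ?_⟩
  refine List.forall_mem_cons.2 ⟨(show (f .c * (f .g * 1)) ^ 2 = 1 from by rw [mul_one]; exact hc _ _ _ (by decide)), ?_⟩
  refine List.forall_mem_cons.2 ⟨(show (f .c * (f .h * 1)) ^ 2 = 1 from by rw [mul_one]; exact hc _ _ _ (by decide)), ?_⟩
  refine List.forall_mem_cons.2 ⟨(show (f .c * (f .i * 1)) ^ 2 = 1 from by rw [mul_one]; exact hc _ _ _ (by decide)), ?_⟩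
  refine List.forall_mem_cons.2 ⟨(show (f .d * (f .e * 1)) ^ 3 = 1 from by rw [mul_one]; exact hc _ _ _ (by decide)), ?_⟩
  refine List.forall_mem_cons.2 ⟨(show (f .d * (f .f * 1)) ^ 2 = 1 from by rw [mul_one]; exact hc _ _ _ (by decide)), ?_⟩
  refine List.forall_mem_cons.2 ⟨(show (f .d * (f .g * 1)) ^ 2 = 1 from by rw [mul_one]; exact hc _ _ _ (by decide)), ?_⟩
  refine List.forall_mem_cons.2 ⟨(show (f .d * (f .h * 1)) ^ 3 = 1 from by rw [mul_one]; exact hc _ _ _ (by decide)), ?_⟩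
  refine List.forall_mem_cons.2 ⟨(show (f .d * (f .i * 1)) ^ 2 = 1 from by rw [mul_one]; exact hc _ _ _ (by decide)), ?_⟩
  refine List.forall_mem_cons.2 ⟨(show (f .e * (f .f * 1)) ^ 3 = 1 from by rw [mul_one]; exact hc _ _ _ (by decide)), ?_⟩
  refine List.forall_mem_cons.2 ⟨(show (f .e * (f .g * 1)) ^ 2 = 1 from by rw [mul_one]; exact hc _ _ _ (by decide)), ?_⟩
  refine List.forall_mem_cons.2 ⟨(show (f .e * (f .h * 1)) ^ 2 = 1 from by rw [mul_one]; exact hc _ _ _ (by decide)), ?_⟩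
  refine List.forall_mem_cons.2 ⟨(show (f .e * (f .i * 1)) ^ 2 = 1 from by rw [mul_one]; exact hc _ _ _ (by decide)), ?_⟩
  refine List.forall_mem_cons.2 ⟨(show (f .f * (f .g * 1)) ^ 3 = 1 from by rw [mul_one]; exact hc _ _ _ (by decide)), ?_⟩
  refine List.forall_mem_cons.2 ⟨(show (f .f * (f .h * 1)) ^ 2 = 1 from by rw [mul_one]; exact hc _ _ _ (by decide)), ?_⟩
  refine List.forall_mem_cons.2 ⟨(show (f .f * (f .i * 1)) ^ 2 = 1 from by rw [mul_one]; exact hc _ _ _ (by decide)), ?_⟩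
  refine List.forall_mem_cons.2 ⟨(show (f .g * (f .h * 1)) ^ 2 = 1 from by rw [mul_one]; exact hc _ _ _ (by decide)), ?_⟩
  refine List.forall_mem_cons.2 ⟨(show (f .g * (f .i * 1)) ^ 2 = 1 from by rw [mul_one]; exact hc _ _ _ (by decide)), ?_⟩
  refine List.forall_mem_cons.2 ⟨(show (f .h * (f .i * 1)) ^ 3 = 1 from by rw [mul_one]; exact hc _ _ _ (by decide)), ?_⟩
  refine List.forall_mem_cons.2 ⟨?_, ?_⟩
  · have e : ([3, 2, 1, 3, 4, 5, 3, 7, 8].map (sF f)).prod = f .d * f .c * f .b * f .d * f .e * f .f * f .d * f .h * f .i := by simp [sF, mul_assoc]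
    change (([3, 2, 1, 3, 4, 5, 3, 7, 8].map (sF f)).prod) ^ 10 = 1
    rw [e, h1]
  refine List.forall_mem_cons.2 ⟨?_, ?_⟩
  · have e : ([0, 1, 2, 3, 4, 5, 7].map (sF f)).prod = f .a * f .b * f .c * f .d * f .e * f .f * f .h := by simp [sF, mul_assoc]
    change (([0, 1, 2, 3, 4, 5, 7].map (sF f)).prod) ^ 9 = 1
    rw [e, h2]
  refine List.forall_mem_cons.2 ⟨?_, ?_⟩
  · have e : ([1, 2, 3, 4, 5, 6, 7].map (sF f)).prod = f .b * f .c * f .d * f .e * f .f * f .g * f .h := by simp [sF, mul_assoc]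
    change (([1, 2, 3, 4, 5, 6, 7].map (sF f)).prod) ^ 9 = 1
    rw [e, h3]
  intro c hc
  exact absurd hc List.not_mem_nil

def pl : List (Fi22.Gen × ℕ × Fi22.Gen) := [(.a, 1, .a), (.b, 1, .b), (.c, 1, .c), (.d, 1, .d), (.e, 1, .e), (.f, 1, .f), (.g, 1, .g), (.h, 1, .h), (.i, 1, .i), (.a, 3, .b), (.a, 2, .c), (.a, 2, .d), (.a, 2, .e), (.a, 2, .f), (.a, 2, .g), (.a, 2, .h), (.a, 2, .i), (.b, 3, .c), (.b, 2, .d), (.b, 2, .e), (.b, 2, .f), (.b, 2, .g), (.b, 2, .h), (.b, 2, .i), (.c, 3, .d), (.c, 2, .e), (.c, 2, .f), (.c, 2, .g), (.c, 2, .h), (.c, 2, .i), (.d, 3, .e), (.d, 2, .f), (.d, 2, .g), (.d, 3, .h), (.d, 2, .i), (.e, 3, .f), (.e, 2, .g), (.e, 2, .h), (.e, 2, .i), (.f, 3, .g), (.f, 2, .h), (.f, 2, .i), (.g, 2, .h), (.g, 2, .i), (.h, 3, .i)]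

theorem pl_cov : ∀ x y : Fi22.Gen, (x, coxLabel Fi22.edges x y, y) ∈ pl ∨ (y, coxLabel Fi22.edges x y, x) ∈ pl := by
  intro x y
  cases x <;> cases y <;> decide

theorem lift_of {P : Type*} [Group P] (f : Fi22.Gen → P) (hsq : ∀ x, f x * f x = 1)
    (hb : ∀ p ∈ Fi22at.relsP, ((p.1.map (sF f)).prod) ^ p.2 = 1) :
    ∀ r ∈ coxRelators Fi22.edges ∪ {r | r ∈ Fi22.extra}, FreeGroup.lift f r = 1 := by
  rintro r (hr | hr)
  · refine cox_lift Fi22.edges f pl (fun x _ y _ => pl_cov x y) ?_ r hr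
    unfold pl
    refine List.forall_mem_cons.2 ⟨(show (f .a * f .a) ^ 1 = 1 from by rw [pow_one]; exact hsq _), ?_⟩
    refine List.forall_mem_cons.2 ⟨(show (f .b * f .b) ^ 1 = 1 from by rw [pow_one]; exact hsq _), ?_⟩
    refine List.forall_mem_cons.2 ⟨(show (f .c * f .c) ^ 1 = 1 from by rw [pow_one]; exact hsq _), ?_⟩
    refine List.forall_mem_cons.2 ⟨(show (f .d * f .d) ^ 1 = 1 from by rw [pow_one]; exact hsq _), ?_⟩
    refine List.forall_mem_cons.2 ⟨(show (f .e * f .e) ^ 1 = 1 from by rw [pow_one]; exact hsq _), ?_⟩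
    refine List.forall_mem_cons.2 ⟨(show (f .f * f .f) ^ 1 = 1 from by rw [pow_one]; exact hsq _), ?_⟩
    refine List.forall_mem_cons.2 ⟨(show (f .g * f .g) ^ 1 = 1 from by rw [pow_one]; exact hsq _), ?_⟩
    refine List.forall_mem_cons.2 ⟨(show (f .h * f .h) ^ 1 = 1 from by rw [pow_one]; exact hsq _), ?_⟩
    refine List.forall_mem_cons.2 ⟨(show (f .i * f .i) ^ 1 = 1 from by rw [pow_one]; exact hsq _), ?_⟩
    refine List.forall_mem_cons.2 ⟨(show (f .a * f .b) ^ 3 = 1 from by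
      have h : (f .a * (f .b * 1)) ^ 3 = 1 := hb ([0, 1], 3) (by decide)
      rwa [mul_one] at h), ?_⟩
    refine List.forall_mem_cons.2 ⟨(show (f .a * f .c) ^ 2 = 1 from by
      have h : (f .a * (f .c * 1)) ^ 2 = 1 := hb ([0, 2], 2) (by decide)
      rwa [mul_one] at h), ?_⟩
    refine List.forall_mem_cons.2 ⟨(show (f .a * f .d) ^ 2 = 1 from by
      have h : (f .a * (f .d * 1)) ^ 2 = 1 := hb ([0, 3], 2) (by decide)
      rwa [mul_one] at h), ?_⟩
    refine List.forall_mem_cons.2 ⟨(show (f .a * f .e) ^ 2 = 1 from by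
      have h : (f .a * (f .e * 1)) ^ 2 = 1 := hb ([0, 4], 2) (by decide)
      rwa [mul_one] at h), ?_⟩
    refine List.forall_mem_cons.2 ⟨(show (f .a * f .f) ^ 2 = 1 from by
      have h : (f .a * (f .f * 1)) ^ 2 = 1 := hb ([0, 5], 2) (by decide)
      rwa [mul_one] at h), ?_⟩
    refine List.forall_mem_cons.2 ⟨(show (f .a * f .g) ^ 2 = 1 from by
      have h : (f .a * (f .g * 1)) ^ 2 = 1 := hb ([0, 6], 2) (by decide)
      rwa [mul_one] at h), ?_⟩
    refine List.forall_mem_cons.2 ⟨(show (f .a * f .h) ^ 2 = 1 from by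
      have h : (f .a * (f .h * 1)) ^ 2 = 1 := hb ([0, 7], 2) (by decide)
      rwa [mul_one] at h), ?_⟩
    refine List.forall_mem_cons.2 ⟨(show (f .a * f .i) ^ 2 = 1 from by
      have h : (f .a * (f .i * 1)) ^ 2 = 1 := hb ([0, 8], 2) (by decide)
      rwa [mul_one] at h), ?_⟩
    refine List.forall_mem_cons.2 ⟨(show (f .b * f .c) ^ 3 = 1 from by
      have h : (f .b * (f .c * 1)) ^ 3 = 1 := hb ([1, 2], 3) (by decide)
      rwa [mul_one] at h), ?_⟩
    refine List.forall_mem_cons.2 ⟨(show (f .b * f .d) ^ 2 = 1 from by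
      have h : (f .b * (f .d * 1)) ^ 2 = 1 := hb ([1, 3], 2) (by decide)
      rwa [mul_one] at h), ?_⟩
    refine List.forall_mem_cons.2 ⟨(show (f .b * f .e) ^ 2 = 1 from by
      have h : (f .b * (f .e * 1)) ^ 2 = 1 := hb ([1, 4], 2) (by decide)
      rwa [mul_one] at h), ?_⟩
    refine List.forall_mem_cons.2 ⟨(show (f .b * f .f) ^ 2 = 1 from by
      have h : (f .b * (f .f * 1)) ^ 2 = 1 := hb ([1, 5], 2) (by decide)
      rwa [mul_one] at h), ?_⟩
    refine List.forall_mem_cons.2 ⟨(show (f .b * f .g) ^ 2 = 1 from by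
      have h : (f .b * (f .g * 1)) ^ 2 = 1 := hb ([1, 6], 2) (by decide)
      rwa [mul_one] at h), ?_⟩
    refine List.forall_mem_cons.2 ⟨(show (f .b * f .h) ^ 2 = 1 from by
      have h : (f .b * (f .h * 1)) ^ 2 = 1 := hb ([1, 7], 2) (by decide)
      rwa [mul_one] at h), ?_⟩
    refine List.forall_mem_cons.2 ⟨(show (f .b * f .i) ^ 2 = 1 from by
      have h : (f .b * (f .i * 1)) ^ 2 = 1 := hb ([1, 8], 2) (by decide)
      rwa [mul_one] at h), ?_⟩
    refine List.forall_mem_cons.2 ⟨(show (f .c * f .d) ^ 3 = 1 from by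
      have h : (f .c * (f .d * 1)) ^ 3 = 1 := hb ([2, 3], 3) (by decide)
      rwa [mul_one] at h), ?_⟩
    refine List.forall_mem_cons.2 ⟨(show (f .c * f .e) ^ 2 = 1 from by
      have h : (f .c * (f .e * 1)) ^ 2 = 1 := hb ([2, 4], 2) (by decide)
      rwa [mul_one] at h), ?_⟩
    refine List.forall_mem_cons.2 ⟨(show (f .c * f .f) ^ 2 = 1 from by
      have h : (f .c * (f .f * 1)) ^ 2 = 1 := hb ([2, 5], 2) (by decide)
      rwa [mul_one] at h), ?_⟩
    refine List.forall_mem_cons.2 ⟨(show (f .c * f .g) ^ 2 = 1 from by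
      have h : (f .c * (f .g * 1)) ^ 2 = 1 := hb ([2, 6], 2) (by decide)
      rwa [mul_one] at h), ?_⟩
    refine List.forall_mem_cons.2 ⟨(show (f .c * f .h) ^ 2 = 1 from by
      have h : (f .c * (f .h * 1)) ^ 2 = 1 := hb ([2, 7], 2) (by decide)
      rwa [mul_one] at h), ?_⟩
    refine List.forall_mem_cons.2 ⟨(show (f .c * f .i) ^ 2 = 1 from by
      have h : (f .c * (f .i * 1)) ^ 2 = 1 := hb ([2, 8], 2) (by decide)
      rwa [mul_one] at h), ?_⟩
    refine List.forall_mem_cons.2 ⟨(show (f .d * f .e) ^ 3 = 1 from by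
      have h : (f .d * (f .e * 1)) ^ 3 = 1 := hb ([3, 4], 3) (by decide)
      rwa [mul_one] at h), ?_⟩
    refine List.forall_mem_cons.2 ⟨(show (f .d * f .f) ^ 2 = 1 from by
      have h : (f .d * (f .f * 1)) ^ 2 = 1 := hb ([3, 5], 2) (by decide)
      rwa [mul_one] at h), ?_⟩
    refine List.forall_mem_cons.2 ⟨(show (f .d * f .g) ^ 2 = 1 from by
      have h : (f .d * (f .g * 1)) ^ 2 = 1 := hb ([3, 6], 2) (by decide)
      rwa [mul_one] at h), ?_⟩
    refine List.forall_mem_cons.2 ⟨(show (f .d * f .h) ^ 3 = 1 from by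
      have h : (f .d * (f .h * 1)) ^ 3 = 1 := hb ([3, 7], 3) (by decide)
      rwa [mul_one] at h), ?_⟩
    refine List.forall_mem_cons.2 ⟨(show (f .d * f .i) ^ 2 = 1 from by
      have h : (f .d * (f .i * 1)) ^ 2 = 1 := hb ([3, 8], 2) (by decide)
      rwa [mul_one] at h), ?_⟩
    refine List.forall_mem_cons.2 ⟨(show (f .e * f .f) ^ 3 = 1 from by
      have h : (f .e * (f .f * 1)) ^ 3 = 1 := hb ([4, 5], 3) (by decide)
      rwa [mul_one] at h), ?_⟩
    refine List.forall_mem_cons.2 ⟨(show (f .e * f .g) ^ 2 = 1 from by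
      have h : (f .e * (f .g * 1)) ^ 2 = 1 := hb ([4, 6], 2) (by decide)
      rwa [mul_one] at h), ?_⟩
    refine List.forall_mem_cons.2 ⟨(show (f .e * f .h) ^ 2 = 1 from by
      have h : (f .e * (f .h * 1)) ^ 2 = 1 := hb ([4, 7], 2) (by decide)
      rwa [mul_one] at h), ?_⟩
    refine List.forall_mem_cons.2 ⟨(show (f .e * f .i) ^ 2 = 1 from by
      have h : (f .e * (f .i * 1)) ^ 2 = 1 := hb ([4, 8], 2) (by decide)
      rwa [mul_one] at h), ?_⟩
    refine List.forall_mem_cons.2 ⟨(show (f .f * f .g) ^ 3 = 1 from by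
      have h : (f .f * (f .g * 1)) ^ 3 = 1 := hb ([5, 6], 3) (by decide)
      rwa [mul_one] at h), ?_⟩
    refine List.forall_mem_cons.2 ⟨(show (f .f * f .h) ^ 2 = 1 from by
      have h : (f .f * (f .h * 1)) ^ 2 = 1 := hb ([5, 7], 2) (by decide)
      rwa [mul_one] at h), ?_⟩
    refine List.forall_mem_cons.2 ⟨(show (f .f * f .i) ^ 2 = 1 from by
      have h : (f .f * (f .i * 1)) ^ 2 = 1 := hb ([5, 8], 2) (by decide)
      rwa [mul_one] at h), ?_⟩
    refine List.forall_mem_cons.2 ⟨(show (f .g * f .h) ^ 2 = 1 from by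
      have h : (f .g * (f .h * 1)) ^ 2 = 1 := hb ([6, 7], 2) (by decide)
      rwa [mul_one] at h), ?_⟩
    refine List.forall_mem_cons.2 ⟨(show (f .g * f .i) ^ 2 = 1 from by
      have h : (f .g * (f .i * 1)) ^ 2 = 1 := hb ([6, 8], 2) (by decide)
      rwa [mul_one] at h), ?_⟩
    refine List.forall_mem_cons.2 ⟨(show (f .h * f .i) ^ 3 = 1 from by
      have h : (f .h * (f .i * 1)) ^ 3 = 1 := hb ([7, 8], 3) (by decide)
      rwa [mul_one] at h), ?_⟩
    intro c hc
    exact absurd hc List.not_mem_nil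
  · unfold Fi22.extra at hr
    simp only [Set.mem_ofPred_eq, List.mem_cons, List.not_mem_nil, or_false] at hr
    rcases hr with rfl | rfl | rfl
    · have h : (([3, 2, 1, 3, 4, 5, 3, 7, 8].map (sF f)).prod) ^ 10 = 1 := hb ([3, 2, 1, 3, 4, 5, 3, 7, 8], 10) (by decide)
      have e : ([3, 2, 1, 3, 4, 5, 3, 7, 8].map (sF f)).prod = f .d * f .c * f .b * f .d * f .e * f .f * f .d * f .h * f .i := by simp [sF, mul_assoc]
      rw [e] at h
      simp only [map_mul, map_pow, map_inv, FreeGroup.lift_apply_of]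
      exact h
    · have h : (([0, 1, 2, 3, 4, 5, 7].map (sF f)).prod) ^ 9 = 1 := hb ([0, 1, 2, 3, 4, 5, 7], 9) (by decide)
      have e : ([0, 1, 2, 3, 4, 5, 7].map (sF f)).prod = f .a * f .b * f .c * f .d * f .e * f .f * f .h := by simp [sF, mul_assoc]
      rw [e] at h
      simp only [map_mul, map_pow, map_inv, FreeGroup.lift_apply_of]
      exact h
    · have h : (([1, 2, 3, 4, 5, 6, 7].map (sF f)).prod) ^ 9 = 1 := hb ([1, 2, 3, 4, 5, 6, 7], 9) (by decide)
      have e : ([1, 2, 3, 4, 5, 6, 7].map (sF f)).prod = f .b * f .c * f .d * f .e * f .f * f .g * f .h := by simp [sF, mul_assoc]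
      rw [e] at h
      simp only [map_mul, map_pow, map_inv, FreeGroup.lift_apply_of]
      exact h

section grp

/-- the letters of the presented group. -/
def s : Nat → Fi22 := sF (fun x => (PresentedGroup.of x : Fi22))

theorem of_sq (x : Fi22.Gen) : (PresentedGroup.of x * PresentedGroup.of x : Fi22) = 1 := by
  have h := cox_rel Fi22.edges Fi22.extra x x 1 (by cases x <;> decide) (by cases x <;> decide) (by cases x <;> decide)
  rwa [pow_one] at h

theorem s_sq : ∀ l, s l * s l = 1 := sF_sq _ of_sq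

theorem s_inv : ∀ l, s l = (s l)⁻¹ := fun l => eq_inv_of_mul_eq_one_left (s_sq l)

theorem s_31 : s 31 = 1 := rfl

theorem s_top : letterGroup s 9 = ⊤ := by
  rw [eq_top_iff]
  have h : (⊤ : Subgroup Fi22) = Subgroup.closure (Set.range PresentedGroup.of) :=
    (PresentedGroup.closure_range_of _).symm
  rw [h, Subgroup.closure_le]
  rintro _ ⟨x, rfl⟩
  refine Subgroup.subset_closure ?_
  cases x
  · exact ⟨0, by decide, rfl⟩
  · exact ⟨1, by decide, rfl⟩
  · exact ⟨2, by decide, rfl⟩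
  · exact ⟨3, by decide, rfl⟩
  · exact ⟨4, by decide, rfl⟩
  · exact ⟨5, by decide, rfl⟩
  · exact ⟨6, by decide, rfl⟩
  · exact ⟨7, by decide, rfl⟩
  · exact ⟨8, by decide, rfl⟩

/-- index of a generator. -/
def idx : Fi22.Gen → Nat
  | .a => 0
  | .b => 1
  | .c => 2
  | .d => 3
  | .e => 4
  | .f => 5
  | .g => 6
  | .h => 7
  | .i => 8

theorem sF_idx {P : Type*} [Group P] (t : Nat → P) : ∀ l < 9, sF (fun x => t (idx x)) l = t l := by
  intro l hl
  interval_cases l <;> rfl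

/-- the permutation representation attached to a checked table. -/
def homOf {P : Type*} [Group P] (t : Nat → P) (hsq : ∀ l, t l * t l = 1)
    (hb : ∀ p ∈ Fi22at.relsP, ((p.1.map t).prod) ^ p.2 = 1) : Fi22 →* P :=
  PresentedGroup.toGroup (f := fun x => t (idx x)) (lift_of _ (fun x => hsq _) (by
    intro p hp
    have h1 := hb p hp
    have h2 : p.1.map (sF (fun x => t (idx x))) = p.1.map t := by
      apply List.map_congr_left
      intro l hl
      have : ∀ p ∈ Fi22at.relsP, ∀ l ∈ p.1, l < 9 := by decide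
      exact sF_idx t l (this p hp l hl)
    rw [h2]
    exact h1))

theorem homOf_s {P : Type*} [Group P] (t : Nat → P) (hsq : ∀ l, t l * t l = 1)
    (hb : ∀ p ∈ Fi22at.relsP, ((p.1.map t).prod) ^ p.2 = 1) : ∀ l < 9, homOf t hsq hb (s l) = t l := by
  intro l hl
  have key : ∀ x, homOf t hsq hb (PresentedGroup.of x) = t (idx x) := fun x => PresentedGroup.toGroup.of _
  interval_cases l
  · exact key .a
  · exact key .b
  · exact key .c
  · exact key .d
  · exact key .e
  · exact key .f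
  · exact key .g
  · exact key .h
  · exact key .i

end grp

theorem base : ∀ p ∈ Fi22at.rels2, ((p.1.map s).prod) ^ p.2 = 1 := by
  have ex : ∀ r ∈ Fi22.extra, (PresentedGroup.mk (coxRelators Fi22.edges ∪ {r | r ∈ Fi22.extra}) r) = 1 :=
    fun r hr => cox_extra Fi22.edges Fi22.extra r hr
  refine base_of _ (fun x y m hm => cox_rel Fi22.edges Fi22.extra x y m (by cases x <;> decide)
    (by cases y <;> decide) hm) ?_ ?_ ?_
  · have h := ex ((Fi22.d * Fi22.c * Fi22.b * Fi22.d * Fi22.e * Fi22.f * Fi22.d * Fi22.h * Fi22.i) ^ 10) (by simp [Fi22.extra])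
    simp only [map_mul, map_pow, map_inv] at h
    exact h
  · have h := ex ((Fi22.a * Fi22.b * Fi22.c * Fi22.d * Fi22.e * Fi22.f * Fi22.h) ^ 9) (by simp [Fi22.extra])
    simp only [map_mul, map_pow, map_inv] at h
    exact h
  · have h := ex ((Fi22.b * Fi22.c * Fi22.d * Fi22.e * Fi22.f * Fi22.g * Fi22.h) ^ 9) (by simp [Fi22.extra])
    simp only [map_mul, map_pow, map_inv] at h
    exact h

/-! ### Order -/

/-- order bound for the Weyl group of type `E₆` on letters `b c d e f h`, in any group. -/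
theorem fi22_upper : Finite (letterGroup s 9) ∧ Nat.card (letterGroup s 9) ≤ 64561751654400 := by
  have h1 := A1t.upper (subS s [1]) (subS_inv s _ s_inv) (subS_31 s _ s_31)
    (rels_sub s [1] _ _ base (by decide)) ⊥ (by intro w hw; exact absurd hw (by decide +revert)) inferInstance
  have h2 := A2t.upper (subS s [1, 2]) (subS_inv s _ s_inv) (subS_31 s _ s_31)
    (rels_sub s [1, 2] _ _ base (by decide)) _ (sub_mem s [1, 2] [1] 1 _ (by decide)) h1.1
  have h3 := A3t.upper (subS s [1, 2, 3]) (subS_inv s _ s_inv) (subS_31 s _ s_31)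
    (rels_sub s [1, 2, 3] _ _ base (by decide)) _ (sub_mem s [1, 2, 3] [1, 2] 2 _ (by decide)) h2.1
  have h4 := A4t.upper (subS s [1, 2, 3, 4]) (subS_inv s _ s_inv) (subS_31 s _ s_31)
    (rels_sub s [1, 2, 3, 4] _ _ base (by decide)) _ (sub_mem s [1, 2, 3, 4] [1, 2, 3] 3 _ (by decide)) h3.1
  have h5 := D5t.upper (subS s [1, 2, 3, 4, 7]) (subS_inv s _ s_inv) (subS_31 s _ s_31)
    (rels_sub s [1, 2, 3, 4, 7] _ _ base (by decide)) _ (sub_mem s [1, 2, 3, 4, 7] [1, 2, 3, 4] 4 _ (by decide)) h4.1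
  have h6 := E6t.upper (subS s [1, 2, 3, 4, 5, 7]) (subS_inv s _ s_inv) (subS_31 s _ s_31)
    (rels_sub s [1, 2, 3, 4, 5, 7] _ _ base (by decide)) _
    (sub_mem s [1, 2, 3, 4, 5, 7] [1, 2, 3, 4, 7] 5 _ (by decide)) h5.1
  have h7 := O73dt.upper (subS s [1, 2, 3, 4, 5, 7, 8]) (subS_inv s _ s_inv) (subS_31 s _ s_31)
    (rels_sub s [1, 2, 3, 4, 5, 7, 8] _ _ base (by decide)) _
    (sub_mem s [1, 2, 3, 4, 5, 7, 8] [1, 2, 3, 4, 5, 7] 6 _ (by decide)) h6.1
  have h8 := O73ct.upper (subS s [1, 2, 3, 4, 5, 6, 7, 8]) (subS_inv s _ s_inv) (subS_31 s _ s_31)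
    (rels_sub s [1, 2, 3, 4, 5, 6, 7, 8] _ _ base (by decide)) _
    (sub_mem s [1, 2, 3, 4, 5, 6, 7, 8] [1, 2, 3, 4, 5, 7, 8] 7 _ (by decide)) h7.1
  have h9 := Fi22at.upper s s_inv s_31 base (letterGroup (subS s [1, 2, 3, 4, 5, 6, 7, 8]) 8) (by
    intro w hw
    have := sub_mem s [0, 1, 2, 3, 4, 5, 6, 7, 8] [1, 2, 3, 4, 5, 6, 7, 8] 8 Fi22at.subw (by decide) w hw
    have h5 : w.map (subS s [0, 1, 2, 3, 4, 5, 6, 7, 8]) = w.map s := by
      apply List.map_congr_left
      intro l hl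
      have : ∀ w ∈ Fi22at.subw, ∀ l ∈ w, l < 9 := by decide
      exact subS_id s [0, 1, 2, 3, 4, 5, 6, 7, 8] 9 (by decide) l (this w hw l hl)
    rw [h5] at this
    exact this) h8.1
  refine ⟨h9.1, ?_⟩
  have e1 : Nat.card (⊥ : Subgroup Fi22) = 1 := by simp
  rw [e1] at h1
  omega

theorem finite_and_card_le : Finite Fi22 ∧ Nat.card Fi22 ≤ 64561751654400 := by
  have h := fi22_upper
  rw [s_top] at h
  refine ⟨?_, ?_⟩
  · have := h.1
    exact Finite.of_equiv _ Subgroup.topEquiv.toEquiv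
  · rw [Subgroup.card_top] at h
    exact h.2

instance fi22_finite : Finite Fi22 := finite_and_card_le.1

noncomputable def ρ : Fi22 →* Equiv.Perm (Fin 14080) :=
  homOf (permL Fi22at.tok) (permL_sq Fi22at.tok) Fi22at.relp

theorem hρ : ∀ l < 9, ρ (s l) = permL Fi22at.tok l := homOf_s _ _ _

theorem hρ' : ∀ l, ρ (s l) = permL Fi22at.tok l := by
  intro l
  rcases Nat.lt_or_ge l 9 with h | h
  · exact hρ l h
  · have h1 : s l = 1 := by
      match l, h with
      | (k + 9), _ => rfl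
    rw [h1, map_one, permL_ge Fi22at.tok l (by omega)]

theorem lowerP : 64561751654400 ≤ Nat.card (wordGroup (permL Fi22at.tok) Fi22at.chG0) := by
  have h1 := Fi22at.ch_lower (permL Fi22at.tok) (MonoidHom.id _) (fun l _ => rfl)
  omega

theorem ρ_injective : Function.Injective ρ := by
  apply injective_of_card ρ (wordGroup (permL Fi22at.tok) Fi22at.chG0)
  · rw [← RG.map_wordGroup ρ s _ hρ' Fi22at.chG0]
    rintro _ ⟨x, _, rfl⟩
    exact ⟨x, rfl⟩
  · exact le_trans finite_and_card_le.2 lowerP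
  · infer_instance

theorem card_fi22 : Nat.card Fi22 = 64561751654400 := by
  apply le_antisymm finite_and_card_le.2
  refine le_trans lowerP ?_
  have h0 := RG.map_wordGroup ρ s _ hρ' Fi22at.chG0
  rw [← h0]
  exact card_map_le' ρ _

theorem nontrivial_fi22 : Nontrivial Fi22 := by
  apply Finite.one_lt_card_iff_nontrivial.1
  rw [card_fi22]; decide

/-- the subgroup `⟨b, …, i⟩`. -/
def Kgens : List (List Nat) := [[1], [2], [3], [4], [5], [6], [7], [8]]

theorem index_stab_K : (wordGroup s Kgens).index = 14080 ∧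
    wordGroup s Kgens = stabOf ρ ⟨0, by decide⟩ := by
  have hle : wordGroup s Kgens ≤ stabOf ρ ⟨0, by decide⟩ :=
    wordGroup_le_stabOf s Fi22at.tok ρ hρ _ _ (by decide +kernel)
  have h2 := Fi22at.upperIndex s s_inv s_31 base (wordGroup s Kgens)
    (fun w hw => mem_wordGroup s _ w (by revert w hw; decide)) s_top
  exact index_and_stab ρ _ _ hle (Fi22at.rho_tr s ρ hρ) h2 (by decide)

/-! ### The rank 3 action on 3510 points -/

noncomputable def ρ₂ : Fi22 →* Equiv.Perm (Fin 3510) :=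
  homOf (permL Fi22bt.tok) (permL_sq Fi22bt.tok) Fi22bt.relp

theorem hρ₂ : ∀ l < 9, ρ₂ (s l) = permL Fi22bt.tok l := homOf_s _ _ _

theorem index_stab : (wordGroup s Fi22bt.clG).index = 3510 ∧
    wordGroup s Fi22bt.clG = stabOf ρ₂ ⟨0, by decide⟩ := by
  have hle : wordGroup s Fi22bt.clG ≤ stabOf ρ₂ ⟨0, by decide⟩ :=
    wordGroup_le_stabOf s Fi22bt.tok ρ₂ hρ₂ _ _ (by decide +kernel)
  have h2 := Fi22bt.upperIndex s s_inv s_31 base (wordGroup s Fi22bt.clG)
    (fun w hw => mem_wordGroup s _ w (by revert w hw; decide)) s_top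
  exact index_and_stab ρ₂ _ _ hle (Fi22bt.rho_tr s ρ₂ hρ₂) h2 (by decide)

theorem coatom : IsCoatom (stabOf ρ₂ ⟨0, by decide⟩) := Fi22bt.cl_coatom s ρ₂ hρ₂ index_stab.2.symm

theorem orbit_len (c k : Nat) (i : Fin 3510) (hi : Fi22bt.clC i = c)
    (hk : cntC Fi22bt.clC c k 3510 0 = true) :
    ∃ q : Fi22 ⧸ wordGroup s Fi22bt.clG, (MulAction.orbit (wordGroup s Fi22bt.clG) q).ncard = k := by
  obtain ⟨g, hg⟩ := Fi22bt.rho_tr s ρ₂ hρ₂ i
  refine ⟨QuotientGroup.mk g, ?_⟩
  rw [orbit_ncard_eq ρ₂ ⟨0, by decide⟩ _ index_stab.2 g, hg,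
    cls_orbit s Fi22bt.tok ρ₂ hρ₂ Fi22bt.clC Fi22bt.clQ Fi22bt.clG Fi22bt.clR (by decide) Fi22bt.clOK i, hi]
  exact cntC_ncard _ _ _ _ hk

/-! ### Simplicity -/

theorem wd (w : List Nat) (hw : ∀ l ∈ w, l < 9)
    (h : allR (fun i => powT (w.map Fi22at.T) i 1 i) 0 14080 = true) : (w.map s).prod = 1 :=
  word_eq_one s Fi22at.tok ρ hρ ρ_injective w hw h

/-- only the base point is fixed by `⟨b, …, i⟩`. -/
theorem fixed_unique (i : Fin 14080) (h : ∀ g ∈ wordGroup s Kgens, ρ g i = i) : i = ⟨0, by decide⟩ := by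
  have h1 := h _ (mem_wordGroup s Kgens [1] (by decide))
  have h2 := h _ (mem_wordGroup s Kgens [2] (by decide))
  have h3 := h _ (mem_wordGroup s Kgens [3] (by decide))
  have h4 := h _ (mem_wordGroup s Kgens [4] (by decide))
  have h5 := h _ (mem_wordGroup s Kgens [5] (by decide))
  have h6 := h _ (mem_wordGroup s Kgens [6] (by decide))
  have h7 := h _ (mem_wordGroup s Kgens [7] (by decide))
  have h8 := h _ (mem_wordGroup s Kgens [8] (by decide))
  have key : ∀ l < 9, ρ (([l].map s).prod) i = i → Fi22at.T l i = i := by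
    intro l hl hh
    have h9 := rho_word s Fi22at.tok ρ hρ [l] (by simpa using hl) i
    have h10 : (ρ (([l].map s).prod))⁻¹ i = i := by
      rw [Equiv.Perm.inv_eq_iff_eq]; exact hh.symm
    rw [h10] at h9
    exact h9.symm
  have k1 := key 1 (by decide) h1
  have k2 := key 2 (by decide) h2
  have k3 := key 3 (by decide) h3
  have k4 := key 4 (by decide) h4
  have k5 := key 5 (by decide) h5
  have k6 := key 6 (by decide) h6
  have k7 := key 7 (by decide) h7
  have k8 := key 8 (by decide) h8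
  have hall : allR (fun i => @Bool.rec (fun _ => Bool) true (@Bool.rec (fun _ => Bool) true
    (@Bool.rec (fun _ => Bool) true (@Bool.rec (fun _ => Bool) true (@Bool.rec (fun _ => Bool) true
    (@Bool.rec (fun _ => Bool) true (@Bool.rec (fun _ => Bool) true (@Bool.rec (fun _ => Bool) true
      (Nat.beq i 0) (Nat.beq (Fi22at.T8 i) i)) (Nat.beq (Fi22at.T7 i) i)) (Nat.beq (Fi22at.T6 i) i))
      (Nat.beq (Fi22at.T5 i) i)) (Nat.beq (Fi22at.T4 i) i)) (Nat.beq (Fi22at.T3 i) i))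
      (Nat.beq (Fi22at.T2 i) i)) (Nat.beq (Fi22at.T1 i) i)) 0 14080 = true := by decide +kernel
  have h9 := allR_zero _ _ hall i i.2
  have b : ∀ l, Fi22at.T l i = i → Nat.beq (Fi22at.T l i) i = true := fun l hl => by
    rw [hl]; exact Nat.beq_refl _
  have b1 : Nat.beq (Fi22at.T1 i) i = true := b 1 k1
  have b2 : Nat.beq (Fi22at.T2 i) i = true := b 2 k2
  have b3 : Nat.beq (Fi22at.T3 i) i = true := b 3 k3
  have b4 : Nat.beq (Fi22at.T4 i) i = true := b 4 k4
  have b5 : Nat.beq (Fi22at.T5 i) i = true := b 5 k5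
  have b6 : Nat.beq (Fi22at.T6 i) i = true := b 6 k6
  have b7 : Nat.beq (Fi22at.T7 i) i = true := b 7 k7
  have b8 : Nat.beq (Fi22at.T8 i) i = true := b 8 k8
  rw [b1, b2, b3, b4, b5, b6, b7, b8] at h9
  exact Fin.ext (Nat.eq_of_beq_eq_true h9)

/-- the centre is trivial. -/
theorem center_trivial (x : Fi22) (hx : ∀ g, g * x = x * g) : x = 1 := by
  have h1 : ρ x ⟨0, by decide⟩ = ⟨0, by decide⟩ := by
    apply fixed_unique
    intro g hg
    have h2 : ρ g ⟨0, by decide⟩ = ⟨0, by decide⟩ := by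
      have : g ∈ stabOf ρ ⟨0, by decide⟩ := by rw [← index_stab_K.2]; exact hg
      exact this
    rw [← Equiv.Perm.mul_apply, ← map_mul, hx, map_mul, Equiv.Perm.mul_apply, h2]
  apply ρ_injective
  rw [map_one]
  ext i
  obtain ⟨g, rfl⟩ := Fi22at.rho_tr s ρ hρ i
  rw [← Equiv.Perm.mul_apply, ← map_mul, ← hx, map_mul, Equiv.Perm.mul_apply, h1]
  rfl

theorem collapse {P : Type*} [Group P] (t : Nat → P) (hsq : ∀ l, t l * t l = 1)
    (hrel : ∀ p ∈ Fi22at.rels2, ((p.1.map t).prod) ^ p.2 = 1) (h0 : t 0 = 1) : ∀ l < 9, t l = 1 := by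
  have step : ∀ i j, ([i, j], 3) ∈ Fi22at.rels2 → t i = 1 → t j = 1 := by
    intro i j hm hi
    have r := hrel _ hm
    exact eq_one_of_sq_of_odd (t j) 1 (hsq j) (by simpa [hi] using r)
  have h1 := step 0 1 (by decide) h0
  have h2 := step 1 2 (by decide) h1
  have h3 := step 2 3 (by decide) h2
  have h4 := step 3 4 (by decide) h3
  have h7 := step 3 7 (by decide) h3
  have h5 := step 4 5 (by decide) h4
  have h6 := step 5 6 (by decide) h5
  have h8 := step 7 8 (by decide) h7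
  intro l hl
  interval_cases l <;> assumption

theorem collapse_comm {P : Type*} [CommGroup P] (t : Nat → P) (hsq : ∀ l, t l * t l = 1)
    (hrel : ∀ p ∈ Fi22at.rels2, ((p.1.map t).prod) ^ p.2 = 1) : ∀ l < 9, t l = 1 := by
  have cube : ∀ x y : P, x * x = 1 → y * y = 1 → (x * y) ^ 3 = 1 → x = y := by
    intro x y hx hy h
    have h1 : (x * y) * (x * y) = 1 := by
      calc (x * y) * (x * y) = (x * x) * (y * y) := by simp only [mul_assoc, mul_left_comm, mul_comm]
        _ = 1 := by rw [hx, hy, one_mul]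
    have h2 : x * y = 1 := eq_one_of_sq_of_odd (x * y) 1 h1 h
    calc x = x * (y * y) := by rw [hy, mul_one]
      _ = y := by rw [← mul_assoc, h2, one_mul]
  have step : ∀ i j, ([i, j], 3) ∈ Fi22at.rels2 → t i = t j := by
    intro i j hm
    have r := hrel _ hm
    exact cube _ _ (hsq _) (hsq _) (by simpa using r)
  have h1 := step 0 1 (by decide)
  have h2 := step 1 2 (by decide)
  have h3 := step 2 3 (by decide)
  have h4 := step 3 4 (by decide)
  have h7 := step 3 7 (by decide)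
  have h5 := step 4 5 (by decide)
  have r := hrel ([0, 1, 2, 3, 4, 5, 7], 9) (by decide)
  have e : (([0, 1, 2, 3, 4, 5, 7] : List Nat).map t).prod = t 0 := by
    simp only [List.map_cons, List.map_nil, List.prod_cons, List.prod_nil, mul_one]
    rw [← h7, ← h5, ← h4, ← h3, ← h2, ← h1]
    simp only [hsq, mul_one]
  have r' : ((([0, 1, 2, 3, 4, 5, 7] : List Nat).map t).prod) ^ 9 = 1 := r
  rw [e] at r'
  exact collapse t hsq hrel (eq_one_of_sq_of_odd (t 0) 4 (hsq 0) r')

theorem normalClosure_A : Subgroup.normalClosure ((Subgroup.zpowers (s 0) : Subgroup Fi22) : Set Fi22) = ⊤ := by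
  apply normalClosure_of_letters s 9 s_top _ inferInstance
  set N := Subgroup.normalClosure ((Subgroup.zpowers (s 0) : Subgroup Fi22) : Set Fi22) with hN
  apply collapse (fun l => QuotientGroup.mk' N (s l))
  · intro l
    rw [← map_mul, s_sq, map_one]
  · intro p hp
    have := base p hp
    have h2 := congrArg (QuotientGroup.mk' N) this
    rw [map_pow, map_list_prod, List.map_map, map_one] at h2
    exact h2
  · rw [QuotientGroup.mk'_apply, QuotientGroup.eq_one_iff]
    exact Subgroup.subset_normalClosure (Subgroup.mem_zpowers _)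

theorem perfect : commutator Fi22 = ⊤ := by
  apply perfect_of_letters s 9 s_top
  apply collapse_comm (fun l => (Abelianization.of (s l) : Abelianization Fi22))
  · intro l
    rw [← map_mul, s_sq, map_one]
  · intro p hp
    have := base p hp
    have h2 := congrArg (Abelianization.of (G := Fi22)) this
    rw [map_pow, map_list_prod, List.map_map, map_one] at h2
    exact h2

/-- the long generator of the centraliser. -/
def lw : List Nat := wpow [0, 1, 2, 3, 4, 7] 5

theorem lw_comm : (lw.map s).prod * s 0 = s 0 * (lw.map s).prod := by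
  have h := word_eq s s_inv (lw ++ [0]) ([0] ++ lw) (wd _ (by decide) (by decide +kernel))
  simpa using h

theorem comm_of_rel (l : Nat) (h : ([0, l], 2) ∈ Fi22at.rels2) : s l * s 0 = s 0 * s l := by
  have r := base _ h
  have r' : (s 0 * s l) ^ 2 = 1 := by simpa using r
  rw [pow_two] at r'
  have h1 : s 0 * s l = (s 0 * s l)⁻¹ := eq_inv_of_mul_eq_one_left r'
  rw [mul_inv_rev, ← s_inv, ← s_inv] at h1
  exact h1.symm

/-- `a` is central in the stabiliser of a point. -/
theorem a_central : ∀ g ∈ wordGroup s Fi22bt.clG, g * s 0 = s 0 * g := by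
  intro g hg
  have hc : wordGroup s Fi22bt.clG ≤ Subgroup.centralizer {s 0} := by
    unfold wordGroup
    rw [Subgroup.closure_le]
    rintro _ ⟨w, hw, rfl⟩
    rw [SetLike.mem_coe, Subgroup.mem_centralizer_singleton_iff]
    have hG : Fi22bt.clG = [[0], [2], [3], [4], [5], [6], [7], [8], lw] := by decide
    rw [hG] at hw
    simp only [List.mem_cons, List.not_mem_nil, or_false] at hw
    rcases hw with rfl | rfl | rfl | rfl | rfl | rfl | rfl | rfl | rfl
    · rfl
    · simpa using comm_of_rel 2 (by decide)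
    · simpa using comm_of_rel 3 (by decide)
    · simpa using comm_of_rel 4 (by decide)
    · simpa using comm_of_rel 5 (by decide)
    · simpa using comm_of_rel 6 (by decide)
    · simpa using comm_of_rel 7 (by decide)
    · simpa using comm_of_rel 8 (by decide)
    · exact lw_comm
  have := hc hg
  rw [Subgroup.mem_centralizer_singleton_iff] at this
  exact this

theorem core_free₂ : ∀ N : Subgroup Fi22, N.Normal → N ≤ stabOf ρ₂ ⟨0, by decide⟩ → N = ⊥ := by
  intro N hN hle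
  rw [eq_bot_iff]
  intro x hx
  rw [Subgroup.mem_bot]
  apply center_trivial
  -- the centraliser of `N` is normal and contains `a`
  have h1 : Subgroup.normalClosure ((Subgroup.zpowers (s 0) : Subgroup Fi22) : Set Fi22) ≤
      Subgroup.centralizer (N : Set Fi22) := by
    haveI : (Subgroup.centralizer (N : Set Fi22)).Normal := inferInstance
    apply Subgroup.normalClosure_le_normal
    intro y hy
    have h2 : Subgroup.zpowers (s 0) ≤ Subgroup.centralizer (N : Set Fi22) := by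
      rw [Subgroup.zpowers_le, Subgroup.mem_centralizer_iff]
      intro z hz
      have h3 := hle hz
      rw [← index_stab.2] at h3
      exact a_central z h3
    exact h2 hy
  rw [normalClosure_A] at h1
  intro g
  have := h1 (Subgroup.mem_top g)
  rw [Subgroup.mem_centralizer_iff] at this
  exact (this x hx).symm

theorem simple : IsSimpleGroup Fi22 := by
  haveI := nontrivial_fi22
  refine simple_of_coatom_abelian (stabOf ρ₂ ⟨0, by decide⟩) (Subgroup.zpowers (s 0)) coatom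
    core_free₂ ?_ ?_ normalClosure_A perfect
  · intro h hh a ha
    obtain ⟨i, rfl⟩ := Subgroup.mem_zpowers_iff.1 ha
    rw [← index_stab.2] at hh
    have h1 : h * s 0 * h⁻¹ = s 0 := by rw [a_central h hh]; group
    rw [← conj_zpow, h1]
    exact Subgroup.mem_zpowers_iff.2 ⟨i, rfl⟩
  · intro a ha b hb
    obtain ⟨i, rfl⟩ := Subgroup.mem_zpowers_iff.1 ha
    obtain ⟨j, rfl⟩ := Subgroup.mem_zpowers_iff.1 hb
    exact zpow_mul_comm (s 0) i j

theorem K_eq : ((Subgroup.closure ({Fi22.b, Fi22.c, Fi22.d, Fi22.e, Fi22.f, Fi22.g, Fi22.h, Fi22.i} :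
    Set (FreeGroup Fi22.Gen))).map
    (PresentedGroup.mk (coxRelators Fi22.edges ∪ {r | r ∈ Fi22.extra}))) = wordGroup s Kgens := by
  apply map_closure_eq
  · intro x hx
    simp only [Set.mem_insert_iff, Set.mem_singleton_iff] at hx
    rcases hx with rfl | rfl | rfl | rfl | rfl | rfl | rfl | rfl
    · exact ⟨[1], by decide, by simp [s, sF, PresentedGroup.of]⟩
    · exact ⟨[2], by decide, by simp [s, sF, PresentedGroup.of]⟩
    · exact ⟨[3], by decide, by simp [s, sF, PresentedGroup.of]⟩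
    · exact ⟨[4], by decide, by simp [s, sF, PresentedGroup.of]⟩
    · exact ⟨[5], by decide, by simp [s, sF, PresentedGroup.of]⟩
    · exact ⟨[6], by decide, by simp [s, sF, PresentedGroup.of]⟩
    · exact ⟨[7], by decide, by simp [s, sF, PresentedGroup.of]⟩
    · exact ⟨[8], by decide, by simp [s, sF, PresentedGroup.of]⟩
  · intro w hw
    simp only [Kgens, List.mem_cons, List.not_mem_nil, or_false] at hw
    rcases hw with rfl | rfl | rfl | rfl | rfl | rfl | rfl | rfl
    · exact ⟨Fi22.b, by simp, by simp [s, sF, PresentedGroup.of]⟩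
    · exact ⟨Fi22.c, by simp, by simp [s, sF, PresentedGroup.of]⟩
    · exact ⟨Fi22.d, by simp, by simp [s, sF, PresentedGroup.of]⟩
    · exact ⟨Fi22.e, by simp, by simp [s, sF, PresentedGroup.of]⟩
    · exact ⟨Fi22.f, by simp, by simp [s, sF, PresentedGroup.of]⟩
    · exact ⟨Fi22.g, by simp, by simp [s, sF, PresentedGroup.of]⟩
    · exact ⟨Fi22.h, by simp, by simp [s, sF, PresentedGroup.of]⟩
    · exact ⟨Fi22.i, by simp, by simp [s, sF, PresentedGroup.of]⟩

theorem H_eq : ((Subgroup.closure ({Fi22.a, Fi22.c, Fi22.d, Fi22.e, Fi22.f, Fi22.g, Fi22.h, Fi22.i,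
    (Fi22.a * Fi22.b * Fi22.c * Fi22.d * Fi22.e * Fi22.h) ^ 5} : Set (FreeGroup Fi22.Gen))).map
    (PresentedGroup.mk (coxRelators Fi22.edges ∪ {r | r ∈ Fi22.extra}))) = wordGroup s Fi22bt.clG := by
  have e2 : (PresentedGroup.mk (coxRelators Fi22.edges ∪ {r | r ∈ Fi22.extra}))
      ((Fi22.a * Fi22.b * Fi22.c * Fi22.d * Fi22.e * Fi22.h) ^ 5) = (lw.map s).prod := by
    rw [lw, wpow_prod]
    simp only [map_mul, map_pow]
    simp [s, sF, PresentedGroup.of, mul_assoc]
  have hG : Fi22bt.clG = [[0], [2], [3], [4], [5], [6], [7], [8], lw] := by decide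
  rw [hG]
  apply map_closure_eq
  · intro x hx
    simp only [Set.mem_insert_iff, Set.mem_singleton_iff] at hx
    rcases hx with rfl | rfl | rfl | rfl | rfl | rfl | rfl | rfl | rfl
    · exact ⟨[0], by decide, by simp [s, sF, PresentedGroup.of]⟩
    · exact ⟨[2], by decide, by simp [s, sF, PresentedGroup.of]⟩
    · exact ⟨[3], by decide, by simp [s, sF, PresentedGroup.of]⟩
    · exact ⟨[4], by decide, by simp [s, sF, PresentedGroup.of]⟩
    · exact ⟨[5], by decide, by simp [s, sF, PresentedGroup.of]⟩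
    · exact ⟨[6], by decide, by simp [s, sF, PresentedGroup.of]⟩
    · exact ⟨[7], by decide, by simp [s, sF, PresentedGroup.of]⟩
    · exact ⟨[8], by decide, by simp [s, sF, PresentedGroup.of]⟩
    · exact ⟨lw, by decide, e2⟩
  · intro w hw
    simp only [List.mem_cons, List.not_mem_nil, or_false] at hw
    rcases hw with rfl | rfl | rfl | rfl | rfl | rfl | rfl | rfl | rfl
    · exact ⟨Fi22.a, by simp, by simp [s, sF, PresentedGroup.of]⟩
    · exact ⟨Fi22.c, by simp, by simp [s, sF, PresentedGroup.of]⟩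
    · exact ⟨Fi22.d, by simp, by simp [s, sF, PresentedGroup.of]⟩
    · exact ⟨Fi22.e, by simp, by simp [s, sF, PresentedGroup.of]⟩
    · exact ⟨Fi22.f, by simp, by simp [s, sF, PresentedGroup.of]⟩
    · exact ⟨Fi22.g, by simp, by simp [s, sF, PresentedGroup.of]⟩
    · exact ⟨Fi22.h, by simp, by simp [s, sF, PresentedGroup.of]⟩
    · exact ⟨Fi22.i, by simp, by simp [s, sF, PresentedGroup.of]⟩
    · exact ⟨(Fi22.a * Fi22.b * Fi22.c * Fi22.d * Fi22.e * Fi22.h) ^ 5, by simp, e2⟩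

end Cfsg.Agent.H8.Fi22P
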