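import Cfsg.Agent.H8.T.Fi22Ox
import Cfsg.Agent.H8.T.Fi22OF
import Cfsg.Agent.H8.T.Fi22Ob
import Cfsg.Agent.H8.Fi22Pres

/-!
# Automorphisms of the group Fi22
-/

set_option Elab.async false
set_option autoImplicit false
set_option linter.all false
set_option maxRecDepth 100000
set_option maxHeartbeats 2000000

namespace Cfsg.Agent.H8.Fi22O

open Cfsg.Spor
open Cfsg.Agent.H8

noncomputable def s : Nat → Fi22 := OT.extI Cfsg.Agent.H8.Fi22P.s 9 bws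

theorem s_lt (l : Nat) (h : l < 9) : s l = Cfsg.Agent.H8.Fi22P.s l := OT.extI_lt _ _ _ l h

noncomputable def ρ : Fi22 →* Equiv.Perm (Fin 3510) := Cfsg.Agent.H8.Fi22P.ρ₂

theorem hρ : ∀ l < 77, ρ (s l) = permL tok l :=
  OT.extI_rho tok ρ bws Cfsg.Agent.H8.Fi22P.s 9 (by
    intro l hl
    have h0 : ρ (Cfsg.Agent.H8.Fi22P.s l) = permL Cfsg.Agent.H8.Fi22bt.tok l := Cfsg.Agent.H8.Fi22P.hρ₂ l hl
    rw [h0]
    ext j
    rw [permL_apply Cfsg.Agent.H8.Fi22bt.tok l hl, permL_apply tok l (lt_trans hl (by decide)), hii l hl,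
      hTT _ (Cfsg.Agent.H8.Fi22bt.tok.inv_lt l hl)]) (by decide) hwb

theorem inj : Function.Injective ρ := injective_of_simple Cfsg.Agent.H8.Fi22P.simple _ (Cfsg.Agent.H8.Fi22P.s 1) (by
    intro h
    have h1 := rho_word Cfsg.Agent.H8.Fi22P.s Cfsg.Agent.H8.Fi22bt.tok Cfsg.Agent.H8.Fi22P.ρ₂ Cfsg.Agent.H8.Fi22P.hρ₂ [1] (by decide) ⟨0, by decide⟩
    have h2 : Cfsg.Agent.H8.Fi22P.ρ₂ (([1] : List Nat).map Cfsg.Agent.H8.Fi22P.s).prod = 1 := by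
      rw [List.map_singleton, List.prod_singleton]; exact h
    rw [h2] at h1
    exact absurd h1 (by decide +kernel))

theorem cardG : Nat.card Fi22 = 64561751654400 := Cfsg.Agent.H8.Fi22P.card_fi22

theorem xchain : wordGroup s xG0 = ⊤ ∧ (∀ g ∈ wordGroup s xG0, xQ0 (act ρ ⟨176, by decide⟩ g : Fin 3510) ≠ 0) ∧ (∀ g ∈ wordGroup s xG0, act ρ ⟨176, by decide⟩ g = ⟨176, by decide⟩ → g ∈ wordGroup s xG1) ∧
    (∀ g ∈ wordGroup s xG1, xQ1 (act ρ ⟨401, by decide⟩ g : Fin 3510) ≠ 0) ∧ (∀ g ∈ wordGroup s xG1, act ρ ⟨401, by decide⟩ g = ⟨401, by decide⟩ → g ∈ wordGroup s xG2) ∧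
    (∀ g ∈ wordGroup s xG2, xQ2 (act ρ ⟨836, by decide⟩ g : Fin 3510) ≠ 0) ∧ (∀ g ∈ wordGroup s xG2, act ρ ⟨836, by decide⟩ g = ⟨836, by decide⟩ → g ∈ wordGroup s xG3) ∧
    (∀ g ∈ wordGroup s xG3, xQ3 (act ρ ⟨1615, by decide⟩ g : Fin 3510) ≠ 0) ∧ (∀ g ∈ wordGroup s xG3, act ρ ⟨1615, by decide⟩ g = ⟨1615, by decide⟩ → g ∈ wordGroup s xG4) ∧
    (∀ g ∈ wordGroup s xG4, xQ4 (act ρ ⟨3180, by decide⟩ g : Fin 3510) ≠ 0) ∧ (∀ g ∈ wordGroup s xG4, act ρ ⟨3180, by decide⟩ g = ⟨3180, by decide⟩ → g ∈ wordGroup s xG5) ∧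
    (∀ g ∈ wordGroup s xG5, xQ5 (act ρ ⟨3502, by decide⟩ g : Fin 3510) ≠ 0) ∧ (∀ g ∈ wordGroup s xG5, act ρ ⟨3502, by decide⟩ g = ⟨3502, by decide⟩ → g ∈ wordGroup s ([] : List (List Nat))) := by
  haveI : Finite Fi22 := Nat.finite_of_card_ne_zero (by rw [cardG]; decide)
  have k0 := card_step s tok ρ hρ xQ0 3510 xG0 xG1 (by decide) ⟨176, by decide⟩ xr0 xc0
    (by decide) (by decide +kernel) inferInstance
  have k1 := card_step s tok ρ hρ xQ1 2816 xG1 xG2 (by decide) ⟨401, by decide⟩ xr1 xc1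
    (by decide) (by decide +kernel) inferInstance
  have k2 := card_step s tok ρ hρ xQ2 1680 xG2 xG3 (by decide) ⟨836, by decide⟩ xr2 xc2
    (by decide) (by decide +kernel) inferInstance
  have k3 := card_step s tok ρ hρ xQ3 243 xG3 xG4 (by decide) ⟨1615, by decide⟩ xr3 xc3
    (by decide) (by decide +kernel) inferInstance
  have k4 := card_step s tok ρ hρ xQ4 16 xG4 xG5 (by decide) ⟨3180, by decide⟩ xr4 xc4
    (by decide) (by decide +kernel) inferInstance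
  have k5 := card_step s tok ρ hρ xQ5 1 xG5 ([] : List (List Nat)) (by decide) ⟨3502, by decide⟩ xr5 xc5
    (by decide) (by decide +kernel) inferInstance
  have k : Nat.card (wordGroup s xG0) ≤ 64561751654400 := by rw [← cardG]; exact Subgroup.card_le_card_group _
  have kl : 0 < Nat.card (wordGroup s ([] : List (List Nat))) := Nat.card_pos
  have e0 : Nat.card (wordGroup s xG0) = 64561751654400 := by omega
  have e1 : Nat.card (wordGroup s xG1) = 18393661440 := by omega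
  have e2 : Nat.card (wordGroup s xG2) = 6531840 := by omega
  have e3 : Nat.card (wordGroup s xG3) = 3888 := by omega
  have e4 : Nat.card (wordGroup s xG4) = 16 := by omega
  have e5 : Nat.card (wordGroup s xG5) = 1 := by omega
  have e6 : Nat.card (wordGroup s ([] : List (List Nat))) = 1 := by omega
  have x0 := exact_step s tok ρ xQ0 3510 xG0 xG1 (by decide) ⟨176, by decide⟩ xr0 xc0
    (by decide) (by decide +kernel) inferInstance hρ (by rw [e0, e1])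
  have x1 := exact_step s tok ρ xQ1 2816 xG1 xG2 (by decide) ⟨401, by decide⟩ xr1 xc1
    (by decide) (by decide +kernel) inferInstance hρ (by rw [e1, e2])
  have x2 := exact_step s tok ρ xQ2 1680 xG2 xG3 (by decide) ⟨836, by decide⟩ xr2 xc2
    (by decide) (by decide +kernel) inferInstance hρ (by rw [e2, e3])
  have x3 := exact_step s tok ρ xQ3 243 xG3 xG4 (by decide) ⟨1615, by decide⟩ xr3 xc3
    (by decide) (by decide +kernel) inferInstance hρ (by rw [e3, e4])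
  have x4 := exact_step s tok ρ xQ4 16 xG4 xG5 (by decide) ⟨3180, by decide⟩ xr4 xc4
    (by decide) (by decide +kernel) inferInstance hρ (by rw [e4, e5])
  have x5 := exact_step s tok ρ xQ5 1 xG5 ([] : List (List Nat)) (by decide) ⟨3502, by decide⟩ xr5 xc5
    (by decide) (by decide +kernel) inferInstance hρ (by rw [e5, e6])
  exact ⟨Subgroup.eq_top_of_card_eq _ (by rw [e0, cardG]), x0.1, x0.2, x1.1, x1.2, x2.1, x2.2, x3.1, x3.2, x4.1, x4.2, x5.1, x5.2⟩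

theorem xbot : wordGroup s ([] : List (List Nat)) = ⊥ := by
  unfold wordGroup
  rw [eq_bot_iff, Subgroup.closure_le]
  rintro g ⟨w, hw, _⟩
  simp at hw

theorem xp0 : act ρ ⟨176, by decide⟩ ((([9] : List Nat).map s).prod ^ 0) = (⟨176, by decide⟩ : Fin 3510) :=
  Fin.ext (by rw [OT.iter_fin s tok ρ [9] (by decide) hρ]; decide +kernel)
theorem xp1 : act ρ ⟨176, by decide⟩ ((([9] : List Nat).map s).prod ^ 1) = (⟨401, by decide⟩ : Fin 3510) :=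
  Fin.ext (by rw [OT.iter_fin s tok ρ [9] (by decide) hρ]; decide +kernel)
theorem xp2 : act ρ ⟨176, by decide⟩ ((([9] : List Nat).map s).prod ^ 2) = (⟨836, by decide⟩ : Fin 3510) :=
  Fin.ext (by rw [OT.iter_fin s tok ρ [9] (by decide) hρ]; decide +kernel)
theorem xp3 : act ρ ⟨176, by decide⟩ ((([9] : List Nat).map s).prod ^ 3) = (⟨1615, by decide⟩ : Fin 3510) :=
  Fin.ext (by rw [OT.iter_fin s tok ρ [9] (by decide) hρ]; decide +kernel)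
theorem xp4 : act ρ ⟨176, by decide⟩ ((([9] : List Nat).map s).prod ^ 4) = (⟨3180, by decide⟩ : Fin 3510) :=
  Fin.ext (by rw [OT.iter_fin s tok ρ [9] (by decide) hρ]; decide +kernel)
theorem xp5 : act ρ ⟨176, by decide⟩ ((([9] : List Nat).map s).prod ^ 5) = (⟨3502, by decide⟩ : Fin 3510) :=
  Fin.ext (by rw [OT.iter_fin s tok ρ [9] (by decide) hρ]; decide +kernel)

/-- an element fixing the base is trivial. -/
theorem xbase (g : Fi22) (h0 : act ρ ⟨176, by decide⟩ g = (⟨176, by decide⟩ : Fin 3510)) (h1 : act ρ ⟨401, by decide⟩ g = (⟨401, by decide⟩ : Fin 3510)) (h2 : act ρ ⟨836, by decide⟩ g = (⟨836, by decide⟩ : Fin 3510)) (h3 : act ρ ⟨1615, by decide⟩ g = (⟨1615, by decide⟩ : Fin 3510)) (h4 : act ρ ⟨3180, by decide⟩ g = (⟨3180, by decide⟩ : Fin 3510)) (h5 : act ρ ⟨3502, by decide⟩ g = (⟨3502, by decide⟩ : Fin 3510)) : g = 1 := by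
  have g0 : g ∈ wordGroup s xG0 := by rw [xchain.1]; exact Subgroup.mem_top g
  have g1 := xchain.2.2.1 g g0 h0
  have g2 := xchain.2.2.2.2.1 g g1 h1
  have g3 := xchain.2.2.2.2.2.2.1 g g2 h2
  have g4 := xchain.2.2.2.2.2.2.2.2.1 g g3 h3
  have g5 := xchain.2.2.2.2.2.2.2.2.2.2.1 g g4 h4
  have g6 := xchain.2.2.2.2.2.2.2.2.2.2.2.2 g g5 h5
  rw [xbot] at g6
  exact Subgroup.mem_bot.1 g6

theorem xrej : Rej ρ (⊤ : Subgroup Fi22) ((List.range 6).map fun i => act ρ ⟨176, by decide⟩ ((([9] : List Nat).map s).prod ^ i)) xK0 := by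
  have e : ((List.range 6).map fun i => act ρ (⟨176, by decide⟩ : Fin 3510) ((([9] : List Nat).map s).prod ^ i)) = [(⟨176, by decide⟩ : Fin 3510), (⟨401, by decide⟩ : Fin 3510), (⟨836, by decide⟩ : Fin 3510), (⟨1615, by decide⟩ : Fin 3510), (⟨3180, by decide⟩ : Fin 3510), (⟨3502, by decide⟩ : Fin 3510)] := by
    change [act ρ (⟨176, by decide⟩ : Fin 3510) ((([9] : List Nat).map s).prod ^ 0), act ρ (⟨176, by decide⟩ : Fin 3510) ((([9] : List Nat).map s).prod ^ 1), act ρ (⟨176, by decide⟩ : Fin 3510) ((([9] : List Nat).map s).prod ^ 2), act ρ (⟨176, by decide⟩ : Fin 3510) ((([9] : List Nat).map s).prod ^ 3), act ρ (⟨176, by decide⟩ : Fin 3510) ((([9] : List Nat).map s).prod ^ 4), act ρ (⟨176, by decide⟩ : Fin 3510) ((([9] : List Nat).map s).prod ^ 5)] = _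
    rw [xp0, xp1, xp2, xp3, xp4, xp5]
  rw [e, ← xchain.1]
  exact (Rej_step s tok ρ hρ (wordGroup s xG0) (wordGroup s xG1) ⟨176, by decide⟩ [(⟨401, by decide⟩ : Fin 3510), (⟨836, by decide⟩ : Fin 3510), (⟨1615, by decide⟩ : Fin 3510), (⟨3180, by decide⟩ : Fin 3510), (⟨3502, by decide⟩ : Fin 3510)] _ xQ0 xG0 11 (by decide)
    (fun w hw => mem_wordGroup s _ w hw) xchain.2.1 xchain.2.2.1 (Rej_step s tok ρ hρ (wordGroup s xG1) (wordGroup s xG2) ⟨401, by decide⟩ [(⟨836, by decide⟩ : Fin 3510), (⟨1615, by decide⟩ : Fin 3510), (⟨3180, by decide⟩ : Fin 3510), (⟨3502, by decide⟩ : Fin 3510)] _ xQ1 xG1 11 (by decide)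
    (fun w hw => mem_wordGroup s _ w hw) xchain.2.2.2.1 xchain.2.2.2.2.1 (Rej_step s tok ρ hρ (wordGroup s xG2) (wordGroup s xG3) ⟨836, by decide⟩ [(⟨1615, by decide⟩ : Fin 3510), (⟨3180, by decide⟩ : Fin 3510), (⟨3502, by decide⟩ : Fin 3510)] _ xQ2 xG2 11 (by decide)
    (fun w hw => mem_wordGroup s _ w hw) xchain.2.2.2.2.2.1 xchain.2.2.2.2.2.2.1 (Rej_step s tok ρ hρ (wordGroup s xG3) (wordGroup s xG4) ⟨1615, by decide⟩ [(⟨3180, by decide⟩ : Fin 3510), (⟨3502, by decide⟩ : Fin 3510)] _ xQ3 xG3 11 (by decide)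
    (fun w hw => mem_wordGroup s _ w hw) xchain.2.2.2.2.2.2.2.1 xchain.2.2.2.2.2.2.2.2.1 (Rej_step s tok ρ hρ (wordGroup s xG4) (wordGroup s xG5) ⟨3180, by decide⟩ [(⟨3502, by decide⟩ : Fin 3510)] _ xQ4 xG4 11 (by decide)
    (fun w hw => mem_wordGroup s _ w hw) xchain.2.2.2.2.2.2.2.2.2.1 xchain.2.2.2.2.2.2.2.2.2.2.1 (Rej_step s tok ρ hρ (wordGroup s xG5) (wordGroup s ([] : List (List Nat))) ⟨3502, by decide⟩ [] _ xQ5 xG5 11 (by decide)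
    (fun w hw => mem_wordGroup s _ w hw) xchain.2.2.2.2.2.2.2.2.2.2.2.1 xchain.2.2.2.2.2.2.2.2.2.2.2.2 (Rej_nil ρ _ _)))))))
theorem Fchain : wordGroup s FG0 = ⊤ ∧ (∀ g ∈ wordGroup s FG0, FQ0 (act ρ ⟨857, by decide⟩ g : Fin 3510) ≠ 0) ∧ (∀ g ∈ wordGroup s FG0, act ρ ⟨857, by decide⟩ g = ⟨857, by decide⟩ → g ∈ wordGroup s FG1) ∧
    (∀ g ∈ wordGroup s FG1, FQ1 (act ρ ⟨3196, by decide⟩ g : Fin 3510) ≠ 0) ∧ (∀ g ∈ wordGroup s FG1, act ρ ⟨3196, by decide⟩ g = ⟨3196, by decide⟩ → g ∈ wordGroup s FG2) ∧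
    (∀ g ∈ wordGroup s FG2, FQ2 (act ρ ⟨3402, by decide⟩ g : Fin 3510) ≠ 0) ∧ (∀ g ∈ wordGroup s FG2, act ρ ⟨3402, by decide⟩ g = ⟨3402, by decide⟩ → g ∈ wordGroup s FG3) ∧
    (∀ g ∈ wordGroup s FG3, FQ3 (act ρ ⟨1335, by decide⟩ g : Fin 3510) ≠ 0) ∧ (∀ g ∈ wordGroup s FG3, act ρ ⟨1335, by decide⟩ g = ⟨1335, by decide⟩ → g ∈ wordGroup s FG4) ∧
    (∀ g ∈ wordGroup s FG4, FQ4 (act ρ ⟨3509, by decide⟩ g : Fin 3510) ≠ 0) ∧ (∀ g ∈ wordGroup s FG4, act ρ ⟨3509, by decide⟩ g = ⟨3509, by decide⟩ → g ∈ wordGroup s ([] : List (List Nat))) := by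
  haveI : Finite Fi22 := Nat.finite_of_card_ne_zero (by rw [cardG]; decide)
  have k0 := card_step s tok ρ hρ FQ0 3510 FG0 FG1 (by decide) ⟨857, by decide⟩ Fr0 Fc0
    (by decide) (by decide +kernel) inferInstance
  have k1 := card_step s tok ρ hρ FQ1 2816 FG1 FG2 (by decide) ⟨3196, by decide⟩ Fr1 Fc1
    (by decide) (by decide +kernel) inferInstance
  have k2 := card_step s tok ρ hρ FQ2 1680 FG2 FG3 (by decide) ⟨3402, by decide⟩ Fr2 Fc2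
    (by decide) (by decide +kernel) inferInstance
  have k3 := card_step s tok ρ hρ FQ3 243 FG3 FG4 (by decide) ⟨1335, by decide⟩ Fr3 Fc3
    (by decide) (by decide +kernel) inferInstance
  have k4 := card_step s tok ρ hρ FQ4 16 FG4 ([] : List (List Nat)) (by decide) ⟨3509, by decide⟩ Fr4 Fc4
    (by decide) (by decide +kernel) inferInstance
  have k : Nat.card (wordGroup s FG0) ≤ 64561751654400 := by rw [← cardG]; exact Subgroup.card_le_card_group _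
  have kl : 0 < Nat.card (wordGroup s ([] : List (List Nat))) := Nat.card_pos
  have e0 : Nat.card (wordGroup s FG0) = 64561751654400 := by omega
  have e1 : Nat.card (wordGroup s FG1) = 18393661440 := by omega
  have e2 : Nat.card (wordGroup s FG2) = 6531840 := by omega
  have e3 : Nat.card (wordGroup s FG3) = 3888 := by omega
  have e4 : Nat.card (wordGroup s FG4) = 16 := by omega
  have e5 : Nat.card (wordGroup s ([] : List (List Nat))) = 1 := by omega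
  have x0 := exact_step s tok ρ FQ0 3510 FG0 FG1 (by decide) ⟨857, by decide⟩ Fr0 Fc0
    (by decide) (by decide +kernel) inferInstance hρ (by rw [e0, e1])
  have x1 := exact_step s tok ρ FQ1 2816 FG1 FG2 (by decide) ⟨3196, by decide⟩ Fr1 Fc1
    (by decide) (by decide +kernel) inferInstance hρ (by rw [e1, e2])
  have x2 := exact_step s tok ρ FQ2 1680 FG2 FG3 (by decide) ⟨3402, by decide⟩ Fr2 Fc2
    (by decide) (by decide +kernel) inferInstance hρ (by rw [e2, e3])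
  have x3 := exact_step s tok ρ FQ3 243 FG3 FG4 (by decide) ⟨1335, by decide⟩ Fr3 Fc3
    (by decide) (by decide +kernel) inferInstance hρ (by rw [e3, e4])
  have x4 := exact_step s tok ρ FQ4 16 FG4 ([] : List (List Nat)) (by decide) ⟨3509, by decide⟩ Fr4 Fc4
    (by decide) (by decide +kernel) inferInstance hρ (by rw [e4, e5])
  exact ⟨Subgroup.eq_top_of_card_eq _ (by rw [e0, cardG]), x0.1, x0.2, x1.1, x1.2, x2.1, x2.2, x3.1, x3.2, x4.1, x4.2⟩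

theorem Fbot : wordGroup s ([] : List (List Nat)) = ⊥ := by
  unfold wordGroup
  rw [eq_bot_iff, Subgroup.closure_le]
  rintro g ⟨w, hw, _⟩
  simp at hw

theorem Fp0 : act ρ ⟨857, by decide⟩ ((([35] : List Nat).map s).prod ^ 0) = (⟨857, by decide⟩ : Fin 3510) :=
  Fin.ext (by rw [OT.iter_fin s tok ρ [35] (by decide) hρ]; decide +kernel)
theorem Fp1 : act ρ ⟨857, by decide⟩ ((([35] : List Nat).map s).prod ^ 1) = (⟨3196, by decide⟩ : Fin 3510) :=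
  Fin.ext (by rw [OT.iter_fin s tok ρ [35] (by decide) hρ]; decide +kernel)
theorem Fp2 : act ρ ⟨857, by decide⟩ ((([35] : List Nat).map s).prod ^ 2) = (⟨3402, by decide⟩ : Fin 3510) :=
  Fin.ext (by rw [OT.iter_fin s tok ρ [35] (by decide) hρ]; decide +kernel)
theorem Fp3 : act ρ ⟨857, by decide⟩ ((([35] : List Nat).map s).prod ^ 3) = (⟨1335, by decide⟩ : Fin 3510) :=
  Fin.ext (by rw [OT.iter_fin s tok ρ [35] (by decide) hρ]; decide +kernel)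
theorem Fp4 : act ρ ⟨857, by decide⟩ ((([35] : List Nat).map s).prod ^ 4) = (⟨3509, by decide⟩ : Fin 3510) :=
  Fin.ext (by rw [OT.iter_fin s tok ρ [35] (by decide) hρ]; decide +kernel)

/-- an element fixing the base is trivial. -/
theorem Fbase (g : Fi22) (h0 : act ρ ⟨857, by decide⟩ g = (⟨857, by decide⟩ : Fin 3510)) (h1 : act ρ ⟨3196, by decide⟩ g = (⟨3196, by decide⟩ : Fin 3510)) (h2 : act ρ ⟨3402, by decide⟩ g = (⟨3402, by decide⟩ : Fin 3510)) (h3 : act ρ ⟨1335, by decide⟩ g = (⟨1335, by decide⟩ : Fin 3510)) (h4 : act ρ ⟨3509, by decide⟩ g = (⟨3509, by decide⟩ : Fin 3510)) : g = 1 := by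
  have g0 : g ∈ wordGroup s FG0 := by rw [Fchain.1]; exact Subgroup.mem_top g
  have g1 := Fchain.2.2.1 g g0 h0
  have g2 := Fchain.2.2.2.2.1 g g1 h1
  have g3 := Fchain.2.2.2.2.2.2.1 g g2 h2
  have g4 := Fchain.2.2.2.2.2.2.2.2.1 g g3 h3
  have g5 := Fchain.2.2.2.2.2.2.2.2.2.2 g g4 h4
  rw [Fbot] at g5
  exact Subgroup.mem_bot.1 g5

theorem Frej : Rej ρ (⊤ : Subgroup Fi22) ((List.range 5).map fun i => act ρ ⟨857, by decide⟩ ((([35] : List Nat).map s).prod ^ i)) FK0 := by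
  have e : ((List.range 5).map fun i => act ρ (⟨857, by decide⟩ : Fin 3510) ((([35] : List Nat).map s).prod ^ i)) = [(⟨857, by decide⟩ : Fin 3510), (⟨3196, by decide⟩ : Fin 3510), (⟨3402, by decide⟩ : Fin 3510), (⟨1335, by decide⟩ : Fin 3510), (⟨3509, by decide⟩ : Fin 3510)] := by
    change [act ρ (⟨857, by decide⟩ : Fin 3510) ((([35] : List Nat).map s).prod ^ 0), act ρ (⟨857, by decide⟩ : Fin 3510) ((([35] : List Nat).map s).prod ^ 1), act ρ (⟨857, by decide⟩ : Fin 3510) ((([35] : List Nat).map s).prod ^ 2), act ρ (⟨857, by decide⟩ : Fin 3510) ((([35] : List Nat).map s).prod ^ 3), act ρ (⟨857, by decide⟩ : Fin 3510) ((([35] : List Nat).map s).prod ^ 4)] = _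
    rw [Fp0, Fp1, Fp2, Fp3, Fp4]
  rw [e, ← Fchain.1]
  exact (Rej_step s tok ρ hρ (wordGroup s FG0) (wordGroup s FG1) ⟨857, by decide⟩ [(⟨3196, by decide⟩ : Fin 3510), (⟨3402, by decide⟩ : Fin 3510), (⟨1335, by decide⟩ : Fin 3510), (⟨3509, by decide⟩ : Fin 3510)] _ FQ0 FG0 11 (by decide)
    (fun w hw => mem_wordGroup s _ w hw) Fchain.2.1 Fchain.2.2.1 (Rej_step s tok ρ hρ (wordGroup s FG1) (wordGroup s FG2) ⟨3196, by decide⟩ [(⟨3402, by decide⟩ : Fin 3510), (⟨1335, by decide⟩ : Fin 3510), (⟨3509, by decide⟩ : Fin 3510)] _ FQ1 FG1 11 (by decide)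
    (fun w hw => mem_wordGroup s _ w hw) Fchain.2.2.2.1 Fchain.2.2.2.2.1 (Rej_step s tok ρ hρ (wordGroup s FG2) (wordGroup s FG3) ⟨3402, by decide⟩ [(⟨1335, by decide⟩ : Fin 3510), (⟨3509, by decide⟩ : Fin 3510)] _ FQ2 FG2 11 (by decide)
    (fun w hw => mem_wordGroup s _ w hw) Fchain.2.2.2.2.2.1 Fchain.2.2.2.2.2.2.1 (Rej_step s tok ρ hρ (wordGroup s FG3) (wordGroup s FG4) ⟨1335, by decide⟩ [(⟨3509, by decide⟩ : Fin 3510)] _ FQ3 FG3 11 (by decide)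
    (fun w hw => mem_wordGroup s _ w hw) Fchain.2.2.2.2.2.2.2.1 Fchain.2.2.2.2.2.2.2.2.1 (Rej_step s tok ρ hρ (wordGroup s FG4) (wordGroup s ([] : List (List Nat))) ⟨3509, by decide⟩ [] _ FQ4 FG4 11 (by decide)
    (fun w hw => mem_wordGroup s _ w hw) Fchain.2.2.2.2.2.2.2.2.2.1 Fchain.2.2.2.2.2.2.2.2.2.2 (Rej_nil ρ _ _))))))

/-- word identities are checked on the base. -/
theorem weq (u v : List Nat) (hu : ∀ l ∈ u, l < 77) (hv : ∀ l ∈ v, l < 77)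
    (h : ∀ i ∈ ([857, 3196, 3402, 1335, 3509] : List Nat), trN T' u i = trN T' v i) : (u.map s).prod = (v.map s).prod := by
  have key : ∀ b : Fin 3510, (b : Nat) ∈ ([857, 3196, 3402, 1335, 3509] : List Nat) → act ρ b ((u.map s).prod * ((v.map s).prod)⁻¹) = b := by
    intro b hb
    have h1 : act ρ b (u.map s).prod = act ρ b (v.map s).prod := by
      apply Fin.ext
      rw [act_word s tok ρ hρ b u hu, act_word s tok ρ hρ b v hv]
      exact h b hb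
    rw [act_mul, h1, ← act_mul, mul_inv_cancel, act_one]
  exact mul_inv_eq_one.1 (Fbase _ (key ⟨857, by decide⟩ (by decide)) (key ⟨3196, by decide⟩ (by decide)) (key ⟨3402, by decide⟩ (by decide)) (key ⟨1335, by decide⟩ (by decide)) (key ⟨3509, by decide⟩ (by decide)))

theorem weq1 (u : List Nat) (hu : ∀ l ∈ u, l < 77)
    (h : ∀ i ∈ ([857, 3196, 3402, 1335, 3509] : List Nat), trN T' u i = i) : (u.map s).prod = 1 :=
  weq u [] hu (by simp) h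

def xw : List Nat := [9]
def fw : List Nat := [31]
def Fw : List Nat := [35]
def yw : List Nat := [33]
noncomputable def x : Fi22 := (xw.map s).prod
noncomputable def f : Fi22 := (fw.map s).prod
noncomputable def F : Fi22 := (Fw.map s).prod
noncomputable def y : Fi22 := (yw.map s).prod

theorem x_pow : x ^ 13 = 1 := by
  unfold x
  rw [← wpow_prod]
  exact weq1 _ (by decide) (by decide +kernel)

theorem x_ne : x ≠ 1 := by
  intro h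
  have h1 := act_word s tok ρ hρ ⟨176, by decide⟩ xw (by decide)
  have h2 : act ρ ⟨176, by decide⟩ (xw.map s).prod = (⟨176, by decide⟩ : Fin 3510) := by
    change act ρ ⟨176, by decide⟩ x = _
    rw [h, act_one]
  rw [h2] at h1
  exact absurd h1 (by decide +kernel)

instance prime_p : Fact (Nat.Prime 13) := ⟨by norm_num⟩

theorem x_order : orderOf x = 13 := orderOf_eq_prime x_pow x_ne

theorem xf : x * f = f * x ^ 4 := by
  have h := weq (xw ++ fw) (fw ++ wpow xw 4) (by decide) (by decide) (by decide +kernel)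
  rw [List.map_append, List.prod_append, List.map_append, List.prod_append, wpow_prod] at h
  exact h

theorem F_eq : F = f ^ 1 := by
  unfold F f
  rw [← wpow_prod]
  exact weq _ _ (by decide) (by decide) (by decide +kernel)

theorem F_pow : F ^ 6 = 1 := by
  unfold F
  rw [← wpow_prod]
  exact weq1 _ (by decide) (by decide +kernel)

theorem Fy : F * y = y * F := by
  have h := weq (Fw ++ yw) (yw ++ Fw) (by decide) (by decide) (by decide +kernel)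
  rw [List.map_append, List.prod_append, List.map_append, List.prod_append] at h
  exact h

theorem Cx (g : Fi22) (h : x * g = g * x) : g ∈ Subgroup.zpowers x := by
  have hb : ∀ g : Fi22, (∀ i < 6, act ρ (act ρ ⟨176, by decide⟩ (x ^ i)) g = act ρ ⟨176, by decide⟩ (x ^ i)) → g = 1 := by
    intro g hg
    refine xbase g ?_ ?_ ?_ ?_ ?_ ?_
    · have := hg 0 (by decide)
      change act ρ (act ρ ⟨176, by decide⟩ ((([9] : List Nat).map s).prod ^ 0)) g = act ρ ⟨176, by decide⟩ ((([9] : List Nat).map s).prod ^ 0) at this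
      rw [xp0] at this
      exact this
    · have := hg 1 (by decide)
      change act ρ (act ρ ⟨176, by decide⟩ ((([9] : List Nat).map s).prod ^ 1)) g = act ρ ⟨176, by decide⟩ ((([9] : List Nat).map s).prod ^ 1) at this
      rw [xp1] at this
      exact this
    · have := hg 2 (by decide)
      change act ρ (act ρ ⟨176, by decide⟩ ((([9] : List Nat).map s).prod ^ 2)) g = act ρ ⟨176, by decide⟩ ((([9] : List Nat).map s).prod ^ 2) at this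
      rw [xp2] at this
      exact this
    · have := hg 3 (by decide)
      change act ρ (act ρ ⟨176, by decide⟩ ((([9] : List Nat).map s).prod ^ 3)) g = act ρ ⟨176, by decide⟩ ((([9] : List Nat).map s).prod ^ 3) at this
      rw [xp3] at this
      exact this
    · have := hg 4 (by decide)
      change act ρ (act ρ ⟨176, by decide⟩ ((([9] : List Nat).map s).prod ^ 4)) g = act ρ ⟨176, by decide⟩ ((([9] : List Nat).map s).prod ^ 4) at this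
      rw [xp4] at this
      exact this
    · have := hg 5 (by decide)
      change act ρ (act ρ ⟨176, by decide⟩ ((([9] : List Nat).map s).prod ^ 5)) g = act ρ ⟨176, by decide⟩ ((([9] : List Nat).map s).prod ^ 5) at this
      rw [xp5] at this
      exact this
  have hen : ∀ g : Fi22, x * g = g * x → ∃ a : Nat, ((act ρ ⟨176, by decide⟩ (g * x ^ a) : Fin 3510) : Nat) ∈ ([176, 401, 836, 1615] : List Nat) := by
    intro g hg
    exact conj_enum s tok ρ hρ xw xw (by decide) (by decide) ⟨176, by decide⟩ 6 6 xK0 xrej ([176, 401, 836, 1615] : List Nat) rfl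
      (fun q hq => OT.ckCand_sound _ _ _ _ q (allR_zero _ _ xS q hq)) g hg
  obtain ⟨w, hw, a, _, rfl⟩ := OT.cent_list ρ x 13 (by decide) x_pow ⟨176, by decide⟩ 6 hb ([176, 401, 836, 1615] : List Nat) hen
    ((List.range 13).map fun i => x ^ i) (by
    intro q hq
    have key : ∀ q ∈ ([176, 401, 836, 1615] : List Nat), ∃ i < 13, (trN T' xw)^[i] 176 = q := by decide +kernel
    obtain ⟨i, hi, h⟩ := key q hq
    refine ⟨x ^ i, List.mem_map.2 ⟨i, List.mem_range.2 hi, rfl⟩, by rw [← pow_succ', pow_succ], ?_⟩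
    unfold x
    rw [OT.iter_fin s tok ρ xw (by decide) hρ]
    exact h) g h
  obtain ⟨i, _, rfl⟩ := List.mem_map.1 hw
  exact mul_mem (Subgroup.pow_mem _ (Subgroup.mem_zpowers x) i) (Subgroup.pow_mem _ (Subgroup.mem_zpowers x) a)

/-- centraliser representatives. -/
def svW : List (Nat × List Nat) := [(159, [51, 53, 46, 49, 45, 45, 42, 42, 43, 42, 44, 44, 44, 37, 40, 37, 40, 40, 40, 37, 9, 33, 10, 34, 9, 31, 33]), (162, [51, 45, 49, 46, 46, 43, 43, 42, 42, 43, 43, 39, 39, 39, 38, 40, 40, 38, 10, 34, 10]), (164, [53, 55, 45, 45, 48, 50, 43, 42, 44, 42, 44, 42, 37, 40, 40, 40, 40, 10, 10, 34, 10]), (182, [51, 56, 45, 50, 42, 42, 43, 41, 43, 37, 37, 39, 38, 38, 9, 31, 31, 34]), (228, [51, 45, 49, 46, 46, 43, 43, 42, 42, 43, 43, 39, 39, 39, 38, 40, 40, 38, 10, 34, 10, 32, 33]), (279, [51, 53, 46, 49, 45, 45, 42, 42, 43, 42, 44, 44, 44, 37, 40, 37, 40, 40, 40, 37, 9,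 33, 10, 33, 33, 10, 31]), (286, [31, 34, 34]), (289, [51, 53, 55, 50, 46, 41, 41, 41, 43, 42, 43, 37, 40, 38, 39, 38, 39, 10, 31, 33, 33, 9, 9, 34]), (325, [51, 53, 55, 46, 46, 49, 43, 43, 42, 43, 41, 41, 37, 40, 37, 39, 39, 38, 40, 9, 32, 9, 34]), (333, [54, 49, 45, 50, 48, 41, 43, 41, 44, 42, 43, 43, 38, 40, 38, 40, 38, 38, 38, 39, 9, 33, 9, 33, 9, 31]), (400, [51, 56, 45, 45, 45, 48, 41, 43, 41, 44, 41, 37, 39, 39, 38, 38, 39, 37, 9, 34, 10, 10, 32, 33]), (449, [51, 53, 53, 46, 48, 48, 41, 44, 44, 41, 41, 43, 39, 39, 38, 38, 38, 39, 9, 9, 31, 34, 10, 32, 34]), (450, [31, 33, 33]), (568, [56, 47, 47, 47, 42, 42, 42, 44, 44, 44, 42, 43, 37, 40, 38, 39, 39, 38, 39, 37, 32, 9, 34, 10, 34, 9, 34]), (575, [51, 56, 45, 50, 42, 42, 43, 41, 43, 37, 37, 39, 38, 38, 9, 32, 32]), (592, [51, 53, 55, 50, 46, 41, 41, 41, 43, 42, 43, 37, 40, 38, 39, 38, 39, 10, 31, 34, 10, 10]),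 (635, [51, 54, 47, 47, 46, 43, 41, 44, 42, 43, 38, 40, 38, 38, 40, 37, 40, 37, 32, 34, 9, 34, 9]), (655, [51, 55, 48, 46, 49, 47, 41, 43, 43, 43, 43, 41, 38, 39, 39, 38, 38, 39, 10, 10, 33, 10, 34, 9, 9]), (717, [51, 49, 45, 48, 49, 44, 44, 41, 43, 41, 38, 40, 40, 38, 38, 33, 10, 33, 10, 33, 10]), (801, [54, 46, 49, 44, 42, 42, 43, 42, 39, 39, 37, 37, 40, 38, 40, 10, 34, 9, 9, 33, 9]), (818, [53, 45, 47, 42, 44, 44, 44, 41, 44, 41, 39, 39, 38, 40, 38, 38, 40, 33, 10, 33, 9]), (831, [53, 45, 47, 42, 44, 44, 44, 41, 44, 41, 39, 39, 38, 40, 38, 38, 40, 33, 10, 33, 9, 31, 34]), (857, []), (876, [51, 53, 45, 48, 46, 49, 41, 43, 41, 44, 42, 44, 41, 39, 38, 39, 37, 9, 32, 34, 9, 33, 10, 31, 9]), (1060, [51, 56, 45, 45, 45, 48, 41, 43, 41, 44, 41, 37, 39, 39, 38, 38, 39, 37, 9, 34, 10, 10]), (1146, [51, 53, 55, 46, 46, 49, 43, 43, 42, 43, 41, 41, 37, 40, 37, 39, 39, 38,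 40, 9, 9, 31, 10]), (1185, [51, 53, 55, 47, 41, 43, 43, 42, 37, 39, 38, 38, 39, 38, 34, 9, 9, 33, 9, 9, 34]), (1226, [53, 56, 49, 45, 48, 42, 44, 42, 44, 42, 42, 43, 38, 39, 37, 37, 37, 39, 38, 32, 33, 10, 34, 10, 10]), (1361, [51, 53, 53, 49, 49, 46, 43, 41, 44, 44, 41, 43, 43, 37, 39, 37, 37, 40, 40, 40, 40, 37, 9, 33, 9, 34, 10, 10, 32]), (1473, [56, 47, 47, 47, 42, 42, 42, 44, 44, 44, 42, 43, 37, 40, 38, 39, 39, 38, 39, 37, 32, 9, 34, 10, 34, 9, 31]), (1550, [51, 53, 48, 48, 50, 42, 43, 43, 42, 42, 44, 44, 38, 38, 40, 37, 40, 37, 40, 40, 31, 9, 33, 9, 9, 33, 9]), (1620, [51, 53, 53, 46, 48, 48, 41, 44, 44, 41, 41, 43, 39, 39, 38, 38, 38, 39, 9, 9, 31, 33, 33, 9]), (1871, [53, 56, 45, 47, 46, 47, 41, 41, 41, 41, 43, 42, 43, 37, 37, 37, 40, 38, 40, 40, 9, 34, 10, 32, 33, 10, 33]), (1933, [51, 56, 45, 50, 42, 42, 43, 41, 43, 37, 37, 39, 38, 38, 9, 34, 34]), (2069,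 [51, 53, 55, 46, 46, 49, 43, 43, 42, 43, 41, 41, 37, 40, 37, 39, 39, 38, 40, 9, 32, 9, 31, 33]), (2473, [51, 56, 45, 49, 49, 47, 41, 43, 43, 43, 43, 41, 43, 39, 37, 37, 37, 37, 40, 10, 10, 34, 9, 34, 9])]
def cands : List (List Nat) := [[51, 53, 46, 49, 45, 45, 42, 42, 43, 42, 44, 44, 44, 37, 40, 37, 40, 40, 40, 37, 9, 33, 10, 34, 9, 31, 33], [51, 53, 46, 49, 45, 45, 42, 42, 43, 42, 44, 44, 44, 37, 40, 37, 40, 40, 40, 37, 9, 33, 10, 34, 9, 31, 33, 35], [51, 53, 46, 49, 45, 45, 42, 42, 43, 42, 44, 44, 44, 37, 40, 37, 40, 40, 40, 37, 9, 33, 10, 34, 9, 31, 33, 35, 35], [51, 53, 46, 49, 45, 45, 42, 42, 43, 42, 44, 44, 44, 37, 40, 37, 40, 40, 40, 37, 9, 33, 10, 34, 9, 31, 33, 35, 35, 35], [51, 53, 46, 49, 45, 45, 42, 42, 43, 42, 44, 44, 44, 37, 40, 37, 40, 40, 40, 37, 9, 33, 10, 34, 9, 31, 33, 35, 35, 35, 35], [51, 53, 46, 49, 45, 45, 42, 42, 43, 42, 44, 44, 44, 37,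 40, 37, 40, 40, 40, 37, 9, 33, 10, 34, 9, 31, 33, 35, 35, 35, 35, 35], [51, 45, 49, 46, 46, 43, 43, 42, 42, 43, 43, 39, 39, 39, 38, 40, 40, 38, 10, 34, 10], [51, 45, 49, 46, 46, 43, 43, 42, 42, 43, 43, 39, 39, 39, 38, 40, 40, 38, 10, 34, 10, 35], [51, 45, 49, 46, 46, 43, 43, 42, 42, 43, 43, 39, 39, 39, 38, 40, 40, 38, 10, 34, 10, 35, 35], [51, 45, 49, 46, 46, 43, 43, 42, 42, 43, 43, 39, 39, 39, 38, 40, 40, 38, 10, 34, 10, 35, 35, 35], [51, 45, 49, 46, 46, 43, 43, 42, 42, 43, 43, 39, 39, 39, 38, 40, 40, 38, 10, 34, 10, 35, 35, 35, 35], [51, 45, 49, 46, 46, 43, 43, 42, 42, 43, 43, 39, 39, 39, 38, 40, 40, 38, 10, 34, 10, 35, 35, 35, 35, 35], [53, 55, 45, 45, 48, 50, 43, 42, 44, 42, 44, 42, 37, 40, 40, 40, 40, 10, 10, 34, 10], [53, 55, 45, 45, 48, 50, 43, 42, 44, 42, 44, 42, 37, 40, 40, 40, 40, 10, 10, 34, 10, 35], [53, 55, 45, 45, 48, 50, 43, 42, 44, 42, 44, 42, 37,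 40, 40, 40, 40, 10, 10, 34, 10, 35, 35], [53, 55, 45, 45, 48, 50, 43, 42, 44, 42, 44, 42, 37, 40, 40, 40, 40, 10, 10, 34, 10, 35, 35, 35], [53, 55, 45, 45, 48, 50, 43, 42, 44, 42, 44, 42, 37, 40, 40, 40, 40, 10, 10, 34, 10, 35, 35, 35, 35], [53, 55, 45, 45, 48, 50, 43, 42, 44, 42, 44, 42, 37, 40, 40, 40, 40, 10, 10, 34, 10, 35, 35, 35, 35, 35], [51, 56, 45, 50, 42, 42, 43, 41, 43, 37, 37, 39, 38, 38, 9, 31, 31, 34], [51, 56, 45, 50, 42, 42, 43, 41, 43, 37, 37, 39, 38, 38, 9, 31, 31, 34, 35], [51, 56, 45, 50, 42, 42, 43, 41, 43, 37, 37, 39, 38, 38, 9, 31, 31, 34, 35, 35], [51, 56, 45, 50, 42, 42, 43, 41, 43, 37, 37, 39, 38, 38, 9, 31, 31, 34, 35, 35, 35], [51, 56, 45, 50, 42, 42, 43, 41, 43, 37, 37, 39, 38, 38, 9, 31, 31, 34, 35, 35, 35, 35], [51, 56, 45, 50, 42, 42, 43, 41, 43, 37, 37, 39, 38, 38, 9, 31, 31, 34, 35, 35, 35, 35, 35], [51, 45, 49, 46, 46, 43, 43,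 42, 42, 43, 43, 39, 39, 39, 38, 40, 40, 38, 10, 34, 10, 32, 33], [51, 45, 49, 46, 46, 43, 43, 42, 42, 43, 43, 39, 39, 39, 38, 40, 40, 38, 10, 34, 10, 32, 33, 35], [51, 45, 49, 46, 46, 43, 43, 42, 42, 43, 43, 39, 39, 39, 38, 40, 40, 38, 10, 34, 10, 32, 33, 35, 35], [51, 45, 49, 46, 46, 43, 43, 42, 42, 43, 43, 39, 39, 39, 38, 40, 40, 38, 10, 34, 10, 32, 33, 35, 35, 35], [51, 45, 49, 46, 46, 43, 43, 42, 42, 43, 43, 39, 39, 39, 38, 40, 40, 38, 10, 34, 10, 32, 33, 35, 35, 35, 35], [51, 45, 49, 46, 46, 43, 43, 42, 42, 43, 43, 39, 39, 39, 38, 40, 40, 38, 10, 34, 10, 32, 33, 35, 35, 35, 35, 35], [51, 53, 46, 49, 45, 45, 42, 42, 43, 42, 44, 44, 44, 37, 40, 37, 40, 40, 40, 37, 9, 33, 10, 33, 33, 10, 31], [51, 53, 46, 49, 45, 45, 42, 42, 43, 42, 44, 44, 44, 37, 40, 37, 40, 40, 40, 37, 9, 33, 10, 33, 33, 10, 31, 35], [51, 53, 46, 49, 45, 45, 42, 42, 43, 42, 44, 44, 44, 37,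 40, 37, 40, 40, 40, 37, 9, 33, 10, 33, 33, 10, 31, 35, 35], [51, 53, 46, 49, 45, 45, 42, 42, 43, 42, 44, 44, 44, 37, 40, 37, 40, 40, 40, 37, 9, 33, 10, 33, 33, 10, 31, 35, 35, 35], [51, 53, 46, 49, 45, 45, 42, 42, 43, 42, 44, 44, 44, 37, 40, 37, 40, 40, 40, 37, 9, 33, 10, 33, 33, 10, 31, 35, 35, 35, 35], [51, 53, 46, 49, 45, 45, 42, 42, 43, 42, 44, 44, 44, 37, 40, 37, 40, 40, 40, 37, 9, 33, 10, 33, 33, 10, 31, 35, 35, 35, 35, 35], [31, 34, 34], [31, 34, 34, 35], [31, 34, 34, 35, 35], [31, 34, 34, 35, 35, 35], [31, 34, 34, 35, 35, 35, 35], [31, 34, 34, 35, 35, 35, 35, 35], [51, 53, 55, 50, 46, 41, 41, 41, 43, 42, 43, 37, 40, 38, 39, 38, 39, 10, 31, 33, 33, 9, 9, 34], [51, 53, 55, 50, 46, 41, 41, 41, 43, 42, 43, 37, 40, 38, 39, 38, 39, 10, 31, 33, 33, 9, 9, 34, 35], [51, 53, 55, 50, 46, 41, 41, 41, 43, 42, 43, 37, 40, 38, 39, 38, 39, 10, 31, 33, 33, 9, 9, 34, 35,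 35], [51, 53, 55, 50, 46, 41, 41, 41, 43, 42, 43, 37, 40, 38, 39, 38, 39, 10, 31, 33, 33, 9, 9, 34, 35, 35, 35], [51, 53, 55, 50, 46, 41, 41, 41, 43, 42, 43, 37, 40, 38, 39, 38, 39, 10, 31, 33, 33, 9, 9, 34, 35, 35, 35, 35], [51, 53, 55, 50, 46, 41, 41, 41, 43, 42, 43, 37, 40, 38, 39, 38, 39, 10, 31, 33, 33, 9, 9, 34, 35, 35, 35, 35, 35], [51, 53, 55, 46, 46, 49, 43, 43, 42, 43, 41, 41, 37, 40, 37, 39, 39, 38, 40, 9, 32, 9, 34], [51, 53, 55, 46, 46, 49, 43, 43, 42, 43, 41, 41, 37, 40, 37, 39, 39, 38, 40, 9, 32, 9, 34, 35], [51, 53, 55, 46, 46, 49, 43, 43, 42, 43, 41, 41, 37, 40, 37, 39, 39, 38, 40, 9, 32, 9, 34, 35, 35], [51, 53, 55, 46, 46, 49, 43, 43, 42, 43, 41, 41, 37, 40, 37, 39, 39, 38, 40, 9, 32, 9, 34, 35, 35, 35], [51, 53, 55, 46, 46, 49, 43, 43, 42, 43, 41, 41, 37, 40, 37, 39, 39, 38, 40, 9, 32, 9, 34, 35, 35, 35, 35], [51, 53, 55, 46, 46, 49, 43, 43,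 42, 43, 41, 41, 37, 40, 37, 39, 39, 38, 40, 9, 32, 9, 34, 35, 35, 35, 35, 35], [54, 49, 45, 50, 48, 41, 43, 41, 44, 42, 43, 43, 38, 40, 38, 40, 38, 38, 38, 39, 9, 33, 9, 33, 9, 31], [54, 49, 45, 50, 48, 41, 43, 41, 44, 42, 43, 43, 38, 40, 38, 40, 38, 38, 38, 39, 9, 33, 9, 33, 9, 31, 35], [54, 49, 45, 50, 48, 41, 43, 41, 44, 42, 43, 43, 38, 40, 38, 40, 38, 38, 38, 39, 9, 33, 9, 33, 9, 31, 35, 35], [54, 49, 45, 50, 48, 41, 43, 41, 44, 42, 43, 43, 38, 40, 38, 40, 38, 38, 38, 39, 9, 33, 9, 33, 9, 31, 35, 35, 35], [54, 49, 45, 50, 48, 41, 43, 41, 44, 42, 43, 43, 38, 40, 38, 40, 38, 38, 38, 39, 9, 33, 9, 33, 9, 31, 35, 35, 35, 35], [54, 49, 45, 50, 48, 41, 43, 41, 44, 42, 43, 43, 38, 40, 38, 40, 38, 38, 38, 39, 9, 33, 9, 33, 9, 31, 35, 35, 35, 35, 35], [51, 56, 45, 45, 45, 48, 41, 43, 41, 44, 41, 37, 39, 39, 38, 38, 39, 37, 9, 34, 10, 10, 32, 33], [51, 56, 45, 45, 45,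 48, 41, 43, 41, 44, 41, 37, 39, 39, 38, 38, 39, 37, 9, 34, 10, 10, 32, 33, 35], [51, 56, 45, 45, 45, 48, 41, 43, 41, 44, 41, 37, 39, 39, 38, 38, 39, 37, 9, 34, 10, 10, 32, 33, 35, 35], [51, 56, 45, 45, 45, 48, 41, 43, 41, 44, 41, 37, 39, 39, 38, 38, 39, 37, 9, 34, 10, 10, 32, 33, 35, 35, 35], [51, 56, 45, 45, 45, 48, 41, 43, 41, 44, 41, 37, 39, 39, 38, 38, 39, 37, 9, 34, 10, 10, 32, 33, 35, 35, 35, 35], [51, 56, 45, 45, 45, 48, 41, 43, 41, 44, 41, 37, 39, 39, 38, 38, 39, 37, 9, 34, 10, 10, 32, 33, 35, 35, 35, 35, 35], [51, 53, 53, 46, 48, 48, 41, 44, 44, 41, 41, 43, 39, 39, 38, 38, 38, 39, 9, 9, 31, 34, 10, 32, 34], [51, 53, 53, 46, 48, 48, 41, 44, 44, 41, 41, 43, 39, 39, 38, 38, 38, 39, 9, 9, 31, 34, 10, 32, 34, 35], [51, 53, 53, 46, 48, 48, 41, 44, 44, 41, 41, 43, 39, 39, 38, 38, 38, 39, 9, 9, 31, 34, 10, 32, 34, 35, 35], [51, 53, 53, 46, 48, 48, 41, 44, 44, 41,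 41, 43, 39, 39, 38, 38, 38, 39, 9, 9, 31, 34, 10, 32, 34, 35, 35, 35], [51, 53, 53, 46, 48, 48, 41, 44, 44, 41, 41, 43, 39, 39, 38, 38, 38, 39, 9, 9, 31, 34, 10, 32, 34, 35, 35, 35, 35], [51, 53, 53, 46, 48, 48, 41, 44, 44, 41, 41, 43, 39, 39, 38, 38, 38, 39, 9, 9, 31, 34, 10, 32, 34, 35, 35, 35, 35, 35], [31, 33, 33], [31, 33, 33, 35], [31, 33, 33, 35, 35], [31, 33, 33, 35, 35, 35], [31, 33, 33, 35, 35, 35, 35], [31, 33, 33, 35, 35, 35, 35, 35], [56, 47, 47, 47, 42, 42, 42, 44, 44, 44, 42, 43, 37, 40, 38, 39, 39, 38, 39, 37, 32, 9, 34, 10, 34, 9, 34], [56, 47, 47, 47, 42, 42, 42, 44, 44, 44, 42, 43, 37, 40, 38, 39, 39, 38, 39, 37, 32, 9, 34, 10, 34, 9, 34, 35], [56, 47, 47, 47, 42, 42, 42, 44, 44, 44, 42, 43, 37, 40, 38, 39, 39, 38, 39, 37, 32, 9, 34, 10, 34, 9, 34, 35, 35], [56, 47, 47, 47, 42, 42, 42, 44, 44, 44, 42, 43, 37, 40, 38, 39, 39, 38, 39, 37, 32, 9,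 34, 10, 34, 9, 34, 35, 35, 35], [56, 47, 47, 47, 42, 42, 42, 44, 44, 44, 42, 43, 37, 40, 38, 39, 39, 38, 39, 37, 32, 9, 34, 10, 34, 9, 34, 35, 35, 35, 35], [56, 47, 47, 47, 42, 42, 42, 44, 44, 44, 42, 43, 37, 40, 38, 39, 39, 38, 39, 37, 32, 9, 34, 10, 34, 9, 34, 35, 35, 35, 35, 35], [51, 56, 45, 50, 42, 42, 43, 41, 43, 37, 37, 39, 38, 38, 9, 32, 32], [51, 56, 45, 50, 42, 42, 43, 41, 43, 37, 37, 39, 38, 38, 9, 32, 32, 35], [51, 56, 45, 50, 42, 42, 43, 41, 43, 37, 37, 39, 38, 38, 9, 32, 32, 35, 35], [51, 56, 45, 50, 42, 42, 43, 41, 43, 37, 37, 39, 38, 38, 9, 32, 32, 35, 35, 35], [51, 56, 45, 50, 42, 42, 43, 41, 43, 37, 37, 39, 38, 38, 9, 32, 32, 35, 35, 35, 35], [51, 56, 45, 50, 42, 42, 43, 41, 43, 37, 37, 39, 38, 38, 9, 32, 32, 35, 35, 35, 35, 35], [51, 53, 55, 50, 46, 41, 41, 41, 43, 42, 43, 37, 40, 38, 39, 38, 39, 10, 31, 34, 10, 10], [51, 53, 55, 50, 46, 41, 41,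 41, 43, 42, 43, 37, 40, 38, 39, 38, 39, 10, 31, 34, 10, 10, 35], [51, 53, 55, 50, 46, 41, 41, 41, 43, 42, 43, 37, 40, 38, 39, 38, 39, 10, 31, 34, 10, 10, 35, 35], [51, 53, 55, 50, 46, 41, 41, 41, 43, 42, 43, 37, 40, 38, 39, 38, 39, 10, 31, 34, 10, 10, 35, 35, 35], [51, 53, 55, 50, 46, 41, 41, 41, 43, 42, 43, 37, 40, 38, 39, 38, 39, 10, 31, 34, 10, 10, 35, 35, 35, 35], [51, 53, 55, 50, 46, 41, 41, 41, 43, 42, 43, 37, 40, 38, 39, 38, 39, 10, 31, 34, 10, 10, 35, 35, 35, 35, 35], [51, 54, 47, 47, 46, 43, 41, 44, 42, 43, 38, 40, 38, 38, 40, 37, 40, 37, 32, 34, 9, 34, 9], [51, 54, 47, 47, 46, 43, 41, 44, 42, 43, 38, 40, 38, 38, 40, 37, 40, 37, 32, 34, 9, 34, 9, 35], [51, 54, 47, 47, 46, 43, 41, 44, 42, 43, 38, 40, 38, 38, 40, 37, 40, 37, 32, 34, 9, 34, 9, 35, 35], [51, 54, 47, 47, 46, 43, 41, 44, 42, 43, 38, 40, 38, 38, 40, 37, 40, 37, 32, 34, 9, 34, 9, 35, 35, 35], [51,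 54, 47, 47, 46, 43, 41, 44, 42, 43, 38, 40, 38, 38, 40, 37, 40, 37, 32, 34, 9, 34, 9, 35, 35, 35, 35], [51, 54, 47, 47, 46, 43, 41, 44, 42, 43, 38, 40, 38, 38, 40, 37, 40, 37, 32, 34, 9, 34, 9, 35, 35, 35, 35, 35], [51, 55, 48, 46, 49, 47, 41, 43, 43, 43, 43, 41, 38, 39, 39, 38, 38, 39, 10, 10, 33, 10, 34, 9, 9], [51, 55, 48, 46, 49, 47, 41, 43, 43, 43, 43, 41, 38, 39, 39, 38, 38, 39, 10, 10, 33, 10, 34, 9, 9, 35], [51, 55, 48, 46, 49, 47, 41, 43, 43, 43, 43, 41, 38, 39, 39, 38, 38, 39, 10, 10, 33, 10, 34, 9, 9, 35, 35], [51, 55, 48, 46, 49, 47, 41, 43, 43, 43, 43, 41, 38, 39, 39, 38, 38, 39, 10, 10, 33, 10, 34, 9, 9, 35, 35, 35], [51, 55, 48, 46, 49, 47, 41, 43, 43, 43, 43, 41, 38, 39, 39, 38, 38, 39, 10, 10, 33, 10, 34, 9, 9, 35, 35, 35, 35], [51, 55, 48, 46, 49, 47, 41, 43, 43, 43, 43, 41, 38, 39, 39, 38, 38, 39, 10, 10, 33, 10, 34, 9, 9, 35, 35, 35, 35, 35],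 [51, 49, 45, 48, 49, 44, 44, 41, 43, 41, 38, 40, 40, 38, 38, 33, 10, 33, 10, 33, 10], [51, 49, 45, 48, 49, 44, 44, 41, 43, 41, 38, 40, 40, 38, 38, 33, 10, 33, 10, 33, 10, 35], [51, 49, 45, 48, 49, 44, 44, 41, 43, 41, 38, 40, 40, 38, 38, 33, 10, 33, 10, 33, 10, 35, 35], [51, 49, 45, 48, 49, 44, 44, 41, 43, 41, 38, 40, 40, 38, 38, 33, 10, 33, 10, 33, 10, 35, 35, 35], [51, 49, 45, 48, 49, 44, 44, 41, 43, 41, 38, 40, 40, 38, 38, 33, 10, 33, 10, 33, 10, 35, 35, 35, 35], [51, 49, 45, 48, 49, 44, 44, 41, 43, 41, 38, 40, 40, 38, 38, 33, 10, 33, 10, 33, 10, 35, 35, 35, 35, 35], [54, 46, 49, 44, 42, 42, 43, 42, 39, 39, 37, 37, 40, 38, 40, 10, 34, 9, 9, 33, 9], [54, 46, 49, 44, 42, 42, 43, 42, 39, 39, 37, 37, 40, 38, 40, 10, 34, 9, 9, 33, 9, 35], [54, 46, 49, 44, 42, 42, 43, 42, 39, 39, 37, 37, 40, 38, 40, 10, 34, 9, 9, 33, 9, 35, 35], [54, 46, 49, 44, 42, 42, 43, 42, 39,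 39, 37, 37, 40, 38, 40, 10, 34, 9, 9, 33, 9, 35, 35, 35], [54, 46, 49, 44, 42, 42, 43, 42, 39, 39, 37, 37, 40, 38, 40, 10, 34, 9, 9, 33, 9, 35, 35, 35, 35], [54, 46, 49, 44, 42, 42, 43, 42, 39, 39, 37, 37, 40, 38, 40, 10, 34, 9, 9, 33, 9, 35, 35, 35, 35, 35], [53, 45, 47, 42, 44, 44, 44, 41, 44, 41, 39, 39, 38, 40, 38, 38, 40, 33, 10, 33, 9], [53, 45, 47, 42, 44, 44, 44, 41, 44, 41, 39, 39, 38, 40, 38, 38, 40, 33, 10, 33, 9, 35], [53, 45, 47, 42, 44, 44, 44, 41, 44, 41, 39, 39, 38, 40, 38, 38, 40, 33, 10, 33, 9, 35, 35], [53, 45, 47, 42, 44, 44, 44, 41, 44, 41, 39, 39, 38, 40, 38, 38, 40, 33, 10, 33, 9, 35, 35, 35], [53, 45, 47, 42, 44, 44, 44, 41, 44, 41, 39, 39, 38, 40, 38, 38, 40, 33, 10, 33, 9, 35, 35, 35, 35], [53, 45, 47, 42, 44, 44, 44, 41, 44, 41, 39, 39, 38, 40, 38, 38, 40, 33, 10, 33, 9, 35, 35, 35, 35, 35], [53, 45, 47, 42, 44, 44, 44, 41, 44, 41, 39,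 39, 38, 40, 38, 38, 40, 33, 10, 33, 9, 31, 34], [53, 45, 47, 42, 44, 44, 44, 41, 44, 41, 39, 39, 38, 40, 38, 38, 40, 33, 10, 33, 9, 31, 34, 35], [53, 45, 47, 42, 44, 44, 44, 41, 44, 41, 39, 39, 38, 40, 38, 38, 40, 33, 10, 33, 9, 31, 34, 35, 35], [53, 45, 47, 42, 44, 44, 44, 41, 44, 41, 39, 39, 38, 40, 38, 38, 40, 33, 10, 33, 9, 31, 34, 35, 35, 35], [53, 45, 47, 42, 44, 44, 44, 41, 44, 41, 39, 39, 38, 40, 38, 38, 40, 33, 10, 33, 9, 31, 34, 35, 35, 35, 35], [53, 45, 47, 42, 44, 44, 44, 41, 44, 41, 39, 39, 38, 40, 38, 38, 40, 33, 10, 33, 9, 31, 34, 35, 35, 35, 35, 35], [], [35], [35, 35], [35, 35, 35], [35, 35, 35, 35], [35, 35, 35, 35, 35], [51, 53, 45, 48, 46, 49, 41, 43, 41, 44, 42, 44, 41, 39, 38, 39, 37, 9, 32, 34, 9, 33, 10, 31, 9], [51, 53, 45, 48, 46, 49, 41, 43, 41, 44, 42, 44, 41, 39, 38, 39, 37, 9, 32, 34, 9, 33, 10, 31, 9, 35], [51, 53, 45, 48, 46, 49,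 41, 43, 41, 44, 42, 44, 41, 39, 38, 39, 37, 9, 32, 34, 9, 33, 10, 31, 9, 35, 35], [51, 53, 45, 48, 46, 49, 41, 43, 41, 44, 42, 44, 41, 39, 38, 39, 37, 9, 32, 34, 9, 33, 10, 31, 9, 35, 35, 35], [51, 53, 45, 48, 46, 49, 41, 43, 41, 44, 42, 44, 41, 39, 38, 39, 37, 9, 32, 34, 9, 33, 10, 31, 9, 35, 35, 35, 35], [51, 53, 45, 48, 46, 49, 41, 43, 41, 44, 42, 44, 41, 39, 38, 39, 37, 9, 32, 34, 9, 33, 10, 31, 9, 35, 35, 35, 35, 35], [51, 56, 45, 45, 45, 48, 41, 43, 41, 44, 41, 37, 39, 39, 38, 38, 39, 37, 9, 34, 10, 10], [51, 56, 45, 45, 45, 48, 41, 43, 41, 44, 41, 37, 39, 39, 38, 38, 39, 37, 9, 34, 10, 10, 35], [51, 56, 45, 45, 45, 48, 41, 43, 41, 44, 41, 37, 39, 39, 38, 38, 39, 37, 9, 34, 10, 10, 35, 35], [51, 56, 45, 45, 45, 48, 41, 43, 41, 44, 41, 37, 39, 39, 38, 38, 39, 37, 9, 34, 10, 10, 35, 35, 35], [51, 56, 45, 45, 45, 48, 41, 43, 41, 44, 41, 37, 39, 39, 38, 38, 39,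 37, 9, 34, 10, 10, 35, 35, 35, 35], [51, 56, 45, 45, 45, 48, 41, 43, 41, 44, 41, 37, 39, 39, 38, 38, 39, 37, 9, 34, 10, 10, 35, 35, 35, 35, 35], [51, 53, 55, 46, 46, 49, 43, 43, 42, 43, 41, 41, 37, 40, 37, 39, 39, 38, 40, 9, 9, 31, 10], [51, 53, 55, 46, 46, 49, 43, 43, 42, 43, 41, 41, 37, 40, 37, 39, 39, 38, 40, 9, 9, 31, 10, 35], [51, 53, 55, 46, 46, 49, 43, 43, 42, 43, 41, 41, 37, 40, 37, 39, 39, 38, 40, 9, 9, 31, 10, 35, 35], [51, 53, 55, 46, 46, 49, 43, 43, 42, 43, 41, 41, 37, 40, 37, 39, 39, 38, 40, 9, 9, 31, 10, 35, 35, 35], [51, 53, 55, 46, 46, 49, 43, 43, 42, 43, 41, 41, 37, 40, 37, 39, 39, 38, 40, 9, 9, 31, 10, 35, 35, 35, 35], [51, 53, 55, 46, 46, 49, 43, 43, 42, 43, 41, 41, 37, 40, 37, 39, 39, 38, 40, 9, 9, 31, 10, 35, 35, 35, 35, 35], [51, 53, 55, 47, 41, 43, 43, 42, 37, 39, 38, 38, 39, 38, 34, 9, 9, 33, 9, 9, 34], [51, 53, 55, 47, 41, 43, 43, 42, 37,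 39, 38, 38, 39, 38, 34, 9, 9, 33, 9, 9, 34, 35], [51, 53, 55, 47, 41, 43, 43, 42, 37, 39, 38, 38, 39, 38, 34, 9, 9, 33, 9, 9, 34, 35, 35], [51, 53, 55, 47, 41, 43, 43, 42, 37, 39, 38, 38, 39, 38, 34, 9, 9, 33, 9, 9, 34, 35, 35, 35], [51, 53, 55, 47, 41, 43, 43, 42, 37, 39, 38, 38, 39, 38, 34, 9, 9, 33, 9, 9, 34, 35, 35, 35, 35], [51, 53, 55, 47, 41, 43, 43, 42, 37, 39, 38, 38, 39, 38, 34, 9, 9, 33, 9, 9, 34, 35, 35, 35, 35, 35], [53, 56, 49, 45, 48, 42, 44, 42, 44, 42, 42, 43, 38, 39, 37, 37, 37, 39, 38, 32, 33, 10, 34, 10, 10], [53, 56, 49, 45, 48, 42, 44, 42, 44, 42, 42, 43, 38, 39, 37, 37, 37, 39, 38, 32, 33, 10, 34, 10, 10, 35], [53, 56, 49, 45, 48, 42, 44, 42, 44, 42, 42, 43, 38, 39, 37, 37, 37, 39, 38, 32, 33, 10, 34, 10, 10, 35, 35], [53, 56, 49, 45, 48, 42, 44, 42, 44, 42, 42, 43, 38, 39, 37, 37, 37, 39, 38, 32, 33, 10, 34, 10, 10, 35, 35, 35], [53, 56,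 49, 45, 48, 42, 44, 42, 44, 42, 42, 43, 38, 39, 37, 37, 37, 39, 38, 32, 33, 10, 34, 10, 10, 35, 35, 35, 35], [53, 56, 49, 45, 48, 42, 44, 42, 44, 42, 42, 43, 38, 39, 37, 37, 37, 39, 38, 32, 33, 10, 34, 10, 10, 35, 35, 35, 35, 35], [51, 53, 53, 49, 49, 46, 43, 41, 44, 44, 41, 43, 43, 37, 39, 37, 37, 40, 40, 40, 40, 37, 9, 33, 9, 34, 10, 10, 32], [51, 53, 53, 49, 49, 46, 43, 41, 44, 44, 41, 43, 43, 37, 39, 37, 37, 40, 40, 40, 40, 37, 9, 33, 9, 34, 10, 10, 32, 35], [51, 53, 53, 49, 49, 46, 43, 41, 44, 44, 41, 43, 43, 37, 39, 37, 37, 40, 40, 40, 40, 37, 9, 33, 9, 34, 10, 10, 32, 35, 35], [51, 53, 53, 49, 49, 46, 43, 41, 44, 44, 41, 43, 43, 37, 39, 37, 37, 40, 40, 40, 40, 37, 9, 33, 9, 34, 10, 10, 32, 35, 35, 35], [51, 53, 53, 49, 49, 46, 43, 41, 44, 44, 41, 43, 43, 37, 39, 37, 37, 40, 40, 40, 40, 37, 9, 33, 9, 34, 10, 10, 32, 35, 35, 35, 35], [51, 53, 53, 49, 49, 46,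 43, 41, 44, 44, 41, 43, 43, 37, 39, 37, 37, 40, 40, 40, 40, 37, 9, 33, 9, 34, 10, 10, 32, 35, 35, 35, 35, 35], [56, 47, 47, 47, 42, 42, 42, 44, 44, 44, 42, 43, 37, 40, 38, 39, 39, 38, 39, 37, 32, 9, 34, 10, 34, 9, 31], [56, 47, 47, 47, 42, 42, 42, 44, 44, 44, 42, 43, 37, 40, 38, 39, 39, 38, 39, 37, 32, 9, 34, 10, 34, 9, 31, 35], [56, 47, 47, 47, 42, 42, 42, 44, 44, 44, 42, 43, 37, 40, 38, 39, 39, 38, 39, 37, 32, 9, 34, 10, 34, 9, 31, 35, 35], [56, 47, 47, 47, 42, 42, 42, 44, 44, 44, 42, 43, 37, 40, 38, 39, 39, 38, 39, 37, 32, 9, 34, 10, 34, 9, 31, 35, 35, 35], [56, 47, 47, 47, 42, 42, 42, 44, 44, 44, 42, 43, 37, 40, 38, 39, 39, 38, 39, 37, 32, 9, 34, 10, 34, 9, 31, 35, 35, 35, 35], [56, 47, 47, 47, 42, 42, 42, 44, 44, 44, 42, 43, 37, 40, 38, 39, 39, 38, 39, 37, 32, 9, 34, 10, 34, 9, 31, 35, 35, 35, 35, 35], [51, 53, 48, 48, 50, 42, 43, 43, 42, 42, 44, 44, 38, 38,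 40, 37, 40, 37, 40, 40, 31, 9, 33, 9, 9, 33, 9], [51, 53, 48, 48, 50, 42, 43, 43, 42, 42, 44, 44, 38, 38, 40, 37, 40, 37, 40, 40, 31, 9, 33, 9, 9, 33, 9, 35], [51, 53, 48, 48, 50, 42, 43, 43, 42, 42, 44, 44, 38, 38, 40, 37, 40, 37, 40, 40, 31, 9, 33, 9, 9, 33, 9, 35, 35], [51, 53, 48, 48, 50, 42, 43, 43, 42, 42, 44, 44, 38, 38, 40, 37, 40, 37, 40, 40, 31, 9, 33, 9, 9, 33, 9, 35, 35, 35], [51, 53, 48, 48, 50, 42, 43, 43, 42, 42, 44, 44, 38, 38, 40, 37, 40, 37, 40, 40, 31, 9, 33, 9, 9, 33, 9, 35, 35, 35, 35], [51, 53, 48, 48, 50, 42, 43, 43, 42, 42, 44, 44, 38, 38, 40, 37, 40, 37, 40, 40, 31, 9, 33, 9, 9, 33, 9, 35, 35, 35, 35, 35], [51, 53, 53, 46, 48, 48, 41, 44, 44, 41, 41, 43, 39, 39, 38, 38, 38, 39, 9, 9, 31, 33, 33, 9], [51, 53, 53, 46, 48, 48, 41, 44, 44, 41, 41, 43, 39, 39, 38, 38, 38, 39, 9, 9, 31, 33, 33, 9, 35], [51, 53, 53, 46, 48, 48, 41, 44, 44, 41,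 41, 43, 39, 39, 38, 38, 38, 39, 9, 9, 31, 33, 33, 9, 35, 35], [51, 53, 53, 46, 48, 48, 41, 44, 44, 41, 41, 43, 39, 39, 38, 38, 38, 39, 9, 9, 31, 33, 33, 9, 35, 35, 35], [51, 53, 53, 46, 48, 48, 41, 44, 44, 41, 41, 43, 39, 39, 38, 38, 38, 39, 9, 9, 31, 33, 33, 9, 35, 35, 35, 35], [51, 53, 53, 46, 48, 48, 41, 44, 44, 41, 41, 43, 39, 39, 38, 38, 38, 39, 9, 9, 31, 33, 33, 9, 35, 35, 35, 35, 35], [53, 56, 45, 47, 46, 47, 41, 41, 41, 41, 43, 42, 43, 37, 37, 37, 40, 38, 40, 40, 9, 34, 10, 32, 33, 10, 33], [53, 56, 45, 47, 46, 47, 41, 41, 41, 41, 43, 42, 43, 37, 37, 37, 40, 38, 40, 40, 9, 34, 10, 32, 33, 10, 33, 35], [53, 56, 45, 47, 46, 47, 41, 41, 41, 41, 43, 42, 43, 37, 37, 37, 40, 38, 40, 40, 9, 34, 10, 32, 33, 10, 33, 35, 35], [53, 56, 45, 47, 46, 47, 41, 41, 41, 41, 43, 42, 43, 37, 37, 37, 40, 38, 40, 40, 9, 34, 10, 32, 33, 10, 33, 35, 35, 35], [53, 56, 45, 47, 46,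 47, 41, 41, 41, 41, 43, 42, 43, 37, 37, 37, 40, 38, 40, 40, 9, 34, 10, 32, 33, 10, 33, 35, 35, 35, 35], [53, 56, 45, 47, 46, 47, 41, 41, 41, 41, 43, 42, 43, 37, 37, 37, 40, 38, 40, 40, 9, 34, 10, 32, 33, 10, 33, 35, 35, 35, 35, 35], [51, 56, 45, 50, 42, 42, 43, 41, 43, 37, 37, 39, 38, 38, 9, 34, 34], [51, 56, 45, 50, 42, 42, 43, 41, 43, 37, 37, 39, 38, 38, 9, 34, 34, 35], [51, 56, 45, 50, 42, 42, 43, 41, 43, 37, 37, 39, 38, 38, 9, 34, 34, 35, 35], [51, 56, 45, 50, 42, 42, 43, 41, 43, 37, 37, 39, 38, 38, 9, 34, 34, 35, 35, 35], [51, 56, 45, 50, 42, 42, 43, 41, 43, 37, 37, 39, 38, 38, 9, 34, 34, 35, 35, 35, 35], [51, 56, 45, 50, 42, 42, 43, 41, 43, 37, 37, 39, 38, 38, 9, 34, 34, 35, 35, 35, 35, 35], [51, 53, 55, 46, 46, 49, 43, 43, 42, 43, 41, 41, 37, 40, 37, 39, 39, 38, 40, 9, 32, 9, 31, 33], [51, 53, 55, 46, 46, 49, 43, 43, 42, 43, 41, 41, 37, 40, 37, 39, 39, 38,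 40, 9, 32, 9, 31, 33, 35], [51, 53, 55, 46, 46, 49, 43, 43, 42, 43, 41, 41, 37, 40, 37, 39, 39, 38, 40, 9, 32, 9, 31, 33, 35, 35], [51, 53, 55, 46, 46, 49, 43, 43, 42, 43, 41, 41, 37, 40, 37, 39, 39, 38, 40, 9, 32, 9, 31, 33, 35, 35, 35], [51, 53, 55, 46, 46, 49, 43, 43, 42, 43, 41, 41, 37, 40, 37, 39, 39, 38, 40, 9, 32, 9, 31, 33, 35, 35, 35, 35], [51, 53, 55, 46, 46, 49, 43, 43, 42, 43, 41, 41, 37, 40, 37, 39, 39, 38, 40, 9, 32, 9, 31, 33, 35, 35, 35, 35, 35], [51, 56, 45, 49, 49, 47, 41, 43, 43, 43, 43, 41, 43, 39, 37, 37, 37, 37, 40, 10, 10, 34, 9, 34, 9], [51, 56, 45, 49, 49, 47, 41, 43, 43, 43, 43, 41, 43, 39, 37, 37, 37, 37, 40, 10, 10, 34, 9, 34, 9, 35], [51, 56, 45, 49, 49, 47, 41, 43, 43, 43, 43, 41, 43, 39, 37, 37, 37, 37, 40, 10, 10, 34, 9, 34, 9, 35, 35], [51, 56, 45, 49, 49, 47, 41, 43, 43, 43, 43, 41, 43, 39, 37, 37, 37, 37, 40, 10, 10, 34, 9, 34,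 9, 35, 35, 35], [51, 56, 45, 49, 49, 47, 41, 43, 43, 43, 43, 41, 43, 39, 37, 37, 37, 37, 40, 10, 10, 34, 9, 34, 9, 35, 35, 35, 35], [51, 56, 45, 49, 49, 47, 41, 43, 43, 43, 43, 41, 43, 39, 37, 37, 37, 37, 40, 10, 10, 34, 9, 34, 9, 35, 35, 35, 35, 35]]
def rels3 : List (List Nat × Nat) := [([2, 0], 14), ([2, 1], 3), ([2, 0, 0], 11), ([2, 1, 0], 9)]

def codes1 : List Nat := [1, 1, 1, 1, 1, 1, 1, 1, 1, 1, 1, 1, 1, 1, 1, 1, 1, 17, 1, 1, 1, 1, 1, 1, 1, 1, 1, 1, 2, 1, 1, 1, 1, 1, 1, 1, 1, 1, 0, 1, 1, 1, 1, 1, 1, 3, 1, 1, 1, 1, 1, 1, 1, 1, 1, 1, 1, 1, 1, 1, 1, 1, 1, 1, 1, 1, 1, 2, 1, 1, 1, 1, 1, 1, 4, 1, 1, 1, 1, 1, 1, 1, 1, 1, 1, 1, 1, 1, 1, 1, 1, 1, 1, 1, 1, 1, 1, 1, 1, 1, 1, 1, 1, 1, 1, 1, 1, 1, 1, 1, 1, 3, 1, 1, 1, 1, 1, 1, 2, 1, 1, 1, 1, 1, 1, 1, 1, 1, 1, 1, 1, 1, 1, 1, 1, 3, 1, 1, 1, 1, 1, 1, 2, 2, 1, 1, 1, 1, 1, 1, 1, 1, 1, 1, 1, 1, 1, 1, 1, 1, 1, 1, 1, 1, 1, 1,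 1, 1, 1, 1, 1, 1, 1, 1, 1, 1, 1, 1, 1, 1, 1, 1, 1, 1, 1, 1, 1, 1, 1, 1, 1, 1, 1, 2, 1, 1, 1, 1, 1, 1, 1, 1, 1, 1, 1, 1, 1, 1, 1, 1, 1, 1, 1, 1, 1, 1]
def good1 : List (List Nat) := [[31, 34, 34, 35, 35]]
theorem tests1 : OT.ckTests T' (wpow xw 1) fw rels3 good1 cands codes1 = true := by decide +kernel
def codes2 : List Nat := [1, 1, 1, 1, 1, 1, 1, 1, 1, 1, 1, 1, 1, 1, 1, 1, 1, 1, 1, 1, 1, 1, 1, 1, 1, 1, 2, 1, 1, 1, 1, 1, 1, 1, 1, 1, 1, 1, 1, 1, 1, 1, 1, 1, 1, 1, 1, 1, 1, 1, 1, 1, 1, 1, 1, 1, 1, 1, 0, 1, 1, 1, 1, 1, 1, 1, 1, 1, 1, 2, 1, 1, 1, 1, 1, 1, 1, 1, 1, 1, 1, 1, 1, 1, 1, 1, 1, 1, 1, 1, 1, 1, 1, 1, 1, 1, 1, 1, 1, 1, 1, 1, 1, 1, 1, 1, 1, 1, 1, 1, 1, 1, 1, 1, 1, 1, 1, 2, 1, 1, 1, 1, 1, 1, 1, 1, 1, 1, 1, 1, 4, 1, 1, 1, 1, 3, 1, 1, 1, 1, 1, 1, 2, 2, 3, 1, 1, 1, 1, 1, 1, 1, 1, 1, 1, 1, 1, 1, 1, 1, 1, 1, 1, 1, 1, 1, 1, 1, 1, 1, 1, 1, 1, 1, 1, 1, 1, 1, 1, 1, 1, 1,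 1, 1, 1, 1, 1, 1, 3, 1, 1, 1, 1, 1, 2, 1, 1, 1, 1, 1, 1, 1, 1, 1, 1, 1, 1, 1, 1, 1, 1, 1, 1, 1, 1, 1]
def good2 : List (List Nat) := [[54, 49, 45, 50, 48, 41, 43, 41, 44, 42, 43, 43, 38, 40, 38, 40, 38, 38, 38, 39, 9, 33, 9, 33, 9, 31, 35, 35, 35, 35]]
theorem tests2 : OT.ckTests T' (wpow xw 2) fw rels3 good2 cands codes2 = true := by decide +kernel

theorem rels3_ok : ∀ q ∈ rels3, (((OT.sub3 xw fw yw q.1).map s).prod) ^ q.2 = 1 := by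
  intro q hq
  rw [← wpow_prod]
  apply weq1
  · revert q hq; decide
  · revert q hq; decide +kernel

theorem svW_ok : ∀ q ∈ svW, F * (q.2.map s).prod = (q.2.map s).prod * F ∧
    ((act ρ ⟨857, by decide⟩ (q.2.map s).prod : Fin 3510) : Nat) = q.1 := by
  intro q hq
  constructor
  · have h := weq (Fw ++ q.2) (q.2 ++ Fw) (by revert q hq; decide) (by revert q hq; decide) (by revert q hq; decide +kernel)
    rw [List.map_append, List.prod_append, List.map_append, List.prod_append] at h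
    exact h
  · rw [act_word s tok ρ hρ _ _ (by revert q hq; decide)]
    revert q hq; decide +kernel

theorem cent_cands (g : Fi22) (h : F * g = g * F) : ∃ w ∈ cands, g = (w.map s).prod := by
  have hb : ∀ g : Fi22, (∀ i < 5, act ρ (act ρ ⟨857, by decide⟩ (F ^ i)) g = act ρ ⟨857, by decide⟩ (F ^ i)) → g = 1 := by
    intro g hg
    refine Fbase g ?_ ?_ ?_ ?_ ?_
    · have := hg 0 (by decide)
      change act ρ (act ρ ⟨857, by decide⟩ ((([35] : List Nat).map s).prod ^ 0)) g = act ρ ⟨857, by decide⟩ ((([35] : List Nat).map s).prod ^ 0) at this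
      rw [Fp0] at this
      exact this
    · have := hg 1 (by decide)
      change act ρ (act ρ ⟨857, by decide⟩ ((([35] : List Nat).map s).prod ^ 1)) g = act ρ ⟨857, by decide⟩ ((([35] : List Nat).map s).prod ^ 1) at this
      rw [Fp1] at this
      exact this
    · have := hg 2 (by decide)
      change act ρ (act ρ ⟨857, by decide⟩ ((([35] : List Nat).map s).prod ^ 2)) g = act ρ ⟨857, by decide⟩ ((([35] : List Nat).map s).prod ^ 2) at this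
      rw [Fp2] at this
      exact this
    · have := hg 3 (by decide)
      change act ρ (act ρ ⟨857, by decide⟩ ((([35] : List Nat).map s).prod ^ 3)) g = act ρ ⟨857, by decide⟩ ((([35] : List Nat).map s).prod ^ 3) at this
      rw [Fp3] at this
      exact this
    · have := hg 4 (by decide)
      change act ρ (act ρ ⟨857, by decide⟩ ((([35] : List Nat).map s).prod ^ 4)) g = act ρ ⟨857, by decide⟩ ((([35] : List Nat).map s).prod ^ 4) at this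
      rw [Fp4] at this
      exact this
  have hen : ∀ g : Fi22, F * g = g * F → ∃ a : Nat, ((act ρ ⟨857, by decide⟩ (g * F ^ a) : Fin 3510) : Nat) ∈ svW.map Prod.fst := by
    intro g hg
    exact conj_enum s tok ρ hρ Fw Fw (by decide) (by decide) ⟨857, by decide⟩ 5 5 FK0 Frej (svW.map Prod.fst) rfl
      (fun q hq => OT.ckCand_sound _ _ _ _ q (allR_zero _ _ FS q hq)) g hg
  obtain ⟨w, hw, a, ha, rfl⟩ := OT.cent_list ρ F 6 (by decide) F_pow ⟨857, by decide⟩ 5 hb _ hen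
    (svW.map fun q => (q.2.map s).prod) (by
    intro q hq
    obtain ⟨z, hz, rfl⟩ := List.mem_map.1 hq
    exact ⟨_, List.mem_map.2 ⟨z, hz, rfl⟩, svW_ok z hz⟩) g h
  obtain ⟨z, hz, rfl⟩ := List.mem_map.1 hw
  refine ⟨z.2 ++ wpow Fw a, ?_, ?_⟩
  · have key : ∀ z ∈ svW, ∀ a < 6, z.2 ++ wpow Fw a ∈ cands := by decide +kernel
    exact key z hz a ha
  · rw [List.map_append, List.prod_append, wpow_prod]
    rfl


/-- straight-line program for the letters of the chain. -/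
def prog : List (Nat × List Nat) := [(37, [33, 10, 32, 9, 9, 9, 9, 34, 10, 31, 34, 31, 10, 34, 31, 10]), (38, [9, 32, 33, 9, 32, 33, 32, 9, 33, 10, 10, 10, 10, 31, 9, 34]), (39, [31, 9, 34, 31, 10, 34, 9, 32, 34, 31, 9]), (40, [10, 32, 33, 31, 10, 33, 9, 32, 33, 10, 32]), (41, [38, 40, 37, 37, 37, 37, 40, 37, 40, 40, 37, 37, 39]), (42, [40, 38, 38, 39, 39, 38, 39, 38, 38, 38, 38, 39, 37]), (43, [40, 40, 37, 37, 37, 37, 37, 39, 38, 40, 37, 40, 37, 39, 39]), (44, [40, 40, 38, 39, 38, 39, 37, 40, 38, 38, 38, 38, 38, 39, 39]), (45, [42, 43, 41, 44, 41, 44, 42, 42, 44, 44, 42, 43, 41]), (46, [42, 44, 41, 43, 43, 41, 41, 43, 42, 43, 42, 44, 41]), (47, [41, 41, 44, 41, 41, 43, 42, 42, 42, 42, 43, 43, 42, 42]), (48, [41, 41, 44, 44, 41, 41, 41, 41, 44, 42, 42, 43, 42, 42]), (49, [44, 42, 44, 44, 42, 44, 44, 42, 42, 44]), (50, [43, 41, 41, 43, 43, 41, 43, 43, 41, 43]), (51,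 [47, 45, 47, 45, 50, 45]), (52, [46, 49, 46, 48, 46, 48]), (53, [47, 49, 49, 48, 45, 47, 45, 50, 46, 50]), (54, [49, 45, 49, 46, 48, 46, 47, 50, 50, 48]), (55, [48, 50, 48]), (56, [47, 49, 47])]

theorem inv_letter (l l' : Nat) (h1 : l < 77) (h2 : l' < 77) (h : ∀ i ∈ ([857, 3196, 3402, 1335, 3509] : List Nat), trN T' [l, l'] i = i) : s l' = (s l)⁻¹ := by
  have := weq1 [l, l'] (by intro k hk; simp only [List.mem_cons, List.not_mem_nil, or_false] at hk; rcases hk with rfl | rfl <;> assumption) h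
  rw [List.map_cons, List.map_singleton, List.prod_cons, List.prod_singleton] at this
  exact eq_inv_of_mul_eq_one_right this

theorem s_x : s 9 = x := by unfold x xw; simp
theorem s_f : s 31 = f := by unfold f fw; simp
theorem s_y : s 33 = y := by unfold y yw; simp
theorem s_x' : s 10 = x⁻¹ := by rw [← s_x]; exact inv_letter 9 10 (by decide) (by decide) (by decide +kernel)
theorem s_f' : s 32 = f⁻¹ := by rw [← s_f]; exact inv_letter 31 32 (by decide) (by decide) (by decide +kernel)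
theorem s_y' : s 34 = y⁻¹ := by rw [← s_y]; exact inv_letter 33 34 (by decide) (by decide) (by decide +kernel)

theorem prog_ok : ∀ e ∈ prog, s e.1 = (e.2.map s).prod := by
  intro e he
  have h := weq [e.1] e.2 (by revert e he; decide) (by revert e he; decide) (by revert e he; decide +kernel)
  rw [List.map_singleton, List.prod_singleton] at h
  exact h

theorem gen_top : Subgroup.closure ({x, f, y} : Set Fi22) = ⊤ := by
  rw [eq_top_iff, ← Fchain.1]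
  have hx : x ∈ Subgroup.closure ({x, f, y} : Set Fi22) := Subgroup.subset_closure (Or.inl rfl)
  have hf : f ∈ Subgroup.closure ({x, f, y} : Set Fi22) := Subgroup.subset_closure (Or.inr (Or.inl rfl))
  have hy : y ∈ Subgroup.closure ({x, f, y} : Set Fi22) := Subgroup.subset_closure (Or.inr (Or.inr rfl))
  have h0 : ∀ l ∈ ([9, 31, 33, 10, 32, 34] : List Nat), s l ∈ Subgroup.closure ({x, f, y} : Set Fi22) := by
    intro l hl
    simp only [List.mem_cons, List.not_mem_nil, or_false] at hl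
    rcases hl with rfl | rfl | rfl | rfl | rfl | rfl
    · rw [s_x]; exact hx
    · rw [s_f]; exact hf
    · rw [s_y]; exact hy
    · rw [s_x']; exact inv_mem hx
    · rw [s_f']; exact inv_mem hf
    · rw [s_y']; exact inv_mem hy
  have h1 := OT.slp_mem s (Subgroup.closure ({x, f, y} : Set Fi22)) prog _ h0 (by decide) prog_ok
  unfold wordGroup
  rw [Subgroup.closure_le]
  rintro _ ⟨w, hw, rfl⟩
  have key : ∀ w ∈ FG0, ∃ l, w = [l] ∧ (l ∈ ([9, 31, 33, 10, 32, 34] : List Nat) ∨ l ∈ prog.map Prod.fst) := by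
    intro w hw
    have key2 : ∀ w ∈ FG0, w = [w.headD 0] ∧ (w.headD 0 ∈ ([9, 31, 33, 10, 32, 34] : List Nat) ∨ w.headD 0 ∈ prog.map Prod.fst) := by decide
    exact ⟨_, key2 w hw⟩
  obtain ⟨l, rfl, hl⟩ := key w hw
  rw [List.map_singleton, List.prod_singleton]
  rcases hl with hl | hl
  · exact h0 l hl
  · obtain ⟨e, he, rfl⟩ := List.mem_map.1 hl
    exact h1 e he


theorem out_le : Finite (Cfsg.Out Fi22) ∧ Nat.card (Cfsg.Out Fi22) ≤ 2 := by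
  haveI : Finite Fi22 := Nat.finite_of_card_ne_zero (by rw [cardG]; decide)
  refine OT.out_card_le 13 x f y x_order (by rw [cardG]; decide) Cx 4 xf (by decide) [1, 2] ?_ gen_top
    ([(1, ((([31, 34, 34, 35, 35] : List Nat).map s).prod)), (2, ((([54, 49, 45, 50, 48, 41, 43, 41, 44, 42, 43, 43, 38, 40, 38, 40, 38, 38, 38, 39, 9, 33, 9, 33, 9, 31, 35, 35, 35, 35] : List Nat).map s).prod))]) ?_
  · have key : ∀ k : ZMod 13, k ≠ 0 → ∃ j ∈ ([1, 2] : List ℕ), ∃ i < 13, k = (j : ZMod 13) * (4 : ZMod 13) ^ i := by decide +kernel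
    intro k hk
    obtain ⟨j, hj, i, _, h⟩ := key k hk
    exact ⟨j, hj, i, by push_cast; exact h⟩
  · intro j hj β hβx hβf
    have hβF : β F = F := by rw [F_eq, map_pow, hβf]
    have hc : F * β y = β y * F := by
      have := congrArg β Fy
      rw [map_mul, map_mul, hβF] at this
      exact this
    obtain ⟨w, hw, hwy⟩ := cent_cands (β y) hc
    simp only [List.mem_cons, List.not_mem_nil, or_false] at hj
    rcases hj with rfl | rfl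
    · have h := OT.good_of_tests s tok ρ hρ 1 xw fw yw (by decide) (by decide) rels3 rels3_ok good1 cands codes1 (by decide)
        (by decide) tests1 β hβx hβf w hw hwy
      unfold good1 at h
      simp only [List.mem_cons, List.not_mem_nil, or_false] at h
      subst h
      rw [hwy]; simp
    · have h := OT.good_of_tests s tok ρ hρ 2 xw fw yw (by decide) (by decide) rels3 rels3_ok good2 cands codes2 (by decide)
        (by decide) tests2 β hβx hβf w hw hwy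
      unfold good2 at h
      simp only [List.mem_cons, List.not_mem_nil, or_false] at h
      subst h
      rw [hwy]; simp

/-- images of the letters. -/
def ab : Nat → List Nat := fun l => [[51, 53, 55, 49, 49, 45, 44, 42, 44, 41, 44, 42, 43, 39, 39, 38, 39, 39, 31, 10, 34, 10, 10], [46, 49, 45, 41, 44, 41, 44, 41, 40, 40, 38, 39, 38, 40, 10, 31, 31, 9, 33, 9, 34], [51, 53, 55, 49, 48, 50, 41, 43, 43, 41, 43, 41, 41, 41, 38, 40, 37, 39, 37, 40, 37], [56, 50, 46, 47, 46, 42, 42, 43, 41, 44, 37, 37, 39, 38, 38, 40, 10, 33, 9, 33, 33, 10, 31], [53, 53, 49, 45, 47, 43, 42, 43, 42, 42, 44, 41, 40, 38, 38, 40, 40, 38, 39, 10, 32, 34, 10, 33, 10, 34], [53, 56, 45, 49, 47, 46, 42, 42, 42, 43, 42, 37, 37, 39, 38, 40, 37, 39, 9, 34, 9, 9, 34, 9, 9], [53, 48, 46, 49, 47, 44, 42, 42, 44, 41, 43, 37, 37, 39, 37, 37, 39], [53, 55, 50, 42, 42, 43, 41, 43, 43, 39, 37, 40, 40,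 38, 38, 10, 33, 9, 31, 34, 9, 33], [55, 50, 45, 50, 41, 44, 44, 41, 43, 42, 43, 40, 38, 38, 38, 39, 39, 39, 10, 10, 10, 33, 9, 9]].getD l []
def aw : Nat → List Nat := fun l => [[51, 53, 55, 49, 49, 45, 44, 42, 44, 41, 44, 42, 43, 39, 39, 38, 39, 39, 31, 10, 34, 10, 10], [46, 49, 45, 41, 44, 41, 44, 41, 40, 40, 38, 39, 38, 40, 10, 31, 31, 9, 33, 9, 34], [51, 53, 55, 49, 48, 50, 41, 43, 43, 41, 43, 41, 41, 41, 38, 40, 37, 39, 37, 40, 37], [56, 50, 46, 47, 46, 42, 42, 43, 41, 44, 37, 37, 39, 38, 38, 40, 10, 33, 9, 33, 33, 10, 31], [53, 53, 49, 45, 47, 43, 42, 43, 42, 42, 44, 41, 40, 38, 38, 40, 40, 38, 39, 10, 32, 34, 10, 33, 10, 34], [53, 56, 45, 49, 47, 46, 42, 42, 42, 43, 42, 37, 37, 39, 38, 40, 37, 39, 9, 34, 9, 9, 34, 9, 9], [53, 48, 46, 49, 47, 44, 42, 42, 44, 41, 43, 37, 37, 39, 37, 37, 39], [53, 55, 50, 42, 42, 43, 41, 43, 43, 39, 37, 40, 40, 38, 38, 10, 33,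 9, 31, 34, 9, 33], [55, 50, 45, 50, 41, 44, 44, 41, 43, 42, 43, 40, 38, 38, 38, 39, 39, 39, 10, 10, 10, 33, 9, 9], [9, 9], [10, 10], [55, 45, 47, 46, 49, 41, 43, 41, 41, 41, 41, 43, 39, 38, 40, 40, 40, 40, 38, 31, 9, 9, 32, 34, 9], [10, 33, 31, 10, 10, 32, 37, 39, 39, 39, 39, 37, 40, 44, 42, 42, 42, 42, 44, 42, 50, 45, 48, 46, 56], [51, 53, 55, 47, 45, 49, 42, 42, 43, 43, 42, 43, 39, 39, 38, 38, 39, 37, 39, 9, 33, 10, 34, 9, 32], [31, 10, 33, 9, 34, 10, 40, 38, 40, 37, 37, 40, 40, 44, 41, 44, 44, 41, 41, 50, 46, 48, 56, 54, 52], [53, 45, 49, 49, 41, 41, 44, 42, 42, 40, 37, 40, 40, 33, 9, 34, 34], [33, 33, 10, 34, 39, 39, 38, 39, 41, 41, 43, 42, 42, 50, 50, 46, 54], [51, 46, 48, 46, 46, 42, 43, 41, 44, 44, 44, 41, 39, 39, 39, 39, 37, 40, 40, 10, 10, 10, 34, 9, 9, 32, 34], [33, 31, 10, 10, 33, 9, 9, 9, 39, 39, 38, 40, 40, 40, 40, 42, 43, 43, 43, 42, 44, 41, 45, 45,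 47, 45, 52], [56, 45, 49, 48, 46, 43, 41, 44, 44, 41, 39, 38, 38, 38, 39, 39, 39, 32, 33, 10, 31, 33, 9, 33], [34, 10, 34, 32, 9, 34, 31, 40, 40, 40, 37, 37, 37, 40, 42, 43, 43, 42, 44, 45, 47, 50, 46, 55], [51, 45, 48, 45, 48, 41, 43, 41, 44, 44, 41, 37, 40, 37, 39, 38, 40, 31, 33, 33], [34, 34, 32, 39, 37, 40, 38, 39, 38, 42, 43, 43, 42, 44, 42, 47, 46, 47, 46, 52], [51, 54, 49, 45, 50, 48, 43, 43, 41, 44, 41, 37, 37, 37, 37, 39, 37, 40, 9, 31, 9, 9, 34, 10, 34, 9], [10, 33, 9, 33, 10, 10, 32, 10, 39, 38, 40, 38, 38, 38, 38, 42, 43, 42, 44, 44, 47, 49, 46, 50, 53, 52], [51, 53, 45, 50, 46, 42, 42, 42, 44, 42, 42, 43, 39, 37, 40, 40, 37, 37, 40, 31, 10, 34, 9, 33, 9, 33], [34, 10, 34, 10, 33, 9, 32, 39, 38, 38, 39, 39, 38, 40, 44, 41, 41, 43, 41, 41, 41, 45, 49, 46, 54, 52], [51, 53, 56, 45, 50, 48, 43, 42, 42, 42, 44, 42, 42, 39, 38, 39, 39, 39, 38, 32, 33, 10,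 31, 33, 9, 33], [34, 10, 34, 32, 9, 34, 31, 37, 40, 40, 40, 37, 40, 41, 41, 43, 41, 41, 41, 44, 47, 49, 46, 55, 54, 52], [55, 50, 45, 48, 50, 41, 44, 44, 42, 44, 44, 44, 39, 37, 37, 40, 38, 39, 37, 33, 33, 9, 34, 10, 31], [32, 9, 33, 10, 34, 34, 38, 40, 37, 39, 38, 38, 40, 43, 43, 43, 41, 43, 43, 42, 49, 47, 46, 49, 56], [31], [32], [54, 49, 45, 50, 48, 41, 43, 41, 44, 42, 43, 43, 38, 40, 38, 40, 38, 38, 38, 39, 9, 33, 9, 33, 9, 32], [31, 10, 34, 10, 34, 10, 40, 37, 37, 37, 39, 37, 39, 37, 44, 44, 41, 43, 42, 44, 42, 47, 49, 46, 50, 53]].getD l []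

noncomputable def t : Nat → Fi22 := fun l => ((ab l).map s).prod

theorem t_sq : ∀ l, t l * t l = 1 := by
  intro l
  by_cases hl : l < 9
  · unfold t
    have h1 := weq1 (ab l ++ ab l) (by
      have key : ∀ l < 9, ∀ k ∈ ab l ++ ab l, k < 77 := by decide
      exact key l hl) (by
      have key : ∀ l < 9, ∀ i ∈ (([857, 3196, 3402, 1335, 3509] : List Nat) : List Nat), trN T' (ab l ++ ab l) i = i := by decide +kernel
      exact key l hl)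
    rw [List.map_append, List.prod_append] at h1
    exact h1
  · have : ab l = [] := List.getD_eq_default _ _ (by
      have h2 : ([[51, 53, 55, 49, 49, 45, 44, 42, 44, 41, 44, 42, 43, 39, 39, 38, 39, 39, 31, 10, 34, 10, 10], [46, 49, 45, 41, 44, 41, 44, 41, 40, 40, 38, 39, 38, 40, 10, 31, 31, 9, 33, 9, 34], [51, 53, 55, 49, 48, 50, 41, 43, 43, 41, 43, 41, 41, 41, 38, 40, 37, 39, 37, 40, 37], [56, 50, 46, 47, 46, 42, 42, 43, 41, 44, 37, 37, 39, 38, 38, 40, 10, 33, 9, 33, 33, 10, 31], [53, 53, 49, 45, 47, 43, 42, 43, 42, 42, 44, 41, 40, 38, 38, 40, 40, 38, 39, 10, 32, 34, 10, 33, 10, 34], [53, 56, 45, 49, 47, 46, 42, 42, 42, 43, 42, 37, 37, 39, 38, 40, 37, 39, 9, 34, 9, 9, 34, 9, 9], [53, 48, 46, 49, 47, 44, 42, 42, 44, 41, 43, 37, 37, 39, 37, 37, 39], [53, 55, 50, 42, 42, 43, 41, 43, 43, 39, 37, 40, 40, 38, 38, 10, 33, 9, 31, 34, 9, 33], [55, 50, 45, 50, 41, 44,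 44, 41, 43, 42, 43, 40, 38, 38, 38, 39, 39, 39, 10, 10, 10, 33, 9, 9]] : List (List Nat)).length = 9 := by decide
      omega)
    unfold t
    rw [this]; simp

theorem t_word (w : List Nat) : (w.map t).prod = ((w.flatMap ab).map s).prod := (OT.flatMap_prod s ab w).symm

theorem t_rel : ∀ q ∈ Cfsg.Agent.H8.Fi22at.relsP, ((q.1.map t).prod) ^ q.2 = 1 := by
  intro q hq
  rw [t_word, ← wpow_prod]
  apply weq1
  · have key : ∀ q ∈ Cfsg.Agent.H8.Fi22at.relsP, ∀ k ∈ wpow (q.1.flatMap ab) q.2, k < 77 := by decide +kernel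
    exact key q hq
  · have key : ∀ q ∈ Cfsg.Agent.H8.Fi22at.relsP, ∀ i ∈ (([857, 3196, 3402, 1335, 3509] : List Nat) : List Nat), trN T' (wpow (q.1.flatMap ab) q.2) i = i := by decide +kernel
    exact key q hq

noncomputable def φ : Fi22 →* Fi22 := Cfsg.Agent.H8.Fi22P.homOf t t_sq t_rel

theorem φ_base (l : Nat) (hl : l < 9) : φ (s l) = t l := by
  rw [s_lt l hl]
  exact Cfsg.Agent.H8.Fi22P.homOf_s t t_sq t_rel l hl


def progA : List (Nat × List Nat) := [(9, [0, 1, 2, 3, 4, 5, 8, 7]), (10, [7, 8, 5, 4, 3, 2, 1, 0]), (11, [6, 4, 5, 0, 1, 5, 10, 2, 4, 8, 9]), (12, [10, 8, 4, 2, 9, 5, 1, 0, 5, 4, 6]), (13, [8, 0, 3, 10, 1, 2, 3, 10, 8, 5, 2, 3, 10]), (14, [9, 3, 2, 5, 8, 9, 3, 2, 1, 9, 3, 0, 8]), (15, [11, 13, 13, 11, 13, 12, 12]), (16, [11, 11, 14, 12, 14, 14, 12]), (17, [11, 13, 12, 12, 12, 13, 11, 13, 12]), (18, [11, 14, 12, 14, 11, 11, 11, 14, 12]), (19, [17,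 16, 17, 16, 16, 18, 18, 16, 18, 18, 15, 15, 18, 15, 18, 18, 16, 18]), (20, [17, 15, 17, 17, 16, 17, 16, 16, 17, 17, 15, 17, 17, 15, 15, 18, 15, 18]), (21, [18, 16, 17, 16, 17, 15, 15, 17, 15, 18, 16, 17, 15, 17, 17]), (22, [18, 18, 16, 18, 15, 17, 16, 18, 16, 16, 18, 15, 18, 15, 17]), (23, [18, 16, 17, 15, 17, 15, 18, 16, 17, 15, 17]), (24, [18, 16, 18, 15, 17, 16, 18, 16, 18, 15, 17]), (25, [21, 20]), (26, [19, 22]), (27, [24, 22, 23, 20, 20, 23]), (28, [24, 19, 19, 24, 21, 23]), (29, [24, 24, 20, 24, 20, 22, 20, 24, 20]), (30, [19, 23, 19, 21, 19, 23, 19, 23, 23]), (31, [29, 22, 20, 24, 15, 17, 15, 15, 15, 18, 11, 14, 14, 11, 11, 14, 14, 1, 9, 9, 9, 9, 9]), (32, [10, 10, 10, 10, 10, 1, 13, 13, 12, 12, 13, 13, 12, 17, 16, 16, 16, 18, 16, 23, 19, 21, 30]), (33, [29, 22, 24, 21, 16, 17, 16, 17, 15, 17, 16, 14, 12, 13, 12, 13, 12, 13, 13, 12, 12, 1, 9, 3, 4, 6, 9,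 9, 9, 9]), (34, [10, 10, 10, 10, 6, 4, 3, 10, 1, 11, 11, 14, 14, 11, 14, 11, 14, 11, 13, 15, 18, 16, 18, 15, 18, 15, 22, 23, 21, 30])]

theorem progA_ok : ∀ e ∈ progA, s e.1 = (e.2.map s).prod := by
  intro e he
  have h := weq [e.1] e.2 (by revert e he; decide) (by revert e he; decide) (by revert e he; decide +kernel)
  rw [List.map_singleton, List.prod_singleton] at h
  exact h

theorem progA_im : ∀ e ∈ progA, ((aw e.1).map s).prod = (e.2.map fun l => ((aw l).map s).prod).prod := by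
  intro e he
  rw [← OT.flatMap_prod s aw e.2]
  exact weq _ _ (by revert e he; decide) (by revert e he; decide +kernel) (by revert e he; decide +kernel)

theorem ab_aw : ∀ l < 9, ab l = aw l := by decide

theorem φs : ∀ e ∈ progA, φ (s e.1) = ((aw e.1).map s).prod :=
  OT.slp_hom φ s (fun l => ((aw l).map s).prod) progA [0, 1, 2, 3, 4, 5, 6, 7, 8] (by
    intro l hl
    have h : l < 9 := by
      have key : ∀ l ∈ ([0, 1, 2, 3, 4, 5, 6, 7, 8] : List Nat), l < 9 := by decide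
      exact key l hl
    rw [φ_base l h]
    unfold t
    rw [ab_aw l h]) (by decide) progA_ok progA_im

theorem φs' (l : Nat) (h : l ∈ progA.map Prod.fst) : φ (s l) = ((aw l).map s).prod := by
  obtain ⟨e, he, rfl⟩ := List.mem_map.1 h
  exact φs e he

theorem φx : φ x = x ^ 2 := by
  rw [← s_x, φs' 9 (by decide), s_x]
  unfold x
  rw [← wpow_prod]
  exact weq _ _ (by decide +kernel) (by decide) (by decide +kernel)

theorem φf : φ f = f := by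
  rw [← s_f, φs' 31 (by decide), s_f]
  unfold f
  exact weq _ _ (by decide +kernel) (by decide) (by decide +kernel)

theorem φ_bij : Function.Bijective φ := by
  haveI : Finite Fi22 := Nat.finite_of_card_ne_zero (by rw [cardG]; decide)
  have h1 : Function.Injective φ := injective_of_simple Cfsg.Agent.H8.Fi22P.simple φ x (by
    rw [φx]
    intro h
    have h2 := orderOf_dvd_of_pow_eq_one h
    rw [x_order] at h2
    exact absurd h2 (by decide))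
  exact ⟨h1, Finite.surjective_of_injective h1⟩

noncomputable def α : MulAut Fi22 := MulEquiv.ofBijective φ φ_bij


theorem α_outer (g : Fi22) : α ≠ MulAut.conj g := by
  intro h
  have hx : g * x * g⁻¹ = x ^ 2 := by
    have := DFunLike.congr_fun h x
    have e : α x = φ x := rfl
    rw [e, φx] at this
    exact this.symm
  have h1 : x * g⁻¹ = g⁻¹ * x ^ 2 := by rw [← hx]; group
  have h2 : x ^ 2 = ((wpow xw 2).map s).prod := by rw [wpow_prod]; rfl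
  rw [h2] at h1
  obtain ⟨a, ha⟩ := conj_enum s tok ρ hρ xw (wpow xw 2) (by decide) (by decide) ⟨176, by decide⟩ 6 6 xK0 xrej [] rfl
      (fun q hq => OT.ckCand_sound _ _ _ _ q (allR_zero _ _ xN q hq)) g⁻¹ h1
  simp at ha


theorem out_eq : Nat.card (Cfsg.Out Fi22) = 2 := by
  have h1 := out_le
  have h2 := OT.one_lt_out h1.1 α α_outer
  omega


end Cfsg.Agent.H8.Fi22O
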