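import Cfsg.Agent.H8.Z322Pres
import Cfsg.Agent.H8.T.Fi23tO
import Cfsg.Agent.H8.T.Fi23tL
import Cfsg.Agent.H8.T.Fi23t
import Cfsg.Agent.H8.T.X22t
import Cfsg.Agent.H8.T.Fi23tZ
import Cfsg.Prelude.Def_Spor_Fi23
import Cfsg.Prelude.Def_Sporadic

/-!
# The presented Fischer group `Fi₂₃`
-/

set_option autoImplicit false
set_option linter.all false
set_option maxRecDepth 100000

namespace Cfsg.Agent.H8.Fi23P

open Cfsg.Spor

/-- letter function. -/
def sF {P : Type*} [Group P] (f : Fi23.Gen → P) : Nat → P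
  | 0 => f .a
  | 1 => f .b
  | 2 => f .c
  | 3 => f .d
  | 4 => f .e
  | 5 => f .f
  | 6 => f .g
  | 7 => f .j
  | 8 => f .h
  | 9 => f .i
  | _ => 1

theorem sF_sq {P : Type*} [Group P] (f : Fi23.Gen → P) (h : ∀ x, f x * f x = 1) : ∀ l, sF f l * sF f l = 1 := by
  intro l
  unfold sF
  split <;> first | exact h _ | exact one_mul 1

theorem base_of {P : Type*} [Group P] (f : Fi23.Gen → P)
    (hc : ∀ x y m, coxLabel Fi23.edges x y = m → (f x * f y) ^ m = 1)
    (h1 : (f .d * f .c * f .b * f .d * f .e * f .f * f .d * f .h * f .i) ^ 10 = 1)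
    (h2 : (f .a * f .b * f .c * f .d * f .e * f .f * f .h) ^ 9 = 1)
    : ∀ p ∈ Fi23t.relsP, ((p.1.map (sF f)).prod) ^ p.2 = 1 := by
  refine List.forall_mem_cons.2 ⟨(show (f .a * (f .b * 1)) ^ 3 = 1 from by rw [mul_one]; exact hc _ _ _ (by decide)), ?_⟩
  refine List.forall_mem_cons.2 ⟨(show (f .a * (f .c * 1)) ^ 2 = 1 from by rw [mul_one]; exact hc _ _ _ (by decide)), ?_⟩
  refine List.forall_mem_cons.2 ⟨(show (f .a * (f .d * 1)) ^ 2 = 1 from by rw [mul_one]; exact hc _ _ _ (by decide)), ?_⟩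
  refine List.forall_mem_cons.2 ⟨(show (f .a * (f .e * 1)) ^ 2 = 1 from by rw [mul_one]; exact hc _ _ _ (by decide)), ?_⟩
  refine List.forall_mem_cons.2 ⟨(show (f .a * (f .f * 1)) ^ 2 = 1 from by rw [mul_one]; exact hc _ _ _ (by decide)), ?_⟩
  refine List.forall_mem_cons.2 ⟨(show (f .a * (f .g * 1)) ^ 2 = 1 from by rw [mul_one]; exact hc _ _ _ (by decide)), ?_⟩
  refine List.forall_mem_cons.2 ⟨(show (f .a * (f .h * 1)) ^ 2 = 1 from by rw [mul_one]; exact hc _ _ _ (by decide)), ?_⟩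
  refine List.forall_mem_cons.2 ⟨(show (f .a * (f .i * 1)) ^ 2 = 1 from by rw [mul_one]; exact hc _ _ _ (by decide)), ?_⟩
  refine List.forall_mem_cons.2 ⟨(show (f .a * (f .j * 1)) ^ 2 = 1 from by rw [mul_one]; exact hc _ _ _ (by decide)), ?_⟩
  refine List.forall_mem_cons.2 ⟨(show (f .b * (f .c * 1)) ^ 3 = 1 from by rw [mul_one]; exact hc _ _ _ (by decide)), ?_⟩
  refine List.forall_mem_cons.2 ⟨(show (f .b * (f .d * 1)) ^ 2 = 1 from by rw [mul_one]; exact hc _ _ _ (by decide)), ?_⟩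
  refine List.forall_mem_cons.2 ⟨(show (f .b * (f .e * 1)) ^ 2 = 1 from by rw [mul_one]; exact hc _ _ _ (by decide)), ?_⟩
  refine List.forall_mem_cons.2 ⟨(show (f .b * (f .f * 1)) ^ 2 = 1 from by rw [mul_one]; exact hc _ _ _ (by decide)), ?_⟩
  refine List.forall_mem_cons.2 ⟨(show (f .b * (f .g * 1)) ^ 2 = 1 from by rw [mul_one]; exact hc _ _ _ (by decide)), ?_⟩
  refine List.forall_mem_cons.2 ⟨(show (f .b * (f .h * 1)) ^ 2 = 1 from by rw [mul_one]; exact hc _ _ _ (by decide)), ?_⟩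
  refine List.forall_mem_cons.2 ⟨(show (f .b * (f .i * 1)) ^ 2 = 1 from by rw [mul_one]; exact hc _ _ _ (by decide)), ?_⟩
  refine List.forall_mem_cons.2 ⟨(show (f .b * (f .j * 1)) ^ 2 = 1 from by rw [mul_one]; exact hc _ _ _ (by decide)), ?_⟩
  refine List.forall_mem_cons.2 ⟨(show (f .c * (f .d * 1)) ^ 3 = 1 from by rw [mul_one]; exact hc _ _ _ (by decide)), ?_⟩
  refine List.forall_mem_cons.2 ⟨(show (f .c * (f .e * 1)) ^ 2 = 1 from by rw [mul_one]; exact hc _ _ _ (by decide)), ?_⟩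
  refine List.forall_mem_cons.2 ⟨(show (f .c * (f .f * 1)) ^ 2 = 1 from by rw [mul_one]; exact hc _ _ _ (by decide)), ?_⟩
  refine List.forall_mem_cons.2 ⟨(show (f .c * (f .g * 1)) ^ 2 = 1 from by rw [mul_one]; exact hc _ _ _ (by decide)), ?_⟩
  refine List.forall_mem_cons.2 ⟨(show (f .c * (f .h * 1)) ^ 2 = 1 from by rw [mul_one]; exact hc _ _ _ (by decide)), ?_⟩
  refine List.forall_mem_cons.2 ⟨(show (f .c * (f .i * 1)) ^ 2 = 1 from by rw [mul_one]; exact hc _ _ _ (by decide)), ?_⟩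
  refine List.forall_mem_cons.2 ⟨(show (f .c * (f .j * 1)) ^ 2 = 1 from by rw [mul_one]; exact hc _ _ _ (by decide)), ?_⟩
  refine List.forall_mem_cons.2 ⟨(show (f .d * (f .e * 1)) ^ 3 = 1 from by rw [mul_one]; exact hc _ _ _ (by decide)), ?_⟩
  refine List.forall_mem_cons.2 ⟨(show (f .d * (f .f * 1)) ^ 2 = 1 from by rw [mul_one]; exact hc _ _ _ (by decide)), ?_⟩
  refine List.forall_mem_cons.2 ⟨(show (f .d * (f .g * 1)) ^ 2 = 1 from by rw [mul_one]; exact hc _ _ _ (by decide)), ?_⟩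
  refine List.forall_mem_cons.2 ⟨(show (f .d * (f .h * 1)) ^ 3 = 1 from by rw [mul_one]; exact hc _ _ _ (by decide)), ?_⟩
  refine List.forall_mem_cons.2 ⟨(show (f .d * (f .i * 1)) ^ 2 = 1 from by rw [mul_one]; exact hc _ _ _ (by decide)), ?_⟩
  refine List.forall_mem_cons.2 ⟨(show (f .d * (f .j * 1)) ^ 2 = 1 from by rw [mul_one]; exact hc _ _ _ (by decide)), ?_⟩
  refine List.forall_mem_cons.2 ⟨(show (f .e * (f .f * 1)) ^ 3 = 1 from by rw [mul_one]; exact hc _ _ _ (by decide)), ?_⟩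
  refine List.forall_mem_cons.2 ⟨(show (f .e * (f .g * 1)) ^ 2 = 1 from by rw [mul_one]; exact hc _ _ _ (by decide)), ?_⟩
  refine List.forall_mem_cons.2 ⟨(show (f .e * (f .h * 1)) ^ 2 = 1 from by rw [mul_one]; exact hc _ _ _ (by decide)), ?_⟩
  refine List.forall_mem_cons.2 ⟨(show (f .e * (f .i * 1)) ^ 2 = 1 from by rw [mul_one]; exact hc _ _ _ (by decide)), ?_⟩
  refine List.forall_mem_cons.2 ⟨(show (f .e * (f .j * 1)) ^ 2 = 1 from by rw [mul_one]; exact hc _ _ _ (by decide)), ?_⟩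
  refine List.forall_mem_cons.2 ⟨(show (f .f * (f .g * 1)) ^ 3 = 1 from by rw [mul_one]; exact hc _ _ _ (by decide)), ?_⟩
  refine List.forall_mem_cons.2 ⟨(show (f .f * (f .h * 1)) ^ 2 = 1 from by rw [mul_one]; exact hc _ _ _ (by decide)), ?_⟩
  refine List.forall_mem_cons.2 ⟨(show (f .f * (f .i * 1)) ^ 2 = 1 from by rw [mul_one]; exact hc _ _ _ (by decide)), ?_⟩
  refine List.forall_mem_cons.2 ⟨(show (f .f * (f .j * 1)) ^ 2 = 1 from by rw [mul_one]; exact hc _ _ _ (by decide)), ?_⟩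
  refine List.forall_mem_cons.2 ⟨(show (f .g * (f .h * 1)) ^ 2 = 1 from by rw [mul_one]; exact hc _ _ _ (by decide)), ?_⟩
  refine List.forall_mem_cons.2 ⟨(show (f .g * (f .i * 1)) ^ 2 = 1 from by rw [mul_one]; exact hc _ _ _ (by decide)), ?_⟩
  refine List.forall_mem_cons.2 ⟨(show (f .g * (f .j * 1)) ^ 3 = 1 from by rw [mul_one]; exact hc _ _ _ (by decide)), ?_⟩
  refine List.forall_mem_cons.2 ⟨(show (f .h * (f .i * 1)) ^ 3 = 1 from by rw [mul_one]; exact hc _ _ _ (by decide)), ?_⟩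
  refine List.forall_mem_cons.2 ⟨(show (f .h * (f .j * 1)) ^ 2 = 1 from by rw [mul_one]; exact hc _ _ _ (by decide)), ?_⟩
  refine List.forall_mem_cons.2 ⟨(show (f .i * (f .j * 1)) ^ 2 = 1 from by rw [mul_one]; exact hc _ _ _ (by decide)), ?_⟩
  refine List.forall_mem_cons.2 ⟨?_, ?_⟩
  · have e : ([3, 2, 1, 3, 4, 5, 3, 8, 9].map (sF f)).prod = f .d * f .c * f .b * f .d * f .e * f .f * f .d * f .h * f .i := by simp [sF, mul_assoc]
    change (([3, 2, 1, 3, 4, 5, 3, 8, 9].map (sF f)).prod) ^ 10 = 1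
    rw [e, h1]
  refine List.forall_mem_cons.2 ⟨?_, ?_⟩
  · have e : ([0, 1, 2, 3, 4, 5, 8].map (sF f)).prod = f .a * f .b * f .c * f .d * f .e * f .f * f .h := by simp [sF, mul_assoc]
    change (([0, 1, 2, 3, 4, 5, 8].map (sF f)).prod) ^ 9 = 1
    rw [e, h2]
  intro c hc
  exact absurd hc List.not_mem_nil

def pl : List (Fi23.Gen × ℕ × Fi23.Gen) := [(.a, 1, .a), (.b, 1, .b), (.c, 1, .c), (.d, 1, .d), (.e, 1, .e), (.f, 1, .f), (.g, 1, .g), (.j, 1, .j), (.h, 1, .h), (.i, 1, .i), (.a, 3, .b), (.a, 2, .c), (.a, 2, .d), (.a, 2, .e), (.a, 2, .f), (.a, 2, .g), (.a, 2, .j), (.a, 2, .h), (.a, 2, .i), (.b, 3, .c), (.b, 2, .d), (.b, 2, .e), (.b, 2, .f), (.b, 2, .g), (.b, 2, .j), (.b, 2, .h), (.b, 2, .i), (.c, 3, .d), (.c, 2, .e), (.c, 2, .f), (.c, 2, .g), (.c, 2, .j), (.c, 2, .h), (.c, 2, .i), (.d, 3, .e), (.d, 2, .f), (.d, 2, .g), (.d, 2, .j), (.d, 3, .h), (.d, 2, .i), (.e, 3, .f), (.e, 2, .g), (.e, 2, .j), (.e, 2, .h), (.e, 2, .i), (.f, 3, .g),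 (.f, 2, .j), (.f, 2, .h), (.f, 2, .i), (.g, 3, .j), (.g, 2, .h), (.g, 2, .i), (.j, 2, .h), (.j, 2, .i), (.h, 3, .i)]

theorem pl_cov : ∀ x y : Fi23.Gen, (x, coxLabel Fi23.edges x y, y) ∈ pl ∨ (y, coxLabel Fi23.edges x y, x) ∈ pl := by
  intro x y
  cases x <;> cases y <;> decide

theorem lift_of {P : Type*} [Group P] (f : Fi23.Gen → P) (hsq : ∀ x, f x * f x = 1)
    (hb : ∀ p ∈ Fi23t.relsP, ((p.1.map (sF f)).prod) ^ p.2 = 1) :
    ∀ r ∈ coxRelators Fi23.edges ∪ {r | r ∈ Fi23.extra}, FreeGroup.lift f r = 1 := by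
  rintro r (hr | hr)
  · refine cox_lift Fi23.edges f pl (fun x _ y _ => pl_cov x y) ?_ r hr
    unfold pl
    refine List.forall_mem_cons.2 ⟨(show (f .a * f .a) ^ 1 = 1 from by rw [pow_one]; exact hsq _), ?_⟩
    refine List.forall_mem_cons.2 ⟨(show (f .b * f .b) ^ 1 = 1 from by rw [pow_one]; exact hsq _), ?_⟩
    refine List.forall_mem_cons.2 ⟨(show (f .c * f .c) ^ 1 = 1 from by rw [pow_one]; exact hsq _), ?_⟩
    refine List.forall_mem_cons.2 ⟨(show (f .d * f .d) ^ 1 = 1 from by rw [pow_one]; exact hsq _), ?_⟩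
    refine List.forall_mem_cons.2 ⟨(show (f .e * f .e) ^ 1 = 1 from by rw [pow_one]; exact hsq _), ?_⟩
    refine List.forall_mem_cons.2 ⟨(show (f .f * f .f) ^ 1 = 1 from by rw [pow_one]; exact hsq _), ?_⟩
    refine List.forall_mem_cons.2 ⟨(show (f .g * f .g) ^ 1 = 1 from by rw [pow_one]; exact hsq _), ?_⟩
    refine List.forall_mem_cons.2 ⟨(show (f .j * f .j) ^ 1 = 1 from by rw [pow_one]; exact hsq _), ?_⟩
    refine List.forall_mem_cons.2 ⟨(show (f .h * f .h) ^ 1 = 1 from by rw [pow_one]; exact hsq _), ?_⟩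
    refine List.forall_mem_cons.2 ⟨(show (f .i * f .i) ^ 1 = 1 from by rw [pow_one]; exact hsq _), ?_⟩
    refine List.forall_mem_cons.2 ⟨(show (f .a * f .b) ^ 3 = 1 from by
      have h : (f .a * (f .b * 1)) ^ 3 = 1 := hb ([0, 1], 3) (by decide)
      rwa [mul_one] at h), ?_⟩
    refine List.forall_mem_cons.2 ⟨(show (f .a * f .c) ^ 2 = 1 from by
      have h : (f .a * (f .c * 1)) ^ 2 = 1 := hb ([0, 2], 2) (by decide)
      rwa [mul_one] at h), ?_⟩
    refine List.forall_mem_cons.2 ⟨(show (f .a * f .d) ^ 2 = 1 from by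
      have h : (f .a * (f .d * 1)) ^ 2 = 1 := hb ([0, 3], 2) (by decide)
      rwa [mul_one] at h), ?_⟩
    refine List.forall_mem_cons.2 ⟨(show (f .a * f .e) ^ 2 = 1 from by
      have h : (f .a * (f .e * 1)) ^ 2 = 1 := hb ([0, 4], 2) (by decide)
      rwa [mul_one] at h), ?_⟩
    refine List.forall_mem_cons.2 ⟨(show (f .a * f .f) ^ 2 = 1 from by
      have h : (f .a * (f .f * 1)) ^ 2 = 1 := hb ([0, 5], 2) (by decide)
      rwa [mul_one] at h), ?_⟩
    refine List.forall_mem_cons.2 ⟨(show (f .a * f .g) ^ 2 = 1 from by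
      have h : (f .a * (f .g * 1)) ^ 2 = 1 := hb ([0, 6], 2) (by decide)
      rwa [mul_one] at h), ?_⟩
    refine List.forall_mem_cons.2 ⟨(show (f .a * f .j) ^ 2 = 1 from by
      have h : (f .a * (f .j * 1)) ^ 2 = 1 := hb ([0, 7], 2) (by decide)
      rwa [mul_one] at h), ?_⟩
    refine List.forall_mem_cons.2 ⟨(show (f .a * f .h) ^ 2 = 1 from by
      have h : (f .a * (f .h * 1)) ^ 2 = 1 := hb ([0, 8], 2) (by decide)
      rwa [mul_one] at h), ?_⟩
    refine List.forall_mem_cons.2 ⟨(show (f .a * f .i) ^ 2 = 1 from by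
      have h : (f .a * (f .i * 1)) ^ 2 = 1 := hb ([0, 9], 2) (by decide)
      rwa [mul_one] at h), ?_⟩
    refine List.forall_mem_cons.2 ⟨(show (f .b * f .c) ^ 3 = 1 from by
      have h : (f .b * (f .c * 1)) ^ 3 = 1 := hb ([1, 2], 3) (by decide)
      rwa [mul_one] at h), ?_⟩
    refine List.forall_mem_cons.2 ⟨(show (f .b * f .d) ^ 2 = 1 from by
      have h : (f .b * (f .d * 1)) ^ 2 = 1 := hb ([1, 3], 2) (by decide)
      rwa [mul_one] at h), ?_⟩
    refine List.forall_mem_cons.2 ⟨(show (f .b * f .e) ^ 2 = 1 from by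
      have h : (f .b * (f .e * 1)) ^ 2 = 1 := hb ([1, 4], 2) (by decide)
      rwa [mul_one] at h), ?_⟩
    refine List.forall_mem_cons.2 ⟨(show (f .b * f .f) ^ 2 = 1 from by
      have h : (f .b * (f .f * 1)) ^ 2 = 1 := hb ([1, 5], 2) (by decide)
      rwa [mul_one] at h), ?_⟩
    refine List.forall_mem_cons.2 ⟨(show (f .b * f .g) ^ 2 = 1 from by
      have h : (f .b * (f .g * 1)) ^ 2 = 1 := hb ([1, 6], 2) (by decide)
      rwa [mul_one] at h), ?_⟩
    refine List.forall_mem_cons.2 ⟨(show (f .b * f .j) ^ 2 = 1 from by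
      have h : (f .b * (f .j * 1)) ^ 2 = 1 := hb ([1, 7], 2) (by decide)
      rwa [mul_one] at h), ?_⟩
    refine List.forall_mem_cons.2 ⟨(show (f .b * f .h) ^ 2 = 1 from by
      have h : (f .b * (f .h * 1)) ^ 2 = 1 := hb ([1, 8], 2) (by decide)
      rwa [mul_one] at h), ?_⟩
    refine List.forall_mem_cons.2 ⟨(show (f .b * f .i) ^ 2 = 1 from by
      have h : (f .b * (f .i * 1)) ^ 2 = 1 := hb ([1, 9], 2) (by decide)
      rwa [mul_one] at h), ?_⟩
    refine List.forall_mem_cons.2 ⟨(show (f .c * f .d) ^ 3 = 1 from by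
      have h : (f .c * (f .d * 1)) ^ 3 = 1 := hb ([2, 3], 3) (by decide)
      rwa [mul_one] at h), ?_⟩
    refine List.forall_mem_cons.2 ⟨(show (f .c * f .e) ^ 2 = 1 from by
      have h : (f .c * (f .e * 1)) ^ 2 = 1 := hb ([2, 4], 2) (by decide)
      rwa [mul_one] at h), ?_⟩
    refine List.forall_mem_cons.2 ⟨(show (f .c * f .f) ^ 2 = 1 from by
      have h : (f .c * (f .f * 1)) ^ 2 = 1 := hb ([2, 5], 2) (by decide)
      rwa [mul_one] at h), ?_⟩
    refine List.forall_mem_cons.2 ⟨(show (f .c * f .g) ^ 2 = 1 from by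
      have h : (f .c * (f .g * 1)) ^ 2 = 1 := hb ([2, 6], 2) (by decide)
      rwa [mul_one] at h), ?_⟩
    refine List.forall_mem_cons.2 ⟨(show (f .c * f .j) ^ 2 = 1 from by
      have h : (f .c * (f .j * 1)) ^ 2 = 1 := hb ([2, 7], 2) (by decide)
      rwa [mul_one] at h), ?_⟩
    refine List.forall_mem_cons.2 ⟨(show (f .c * f .h) ^ 2 = 1 from by
      have h : (f .c * (f .h * 1)) ^ 2 = 1 := hb ([2, 8], 2) (by decide)
      rwa [mul_one] at h), ?_⟩
    refine List.forall_mem_cons.2 ⟨(show (f .c * f .i) ^ 2 = 1 from by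
      have h : (f .c * (f .i * 1)) ^ 2 = 1 := hb ([2, 9], 2) (by decide)
      rwa [mul_one] at h), ?_⟩
    refine List.forall_mem_cons.2 ⟨(show (f .d * f .e) ^ 3 = 1 from by
      have h : (f .d * (f .e * 1)) ^ 3 = 1 := hb ([3, 4], 3) (by decide)
      rwa [mul_one] at h), ?_⟩
    refine List.forall_mem_cons.2 ⟨(show (f .d * f .f) ^ 2 = 1 from by
      have h : (f .d * (f .f * 1)) ^ 2 = 1 := hb ([3, 5], 2) (by decide)
      rwa [mul_one] at h), ?_⟩
    refine List.forall_mem_cons.2 ⟨(show (f .d * f .g) ^ 2 = 1 from by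
      have h : (f .d * (f .g * 1)) ^ 2 = 1 := hb ([3, 6], 2) (by decide)
      rwa [mul_one] at h), ?_⟩
    refine List.forall_mem_cons.2 ⟨(show (f .d * f .j) ^ 2 = 1 from by
      have h : (f .d * (f .j * 1)) ^ 2 = 1 := hb ([3, 7], 2) (by decide)
      rwa [mul_one] at h), ?_⟩
    refine List.forall_mem_cons.2 ⟨(show (f .d * f .h) ^ 3 = 1 from by
      have h : (f .d * (f .h * 1)) ^ 3 = 1 := hb ([3, 8], 3) (by decide)
      rwa [mul_one] at h), ?_⟩
    refine List.forall_mem_cons.2 ⟨(show (f .d * f .i) ^ 2 = 1 from by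
      have h : (f .d * (f .i * 1)) ^ 2 = 1 := hb ([3, 9], 2) (by decide)
      rwa [mul_one] at h), ?_⟩
    refine List.forall_mem_cons.2 ⟨(show (f .e * f .f) ^ 3 = 1 from by
      have h : (f .e * (f .f * 1)) ^ 3 = 1 := hb ([4, 5], 3) (by decide)
      rwa [mul_one] at h), ?_⟩
    refine List.forall_mem_cons.2 ⟨(show (f .e * f .g) ^ 2 = 1 from by
      have h : (f .e * (f .g * 1)) ^ 2 = 1 := hb ([4, 6], 2) (by decide)
      rwa [mul_one] at h), ?_⟩
    refine List.forall_mem_cons.2 ⟨(show (f .e * f .j) ^ 2 = 1 from by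
      have h : (f .e * (f .j * 1)) ^ 2 = 1 := hb ([4, 7], 2) (by decide)
      rwa [mul_one] at h), ?_⟩
    refine List.forall_mem_cons.2 ⟨(show (f .e * f .h) ^ 2 = 1 from by
      have h : (f .e * (f .h * 1)) ^ 2 = 1 := hb ([4, 8], 2) (by decide)
      rwa [mul_one] at h), ?_⟩
    refine List.forall_mem_cons.2 ⟨(show (f .e * f .i) ^ 2 = 1 from by
      have h : (f .e * (f .i * 1)) ^ 2 = 1 := hb ([4, 9], 2) (by decide)
      rwa [mul_one] at h), ?_⟩
    refine List.forall_mem_cons.2 ⟨(show (f .f * f .g) ^ 3 = 1 from by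
      have h : (f .f * (f .g * 1)) ^ 3 = 1 := hb ([5, 6], 3) (by decide)
      rwa [mul_one] at h), ?_⟩
    refine List.forall_mem_cons.2 ⟨(show (f .f * f .j) ^ 2 = 1 from by
      have h : (f .f * (f .j * 1)) ^ 2 = 1 := hb ([5, 7], 2) (by decide)
      rwa [mul_one] at h), ?_⟩
    refine List.forall_mem_cons.2 ⟨(show (f .f * f .h) ^ 2 = 1 from by
      have h : (f .f * (f .h * 1)) ^ 2 = 1 := hb ([5, 8], 2) (by decide)
      rwa [mul_one] at h), ?_⟩
    refine List.forall_mem_cons.2 ⟨(show (f .f * f .i) ^ 2 = 1 from by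
      have h : (f .f * (f .i * 1)) ^ 2 = 1 := hb ([5, 9], 2) (by decide)
      rwa [mul_one] at h), ?_⟩
    refine List.forall_mem_cons.2 ⟨(show (f .g * f .j) ^ 3 = 1 from by
      have h : (f .g * (f .j * 1)) ^ 3 = 1 := hb ([6, 7], 3) (by decide)
      rwa [mul_one] at h), ?_⟩
    refine List.forall_mem_cons.2 ⟨(show (f .g * f .h) ^ 2 = 1 from by
      have h : (f .g * (f .h * 1)) ^ 2 = 1 := hb ([6, 8], 2) (by decide)
      rwa [mul_one] at h), ?_⟩
    refine List.forall_mem_cons.2 ⟨(show (f .g * f .i) ^ 2 = 1 from by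
      have h : (f .g * (f .i * 1)) ^ 2 = 1 := hb ([6, 9], 2) (by decide)
      rwa [mul_one] at h), ?_⟩
    refine List.forall_mem_cons.2 ⟨(show (f .j * f .h) ^ 2 = 1 from by
      have h : (f .h * (f .j * 1)) ^ 2 = 1 := hb ([8, 7], 2) (by decide)
      rw [mul_one] at h
      exact pow_swap _ _ _ h), ?_⟩
    refine List.forall_mem_cons.2 ⟨(show (f .j * f .i) ^ 2 = 1 from by
      have h : (f .i * (f .j * 1)) ^ 2 = 1 := hb ([9, 7], 2) (by decide)
      rw [mul_one] at h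
      exact pow_swap _ _ _ h), ?_⟩
    refine List.forall_mem_cons.2 ⟨(show (f .h * f .i) ^ 3 = 1 from by
      have h : (f .h * (f .i * 1)) ^ 3 = 1 := hb ([8, 9], 3) (by decide)
      rwa [mul_one] at h), ?_⟩
    intro c hc
    exact absurd hc List.not_mem_nil
  · unfold Fi23.extra at hr
    simp only [Set.mem_ofPred_eq, List.mem_cons, List.not_mem_nil, or_false] at hr
    rcases hr with rfl | rfl
    · have h : (([3, 2, 1, 3, 4, 5, 3, 8, 9].map (sF f)).prod) ^ 10 = 1 := hb ([3, 2, 1, 3, 4, 5, 3, 8, 9], 10) (by decide)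
      have e : ([3, 2, 1, 3, 4, 5, 3, 8, 9].map (sF f)).prod = f .d * f .c * f .b * f .d * f .e * f .f * f .d * f .h * f .i := by simp [sF, mul_assoc]
      rw [e] at h
      simp only [map_mul, map_pow, map_inv, FreeGroup.lift_apply_of]
      exact h
    · have h : (([0, 1, 2, 3, 4, 5, 8].map (sF f)).prod) ^ 9 = 1 := hb ([0, 1, 2, 3, 4, 5, 8], 9) (by decide)
      have e : ([0, 1, 2, 3, 4, 5, 8].map (sF f)).prod = f .a * f .b * f .c * f .d * f .e * f .f * f .h := by simp [sF, mul_assoc]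
      rw [e] at h
      simp only [map_mul, map_pow, map_inv, FreeGroup.lift_apply_of]
      exact h

section grp

/-- the letters of the presented group. -/
def s : Nat → Fi23 := sF (fun x => (PresentedGroup.of x : Fi23))

theorem of_sq (x : Fi23.Gen) : (PresentedGroup.of x * PresentedGroup.of x : Fi23) = 1 := by
  have h := cox_rel Fi23.edges Fi23.extra x x 1 (by cases x <;> decide) (by cases x <;> decide) (by cases x <;> decide)
  rwa [pow_one] at h

theorem s_sq : ∀ l, s l * s l = 1 := sF_sq _ of_sq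

theorem s_inv : ∀ l, s l = (s l)⁻¹ := fun l => eq_inv_of_mul_eq_one_left (s_sq l)

theorem s_31 : s 31 = 1 := rfl

theorem s_top : letterGroup s 10 = ⊤ := by
  rw [eq_top_iff]
  have h : (⊤ : Subgroup Fi23) = Subgroup.closure (Set.range PresentedGroup.of) :=
    (PresentedGroup.closure_range_of _).symm
  rw [h, Subgroup.closure_le]
  rintro _ ⟨x, rfl⟩
  refine Subgroup.subset_closure ?_
  cases x
  · exact ⟨0, by decide, rfl⟩
  · exact ⟨1, by decide, rfl⟩
  · exact ⟨2, by decide, rfl⟩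
  · exact ⟨3, by decide, rfl⟩
  · exact ⟨4, by decide, rfl⟩
  · exact ⟨5, by decide, rfl⟩
  · exact ⟨6, by decide, rfl⟩
  · exact ⟨7, by decide, rfl⟩
  · exact ⟨8, by decide, rfl⟩
  · exact ⟨9, by decide, rfl⟩

/-- index of a generator. -/
def idx : Fi23.Gen → Nat
  | .a => 0
  | .b => 1
  | .c => 2
  | .d => 3
  | .e => 4
  | .f => 5
  | .g => 6
  | .j => 7
  | .h => 8
  | .i => 9

theorem sF_idx {P : Type*} [Group P] (t : Nat → P) : ∀ l < 10, sF (fun x => t (idx x)) l = t l := by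
  intro l hl
  interval_cases l <;> rfl

/-- the permutation representation attached to a checked table. -/
def homOf {P : Type*} [Group P] (t : Nat → P) (hsq : ∀ l, t l * t l = 1)
    (hb : ∀ p ∈ Fi23t.relsP, ((p.1.map t).prod) ^ p.2 = 1) : Fi23 →* P :=
  PresentedGroup.toGroup (f := fun x => t (idx x)) (lift_of _ (fun x => hsq _) (by
    intro p hp
    have h1 := hb p hp
    have h2 : p.1.map (sF (fun x => t (idx x))) = p.1.map t := by
      apply List.map_congr_left
      intro l hl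
      have : ∀ p ∈ Fi23t.relsP, ∀ l ∈ p.1, l < 10 := by decide
      exact sF_idx t l (this p hp l hl)
    rw [h2]
    exact h1))

theorem homOf_s {P : Type*} [Group P] (t : Nat → P) (hsq : ∀ l, t l * t l = 1)
    (hb : ∀ p ∈ Fi23t.relsP, ((p.1.map t).prod) ^ p.2 = 1) : ∀ l < 10, homOf t hsq hb (s l) = t l := by
  intro l hl
  have key : ∀ x, homOf t hsq hb (PresentedGroup.of x) = t (idx x) := fun x => PresentedGroup.toGroup.of _
  interval_cases l
  · exact key .a
  · exact key .b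
  · exact key .c
  · exact key .d
  · exact key .e
  · exact key .f
  · exact key .g
  · exact key .j
  · exact key .h
  · exact key .i

end grp

theorem baseP : ∀ p ∈ Fi23t.relsP, ((p.1.map s).prod) ^ p.2 = 1 := by
  have ex : ∀ r ∈ Fi23.extra, (PresentedGroup.mk (coxRelators Fi23.edges ∪ {r | r ∈ Fi23.extra}) r) = 1 :=
    fun r hr => cox_extra Fi23.edges Fi23.extra r hr
  refine base_of _ (fun x y m hm => cox_rel Fi23.edges Fi23.extra x y m (by cases x <;> decide)
    (by cases y <;> decide) hm) ?_ ?_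
  · have h := ex ((Fi23.d * Fi23.c * Fi23.b * Fi23.d * Fi23.e * Fi23.f * Fi23.d * Fi23.h * Fi23.i) ^ 10) (by simp [Fi23.extra])
    simp only [map_mul, map_pow, map_inv] at h
    exact h
  · have h := ex ((Fi23.a * Fi23.b * Fi23.c * Fi23.d * Fi23.e * Fi23.f * Fi23.h) ^ 9) (by simp [Fi23.extra])
    simp only [map_mul, map_pow, map_inv] at h
    exact h

/-- letters of the subgroup `⟨b, …, i⟩` without `j`. -/
def es1 : List Nat := [1, 2, 3, 4, 5, 6, 8, 9]
/-- letters `f e d c b a h i`. -/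
def es2 : List Nat := [5, 4, 3, 2, 1, 0, 8, 9]

theorem sub_ge (es : List Nat) (h : es.length = 8) (l : Nat) (hl : 8 ≤ l) : subS s es l = 1 := by
  unfold subS
  rw [List.getD_eq_default _ _ (by omega)]
  exact s_31

theorem rel1 : ∀ p ∈ Z322t.rels2, ((p.1.map (subS s es1)).prod) ^ p.2 = 1 :=
  rels_sub s es1 _ _ baseP (by decide)

theorem tr1 (w : List Nat) (hw : ∀ l ∈ w, l < 8)
    (h : allR (fun i => powT (w.map Z322t.T) i 1 i) 0 728 = true) :
    ((w.map (fun l => es1.getD l 31)).map s).prod = 1 := by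
  have := ZP.tr (subS s es1) (fun _ => s_sq _) (sub_ge es1 rfl) rel1 w hw h
  rw [List.map_map]
  exact this

theorem spider' : (([3, 4, 5, 3, 2, 1, 3, 8, 9].map s).prod) ^ 10 = 1 := by
  have h := tr1 _ (by decide) ZP.k5
  have e : ((wpow [2, 3, 4, 2, 1, 0, 2, 6, 7] 10).map (fun l => es1.getD l 31)) =
    wpow [3, 4, 5, 3, 2, 1, 3, 8, 9] 10 := by decide
  rw [e, wpow_prod] at h
  exact h

/-- more relators. -/
def base3 : List (List Nat × Nat) := ([3, 4, 5, 3, 2, 1, 3, 8, 9], 10) :: (Fi23t.relsP ++ Fi23t.relsP.map (fun p => (p.1.reverse, p.2)))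

theorem base3_ok : ∀ p ∈ base3, ((p.1.map s).prod) ^ p.2 = 1 := by
  intro p hp
  unfold base3 at hp
  rcases List.mem_cons.1 hp with rfl | hp
  · exact spider'
  rcases List.mem_append.1 hp with hp | hp
  · exact baseP p hp
  · obtain ⟨q, hq, rfl⟩ := List.mem_map.1 hp
    change ((q.1.reverse.map s).prod) ^ q.2 = 1
    rw [← word_inv s s_inv, inv_pow, baseP q hq, inv_one]

theorem rel2 : ∀ p ∈ Z322t.rels2, ((p.1.map (subS s es2)).prod) ^ p.2 = 1 :=
  rels_sub s es2 _ _ base3_ok (by decide)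

theorem tr2 (w : List Nat) (hw : ∀ l ∈ w, l < 8)
    (h : allR (fun i => powT (w.map Z322t.T) i 1 i) 0 728 = true) :
    ((w.map (fun l => es2.getD l 31)).map s).prod = 1 := by
  have := ZP.tr (subS s es2) (fun _ => s_sq _) (sub_ge es2 rfl) rel2 w hw h
  rw [List.map_map]
  exact this

theorem aux1 : (([4, 3, 8, 9, 2, 1, 0].map s).prod) ^ 9 = 1 := by
  have h := tr2 _ (by decide) ZP.k4
  have e : ((wpow [5, 4, 3, 2, 1, 0, 6] 9 ++ (wpow [1, 2, 6, 7, 3, 4, 5] 9).reverse).map (fun l => es2.getD l 31)) =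
    wpow [0, 1, 2, 3, 4, 5, 8] 9 ++ (wpow [4, 3, 8, 9, 2, 1, 0] 9).reverse := by decide
  rw [e] at h
  have h2 := word_eq s s_inv _ _ h
  rw [wpow_prod, wpow_prod] at h2
  have h3 : ((([0, 1, 2, 3, 4, 5, 8] : List Nat).map s).prod) ^ 9 = 1 := baseP ([0, 1, 2, 3, 4, 5, 8], 9) (by decide)
  rw [← h2, h3]

/-- the central word of `⟨a, …, i⟩`. -/
def zw : List Nat := wpow [1, 2, 3, 4, 5, 6, 8] 9

theorem zw_eq : ZP.zw.map (fun l => es1.getD l 31) = zw := by decide

theorem aux2 : (((zw ++ wpow [2, 3, 4, 5, 6, 8, 9] 9).map s).prod) ^ 1 = 1 := by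
  rw [pow_one]
  have h := tr1 _ (by decide) ZP.k1
  have e : ((ZP.zw ++ wpow [1, 2, 3, 4, 5, 6, 7] 9).map (fun l => es1.getD l 31)) =
    zw ++ wpow [2, 3, 4, 5, 6, 8, 9] 9 := by decide
  rw [e] at h
  exact h

theorem zz : (zw.map s).prod * (zw.map s).prod = 1 := by
  have h := tr1 _ (by decide) ZP.k2
  have e : ((ZP.zw ++ ZP.zw).map (fun l => es1.getD l 31)) = zw ++ zw := by decide
  rw [e, List.map_append, List.prod_append] at h
  exact h

theorem zcomm (l m : Nat) (hlm : es1.getD m 31 = l)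
    (h : (([m] ++ ZP.zw ++ [m] ++ ZP.zw).map (fun l => es1.getD l 31)) = [l] ++ zw ++ [l] ++ zw)
    (h2 : ∀ x ∈ [m] ++ ZP.zw ++ [m] ++ ZP.zw, x < 8)
    (h1 : allR (fun i => powT (([m] ++ ZP.zw ++ [m] ++ ZP.zw).map Z322t.T) i 1 i) 0 728 = true) :
    s l * (zw.map s).prod = (zw.map s).prod * s l := by
  have h3 := tr1 _ h2 h1
  rw [h] at h3
  simp only [List.map_append, List.prod_append, List.map_cons, List.map_nil, List.prod_cons, List.prod_nil,
    mul_one] at h3
  have h4 : (s l * (zw.map s).prod) * (s l * (zw.map s).prod) = 1 := by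
    rw [← h3]; simp only [mul_assoc]
  have h5 : s l * (zw.map s).prod = (s l * (zw.map s).prod)⁻¹ := eq_inv_of_mul_eq_one_left h4
  rw [mul_inv_rev, ← s_inv, ← eq_inv_of_mul_eq_one_left zz] at h5
  exact h5

theorem zc1 : s 1 * (zw.map s).prod = (zw.map s).prod * s 1 := zcomm 1 0 (by decide) (by decide) (by decide) ZP.k3_0
theorem zc2 : s 2 * (zw.map s).prod = (zw.map s).prod * s 2 := zcomm 2 1 (by decide) (by decide) (by decide) ZP.k3_1
theorem zc3 : s 3 * (zw.map s).prod = (zw.map s).prod * s 3 := zcomm 3 2 (by decide) (by decide) (by decide) ZP.k3_2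
theorem zc4 : s 4 * (zw.map s).prod = (zw.map s).prod * s 4 := zcomm 4 3 (by decide) (by decide) (by decide) ZP.k3_3
theorem zc5 : s 5 * (zw.map s).prod = (zw.map s).prod * s 5 := zcomm 5 4 (by decide) (by decide) (by decide) ZP.k3_4
theorem zc6 : s 6 * (zw.map s).prod = (zw.map s).prod * s 6 := zcomm 6 5 (by decide) (by decide) (by decide) ZP.k3_5
theorem zc8 : s 8 * (zw.map s).prod = (zw.map s).prod * s 8 := zcomm 8 6 (by decide) (by decide) (by decide) ZP.k3_6
theorem zc9 : s 9 * (zw.map s).prod = (zw.map s).prod * s 9 := zcomm 9 7 (by decide) (by decide) (by decide) ZP.k3_7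

theorem comm_of_rel (k l : Nat) (h : ([k, l], 2) ∈ Fi23t.relsP) : s k * s l = s l * s k := by
  have r := baseP _ h
  have r' : (s k * s l) ^ 2 = 1 := by simpa using r
  rw [pow_two] at r'
  have h1 : s k * s l = (s k * s l)⁻¹ := eq_inv_of_mul_eq_one_left r'
  rw [mul_inv_rev, ← s_inv, ← s_inv] at h1
  exact h1

theorem zc0 : s 0 * (zw.map s).prod = (zw.map s).prod * s 0 := by
  have e : (zw.map s).prod = ((wpow [2, 3, 4, 5, 6, 8, 9] 9).map s).prod⁻¹ := by
    have h := aux2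
    rw [pow_one, List.map_append, List.prod_append] at h
    exact eq_inv_of_mul_eq_one_left h
  have hc : ∀ l ∈ [2, 3, 4, 5, 6, 8, 9], Commute (s 0) (s l) := by
    intro l hl
    simp only [List.mem_cons, List.not_mem_nil, or_false] at hl
    rcases hl with rfl | rfl | rfl | rfl | rfl | rfl | rfl
    · exact comm_of_rel 0 2 (by decide)
    · exact comm_of_rel 0 3 (by decide)
    · exact comm_of_rel 0 4 (by decide)
    · exact comm_of_rel 0 5 (by decide)
    · exact comm_of_rel 0 6 (by decide)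
    · exact comm_of_rel 0 8 (by decide)
    · exact comm_of_rel 0 9 (by decide)
  have h2 : Commute (s 0) (((wpow [2, 3, 4, 5, 6, 8, 9] 9).map s).prod) := by
    apply Commute.list_prod_right
    intro x hx
    obtain ⟨l, hl, rfl⟩ := List.mem_map.1 hx
    have : ∀ l ∈ wpow [2, 3, 4, 5, 6, 8, 9] 9, l ∈ [2, 3, 4, 5, 6, 8, 9] := by decide
    exact hc l (this l hl)
  rw [e]
  exact h2.inv_right

theorem aux_sq (l : Nat) (h : s l * (zw.map s).prod = (zw.map s).prod * s l) :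
    ((([l] ++ zw).map s).prod) ^ 2 = 1 := by
  have e : (([l] ++ zw).map s).prod = s l * (zw.map s).prod := by simp
  rw [e, pow_two]
  calc s l * (zw.map s).prod * (s l * (zw.map s).prod)
      = (zw.map s).prod * s l * (s l * (zw.map s).prod) := by rw [h]
    _ = (zw.map s).prod * ((s l * s l) * (zw.map s).prod) := by simp only [mul_assoc]
    _ = 1 := by rw [s_sq, one_mul, zz]

/-- the auxiliary relators. -/
def auxL : List (List Nat × Nat) := [([4, 3, 8, 9, 2, 1, 0], 9), (zw ++ wpow [2, 3, 4, 5, 6, 8, 9] 9, 1),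
  ([0] ++ zw, 2), ([9] ++ zw, 2)]

theorem rels2_eq : Fi23t.rels2 = Fi23t.relsP ++ auxL := by decide

theorem base : ∀ p ∈ Fi23t.rels2, ((p.1.map s).prod) ^ p.2 = 1 := by
  rw [rels2_eq]
  intro p hp
  rcases List.mem_append.1 hp with hp | hp
  · exact baseP p hp
  · unfold auxL at hp
    simp only [List.mem_cons, List.not_mem_nil, or_false] at hp
    rcases hp with rfl | rfl | rfl | rfl
    · exact aux1
    · exact aux2
    · exact aux_sq 0 zc0
    · exact aux_sq 9 zc9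

/-! ### Order -/

theorem fi23_upper : Finite (letterGroup s 10) ∧ Nat.card (letterGroup s 10) ≤ 4089470473293004800 := by
  have h1 := A1t.upper (subS s [1]) (subS_inv s _ s_inv) (subS_31 s _ s_31)
    (rels_sub s [1] _ _ base (by decide)) ⊥ (by intro w hw; exact absurd hw (by decide +revert)) inferInstance
  have h2 := A2t.upper (subS s [1, 2]) (subS_inv s _ s_inv) (subS_31 s _ s_31)
    (rels_sub s [1, 2] _ _ base (by decide)) _ (sub_mem s [1, 2] [1] 1 _ (by decide)) h1.1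
  have h3 := A3t.upper (subS s [1, 2, 3]) (subS_inv s _ s_inv) (subS_31 s _ s_31)
    (rels_sub s [1, 2, 3] _ _ base (by decide)) _ (sub_mem s [1, 2, 3] [1, 2] 2 _ (by decide)) h2.1
  have h4 := A4t.upper (subS s [1, 2, 3, 4]) (subS_inv s _ s_inv) (subS_31 s _ s_31)
    (rels_sub s [1, 2, 3, 4] _ _ base (by decide)) _ (sub_mem s [1, 2, 3, 4] [1, 2, 3] 3 _ (by decide)) h3.1
  have h5 := D5t.upper (subS s [1, 2, 3, 4, 8]) (subS_inv s _ s_inv) (subS_31 s _ s_31)
    (rels_sub s [1, 2, 3, 4, 8] _ _ base (by decide)) _ (sub_mem s [1, 2, 3, 4, 8] [1, 2, 3, 4] 4 _ (by decide)) h4.1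
  have h6 := E6t.upper (subS s [1, 2, 3, 4, 5, 8]) (subS_inv s _ s_inv) (subS_31 s _ s_31)
    (rels_sub s [1, 2, 3, 4, 5, 8] _ _ base (by decide)) _
    (sub_mem s [1, 2, 3, 4, 5, 8] [1, 2, 3, 4, 8] 5 _ (by decide)) h5.1
  have h7 := O73dt.upper (subS s [1, 2, 3, 4, 5, 8, 9]) (subS_inv s _ s_inv) (subS_31 s _ s_31)
    (rels_sub s [1, 2, 3, 4, 5, 8, 9] _ _ base (by decide)) _
    (sub_mem s [1, 2, 3, 4, 5, 8, 9] [1, 2, 3, 4, 5, 8] 6 _ (by decide)) h6.1
  have h8 := Z322t.upper (subS s [1, 2, 3, 4, 5, 6, 8, 9]) (subS_inv s _ s_inv) (subS_31 s _ s_31)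
    (rels_sub s [1, 2, 3, 4, 5, 6, 8, 9] _ _ base (by decide)) _
    (sub_mem s [1, 2, 3, 4, 5, 6, 8, 9] [1, 2, 3, 4, 5, 8, 9] 7 _ (by decide)) h7.1
  have h9 := X22t.upper (subS s [0, 1, 2, 3, 4, 5, 6, 8, 9]) (subS_inv s _ s_inv) (subS_31 s _ s_31)
    (rels_sub s [0, 1, 2, 3, 4, 5, 6, 8, 9] _ _ base (by decide)) _
    (sub_mem s [0, 1, 2, 3, 4, 5, 6, 8, 9] [1, 2, 3, 4, 5, 6, 8, 9] 8 _ (by decide)) h8.1
  have h10 := Fi23t.upper s s_inv s_31 base (letterGroup (subS s [0, 1, 2, 3, 4, 5, 6, 8, 9]) 9) (by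
    intro w hw
    have := sub_mem s [0, 1, 2, 3, 4, 5, 6, 7, 8, 9] [0, 1, 2, 3, 4, 5, 6, 8, 9] 9 Fi23t.subw (by decide) w hw
    have h5 : w.map (subS s [0, 1, 2, 3, 4, 5, 6, 7, 8, 9]) = w.map s := by
      apply List.map_congr_left
      intro l hl
      have : ∀ w ∈ Fi23t.subw, ∀ l ∈ w, l < 10 := by decide
      exact subS_id s [0, 1, 2, 3, 4, 5, 6, 7, 8, 9] 10 (by decide) l (this w hw l hl)
    rw [h5] at this
    exact this) h9.1
  refine ⟨h10.1, ?_⟩
  have e1 : Nat.card (⊥ : Subgroup Fi23) = 1 := by simp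
  rw [e1] at h1
  omega

theorem finite_and_card_le : Finite Fi23 ∧ Nat.card Fi23 ≤ 4089470473293004800 := by
  have h := fi23_upper
  rw [s_top] at h
  refine ⟨?_, ?_⟩
  · have := h.1
    exact Finite.of_equiv _ Subgroup.topEquiv.toEquiv
  · rw [Subgroup.card_top] at h
    exact h.2

instance fi23_finite : Finite Fi23 := finite_and_card_le.1

noncomputable def ρ : Fi23 →* Equiv.Perm (Fin 31671) :=
  homOf (permL Fi23t.tok) (permL_sq Fi23t.tok) Fi23t.relp

theorem hρ : ∀ l < 10, ρ (s l) = permL Fi23t.tok l := homOf_s _ _ _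

theorem hρ' : ∀ l, ρ (s l) = permL Fi23t.tok l := by
  intro l
  rcases Nat.lt_or_ge l 10 with h | h
  · exact hρ l h
  · have h1 : s l = 1 := by
      match l, h with
      | (k + 10), _ => rfl
    rw [h1, map_one, permL_ge Fi23t.tok l (by omega)]

theorem lowerP : 4089470473293004800 ≤ Nat.card (wordGroup (permL Fi23t.tok) Fi23t.chG0) := by
  have h1 := Fi23t.ch_lower (permL Fi23t.tok) (MonoidHom.id _) (fun l _ => rfl)
  omega

theorem ρ_injective : Function.Injective ρ := by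
  apply injective_of_card ρ (wordGroup (permL Fi23t.tok) Fi23t.chG0)
  · rw [← RG.map_wordGroup ρ s _ hρ' Fi23t.chG0]
    rintro _ ⟨x, _, rfl⟩
    exact ⟨x, rfl⟩
  · exact le_trans finite_and_card_le.2 lowerP
  · infer_instance

theorem card_fi23 : Nat.card Fi23 = 4089470473293004800 := by
  apply le_antisymm finite_and_card_le.2
  refine le_trans lowerP ?_
  have h0 := RG.map_wordGroup ρ s _ hρ' Fi23t.chG0
  rw [← h0]
  exact card_map_le' ρ _

theorem nontrivial_fi23 : Nontrivial Fi23 := by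
  apply Finite.one_lt_card_iff_nontrivial.1
  rw [card_fi23]; decide

theorem index_stab : (wordGroup s Fi23t.clG).index = 31671 ∧
    wordGroup s Fi23t.clG = stabOf ρ ⟨0, by decide⟩ := by
  have hle : wordGroup s Fi23t.clG ≤ stabOf ρ ⟨0, by decide⟩ :=
    wordGroup_le_stabOf s Fi23t.tok ρ hρ _ _ (by decide +kernel)
  have h2 := Fi23t.upperIndex s s_inv s_31 base (wordGroup s Fi23t.clG)
    (fun w hw => mem_wordGroup s _ w (by revert w hw; decide)) s_top
  exact index_and_stab ρ _ _ hle (Fi23t.rho_tr s ρ hρ) h2 (by decide)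

theorem coatom : IsCoatom (stabOf ρ ⟨0, by decide⟩) := Fi23t.cl_coatom s ρ hρ index_stab.2.symm

theorem orbit_len (c k : Nat) (i : Fin 31671) (hi : Fi23t.clC i = c)
    (hk : cntC Fi23t.clC c k 31671 0 = true) :
    ∃ q : Fi23 ⧸ wordGroup s Fi23t.clG, (MulAction.orbit (wordGroup s Fi23t.clG) q).ncard = k := by
  obtain ⟨g, hg⟩ := Fi23t.rho_tr s ρ hρ i
  refine ⟨QuotientGroup.mk g, ?_⟩
  rw [orbit_ncard_eq ρ ⟨0, by decide⟩ _ index_stab.2 g, hg,
    cls_orbit s Fi23t.tok ρ hρ Fi23t.clC Fi23t.clQ Fi23t.clG Fi23t.clR (by decide) Fi23t.clOK i, hi]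
  exact cntC_ncard _ _ _ _ hk

/-! ### Simplicity -/

theorem wd (w : List Nat) (hw : ∀ l ∈ w, l < 10)
    (h : allR (fun i => powT (w.map Fi23t.T) i 1 i) 0 31671 = true) : (w.map s).prod = 1 :=
  word_eq_one s Fi23t.tok ρ hρ ρ_injective w hw h

theorem Wf_eq (i : Nat) (hi : i < 31671) : trN Fi23t.T [1, 2, 3, 4, 5, 6, 8] i = Fi23t.Wf i := by
  have h := allR_zero _ _ Fi23t.zk1 i hi
  have h' : trT ([1, 2, 3, 4, 5, 6, 8].map Fi23t.T) (fun x => Nat.beq x (Fi23t.Wf i)) i = true := h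
  rw [trT_eq] at h'
  exact Nat.eq_of_beq_eq_true h'

theorem W3f_eq (i : Nat) (hi : i < 31671) : Fi23t.Wf (Fi23t.Wf (Fi23t.Wf i)) = Fi23t.W3f i := by
  have h := allR_zero _ _ Fi23t.zk2 i hi
  have h' : trT (([0, 0, 0] : List Nat).map (fun _ => Fi23t.Wf)) (fun x => Nat.beq x (Fi23t.W3f i)) i = true := h
  rw [trT_eq] at h'
  exact Nat.eq_of_beq_eq_true h'

theorem Zf_eq (i : Nat) (hi : i < 31671) : Fi23t.W3f (Fi23t.W3f (Fi23t.W3f i)) = Fi23t.Zf i := by
  have h := allR_zero _ _ Fi23t.zk3 i hi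
  have h' : trT (([0, 0, 0] : List Nat).map (fun _ => Fi23t.W3f)) (fun x => Nat.beq x (Fi23t.Zf i)) i = true := h
  rw [trT_eq] at h'
  exact Nat.eq_of_beq_eq_true h'

theorem trN_lt (w : List Nat) (hw : ∀ l ∈ w, l < 10) (i : Nat) (hi : i < 31671) : trN Fi23t.T w i < 31671 := by
  induction w generalizing i with
  | nil => exact hi
  | cons l w ih =>
    exact ih (fun l' h => hw l' (List.mem_cons_of_mem _ h)) _
      (Fi23t.tok.lt l (hw l List.mem_cons_self) i hi)

theorem trN_zw (i : Nat) (hi : i < 31671) : trN Fi23t.T zw i = Fi23t.Zf i := by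
  have e : zw = [1, 2, 3, 4, 5, 6, 8] ++ ([1, 2, 3, 4, 5, 6, 8] ++ ([1, 2, 3, 4, 5, 6, 8] ++
    ([1, 2, 3, 4, 5, 6, 8] ++ ([1, 2, 3, 4, 5, 6, 8] ++ ([1, 2, 3, 4, 5, 6, 8] ++
    ([1, 2, 3, 4, 5, 6, 8] ++ ([1, 2, 3, 4, 5, 6, 8] ++ [1, 2, 3, 4, 5, 6, 8]))))))) := by decide
  have hlt : ∀ i < 31671, Fi23t.Wf i < 31671 := fun i hi => by
    rw [← Wf_eq i hi]; exact trN_lt _ (by decide) i hi
  have hlt3 : ∀ i < 31671, Fi23t.W3f i < 31671 := fun i hi => by
    rw [← W3f_eq i hi]; exact hlt _ (hlt _ (hlt _ hi))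
  rw [e]
  simp only [trN_append]
  rw [Wf_eq i hi, Wf_eq _ (hlt _ hi), Wf_eq _ (hlt _ (hlt _ hi)), W3f_eq i hi]
  have h3 := hlt3 i hi
  rw [Wf_eq _ h3, Wf_eq _ (hlt _ h3), Wf_eq _ (hlt _ (hlt _ h3)), W3f_eq _ h3]
  have h4 := hlt3 _ h3
  rw [Wf_eq _ h4, Wf_eq _ (hlt _ h4), Wf_eq _ (hlt _ (hlt _ h4)), W3f_eq _ h4]
  exact Zf_eq i hi

theorem jz_tr (i : Nat) (hi : i < 31671) :
    trN Fi23t.T ([7] ++ (zw ++ ([7] ++ (zw ++ ([7] ++ zw))))) i = i := by
  have h7 : ∀ i < 31671, trN Fi23t.T [7] i < 31671 := fun i hi => trN_lt _ (by decide) i hi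
  have hz : ∀ i < 31671, trN Fi23t.T zw i < 31671 := fun i hi => trN_lt _ (by decide) i hi
  simp only [trN_append]
  have a1 := h7 i hi
  have a2 := hz _ a1
  have a3 := h7 _ a2
  have a4 := hz _ a3
  have a5 := h7 _ a4
  have h := allR_zero _ _ Fi23t.zk4 i hi
  have h' : trT (([0, 1, 0, 1, 0, 1] : List Nat).map
      (fun k => @Nat.rec (fun _ => Nat → Nat) Fi23t.T7 (fun _ _ => Fi23t.Zf) k)) (fun x => Nat.beq x i) i = true := h
  rw [trT_eq] at h'
  have h2 := Nat.eq_of_beq_eq_true h'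
  have h3 : Fi23t.Zf (Fi23t.T7 (Fi23t.Zf (Fi23t.T7 (Fi23t.Zf (Fi23t.T7 i))))) = i := h2
  rw [trN_zw _ a5, trN_zw _ a3, trN_zw _ a1]
  exact h3

theorem jz : (s 7 * (zw.map s).prod) ^ 3 = 1 := by
  have e : (s 7 * (zw.map s).prod) ^ 3 = (([7] ++ (zw ++ ([7] ++ (zw ++ ([7] ++ zw))))).map s).prod := by
    simp only [List.map_append, List.prod_append, List.map_singleton, List.prod_singleton, pow_succ, pow_zero,
      one_mul, mul_assoc]
  rw [e]
  apply ρ_injective
  rw [map_one, ← inv_eq_one]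
  ext i
  rw [rho_word s Fi23t.tok ρ hρ _ (by decide) i, jz_tr i i.2]
  rfl

theorem collapse {P : Type*} [Group P] (t : Nat → P) (hsq : ∀ l, t l * t l = 1)
    (hrel : ∀ p ∈ Fi23t.relsP, ((p.1.map t).prod) ^ p.2 = 1) (h7 : t 7 = 1) : ∀ l < 10, t l = 1 := by
  have step : ∀ i j, ([i, j], 3) ∈ Fi23t.relsP → t i = 1 → t j = 1 := by
    intro i j hm hi
    have r := hrel _ hm
    exact eq_one_of_sq_of_odd (t j) 1 (hsq j) (by simpa [hi] using r)
  have step' : ∀ i j, ([i, j], 3) ∈ Fi23t.relsP → t j = 1 → t i = 1 := by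
    intro i j hm hi
    have r := hrel _ hm
    exact eq_one_of_sq_of_odd (t i) 1 (hsq i) (by simpa [hi] using r)
  have h6 := step' 6 7 (by decide) h7
  have h5 := step' 5 6 (by decide) h6
  have h4 := step' 4 5 (by decide) h5
  have h3 := step' 3 4 (by decide) h4
  have h2 := step' 2 3 (by decide) h3
  have h1 := step' 1 2 (by decide) h2
  have h0 := step' 0 1 (by decide) h1
  have h8 := step 3 8 (by decide) h3
  have h9 := step 8 9 (by decide) h8
  intro l hl
  interval_cases l <;> assumption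

theorem collapse_comm {P : Type*} [CommGroup P] (t : Nat → P) (hsq : ∀ l, t l * t l = 1)
    (hrel : ∀ p ∈ Fi23t.relsP, ((p.1.map t).prod) ^ p.2 = 1) : ∀ l < 10, t l = 1 := by
  have cube : ∀ x y : P, x * x = 1 → y * y = 1 → (x * y) ^ 3 = 1 → x = y := by
    intro x y hx hy h
    have h1 : (x * y) * (x * y) = 1 := by
      calc (x * y) * (x * y) = (x * x) * (y * y) := by simp only [mul_assoc, mul_left_comm, mul_comm]
        _ = 1 := by rw [hx, hy, one_mul]
    have h2 : x * y = 1 := eq_one_of_sq_of_odd (x * y) 1 h1 h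
    calc x = x * (y * y) := by rw [hy, mul_one]
      _ = y := by rw [← mul_assoc, h2, one_mul]
  have step : ∀ i j, ([i, j], 3) ∈ Fi23t.relsP → t i = t j := by
    intro i j hm
    have r := hrel _ hm
    exact cube _ _ (hsq _) (hsq _) (by simpa using r)
  have h1 := step 0 1 (by decide)
  have h2 := step 1 2 (by decide)
  have h3 := step 2 3 (by decide)
  have h4 := step 3 4 (by decide)
  have h8 := step 3 8 (by decide)
  have h5 := step 4 5 (by decide)
  have h6 := step 5 6 (by decide)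
  have h7 := step 6 7 (by decide)
  have r := hrel ([0, 1, 2, 3, 4, 5, 8], 9) (by decide)
  have e : (([0, 1, 2, 3, 4, 5, 8] : List Nat).map t).prod = t 0 := by
    simp only [List.map_cons, List.map_nil, List.prod_cons, List.prod_nil, mul_one]
    rw [← h8, ← h5, ← h4, ← h3, ← h2, ← h1]
    simp only [hsq, mul_one]
  have r' : ((([0, 1, 2, 3, 4, 5, 8] : List Nat).map t).prod) ^ 9 = 1 := r
  rw [e] at r'
  have h0 := eq_one_of_sq_of_odd (t 0) 4 (hsq 0) r'
  exact collapse t hsq hrel (by rw [← h7, ← h6, ← h5, ← h4, ← h3, ← h2, ← h1, h0])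

/-- the distinguished involution. -/
noncomputable def z : Fi23 := (zw.map s).prod

theorem normalClosure_A : Subgroup.normalClosure ((Subgroup.zpowers z : Subgroup Fi23) : Set Fi23) = ⊤ := by
  apply normalClosure_of_letters s 10 s_top _ inferInstance
  set N := Subgroup.normalClosure ((Subgroup.zpowers z : Subgroup Fi23) : Set Fi23) with hN
  apply collapse (fun l => QuotientGroup.mk' N (s l))
  · intro l
    rw [← map_mul, s_sq, map_one]
  · intro p hp
    have := baseP p hp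
    have h2 := congrArg (QuotientGroup.mk' N) this
    rw [map_pow, map_list_prod, List.map_map, map_one] at h2
    exact h2
  · have h1 : QuotientGroup.mk' N z = 1 := by
      rw [QuotientGroup.mk'_apply, QuotientGroup.eq_one_iff]
      exact Subgroup.subset_normalClosure (Subgroup.mem_zpowers _)
    have h2 := congrArg (QuotientGroup.mk' N) jz
    rw [map_pow, map_mul, map_one] at h2
    change (QuotientGroup.mk' N (s 7) * QuotientGroup.mk' N z) ^ 3 = 1 at h2
    rw [h1, mul_one] at h2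
    exact eq_one_of_sq_of_odd _ 1 (by rw [← map_mul, s_sq, map_one]) h2

theorem perfect : commutator Fi23 = ⊤ := by
  apply perfect_of_letters s 10 s_top
  apply collapse_comm (fun l => (Abelianization.of (s l) : Abelianization Fi23))
  · intro l
    rw [← map_mul, s_sq, map_one]
  · intro p hp
    have := baseP p hp
    have h2 := congrArg (Abelianization.of (G := Fi23)) this
    rw [map_pow, map_list_prod, List.map_map, map_one] at h2
    exact h2

theorem clG_eq : Fi23t.clG = [[0], [1], [2], [3], [4], [5], [6], [8], [9]] := by decide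

theorem z_central : ∀ g ∈ wordGroup s Fi23t.clG, g * z = z * g := by
  intro g hg
  have hc : wordGroup s Fi23t.clG ≤ Subgroup.centralizer {z} := by
    unfold wordGroup
    rw [Subgroup.closure_le]
    rintro _ ⟨w, hw, rfl⟩
    rw [SetLike.mem_coe, Subgroup.mem_centralizer_singleton_iff]
    rw [clG_eq] at hw
    simp only [List.mem_cons, List.not_mem_nil, or_false] at hw
    rcases hw with rfl | rfl | rfl | rfl | rfl | rfl | rfl | rfl | rfl
    · rw [List.map_singleton, List.prod_singleton]; exact zc0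
    · rw [List.map_singleton, List.prod_singleton]; exact zc1
    · rw [List.map_singleton, List.prod_singleton]; exact zc2
    · rw [List.map_singleton, List.prod_singleton]; exact zc3
    · rw [List.map_singleton, List.prod_singleton]; exact zc4
    · rw [List.map_singleton, List.prod_singleton]; exact zc5
    · rw [List.map_singleton, List.prod_singleton]; exact zc6
    · rw [List.map_singleton, List.prod_singleton]; exact zc8
    · rw [List.map_singleton, List.prod_singleton]; exact zc9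
  have := hc hg
  rw [Subgroup.mem_centralizer_singleton_iff] at this
  exact this

theorem simple : IsSimpleGroup Fi23 := by
  haveI := nontrivial_fi23
  refine simple_of_coatom_abelian (stabOf ρ ⟨0, by decide⟩) (Subgroup.zpowers z) coatom
    (core_free ρ _ ρ_injective (Fi23t.rho_tr s ρ hρ)) ?_ ?_ normalClosure_A perfect
  · intro h hh a ha
    obtain ⟨i, rfl⟩ := Subgroup.mem_zpowers_iff.1 ha
    rw [← index_stab.2] at hh
    have h1 : h * z * h⁻¹ = z := by rw [z_central h hh]; group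
    rw [← conj_zpow, h1]
    exact Subgroup.mem_zpowers_iff.2 ⟨i, rfl⟩
  · intro a ha b hb
    obtain ⟨i, rfl⟩ := Subgroup.mem_zpowers_iff.1 ha
    obtain ⟨j, rfl⟩ := Subgroup.mem_zpowers_iff.1 hb
    exact zpow_mul_comm z i j

theorem H_eq : ((Subgroup.closure ({Fi23.a, Fi23.b, Fi23.c, Fi23.d, Fi23.e, Fi23.f, Fi23.g, Fi23.h, Fi23.i} :
    Set (FreeGroup Fi23.Gen))).map
    (PresentedGroup.mk (coxRelators Fi23.edges ∪ {r | r ∈ Fi23.extra}))) = wordGroup s Fi23t.clG := by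
  rw [clG_eq]
  apply map_closure_eq
  · intro x hx
    simp only [Set.mem_insert_iff, Set.mem_singleton_iff] at hx
    rcases hx with rfl | rfl | rfl | rfl | rfl | rfl | rfl | rfl | rfl
    · exact ⟨[0], by decide, by simp [s, sF, PresentedGroup.of]⟩
    · exact ⟨[1], by decide, by simp [s, sF, PresentedGroup.of]⟩
    · exact ⟨[2], by decide, by simp [s, sF, PresentedGroup.of]⟩
    · exact ⟨[3], by decide, by simp [s, sF, PresentedGroup.of]⟩
    · exact ⟨[4], by decide, by simp [s, sF, PresentedGroup.of]⟩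
    · exact ⟨[5], by decide, by simp [s, sF, PresentedGroup.of]⟩
    · exact ⟨[6], by decide, by simp [s, sF, PresentedGroup.of]⟩
    · exact ⟨[8], by decide, by simp [s, sF, PresentedGroup.of]⟩
    · exact ⟨[9], by decide, by simp [s, sF, PresentedGroup.of]⟩
  · intro w hw
    simp only [List.mem_cons, List.not_mem_nil, or_false] at hw
    rcases hw with rfl | rfl | rfl | rfl | rfl | rfl | rfl | rfl | rfl
    · exact ⟨Fi23.a, by simp, by simp [s, sF, PresentedGroup.of]⟩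
    · exact ⟨Fi23.b, by simp, by simp [s, sF, PresentedGroup.of]⟩
    · exact ⟨Fi23.c, by simp, by simp [s, sF, PresentedGroup.of]⟩
    · exact ⟨Fi23.d, by simp, by simp [s, sF, PresentedGroup.of]⟩
    · exact ⟨Fi23.e, by simp, by simp [s, sF, PresentedGroup.of]⟩
    · exact ⟨Fi23.f, by simp, by simp [s, sF, PresentedGroup.of]⟩
    · exact ⟨Fi23.g, by simp, by simp [s, sF, PresentedGroup.of]⟩
    · exact ⟨Fi23.h, by simp, by simp [s, sF, PresentedGroup.of]⟩
    · exact ⟨Fi23.i, by simp, by simp [s, sF, PresentedGroup.of]⟩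

end Cfsg.Agent.H8.Fi23P
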