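import Cfsg.Agent.H8.T.Fi23Ox
import Cfsg.Agent.H8.T.Fi23OF
import Cfsg.Agent.H8.T.Fi23Ob
import Cfsg.Agent.H8.Fi23Pres

/-!
# Automorphisms of the group Fi23
-/

set_option Elab.async false
set_option autoImplicit false
set_option linter.all false
set_option maxRecDepth 100000
set_option maxHeartbeats 2000000

namespace Cfsg.Agent.H8.Fi23O

open Cfsg.Spor
open Cfsg.Agent.H8

noncomputable def s : Nat → Fi23 := OT.extI Cfsg.Agent.H8.Fi23P.s 10 bws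

theorem s_lt (l : Nat) (h : l < 10) : s l = Cfsg.Agent.H8.Fi23P.s l := OT.extI_lt _ _ _ l h

noncomputable def ρ : Fi23 →* Equiv.Perm (Fin 31671) := Cfsg.Agent.H8.Fi23P.ρ

theorem hρ : ∀ l < 74, ρ (s l) = permL tok l :=
  OT.extI_rho tok ρ bws Cfsg.Agent.H8.Fi23P.s 10 (by
    intro l hl
    have h0 : ρ (Cfsg.Agent.H8.Fi23P.s l) = permL Cfsg.Agent.H8.Fi23t.tok l := Cfsg.Agent.H8.Fi23P.hρ l hl
    rw [h0]
    ext j
    rw [permL_apply Cfsg.Agent.H8.Fi23t.tok l hl, permL_apply tok l (lt_trans hl (by decide)), hii l hl,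
      hTT _ (Cfsg.Agent.H8.Fi23t.tok.inv_lt l hl)]) (by decide) hwb

theorem inj : Function.Injective ρ := Cfsg.Agent.H8.Fi23P.ρ_injective

theorem cardG : Nat.card Fi23 = 4089470473293004800 := Cfsg.Agent.H8.Fi23P.card_fi23

theorem xchain : wordGroup s xG0 = ⊤ ∧ (∀ g ∈ wordGroup s xG0, xQ0 (act ρ ⟨791, by decide⟩ g : Fin 31671) ≠ 0) ∧ (∀ g ∈ wordGroup s xG0, act ρ ⟨791, by decide⟩ g = ⟨791, by decide⟩ → g ∈ wordGroup s xG1) ∧
    (∀ g ∈ wordGroup s xG1, xQ1 (act ρ ⟨2654, by decide⟩ g : Fin 31671) ≠ 0) ∧ (∀ g ∈ wordGroup s xG1, act ρ ⟨2654, by decide⟩ g = ⟨2654, by decide⟩ → g ∈ wordGroup s xG2) ∧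
    (∀ g ∈ wordGroup s xG2, xQ2 (act ρ ⟨9370, by decide⟩ g : Fin 31671) ≠ 0) ∧ (∀ g ∈ wordGroup s xG2, act ρ ⟨9370, by decide⟩ g = ⟨9370, by decide⟩ → g ∈ wordGroup s xG3) ∧
    (∀ g ∈ wordGroup s xG3, xQ3 (act ρ ⟨8704, by decide⟩ g : Fin 31671) ≠ 0) ∧ (∀ g ∈ wordGroup s xG3, act ρ ⟨8704, by decide⟩ g = ⟨8704, by decide⟩ → g ∈ wordGroup s xG4) ∧
    (∀ g ∈ wordGroup s xG4, xQ4 (act ρ ⟨15213, by decide⟩ g : Fin 31671) ≠ 0) ∧ (∀ g ∈ wordGroup s xG4, act ρ ⟨15213, by decide⟩ g = ⟨15213, by decide⟩ → g ∈ wordGroup s xG5) ∧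
    (∀ g ∈ wordGroup s xG5, xQ5 (act ρ ⟨11742, by decide⟩ g : Fin 31671) ≠ 0) ∧ (∀ g ∈ wordGroup s xG5, act ρ ⟨11742, by decide⟩ g = ⟨11742, by decide⟩ → g ∈ wordGroup s ([] : List (List Nat))) := by
  haveI : Finite Fi23 := Nat.finite_of_card_ne_zero (by rw [cardG]; decide)
  have k0 := card_step s tok ρ hρ xQ0 31671 xG0 xG1 (by decide) ⟨791, by decide⟩ xr0 xc0
    (by decide) (by decide +kernel) inferInstance
  have k1 := card_step s tok ρ hρ xQ1 28160 xG1 xG2 (by decide) ⟨2654, by decide⟩ xr1 xc1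
    (by decide) (by decide +kernel) inferInstance
  have k2 := card_step s tok ρ hρ xQ2 3159 xG2 xG3 (by decide) ⟨9370, by decide⟩ xr2 xc2
    (by decide) (by decide +kernel) inferInstance
  have k3 := card_step s tok ρ hρ xQ3 2240 xG3 xG4 (by decide) ⟨8704, by decide⟩ xr3 xc3
    (by decide) (by decide +kernel) inferInstance
  have k4 := card_step s tok ρ hρ xQ4 648 xG4 xG5 (by decide) ⟨15213, by decide⟩ xr4 xc4
    (by decide) (by decide +kernel) inferInstance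
  have k5 := card_step s tok ρ hρ xQ5 1 xG5 ([] : List (List Nat)) (by decide) ⟨11742, by decide⟩ xr5 xc5
    (by decide) (by decide +kernel) inferInstance
  have k : Nat.card (wordGroup s xG0) ≤ 4089470473293004800 := by rw [← cardG]; exact Subgroup.card_le_card_group _
  have kl : 0 < Nat.card (wordGroup s ([] : List (List Nat))) := Nat.card_pos
  have e0 : Nat.card (wordGroup s xG0) = 4089470473293004800 := by omega
  have e1 : Nat.card (wordGroup s xG1) = 129123503308800 := by omega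
  have e2 : Nat.card (wordGroup s xG2) = 4585351680 := by omega
  have e3 : Nat.card (wordGroup s xG3) = 1451520 := by omega
  have e4 : Nat.card (wordGroup s xG4) = 648 := by omega
  have e5 : Nat.card (wordGroup s xG5) = 1 := by omega
  have e6 : Nat.card (wordGroup s ([] : List (List Nat))) = 1 := by omega
  have x0 := exact_step s tok ρ xQ0 31671 xG0 xG1 (by decide) ⟨791, by decide⟩ xr0 xc0
    (by decide) (by decide +kernel) inferInstance hρ (by rw [e0, e1])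
  have x1 := exact_step s tok ρ xQ1 28160 xG1 xG2 (by decide) ⟨2654, by decide⟩ xr1 xc1
    (by decide) (by decide +kernel) inferInstance hρ (by rw [e1, e2])
  have x2 := exact_step s tok ρ xQ2 3159 xG2 xG3 (by decide) ⟨9370, by decide⟩ xr2 xc2
    (by decide) (by decide +kernel) inferInstance hρ (by rw [e2, e3])
  have x3 := exact_step s tok ρ xQ3 2240 xG3 xG4 (by decide) ⟨8704, by decide⟩ xr3 xc3
    (by decide) (by decide +kernel) inferInstance hρ (by rw [e3, e4])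
  have x4 := exact_step s tok ρ xQ4 648 xG4 xG5 (by decide) ⟨15213, by decide⟩ xr4 xc4
    (by decide) (by decide +kernel) inferInstance hρ (by rw [e4, e5])
  have x5 := exact_step s tok ρ xQ5 1 xG5 ([] : List (List Nat)) (by decide) ⟨11742, by decide⟩ xr5 xc5
    (by decide) (by decide +kernel) inferInstance hρ (by rw [e5, e6])
  exact ⟨Subgroup.eq_top_of_card_eq _ (by rw [e0, cardG]), x0.1, x0.2, x1.1, x1.2, x2.1, x2.2, x3.1, x3.2, x4.1, x4.2, x5.1, x5.2⟩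

theorem xbot : wordGroup s ([] : List (List Nat)) = ⊥ := by
  unfold wordGroup
  rw [eq_bot_iff, Subgroup.closure_le]
  rintro g ⟨w, hw, _⟩
  simp at hw

theorem xp0 : act ρ ⟨791, by decide⟩ ((([10] : List Nat).map s).prod ^ 0) = (⟨791, by decide⟩ : Fin 31671) :=
  Fin.ext (by rw [OT.iter_fin s tok ρ [10] (by decide) hρ]; decide +kernel)
theorem xp1 : act ρ ⟨791, by decide⟩ ((([10] : List Nat).map s).prod ^ 1) = (⟨2654, by decide⟩ : Fin 31671) :=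
  Fin.ext (by rw [OT.iter_fin s tok ρ [10] (by decide) hρ]; decide +kernel)
theorem xp2 : act ρ ⟨791, by decide⟩ ((([10] : List Nat).map s).prod ^ 2) = (⟨9370, by decide⟩ : Fin 31671) :=
  Fin.ext (by rw [OT.iter_fin s tok ρ [10] (by decide) hρ]; decide +kernel)
theorem xp3 : act ρ ⟨791, by decide⟩ ((([10] : List Nat).map s).prod ^ 3) = (⟨8704, by decide⟩ : Fin 31671) :=
  Fin.ext (by rw [OT.iter_fin s tok ρ [10] (by decide) hρ]; decide +kernel)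
theorem xp4 : act ρ ⟨791, by decide⟩ ((([10] : List Nat).map s).prod ^ 4) = (⟨15213, by decide⟩ : Fin 31671) :=
  Fin.ext (by rw [OT.iter_fin s tok ρ [10] (by decide) hρ]; decide +kernel)
theorem xp5 : act ρ ⟨791, by decide⟩ ((([10] : List Nat).map s).prod ^ 5) = (⟨11742, by decide⟩ : Fin 31671) :=
  Fin.ext (by rw [OT.iter_fin s tok ρ [10] (by decide) hρ]; decide +kernel)

/-- an element fixing the base is trivial. -/
theorem xbase (g : Fi23) (h0 : act ρ ⟨791, by decide⟩ g = (⟨791, by decide⟩ : Fin 31671)) (h1 : act ρ ⟨2654, by decide⟩ g = (⟨2654, by decide⟩ : Fin 31671)) (h2 : act ρ ⟨9370, by decide⟩ g = (⟨9370, by decide⟩ : Fin 31671)) (h3 : act ρ ⟨8704, by decide⟩ g = (⟨8704, by decide⟩ : Fin 31671)) (h4 : act ρ ⟨15213, by decide⟩ g = (⟨15213, by decide⟩ : Fin 31671)) (h5 : act ρ ⟨11742, by decide⟩ g = (⟨11742, by decide⟩ : Fin 31671)) : g = 1 := by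
  have g0 : g ∈ wordGroup s xG0 := by rw [xchain.1]; exact Subgroup.mem_top g
  have g1 := xchain.2.2.1 g g0 h0
  have g2 := xchain.2.2.2.2.1 g g1 h1
  have g3 := xchain.2.2.2.2.2.2.1 g g2 h2
  have g4 := xchain.2.2.2.2.2.2.2.2.1 g g3 h3
  have g5 := xchain.2.2.2.2.2.2.2.2.2.2.1 g g4 h4
  have g6 := xchain.2.2.2.2.2.2.2.2.2.2.2.2 g g5 h5
  rw [xbot] at g6
  exact Subgroup.mem_bot.1 g6

theorem xrej : Rej ρ (⊤ : Subgroup Fi23) ((List.range 6).map fun i => act ρ ⟨791, by decide⟩ ((([10] : List Nat).map s).prod ^ i)) xK0 := by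
  have e : ((List.range 6).map fun i => act ρ (⟨791, by decide⟩ : Fin 31671) ((([10] : List Nat).map s).prod ^ i)) = [(⟨791, by decide⟩ : Fin 31671), (⟨2654, by decide⟩ : Fin 31671), (⟨9370, by decide⟩ : Fin 31671), (⟨8704, by decide⟩ : Fin 31671), (⟨15213, by decide⟩ : Fin 31671), (⟨11742, by decide⟩ : Fin 31671)] := by
    change [act ρ (⟨791, by decide⟩ : Fin 31671) ((([10] : List Nat).map s).prod ^ 0), act ρ (⟨791, by decide⟩ : Fin 31671) ((([10] : List Nat).map s).prod ^ 1), act ρ (⟨791, by decide⟩ : Fin 31671) ((([10] : List Nat).map s).prod ^ 2), act ρ (⟨791, by decide⟩ : Fin 31671) ((([10] : List Nat).map s).prod ^ 3), act ρ (⟨791, by decide⟩ : Fin 31671) ((([10] : List Nat).map s).prod ^ 4), act ρ (⟨791, by decide⟩ : Fin 31671) ((([10] : List Nat).map s).prod ^ 5)] = _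
    rw [xp0, xp1, xp2, xp3, xp4, xp5]
  rw [e, ← xchain.1]
  exact (Rej_step s tok ρ hρ (wordGroup s xG0) (wordGroup s xG1) ⟨791, by decide⟩ [(⟨2654, by decide⟩ : Fin 31671), (⟨9370, by decide⟩ : Fin 31671), (⟨8704, by decide⟩ : Fin 31671), (⟨15213, by decide⟩ : Fin 31671), (⟨11742, by decide⟩ : Fin 31671)] _ xQ0 xG0 13 (by decide)
    (fun w hw => mem_wordGroup s _ w hw) xchain.2.1 xchain.2.2.1 (Rej_step s tok ρ hρ (wordGroup s xG1) (wordGroup s xG2) ⟨2654, by decide⟩ [(⟨9370, by decide⟩ : Fin 31671), (⟨8704, by decide⟩ : Fin 31671), (⟨15213, by decide⟩ : Fin 31671), (⟨11742, by decide⟩ : Fin 31671)] _ xQ1 xG1 13 (by decide)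
    (fun w hw => mem_wordGroup s _ w hw) xchain.2.2.2.1 xchain.2.2.2.2.1 (Rej_step s tok ρ hρ (wordGroup s xG2) (wordGroup s xG3) ⟨9370, by decide⟩ [(⟨8704, by decide⟩ : Fin 31671), (⟨15213, by decide⟩ : Fin 31671), (⟨11742, by decide⟩ : Fin 31671)] _ xQ2 xG2 13 (by decide)
    (fun w hw => mem_wordGroup s _ w hw) xchain.2.2.2.2.2.1 xchain.2.2.2.2.2.2.1 (Rej_step s tok ρ hρ (wordGroup s xG3) (wordGroup s xG4) ⟨8704, by decide⟩ [(⟨15213, by decide⟩ : Fin 31671), (⟨11742, by decide⟩ : Fin 31671)] _ xQ3 xG3 13 (by decide)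
    (fun w hw => mem_wordGroup s _ w hw) xchain.2.2.2.2.2.2.2.1 xchain.2.2.2.2.2.2.2.2.1 (Rej_step s tok ρ hρ (wordGroup s xG4) (wordGroup s xG5) ⟨15213, by decide⟩ [(⟨11742, by decide⟩ : Fin 31671)] _ xQ4 xG4 13 (by decide)
    (fun w hw => mem_wordGroup s _ w hw) xchain.2.2.2.2.2.2.2.2.2.1 xchain.2.2.2.2.2.2.2.2.2.2.1 (Rej_step s tok ρ hρ (wordGroup s xG5) (wordGroup s ([] : List (List Nat))) ⟨11742, by decide⟩ [] _ xQ5 xG5 13 (by decide)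
    (fun w hw => mem_wordGroup s _ w hw) xchain.2.2.2.2.2.2.2.2.2.2.2.1 xchain.2.2.2.2.2.2.2.2.2.2.2.2 (Rej_nil ρ _ _)))))))
theorem Fchain : wordGroup s FG0 = ⊤ ∧ (∀ g ∈ wordGroup s FG0, FQ0 (act ρ ⟨2112, by decide⟩ g : Fin 31671) ≠ 0) ∧ (∀ g ∈ wordGroup s FG0, act ρ ⟨2112, by decide⟩ g = ⟨2112, by decide⟩ → g ∈ wordGroup s FG1) ∧
    (∀ g ∈ wordGroup s FG1, FQ1 (act ρ ⟨30684, by decide⟩ g : Fin 31671) ≠ 0) ∧ (∀ g ∈ wordGroup s FG1, act ρ ⟨30684, by decide⟩ g = ⟨30684, by decide⟩ → g ∈ wordGroup s FG2) ∧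
    (∀ g ∈ wordGroup s FG2, FQ2 (act ρ ⟨18168, by decide⟩ g : Fin 31671) ≠ 0) ∧ (∀ g ∈ wordGroup s FG2, act ρ ⟨18168, by decide⟩ g = ⟨18168, by decide⟩ → g ∈ wordGroup s FG3) ∧
    (∀ g ∈ wordGroup s FG3, FQ3 (act ρ ⟨20340, by decide⟩ g : Fin 31671) ≠ 0) ∧ (∀ g ∈ wordGroup s FG3, act ρ ⟨20340, by decide⟩ g = ⟨20340, by decide⟩ → g ∈ wordGroup s FG4) ∧
    (∀ g ∈ wordGroup s FG4, FQ4 (act ρ ⟨27096, by decide⟩ g : Fin 31671) ≠ 0) ∧ (∀ g ∈ wordGroup s FG4, act ρ ⟨27096, by decide⟩ g = ⟨27096, by decide⟩ → g ∈ wordGroup s ([] : List (List Nat))) := by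
  haveI : Finite Fi23 := Nat.finite_of_card_ne_zero (by rw [cardG]; decide)
  have k0 := card_step s tok ρ hρ FQ0 31671 FG0 FG1 (by decide) ⟨2112, by decide⟩ Fr0 Fc0
    (by decide) (by decide +kernel) inferInstance
  have k1 := card_step s tok ρ hρ FQ1 28160 FG1 FG2 (by decide) ⟨30684, by decide⟩ Fr1 Fc1
    (by decide) (by decide +kernel) inferInstance
  have k2 := card_step s tok ρ hρ FQ2 21840 FG2 FG3 (by decide) ⟨18168, by decide⟩ Fr2 Fc2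
    (by decide) (by decide +kernel) inferInstance
  have k3 := card_step s tok ρ hρ FQ3 7776 FG3 FG4 (by decide) ⟨20340, by decide⟩ Fr3 Fc3
    (by decide) (by decide +kernel) inferInstance
  have k4 := card_step s tok ρ hρ FQ4 27 FG4 ([] : List (List Nat)) (by decide) ⟨27096, by decide⟩ Fr4 Fc4
    (by decide) (by decide +kernel) inferInstance
  have k : Nat.card (wordGroup s FG0) ≤ 4089470473293004800 := by rw [← cardG]; exact Subgroup.card_le_card_group _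
  have kl : 0 < Nat.card (wordGroup s ([] : List (List Nat))) := Nat.card_pos
  have e0 : Nat.card (wordGroup s FG0) = 4089470473293004800 := by omega
  have e1 : Nat.card (wordGroup s FG1) = 129123503308800 := by omega
  have e2 : Nat.card (wordGroup s FG2) = 4585351680 := by omega
  have e3 : Nat.card (wordGroup s FG3) = 209952 := by omega
  have e4 : Nat.card (wordGroup s FG4) = 27 := by omega
  have e5 : Nat.card (wordGroup s ([] : List (List Nat))) = 1 := by omega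
  have x0 := exact_step s tok ρ FQ0 31671 FG0 FG1 (by decide) ⟨2112, by decide⟩ Fr0 Fc0
    (by decide) (by decide +kernel) inferInstance hρ (by rw [e0, e1])
  have x1 := exact_step s tok ρ FQ1 28160 FG1 FG2 (by decide) ⟨30684, by decide⟩ Fr1 Fc1
    (by decide) (by decide +kernel) inferInstance hρ (by rw [e1, e2])
  have x2 := exact_step s tok ρ FQ2 21840 FG2 FG3 (by decide) ⟨18168, by decide⟩ Fr2 Fc2
    (by decide) (by decide +kernel) inferInstance hρ (by rw [e2, e3])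
  have x3 := exact_step s tok ρ FQ3 7776 FG3 FG4 (by decide) ⟨20340, by decide⟩ Fr3 Fc3
    (by decide) (by decide +kernel) inferInstance hρ (by rw [e3, e4])
  have x4 := exact_step s tok ρ FQ4 27 FG4 ([] : List (List Nat)) (by decide) ⟨27096, by decide⟩ Fr4 Fc4
    (by decide) (by decide +kernel) inferInstance hρ (by rw [e4, e5])
  exact ⟨Subgroup.eq_top_of_card_eq _ (by rw [e0, cardG]), x0.1, x0.2, x1.1, x1.2, x2.1, x2.2, x3.1, x3.2, x4.1, x4.2⟩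

theorem Fbot : wordGroup s ([] : List (List Nat)) = ⊥ := by
  unfold wordGroup
  rw [eq_bot_iff, Subgroup.closure_le]
  rintro g ⟨w, hw, _⟩
  simp at hw

theorem Fp0 : act ρ ⟨2112, by decide⟩ ((([36] : List Nat).map s).prod ^ 0) = (⟨2112, by decide⟩ : Fin 31671) :=
  Fin.ext (by rw [OT.iter_fin s tok ρ [36] (by decide) hρ]; decide +kernel)
theorem Fp1 : act ρ ⟨2112, by decide⟩ ((([36] : List Nat).map s).prod ^ 1) = (⟨30684, by decide⟩ : Fin 31671) :=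
  Fin.ext (by rw [OT.iter_fin s tok ρ [36] (by decide) hρ]; decide +kernel)
theorem Fp2 : act ρ ⟨2112, by decide⟩ ((([36] : List Nat).map s).prod ^ 2) = (⟨18168, by decide⟩ : Fin 31671) :=
  Fin.ext (by rw [OT.iter_fin s tok ρ [36] (by decide) hρ]; decide +kernel)
theorem Fp3 : act ρ ⟨2112, by decide⟩ ((([36] : List Nat).map s).prod ^ 3) = (⟨20340, by decide⟩ : Fin 31671) :=
  Fin.ext (by rw [OT.iter_fin s tok ρ [36] (by decide) hρ]; decide +kernel)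
theorem Fp4 : act ρ ⟨2112, by decide⟩ ((([36] : List Nat).map s).prod ^ 4) = (⟨27096, by decide⟩ : Fin 31671) :=
  Fin.ext (by rw [OT.iter_fin s tok ρ [36] (by decide) hρ]; decide +kernel)
theorem Fp5 : act ρ ⟨2112, by decide⟩ ((([36] : List Nat).map s).prod ^ 5) = (⟨30523, by decide⟩ : Fin 31671) :=
  Fin.ext (by rw [OT.iter_fin s tok ρ [36] (by decide) hρ]; decide +kernel)
theorem Fp6 : act ρ ⟨2112, by decide⟩ ((([36] : List Nat).map s).prod ^ 6) = (⟨26453, by decide⟩ : Fin 31671) :=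
  Fin.ext (by rw [OT.iter_fin s tok ρ [36] (by decide) hρ]; decide +kernel)

/-- an element fixing the base is trivial. -/
theorem Fbase (g : Fi23) (h0 : act ρ ⟨2112, by decide⟩ g = (⟨2112, by decide⟩ : Fin 31671)) (h1 : act ρ ⟨30684, by decide⟩ g = (⟨30684, by decide⟩ : Fin 31671)) (h2 : act ρ ⟨18168, by decide⟩ g = (⟨18168, by decide⟩ : Fin 31671)) (h3 : act ρ ⟨20340, by decide⟩ g = (⟨20340, by decide⟩ : Fin 31671)) (h4 : act ρ ⟨27096, by decide⟩ g = (⟨27096, by decide⟩ : Fin 31671)) : g = 1 := by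
  have g0 : g ∈ wordGroup s FG0 := by rw [Fchain.1]; exact Subgroup.mem_top g
  have g1 := Fchain.2.2.1 g g0 h0
  have g2 := Fchain.2.2.2.2.1 g g1 h1
  have g3 := Fchain.2.2.2.2.2.2.1 g g2 h2
  have g4 := Fchain.2.2.2.2.2.2.2.2.1 g g3 h3
  have g5 := Fchain.2.2.2.2.2.2.2.2.2.2 g g4 h4
  rw [Fbot] at g5
  exact Subgroup.mem_bot.1 g5

theorem Frej : Rej ρ (⊤ : Subgroup Fi23) ((List.range 7).map fun i => act ρ ⟨2112, by decide⟩ ((([36] : List Nat).map s).prod ^ i)) FK0 := by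
  have e : ((List.range 7).map fun i => act ρ (⟨2112, by decide⟩ : Fin 31671) ((([36] : List Nat).map s).prod ^ i)) = [(⟨2112, by decide⟩ : Fin 31671), (⟨30684, by decide⟩ : Fin 31671), (⟨18168, by decide⟩ : Fin 31671), (⟨20340, by decide⟩ : Fin 31671), (⟨27096, by decide⟩ : Fin 31671), (⟨30523, by decide⟩ : Fin 31671), (⟨26453, by decide⟩ : Fin 31671)] := by
    change [act ρ (⟨2112, by decide⟩ : Fin 31671) ((([36] : List Nat).map s).prod ^ 0), act ρ (⟨2112, by decide⟩ : Fin 31671) ((([36] : List Nat).map s).prod ^ 1), act ρ (⟨2112, by decide⟩ : Fin 31671) ((([36] : List Nat).map s).prod ^ 2), act ρ (⟨2112, by decide⟩ : Fin 31671) ((([36] : List Nat).map s).prod ^ 3), act ρ (⟨2112, by decide⟩ : Fin 31671) ((([36] : List Nat).map s).prod ^ 4), act ρ (⟨2112, by decide⟩ : Fin 31671) ((([36] : List Nat).map s).prod ^ 5), act ρ (⟨2112, by decide⟩ : Fin 31671) ((([36]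 : List Nat).map s).prod ^ 6)] = _
    rw [Fp0, Fp1, Fp2, Fp3, Fp4, Fp5, Fp6]
  rw [e, ← Fchain.1]
  exact (Rej_step s tok ρ hρ (wordGroup s FG0) (wordGroup s FG1) ⟨2112, by decide⟩ [(⟨30684, by decide⟩ : Fin 31671), (⟨18168, by decide⟩ : Fin 31671), (⟨20340, by decide⟩ : Fin 31671), (⟨27096, by decide⟩ : Fin 31671), (⟨30523, by decide⟩ : Fin 31671), (⟨26453, by decide⟩ : Fin 31671)] _ FQ0 FG0 13 (by decide)
    (fun w hw => mem_wordGroup s _ w hw) Fchain.2.1 Fchain.2.2.1 (Rej_step s tok ρ hρ (wordGroup s FG1) (wordGroup s FG2) ⟨30684, by decide⟩ [(⟨18168, by decide⟩ : Fin 31671), (⟨20340, by decide⟩ : Fin 31671), (⟨27096, by decide⟩ : Fin 31671), (⟨30523, by decide⟩ : Fin 31671), (⟨26453, by decide⟩ : Fin 31671)] _ FQ1 FG1 13 (by decide)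
    (fun w hw => mem_wordGroup s _ w hw) Fchain.2.2.2.1 Fchain.2.2.2.2.1 (Rej_step s tok ρ hρ (wordGroup s FG2) (wordGroup s FG3) ⟨18168, by decide⟩ [(⟨20340, by decide⟩ : Fin 31671), (⟨27096, by decide⟩ : Fin 31671), (⟨30523, by decide⟩ : Fin 31671), (⟨26453, by decide⟩ : Fin 31671)] _ FQ2 FG2 13 (by decide)
    (fun w hw => mem_wordGroup s _ w hw) Fchain.2.2.2.2.2.1 Fchain.2.2.2.2.2.2.1 (Rej_step s tok ρ hρ (wordGroup s FG3) (wordGroup s FG4) ⟨20340, by decide⟩ [(⟨27096, by decide⟩ : Fin 31671), (⟨30523, by decide⟩ : Fin 31671), (⟨26453, by decide⟩ : Fin 31671)] _ FQ3 FG3 13 (by decide)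
    (fun w hw => mem_wordGroup s _ w hw) Fchain.2.2.2.2.2.2.2.1 Fchain.2.2.2.2.2.2.2.2.1 (Rej_step s tok ρ hρ (wordGroup s FG4) (wordGroup s ([] : List (List Nat))) ⟨27096, by decide⟩ [(⟨30523, by decide⟩ : Fin 31671), (⟨26453, by decide⟩ : Fin 31671)] _ FQ4 FG4 13 (by decide)
    (fun w hw => mem_wordGroup s _ w hw) Fchain.2.2.2.2.2.2.2.2.2.1 Fchain.2.2.2.2.2.2.2.2.2.2 (Rej_nil ρ _ _))))))

/-- word identities are checked on the base. -/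
theorem weq (u v : List Nat) (hu : ∀ l ∈ u, l < 74) (hv : ∀ l ∈ v, l < 74)
    (h : ∀ i ∈ ([2112, 30684, 18168, 20340, 27096] : List Nat), trN T' u i = trN T' v i) : (u.map s).prod = (v.map s).prod := by
  have key : ∀ b : Fin 31671, (b : Nat) ∈ ([2112, 30684, 18168, 20340, 27096] : List Nat) → act ρ b ((u.map s).prod * ((v.map s).prod)⁻¹) = b := by
    intro b hb
    have h1 : act ρ b (u.map s).prod = act ρ b (v.map s).prod := by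
      apply Fin.ext
      rw [act_word s tok ρ hρ b u hu, act_word s tok ρ hρ b v hv]
      exact h b hb
    rw [act_mul, h1, ← act_mul, mul_inv_cancel, act_one]
  exact mul_inv_eq_one.1 (Fbase _ (key ⟨2112, by decide⟩ (by decide)) (key ⟨30684, by decide⟩ (by decide)) (key ⟨18168, by decide⟩ (by decide)) (key ⟨20340, by decide⟩ (by decide)) (key ⟨27096, by decide⟩ (by decide)))

theorem weq1 (u : List Nat) (hu : ∀ l ∈ u, l < 74)
    (h : ∀ i ∈ ([2112, 30684, 18168, 20340, 27096] : List Nat), trN T' u i = i) : (u.map s).prod = 1 :=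
  weq u [] hu (by simp) h

def xw : List Nat := [10]
def fw : List Nat := [32]
def Fw : List Nat := [36]
def yw : List Nat := [34]
noncomputable def x : Fi23 := (xw.map s).prod
noncomputable def f : Fi23 := (fw.map s).prod
noncomputable def F : Fi23 := (Fw.map s).prod
noncomputable def y : Fi23 := (yw.map s).prod

theorem x_pow : x ^ 17 = 1 := by
  unfold x
  rw [← wpow_prod]
  exact weq1 _ (by decide) (by decide +kernel)

theorem x_ne : x ≠ 1 := by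
  intro h
  have h1 := act_word s tok ρ hρ ⟨791, by decide⟩ xw (by decide)
  have h2 : act ρ ⟨791, by decide⟩ (xw.map s).prod = (⟨791, by decide⟩ : Fin 31671) := by
    change act ρ ⟨791, by decide⟩ x = _
    rw [h, act_one]
  rw [h2] at h1
  exact absurd h1 (by decide +kernel)

instance prime_p : Fact (Nat.Prime 17) := ⟨by norm_num⟩

theorem x_order : orderOf x = 17 := orderOf_eq_prime x_pow x_ne

theorem xf : x * f = f * x ^ 12 := by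
  have h := weq (xw ++ fw) (fw ++ wpow xw 12) (by decide) (by decide) (by decide +kernel)
  rw [List.map_append, List.prod_append, List.map_append, List.prod_append, wpow_prod] at h
  exact h

theorem F_eq : F = f ^ 2 := by
  unfold F f
  rw [← wpow_prod]
  exact weq _ _ (by decide) (by decide) (by decide +kernel)

theorem F_pow : F ^ 8 = 1 := by
  unfold F
  rw [← wpow_prod]
  exact weq1 _ (by decide) (by decide +kernel)

theorem Fy : F * y = y * F := by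
  have h := weq (Fw ++ yw) (yw ++ Fw) (by decide) (by decide) (by decide +kernel)
  rw [List.map_append, List.prod_append, List.map_append, List.prod_append] at h
  exact h

theorem Cx (g : Fi23) (h : x * g = g * x) : g ∈ Subgroup.zpowers x := by
  have hb : ∀ g : Fi23, (∀ i < 6, act ρ (act ρ ⟨791, by decide⟩ (x ^ i)) g = act ρ ⟨791, by decide⟩ (x ^ i)) → g = 1 := by
    intro g hg
    refine xbase g ?_ ?_ ?_ ?_ ?_ ?_
    · have := hg 0 (by decide)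
      change act ρ (act ρ ⟨791, by decide⟩ ((([10] : List Nat).map s).prod ^ 0)) g = act ρ ⟨791, by decide⟩ ((([10] : List Nat).map s).prod ^ 0) at this
      rw [xp0] at this
      exact this
    · have := hg 1 (by decide)
      change act ρ (act ρ ⟨791, by decide⟩ ((([10] : List Nat).map s).prod ^ 1)) g = act ρ ⟨791, by decide⟩ ((([10] : List Nat).map s).prod ^ 1) at this
      rw [xp1] at this
      exact this
    · have := hg 2 (by decide)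
      change act ρ (act ρ ⟨791, by decide⟩ ((([10] : List Nat).map s).prod ^ 2)) g = act ρ ⟨791, by decide⟩ ((([10] : List Nat).map s).prod ^ 2) at this
      rw [xp2] at this
      exact this
    · have := hg 3 (by decide)
      change act ρ (act ρ ⟨791, by decide⟩ ((([10] : List Nat).map s).prod ^ 3)) g = act ρ ⟨791, by decide⟩ ((([10] : List Nat).map s).prod ^ 3) at this
      rw [xp3] at this
      exact this
    · have := hg 4 (by decide)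
      change act ρ (act ρ ⟨791, by decide⟩ ((([10] : List Nat).map s).prod ^ 4)) g = act ρ ⟨791, by decide⟩ ((([10] : List Nat).map s).prod ^ 4) at this
      rw [xp4] at this
      exact this
    · have := hg 5 (by decide)
      change act ρ (act ρ ⟨791, by decide⟩ ((([10] : List Nat).map s).prod ^ 5)) g = act ρ ⟨791, by decide⟩ ((([10] : List Nat).map s).prod ^ 5) at this
      rw [xp5] at this
      exact this
  have hen : ∀ g : Fi23, x * g = g * x → ∃ a : Nat, ((act ρ ⟨791, by decide⟩ (g * x ^ a) : Fin 31671) : Nat) ∈ ([791, 2654, 1473] : List Nat) := by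
    intro g hg
    exact conj_enum s tok ρ hρ xw xw (by decide) (by decide) ⟨791, by decide⟩ 6 6 xK0 xrej ([791, 2654, 1473] : List Nat) rfl
      (fun q hq => OT.ckCand_sound _ _ _ _ q (allR_zero _ _ xS q hq)) g hg
  obtain ⟨w, hw, a, _, rfl⟩ := OT.cent_list ρ x 17 (by decide) x_pow ⟨791, by decide⟩ 6 hb ([791, 2654, 1473] : List Nat) hen
    ((List.range 17).map fun i => x ^ i) (by
    intro q hq
    have key : ∀ q ∈ ([791, 2654, 1473] : List Nat), ∃ i < 17, (trN T' xw)^[i] 791 = q := by decide +kernel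
    obtain ⟨i, hi, h⟩ := key q hq
    refine ⟨x ^ i, List.mem_map.2 ⟨i, List.mem_range.2 hi, rfl⟩, by rw [← pow_succ', pow_succ], ?_⟩
    unfold x
    rw [OT.iter_fin s tok ρ xw (by decide) hρ]
    exact h) g h
  obtain ⟨i, _, rfl⟩ := List.mem_map.1 hw
  exact mul_mem (Subgroup.pow_mem _ (Subgroup.mem_zpowers x) i) (Subgroup.pow_mem _ (Subgroup.mem_zpowers x) a)

/-- centraliser representatives. -/
def svW : List (Nat × List Nat) := [(109, [32, 32, 34, 32]), (157, [35, 32, 34, 33]), (292, [32, 35, 32, 35, 32]), (334, [35, 33, 35, 33]), (338, [32, 34, 32, 35, 32, 34]), (447, [34, 33, 35, 33, 35, 35]), (684, [53, 54, 47, 48, 51, 49, 47, 49, 42, 44, 44, 42, 44, 44, 42, 42, 42, 44, 41, 39, 40, 39, 40, 40, 40, 10, 32, 11, 34, 33, 10, 33]), (707, [57, 47, 51, 51, 51, 48, 42, 42, 45, 43, 45, 43, 44, 44, 44, 40, 39, 41, 38, 38, 41, 33, 10, 34, 10, 10]), (850, [53, 57,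 46, 49, 46, 48, 47, 49, 49, 42, 42, 42, 42, 45, 42, 44, 43, 45, 38, 41, 38, 38, 38, 38, 41, 38, 11, 11, 35, 10, 34, 34, 32]), (921, [53, 57, 46, 49, 46, 48, 47, 49, 49, 42, 42, 42, 42, 45, 42, 44, 43, 45, 38, 41, 38, 38, 38, 38, 41, 38, 11, 11, 35, 10, 35]), (960, [34]), (969, [32, 35]), (1247, [53, 54, 56, 47, 47, 49, 50, 49, 47, 43, 44, 43, 45, 45, 42, 45, 43, 44, 38, 38, 40, 39, 39, 39, 39, 40, 40, 38, 33, 11, 35, 33, 35, 33, 35]), (1737, [53, 54, 56, 47, 47, 49, 50, 49, 47, 43, 44, 43, 45, 45, 42, 45, 43, 44, 38, 38, 40, 39, 39, 39, 39, 40, 40, 38, 32, 11, 32, 10, 34]), (2112, []), (2408, [53, 54, 56, 47, 47, 49, 50, 49, 47, 43, 44, 43, 45, 45, 42, 45, 43, 44, 38, 38, 40, 39, 39, 39, 39, 40, 40, 38, 33, 11, 33, 33, 33, 35]), (2582, [53, 57, 46, 49, 46, 48, 47, 49, 49, 42, 42, 42, 42, 45, 42, 44, 43, 45, 38, 41, 38, 38, 38, 38, 41, 38, 11, 11, 35, 10, 33,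 33]), (4654, [53, 57, 46, 49, 46, 48, 47, 49, 49, 42, 42, 42, 42, 45, 42, 44, 43, 45, 38, 41, 38, 38, 38, 38, 41, 38, 11, 11, 35, 10, 33, 35, 35]), (4675, [33, 33, 33]), (5782, [53, 55, 56, 47, 48, 46, 51, 48, 51, 45, 45, 43, 45, 45, 45, 42, 42, 45, 38, 40, 40, 38, 40, 39, 41, 38, 10, 32, 34, 32, 34, 10, 33]), (6051, [32, 32, 32, 32, 34, 34]), (6059, [53, 55, 56, 47, 48, 46, 51, 48, 51, 45, 45, 43, 45, 45, 45, 42, 42, 45, 38, 40, 40, 38, 40, 39, 41, 38, 10, 35, 32, 35, 32, 11, 33, 34]), (7203, [53, 54, 56, 47, 47, 49, 50, 49, 47, 43, 44, 43, 45, 45, 42, 45, 43, 44, 38, 38, 40, 39, 39, 39, 39, 40, 40, 38, 33, 11, 35, 32, 35]), (8211, [34, 32, 35, 32]), (8897, [32, 34, 34, 32, 35]), (9302, [53, 55, 50, 48, 48, 48, 50, 44, 42, 42, 42, 44, 42, 45, 43, 45, 42, 38, 41, 39, 41, 38, 40, 39, 41, 38, 32, 35, 10, 34, 10, 32, 32]), (9435, [34, 32, 35]), (9497, [33, 35,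 35, 33]), (9499, [53, 54, 56, 47, 47, 49, 50, 49, 47, 43, 44, 43, 45, 45, 42, 45, 43, 44, 38, 38, 40, 39, 39, 39, 39, 40, 40, 38, 11, 11, 32, 11]), (9608, [33, 33, 35, 33]), (10056, [53, 54, 56, 47, 47, 49, 50, 49, 47, 43, 44, 43, 45, 45, 42, 45, 43, 44, 38, 38, 40, 39, 39, 39, 39, 40, 40, 38, 33, 11, 34, 32, 34, 33, 35]), (10082, [56, 48, 46, 49, 47, 51, 51, 45, 42, 45, 43, 43, 43, 43, 45, 43, 38, 41, 41, 39, 39, 41, 41, 10, 10, 32, 34, 10, 34]), (10284, [53, 54, 56, 47, 47, 49, 50, 49, 47, 43, 44, 43, 45, 45, 42, 45, 43, 44, 38, 38, 40, 39, 39, 39, 39, 40, 40, 38, 33, 11, 33]), (11714, [52, 55, 51, 47, 48, 46, 50, 48, 42, 44, 43, 43, 45, 43, 43, 45, 42, 42, 40, 39, 39, 40, 39, 39, 40, 40, 39, 33, 34, 10, 32, 34, 10, 33]), (11869, [32, 34, 32, 35, 33, 35]), (12019, [54, 48, 50, 47, 50, 50, 50, 45, 43, 45, 43, 44, 42, 42, 42, 39, 40, 40, 40, 40, 40, 40, 39,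 34, 11, 33, 35, 10, 35]), (12257, [53, 54, 56, 47, 47, 49, 50, 49, 47, 43, 44, 43, 45, 45, 42, 45, 43, 44, 38, 38, 40, 39, 39, 39, 39, 40, 40, 38, 33, 11, 33, 35, 33, 35]), (12382, [33, 33, 35, 33, 35, 35]), (12483, [34, 32, 34, 32, 34, 34]), (12535, [33, 33, 33, 35, 35]), (12785, [56, 49, 47, 49, 50, 49, 51, 43, 43, 43, 44, 44, 42, 45, 45, 43, 40, 38, 38, 38, 38, 41, 38, 38, 40, 40, 10, 10, 35, 32, 35, 11, 33]), (13075, [56, 48, 46, 49, 47, 51, 51, 45, 42, 45, 43, 43, 43, 43, 45, 43, 38, 41, 41, 39, 39, 41, 41, 10, 10, 32, 34, 10, 34, 34, 32]), (13394, [33, 34, 33, 35, 33]), (13452, [53, 54, 56, 47, 47, 49, 50, 49, 47, 43, 44, 43, 45, 45, 42, 45, 43, 44, 38, 38, 40, 39, 39, 39, 39, 40, 40, 38, 33, 11, 34, 34, 32]), (14221, [56, 46, 46, 49, 50, 46, 49, 42, 45, 43, 45, 43, 45, 43, 45, 42, 42, 41, 39, 41, 39, 41, 38, 41, 39, 10, 34, 32, 34, 11, 34, 10]), (15380,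 [32, 34, 33, 34, 33]), (20885, [33, 33, 33, 35, 33]), (24720, [32, 34, 32, 35])]
def cands : List (List Nat) := [[32, 32, 34, 32], [32, 32, 34, 32, 36], [32, 32, 34, 32, 36, 36], [32, 32, 34, 32, 36, 36, 36], [32, 32, 34, 32, 36, 36, 36, 36], [32, 32, 34, 32, 36, 36, 36, 36, 36], [32, 32, 34, 32, 36, 36, 36, 36, 36, 36], [32, 32, 34, 32, 36, 36, 36, 36, 36, 36, 36], [35, 32, 34, 33], [35, 32, 34, 33, 36], [35, 32, 34, 33, 36, 36], [35, 32, 34, 33, 36, 36, 36], [35, 32, 34, 33, 36, 36, 36, 36], [35, 32, 34, 33, 36, 36, 36, 36, 36], [35, 32, 34, 33, 36, 36, 36, 36, 36, 36], [35, 32, 34, 33, 36, 36, 36, 36, 36, 36, 36], [32, 35, 32, 35, 32], [32, 35, 32, 35, 32, 36], [32, 35, 32, 35, 32, 36, 36], [32, 35, 32, 35, 32, 36, 36, 36], [32, 35, 32, 35, 32, 36, 36, 36, 36], [32, 35, 32, 35, 32, 36, 36, 36, 36, 36], [32, 35, 32, 35, 32, 36, 36, 36, 36, 36, 36], [32, 35,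 32, 35, 32, 36, 36, 36, 36, 36, 36, 36], [35, 33, 35, 33], [35, 33, 35, 33, 36], [35, 33, 35, 33, 36, 36], [35, 33, 35, 33, 36, 36, 36], [35, 33, 35, 33, 36, 36, 36, 36], [35, 33, 35, 33, 36, 36, 36, 36, 36], [35, 33, 35, 33, 36, 36, 36, 36, 36, 36], [35, 33, 35, 33, 36, 36, 36, 36, 36, 36, 36], [32, 34, 32, 35, 32, 34], [32, 34, 32, 35, 32, 34, 36], [32, 34, 32, 35, 32, 34, 36, 36], [32, 34, 32, 35, 32, 34, 36, 36, 36], [32, 34, 32, 35, 32, 34, 36, 36, 36, 36], [32, 34, 32, 35, 32, 34, 36, 36, 36, 36, 36], [32, 34, 32, 35, 32, 34, 36, 36, 36, 36, 36, 36], [32, 34, 32, 35, 32, 34, 36, 36, 36, 36, 36, 36, 36], [34, 33, 35, 33, 35, 35], [34, 33, 35, 33, 35, 35, 36], [34, 33, 35, 33, 35, 35, 36, 36], [34, 33, 35, 33, 35, 35, 36, 36, 36], [34, 33, 35, 33, 35, 35, 36, 36, 36, 36], [34, 33, 35, 33, 35, 35, 36, 36, 36, 36, 36], [34, 33, 35, 33, 35, 35, 36, 36, 36,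 36, 36, 36], [34, 33, 35, 33, 35, 35, 36, 36, 36, 36, 36, 36, 36], [53, 54, 47, 48, 51, 49, 47, 49, 42, 44, 44, 42, 44, 44, 42, 42, 42, 44, 41, 39, 40, 39, 40, 40, 40, 10, 32, 11, 34, 33, 10, 33], [53, 54, 47, 48, 51, 49, 47, 49, 42, 44, 44, 42, 44, 44, 42, 42, 42, 44, 41, 39, 40, 39, 40, 40, 40, 10, 32, 11, 34, 33, 10, 33, 36], [53, 54, 47, 48, 51, 49, 47, 49, 42, 44, 44, 42, 44, 44, 42, 42, 42, 44, 41, 39, 40, 39, 40, 40, 40, 10, 32, 11, 34, 33, 10, 33, 36, 36], [53, 54, 47, 48, 51, 49, 47, 49, 42, 44, 44, 42, 44, 44, 42, 42, 42, 44, 41, 39, 40, 39, 40, 40, 40, 10, 32, 11, 34, 33, 10, 33, 36, 36, 36], [53, 54, 47, 48, 51, 49, 47, 49, 42, 44, 44, 42, 44, 44, 42, 42, 42, 44, 41, 39, 40, 39, 40, 40, 40, 10, 32, 11, 34, 33, 10, 33, 36, 36, 36, 36], [53, 54, 47, 48, 51, 49, 47, 49, 42, 44, 44, 42, 44, 44, 42, 42, 42, 44, 41, 39, 40, 39, 40, 40, 40, 10, 32, 11,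 34, 33, 10, 33, 36, 36, 36, 36, 36], [53, 54, 47, 48, 51, 49, 47, 49, 42, 44, 44, 42, 44, 44, 42, 42, 42, 44, 41, 39, 40, 39, 40, 40, 40, 10, 32, 11, 34, 33, 10, 33, 36, 36, 36, 36, 36, 36], [53, 54, 47, 48, 51, 49, 47, 49, 42, 44, 44, 42, 44, 44, 42, 42, 42, 44, 41, 39, 40, 39, 40, 40, 40, 10, 32, 11, 34, 33, 10, 33, 36, 36, 36, 36, 36, 36, 36], [57, 47, 51, 51, 51, 48, 42, 42, 45, 43, 45, 43, 44, 44, 44, 40, 39, 41, 38, 38, 41, 33, 10, 34, 10, 10], [57, 47, 51, 51, 51, 48, 42, 42, 45, 43, 45, 43, 44, 44, 44, 40, 39, 41, 38, 38, 41, 33, 10, 34, 10, 10, 36], [57, 47, 51, 51, 51, 48, 42, 42, 45, 43, 45, 43, 44, 44, 44, 40, 39, 41, 38, 38, 41, 33, 10, 34, 10, 10, 36, 36], [57, 47, 51, 51, 51, 48, 42, 42, 45, 43, 45, 43, 44, 44, 44, 40, 39, 41, 38, 38, 41, 33, 10, 34, 10, 10, 36, 36, 36], [57, 47, 51, 51, 51, 48, 42, 42, 45, 43, 45, 43, 44, 44, 44, 40, 39, 41,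 38, 38, 41, 33, 10, 34, 10, 10, 36, 36, 36, 36], [57, 47, 51, 51, 51, 48, 42, 42, 45, 43, 45, 43, 44, 44, 44, 40, 39, 41, 38, 38, 41, 33, 10, 34, 10, 10, 36, 36, 36, 36, 36], [57, 47, 51, 51, 51, 48, 42, 42, 45, 43, 45, 43, 44, 44, 44, 40, 39, 41, 38, 38, 41, 33, 10, 34, 10, 10, 36, 36, 36, 36, 36, 36], [57, 47, 51, 51, 51, 48, 42, 42, 45, 43, 45, 43, 44, 44, 44, 40, 39, 41, 38, 38, 41, 33, 10, 34, 10, 10, 36, 36, 36, 36, 36, 36, 36], [53, 57, 46, 49, 46, 48, 47, 49, 49, 42, 42, 42, 42, 45, 42, 44, 43, 45, 38, 41, 38, 38, 38, 38, 41, 38, 11, 11, 35, 10, 34, 34, 32], [53, 57, 46, 49, 46, 48, 47, 49, 49, 42, 42, 42, 42, 45, 42, 44, 43, 45, 38, 41, 38, 38, 38, 38, 41, 38, 11, 11, 35, 10, 34, 34, 32, 36], [53, 57, 46, 49, 46, 48, 47, 49, 49, 42, 42, 42, 42, 45, 42, 44, 43, 45, 38, 41, 38, 38, 38, 38, 41, 38, 11, 11, 35, 10, 34, 34, 32, 36, 36], [53, 57, 46, 49,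 46, 48, 47, 49, 49, 42, 42, 42, 42, 45, 42, 44, 43, 45, 38, 41, 38, 38, 38, 38, 41, 38, 11, 11, 35, 10, 34, 34, 32, 36, 36, 36], [53, 57, 46, 49, 46, 48, 47, 49, 49, 42, 42, 42, 42, 45, 42, 44, 43, 45, 38, 41, 38, 38, 38, 38, 41, 38, 11, 11, 35, 10, 34, 34, 32, 36, 36, 36, 36], [53, 57, 46, 49, 46, 48, 47, 49, 49, 42, 42, 42, 42, 45, 42, 44, 43, 45, 38, 41, 38, 38, 38, 38, 41, 38, 11, 11, 35, 10, 34, 34, 32, 36, 36, 36, 36, 36], [53, 57, 46, 49, 46, 48, 47, 49, 49, 42, 42, 42, 42, 45, 42, 44, 43, 45, 38, 41, 38, 38, 38, 38, 41, 38, 11, 11, 35, 10, 34, 34, 32, 36, 36, 36, 36, 36, 36], [53, 57, 46, 49, 46, 48, 47, 49, 49, 42, 42, 42, 42, 45, 42, 44, 43, 45, 38, 41, 38, 38, 38, 38, 41, 38, 11, 11, 35, 10, 34, 34, 32, 36, 36, 36, 36, 36, 36, 36], [53, 57, 46, 49, 46, 48, 47, 49, 49, 42, 42, 42, 42, 45, 42, 44, 43, 45, 38, 41, 38, 38, 38, 38, 41, 38, 11, 11, 35,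 10, 35], [53, 57, 46, 49, 46, 48, 47, 49, 49, 42, 42, 42, 42, 45, 42, 44, 43, 45, 38, 41, 38, 38, 38, 38, 41, 38, 11, 11, 35, 10, 35, 36], [53, 57, 46, 49, 46, 48, 47, 49, 49, 42, 42, 42, 42, 45, 42, 44, 43, 45, 38, 41, 38, 38, 38, 38, 41, 38, 11, 11, 35, 10, 35, 36, 36], [53, 57, 46, 49, 46, 48, 47, 49, 49, 42, 42, 42, 42, 45, 42, 44, 43, 45, 38, 41, 38, 38, 38, 38, 41, 38, 11, 11, 35, 10, 35, 36, 36, 36], [53, 57, 46, 49, 46, 48, 47, 49, 49, 42, 42, 42, 42, 45, 42, 44, 43, 45, 38, 41, 38, 38, 38, 38, 41, 38, 11, 11, 35, 10, 35, 36, 36, 36, 36], [53, 57, 46, 49, 46, 48, 47, 49, 49, 42, 42, 42, 42, 45, 42, 44, 43, 45, 38, 41, 38, 38, 38, 38, 41, 38, 11, 11, 35, 10, 35, 36, 36, 36, 36, 36], [53, 57, 46, 49, 46, 48, 47, 49, 49, 42, 42, 42, 42, 45, 42, 44, 43, 45, 38, 41, 38, 38, 38, 38, 41, 38, 11, 11, 35, 10, 35, 36, 36, 36, 36, 36, 36], [53, 57, 46, 49, 46,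 48, 47, 49, 49, 42, 42, 42, 42, 45, 42, 44, 43, 45, 38, 41, 38, 38, 38, 38, 41, 38, 11, 11, 35, 10, 35, 36, 36, 36, 36, 36, 36, 36], [34], [34, 36], [34, 36, 36], [34, 36, 36, 36], [34, 36, 36, 36, 36], [34, 36, 36, 36, 36, 36], [34, 36, 36, 36, 36, 36, 36], [34, 36, 36, 36, 36, 36, 36, 36], [32, 35], [32, 35, 36], [32, 35, 36, 36], [32, 35, 36, 36, 36], [32, 35, 36, 36, 36, 36], [32, 35, 36, 36, 36, 36, 36], [32, 35, 36, 36, 36, 36, 36, 36], [32, 35, 36, 36, 36, 36, 36, 36, 36], [53, 54, 56, 47, 47, 49, 50, 49, 47, 43, 44, 43, 45, 45, 42, 45, 43, 44, 38, 38, 40, 39, 39, 39, 39, 40, 40, 38, 33, 11, 35, 33, 35, 33, 35], [53, 54, 56, 47, 47, 49, 50, 49, 47, 43, 44, 43, 45, 45, 42, 45, 43, 44, 38, 38, 40, 39, 39, 39, 39, 40, 40, 38, 33, 11, 35, 33, 35, 33, 35, 36], [53, 54, 56, 47, 47, 49, 50, 49, 47, 43, 44, 43, 45, 45, 42, 45, 43, 44, 38, 38, 40, 39, 39, 39,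 39, 40, 40, 38, 33, 11, 35, 33, 35, 33, 35, 36, 36], [53, 54, 56, 47, 47, 49, 50, 49, 47, 43, 44, 43, 45, 45, 42, 45, 43, 44, 38, 38, 40, 39, 39, 39, 39, 40, 40, 38, 33, 11, 35, 33, 35, 33, 35, 36, 36, 36], [53, 54, 56, 47, 47, 49, 50, 49, 47, 43, 44, 43, 45, 45, 42, 45, 43, 44, 38, 38, 40, 39, 39, 39, 39, 40, 40, 38, 33, 11, 35, 33, 35, 33, 35, 36, 36, 36, 36], [53, 54, 56, 47, 47, 49, 50, 49, 47, 43, 44, 43, 45, 45, 42, 45, 43, 44, 38, 38, 40, 39, 39, 39, 39, 40, 40, 38, 33, 11, 35, 33, 35, 33, 35, 36, 36, 36, 36, 36], [53, 54, 56, 47, 47, 49, 50, 49, 47, 43, 44, 43, 45, 45, 42, 45, 43, 44, 38, 38, 40, 39, 39, 39, 39, 40, 40, 38, 33, 11, 35, 33, 35, 33, 35, 36, 36, 36, 36, 36, 36], [53, 54, 56, 47, 47, 49, 50, 49, 47, 43, 44, 43, 45, 45, 42, 45, 43, 44, 38, 38, 40, 39, 39, 39, 39, 40, 40, 38, 33, 11, 35, 33, 35, 33, 35, 36, 36, 36, 36, 36, 36, 36], [53, 54,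 56, 47, 47, 49, 50, 49, 47, 43, 44, 43, 45, 45, 42, 45, 43, 44, 38, 38, 40, 39, 39, 39, 39, 40, 40, 38, 32, 11, 32, 10, 34], [53, 54, 56, 47, 47, 49, 50, 49, 47, 43, 44, 43, 45, 45, 42, 45, 43, 44, 38, 38, 40, 39, 39, 39, 39, 40, 40, 38, 32, 11, 32, 10, 34, 36], [53, 54, 56, 47, 47, 49, 50, 49, 47, 43, 44, 43, 45, 45, 42, 45, 43, 44, 38, 38, 40, 39, 39, 39, 39, 40, 40, 38, 32, 11, 32, 10, 34, 36, 36], [53, 54, 56, 47, 47, 49, 50, 49, 47, 43, 44, 43, 45, 45, 42, 45, 43, 44, 38, 38, 40, 39, 39, 39, 39, 40, 40, 38, 32, 11, 32, 10, 34, 36, 36, 36], [53, 54, 56, 47, 47, 49, 50, 49, 47, 43, 44, 43, 45, 45, 42, 45, 43, 44, 38, 38, 40, 39, 39, 39, 39, 40, 40, 38, 32, 11, 32, 10, 34, 36, 36, 36, 36], [53, 54, 56, 47, 47, 49, 50, 49, 47, 43, 44, 43, 45, 45, 42, 45, 43, 44, 38, 38, 40, 39, 39, 39, 39, 40, 40, 38, 32, 11, 32, 10, 34, 36, 36, 36, 36, 36], [53, 54, 56, 47,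 47, 49, 50, 49, 47, 43, 44, 43, 45, 45, 42, 45, 43, 44, 38, 38, 40, 39, 39, 39, 39, 40, 40, 38, 32, 11, 32, 10, 34, 36, 36, 36, 36, 36, 36], [53, 54, 56, 47, 47, 49, 50, 49, 47, 43, 44, 43, 45, 45, 42, 45, 43, 44, 38, 38, 40, 39, 39, 39, 39, 40, 40, 38, 32, 11, 32, 10, 34, 36, 36, 36, 36, 36, 36, 36], [], [36], [36, 36], [36, 36, 36], [36, 36, 36, 36], [36, 36, 36, 36, 36], [36, 36, 36, 36, 36, 36], [36, 36, 36, 36, 36, 36, 36], [53, 54, 56, 47, 47, 49, 50, 49, 47, 43, 44, 43, 45, 45, 42, 45, 43, 44, 38, 38, 40, 39, 39, 39, 39, 40, 40, 38, 33, 11, 33, 33, 33, 35], [53, 54, 56, 47, 47, 49, 50, 49, 47, 43, 44, 43, 45, 45, 42, 45, 43, 44, 38, 38, 40, 39, 39, 39, 39, 40, 40, 38, 33, 11, 33, 33, 33, 35, 36], [53, 54, 56, 47, 47, 49, 50, 49, 47, 43, 44, 43, 45, 45, 42, 45, 43, 44, 38, 38, 40, 39, 39, 39, 39, 40, 40, 38, 33, 11, 33, 33, 33, 35, 36, 36], [53, 54, 56,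 47, 47, 49, 50, 49, 47, 43, 44, 43, 45, 45, 42, 45, 43, 44, 38, 38, 40, 39, 39, 39, 39, 40, 40, 38, 33, 11, 33, 33, 33, 35, 36, 36, 36], [53, 54, 56, 47, 47, 49, 50, 49, 47, 43, 44, 43, 45, 45, 42, 45, 43, 44, 38, 38, 40, 39, 39, 39, 39, 40, 40, 38, 33, 11, 33, 33, 33, 35, 36, 36, 36, 36], [53, 54, 56, 47, 47, 49, 50, 49, 47, 43, 44, 43, 45, 45, 42, 45, 43, 44, 38, 38, 40, 39, 39, 39, 39, 40, 40, 38, 33, 11, 33, 33, 33, 35, 36, 36, 36, 36, 36], [53, 54, 56, 47, 47, 49, 50, 49, 47, 43, 44, 43, 45, 45, 42, 45, 43, 44, 38, 38, 40, 39, 39, 39, 39, 40, 40, 38, 33, 11, 33, 33, 33, 35, 36, 36, 36, 36, 36, 36], [53, 54, 56, 47, 47, 49, 50, 49, 47, 43, 44, 43, 45, 45, 42, 45, 43, 44, 38, 38, 40, 39, 39, 39, 39, 40, 40, 38, 33, 11, 33, 33, 33, 35, 36, 36, 36, 36, 36, 36, 36], [53, 57, 46, 49, 46, 48, 47, 49, 49, 42, 42, 42, 42, 45, 42, 44, 43, 45, 38, 41, 38, 38, 38,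 38, 41, 38, 11, 11, 35, 10, 33, 33], [53, 57, 46, 49, 46, 48, 47, 49, 49, 42, 42, 42, 42, 45, 42, 44, 43, 45, 38, 41, 38, 38, 38, 38, 41, 38, 11, 11, 35, 10, 33, 33, 36], [53, 57, 46, 49, 46, 48, 47, 49, 49, 42, 42, 42, 42, 45, 42, 44, 43, 45, 38, 41, 38, 38, 38, 38, 41, 38, 11, 11, 35, 10, 33, 33, 36, 36], [53, 57, 46, 49, 46, 48, 47, 49, 49, 42, 42, 42, 42, 45, 42, 44, 43, 45, 38, 41, 38, 38, 38, 38, 41, 38, 11, 11, 35, 10, 33, 33, 36, 36, 36], [53, 57, 46, 49, 46, 48, 47, 49, 49, 42, 42, 42, 42, 45, 42, 44, 43, 45, 38, 41, 38, 38, 38, 38, 41, 38, 11, 11, 35, 10, 33, 33, 36, 36, 36, 36], [53, 57, 46, 49, 46, 48, 47, 49, 49, 42, 42, 42, 42, 45, 42, 44, 43, 45, 38, 41, 38, 38, 38, 38, 41, 38, 11, 11, 35, 10, 33, 33, 36, 36, 36, 36, 36], [53, 57, 46, 49, 46, 48, 47, 49, 49, 42, 42, 42, 42, 45, 42, 44, 43, 45, 38, 41, 38, 38, 38, 38, 41, 38, 11, 11, 35, 10, 33,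 33, 36, 36, 36, 36, 36, 36], [53, 57, 46, 49, 46, 48, 47, 49, 49, 42, 42, 42, 42, 45, 42, 44, 43, 45, 38, 41, 38, 38, 38, 38, 41, 38, 11, 11, 35, 10, 33, 33, 36, 36, 36, 36, 36, 36, 36], [53, 57, 46, 49, 46, 48, 47, 49, 49, 42, 42, 42, 42, 45, 42, 44, 43, 45, 38, 41, 38, 38, 38, 38, 41, 38, 11, 11, 35, 10, 33, 35, 35], [53, 57, 46, 49, 46, 48, 47, 49, 49, 42, 42, 42, 42, 45, 42, 44, 43, 45, 38, 41, 38, 38, 38, 38, 41, 38, 11, 11, 35, 10, 33, 35, 35, 36], [53, 57, 46, 49, 46, 48, 47, 49, 49, 42, 42, 42, 42, 45, 42, 44, 43, 45, 38, 41, 38, 38, 38, 38, 41, 38, 11, 11, 35, 10, 33, 35, 35, 36, 36], [53, 57, 46, 49, 46, 48, 47, 49, 49, 42, 42, 42, 42, 45, 42, 44, 43, 45, 38, 41, 38, 38, 38, 38, 41, 38, 11, 11, 35, 10, 33, 35, 35, 36, 36, 36], [53, 57, 46, 49, 46, 48, 47, 49, 49, 42, 42, 42, 42, 45, 42, 44, 43, 45, 38, 41, 38, 38, 38, 38, 41, 38, 11, 11, 35, 10, 33,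 35, 35, 36, 36, 36, 36], [53, 57, 46, 49, 46, 48, 47, 49, 49, 42, 42, 42, 42, 45, 42, 44, 43, 45, 38, 41, 38, 38, 38, 38, 41, 38, 11, 11, 35, 10, 33, 35, 35, 36, 36, 36, 36, 36], [53, 57, 46, 49, 46, 48, 47, 49, 49, 42, 42, 42, 42, 45, 42, 44, 43, 45, 38, 41, 38, 38, 38, 38, 41, 38, 11, 11, 35, 10, 33, 35, 35, 36, 36, 36, 36, 36, 36], [53, 57, 46, 49, 46, 48, 47, 49, 49, 42, 42, 42, 42, 45, 42, 44, 43, 45, 38, 41, 38, 38, 38, 38, 41, 38, 11, 11, 35, 10, 33, 35, 35, 36, 36, 36, 36, 36, 36, 36], [33, 33, 33], [33, 33, 33, 36], [33, 33, 33, 36, 36], [33, 33, 33, 36, 36, 36], [33, 33, 33, 36, 36, 36, 36], [33, 33, 33, 36, 36, 36, 36, 36], [33, 33, 33, 36, 36, 36, 36, 36, 36], [33, 33, 33, 36, 36, 36, 36, 36, 36, 36], [53, 55, 56, 47, 48, 46, 51, 48, 51, 45, 45, 43, 45, 45, 45, 42, 42, 45, 38, 40, 40, 38, 40, 39, 41, 38, 10, 32, 34, 32, 34, 10, 33], [53, 55, 56,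 47, 48, 46, 51, 48, 51, 45, 45, 43, 45, 45, 45, 42, 42, 45, 38, 40, 40, 38, 40, 39, 41, 38, 10, 32, 34, 32, 34, 10, 33, 36], [53, 55, 56, 47, 48, 46, 51, 48, 51, 45, 45, 43, 45, 45, 45, 42, 42, 45, 38, 40, 40, 38, 40, 39, 41, 38, 10, 32, 34, 32, 34, 10, 33, 36, 36], [53, 55, 56, 47, 48, 46, 51, 48, 51, 45, 45, 43, 45, 45, 45, 42, 42, 45, 38, 40, 40, 38, 40, 39, 41, 38, 10, 32, 34, 32, 34, 10, 33, 36, 36, 36], [53, 55, 56, 47, 48, 46, 51, 48, 51, 45, 45, 43, 45, 45, 45, 42, 42, 45, 38, 40, 40, 38, 40, 39, 41, 38, 10, 32, 34, 32, 34, 10, 33, 36, 36, 36, 36], [53, 55, 56, 47, 48, 46, 51, 48, 51, 45, 45, 43, 45, 45, 45, 42, 42, 45, 38, 40, 40, 38, 40, 39, 41, 38, 10, 32, 34, 32, 34, 10, 33, 36, 36, 36, 36, 36], [53, 55, 56, 47, 48, 46, 51, 48, 51, 45, 45, 43, 45, 45, 45, 42, 42, 45, 38, 40, 40, 38, 40, 39, 41, 38, 10, 32, 34, 32, 34, 10, 33, 36, 36, 36, 36, 36,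 36], [53, 55, 56, 47, 48, 46, 51, 48, 51, 45, 45, 43, 45, 45, 45, 42, 42, 45, 38, 40, 40, 38, 40, 39, 41, 38, 10, 32, 34, 32, 34, 10, 33, 36, 36, 36, 36, 36, 36, 36], [32, 32, 32, 32, 34, 34], [32, 32, 32, 32, 34, 34, 36], [32, 32, 32, 32, 34, 34, 36, 36], [32, 32, 32, 32, 34, 34, 36, 36, 36], [32, 32, 32, 32, 34, 34, 36, 36, 36, 36], [32, 32, 32, 32, 34, 34, 36, 36, 36, 36, 36], [32, 32, 32, 32, 34, 34, 36, 36, 36, 36, 36, 36], [32, 32, 32, 32, 34, 34, 36, 36, 36, 36, 36, 36, 36], [53, 55, 56, 47, 48, 46, 51, 48, 51, 45, 45, 43, 45, 45, 45, 42, 42, 45, 38, 40, 40, 38, 40, 39, 41, 38, 10, 35, 32, 35, 32, 11, 33, 34], [53, 55, 56, 47, 48, 46, 51, 48, 51, 45, 45, 43, 45, 45, 45, 42, 42, 45, 38, 40, 40, 38, 40, 39, 41, 38, 10, 35, 32, 35, 32, 11, 33, 34, 36], [53, 55, 56, 47, 48, 46, 51, 48, 51, 45, 45, 43, 45, 45, 45, 42, 42, 45, 38, 40, 40, 38, 40, 39, 41, 38,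 10, 35, 32, 35, 32, 11, 33, 34, 36, 36], [53, 55, 56, 47, 48, 46, 51, 48, 51, 45, 45, 43, 45, 45, 45, 42, 42, 45, 38, 40, 40, 38, 40, 39, 41, 38, 10, 35, 32, 35, 32, 11, 33, 34, 36, 36, 36], [53, 55, 56, 47, 48, 46, 51, 48, 51, 45, 45, 43, 45, 45, 45, 42, 42, 45, 38, 40, 40, 38, 40, 39, 41, 38, 10, 35, 32, 35, 32, 11, 33, 34, 36, 36, 36, 36], [53, 55, 56, 47, 48, 46, 51, 48, 51, 45, 45, 43, 45, 45, 45, 42, 42, 45, 38, 40, 40, 38, 40, 39, 41, 38, 10, 35, 32, 35, 32, 11, 33, 34, 36, 36, 36, 36, 36], [53, 55, 56, 47, 48, 46, 51, 48, 51, 45, 45, 43, 45, 45, 45, 42, 42, 45, 38, 40, 40, 38, 40, 39, 41, 38, 10, 35, 32, 35, 32, 11, 33, 34, 36, 36, 36, 36, 36, 36], [53, 55, 56, 47, 48, 46, 51, 48, 51, 45, 45, 43, 45, 45, 45, 42, 42, 45, 38, 40, 40, 38, 40, 39, 41, 38, 10, 35, 32, 35, 32, 11, 33, 34, 36, 36, 36, 36, 36, 36, 36], [53, 54, 56, 47, 47, 49, 50, 49, 47, 43,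 44, 43, 45, 45, 42, 45, 43, 44, 38, 38, 40, 39, 39, 39, 39, 40, 40, 38, 33, 11, 35, 32, 35], [53, 54, 56, 47, 47, 49, 50, 49, 47, 43, 44, 43, 45, 45, 42, 45, 43, 44, 38, 38, 40, 39, 39, 39, 39, 40, 40, 38, 33, 11, 35, 32, 35, 36], [53, 54, 56, 47, 47, 49, 50, 49, 47, 43, 44, 43, 45, 45, 42, 45, 43, 44, 38, 38, 40, 39, 39, 39, 39, 40, 40, 38, 33, 11, 35, 32, 35, 36, 36], [53, 54, 56, 47, 47, 49, 50, 49, 47, 43, 44, 43, 45, 45, 42, 45, 43, 44, 38, 38, 40, 39, 39, 39, 39, 40, 40, 38, 33, 11, 35, 32, 35, 36, 36, 36], [53, 54, 56, 47, 47, 49, 50, 49, 47, 43, 44, 43, 45, 45, 42, 45, 43, 44, 38, 38, 40, 39, 39, 39, 39, 40, 40, 38, 33, 11, 35, 32, 35, 36, 36, 36, 36], [53, 54, 56, 47, 47, 49, 50, 49, 47, 43, 44, 43, 45, 45, 42, 45, 43, 44, 38, 38, 40, 39, 39, 39, 39, 40, 40, 38, 33, 11, 35, 32, 35, 36, 36, 36, 36, 36], [53, 54, 56, 47, 47, 49, 50, 49, 47, 43, 44, 43,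 45, 45, 42, 45, 43, 44, 38, 38, 40, 39, 39, 39, 39, 40, 40, 38, 33, 11, 35, 32, 35, 36, 36, 36, 36, 36, 36], [53, 54, 56, 47, 47, 49, 50, 49, 47, 43, 44, 43, 45, 45, 42, 45, 43, 44, 38, 38, 40, 39, 39, 39, 39, 40, 40, 38, 33, 11, 35, 32, 35, 36, 36, 36, 36, 36, 36, 36], [34, 32, 35, 32], [34, 32, 35, 32, 36], [34, 32, 35, 32, 36, 36], [34, 32, 35, 32, 36, 36, 36], [34, 32, 35, 32, 36, 36, 36, 36], [34, 32, 35, 32, 36, 36, 36, 36, 36], [34, 32, 35, 32, 36, 36, 36, 36, 36, 36], [34, 32, 35, 32, 36, 36, 36, 36, 36, 36, 36], [32, 34, 34, 32, 35], [32, 34, 34, 32, 35, 36], [32, 34, 34, 32, 35, 36, 36], [32, 34, 34, 32, 35, 36, 36, 36], [32, 34, 34, 32, 35, 36, 36, 36, 36], [32, 34, 34, 32, 35, 36, 36, 36, 36, 36], [32, 34, 34, 32, 35, 36, 36, 36, 36, 36, 36], [32, 34, 34, 32, 35, 36, 36, 36, 36, 36, 36, 36], [53, 55, 50, 48, 48, 48, 50, 44, 42, 42, 42, 44, 42, 45,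 43, 45, 42, 38, 41, 39, 41, 38, 40, 39, 41, 38, 32, 35, 10, 34, 10, 32, 32], [53, 55, 50, 48, 48, 48, 50, 44, 42, 42, 42, 44, 42, 45, 43, 45, 42, 38, 41, 39, 41, 38, 40, 39, 41, 38, 32, 35, 10, 34, 10, 32, 32, 36], [53, 55, 50, 48, 48, 48, 50, 44, 42, 42, 42, 44, 42, 45, 43, 45, 42, 38, 41, 39, 41, 38, 40, 39, 41, 38, 32, 35, 10, 34, 10, 32, 32, 36, 36], [53, 55, 50, 48, 48, 48, 50, 44, 42, 42, 42, 44, 42, 45, 43, 45, 42, 38, 41, 39, 41, 38, 40, 39, 41, 38, 32, 35, 10, 34, 10, 32, 32, 36, 36, 36], [53, 55, 50, 48, 48, 48, 50, 44, 42, 42, 42, 44, 42, 45, 43, 45, 42, 38, 41, 39, 41, 38, 40, 39, 41, 38, 32, 35, 10, 34, 10, 32, 32, 36, 36, 36, 36], [53, 55, 50, 48, 48, 48, 50, 44, 42, 42, 42, 44, 42, 45, 43, 45, 42, 38, 41, 39, 41, 38, 40, 39, 41, 38, 32, 35, 10, 34, 10, 32, 32, 36, 36, 36, 36, 36], [53, 55, 50, 48, 48, 48, 50, 44, 42, 42, 42, 44, 42, 45, 43, 45,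 42, 38, 41, 39, 41, 38, 40, 39, 41, 38, 32, 35, 10, 34, 10, 32, 32, 36, 36, 36, 36, 36, 36], [53, 55, 50, 48, 48, 48, 50, 44, 42, 42, 42, 44, 42, 45, 43, 45, 42, 38, 41, 39, 41, 38, 40, 39, 41, 38, 32, 35, 10, 34, 10, 32, 32, 36, 36, 36, 36, 36, 36, 36], [34, 32, 35], [34, 32, 35, 36], [34, 32, 35, 36, 36], [34, 32, 35, 36, 36, 36], [34, 32, 35, 36, 36, 36, 36], [34, 32, 35, 36, 36, 36, 36, 36], [34, 32, 35, 36, 36, 36, 36, 36, 36], [34, 32, 35, 36, 36, 36, 36, 36, 36, 36], [33, 35, 35, 33], [33, 35, 35, 33, 36], [33, 35, 35, 33, 36, 36], [33, 35, 35, 33, 36, 36, 36], [33, 35, 35, 33, 36, 36, 36, 36], [33, 35, 35, 33, 36, 36, 36, 36, 36], [33, 35, 35, 33, 36, 36, 36, 36, 36, 36], [33, 35, 35, 33, 36, 36, 36, 36, 36, 36, 36], [53, 54, 56, 47, 47, 49, 50, 49, 47, 43, 44, 43, 45, 45, 42, 45, 43, 44, 38, 38, 40, 39, 39, 39, 39, 40, 40, 38, 11, 11, 32, 11], [53,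 54, 56, 47, 47, 49, 50, 49, 47, 43, 44, 43, 45, 45, 42, 45, 43, 44, 38, 38, 40, 39, 39, 39, 39, 40, 40, 38, 11, 11, 32, 11, 36], [53, 54, 56, 47, 47, 49, 50, 49, 47, 43, 44, 43, 45, 45, 42, 45, 43, 44, 38, 38, 40, 39, 39, 39, 39, 40, 40, 38, 11, 11, 32, 11, 36, 36], [53, 54, 56, 47, 47, 49, 50, 49, 47, 43, 44, 43, 45, 45, 42, 45, 43, 44, 38, 38, 40, 39, 39, 39, 39, 40, 40, 38, 11, 11, 32, 11, 36, 36, 36], [53, 54, 56, 47, 47, 49, 50, 49, 47, 43, 44, 43, 45, 45, 42, 45, 43, 44, 38, 38, 40, 39, 39, 39, 39, 40, 40, 38, 11, 11, 32, 11, 36, 36, 36, 36], [53, 54, 56, 47, 47, 49, 50, 49, 47, 43, 44, 43, 45, 45, 42, 45, 43, 44, 38, 38, 40, 39, 39, 39, 39, 40, 40, 38, 11, 11, 32, 11, 36, 36, 36, 36, 36], [53, 54, 56, 47, 47, 49, 50, 49, 47, 43, 44, 43, 45, 45, 42, 45, 43, 44, 38, 38, 40, 39, 39, 39, 39, 40, 40, 38, 11, 11, 32, 11, 36, 36, 36, 36, 36, 36], [53, 54, 56,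 47, 47, 49, 50, 49, 47, 43, 44, 43, 45, 45, 42, 45, 43, 44, 38, 38, 40, 39, 39, 39, 39, 40, 40, 38, 11, 11, 32, 11, 36, 36, 36, 36, 36, 36, 36], [33, 33, 35, 33], [33, 33, 35, 33, 36], [33, 33, 35, 33, 36, 36], [33, 33, 35, 33, 36, 36, 36], [33, 33, 35, 33, 36, 36, 36, 36], [33, 33, 35, 33, 36, 36, 36, 36, 36], [33, 33, 35, 33, 36, 36, 36, 36, 36, 36], [33, 33, 35, 33, 36, 36, 36, 36, 36, 36, 36], [53, 54, 56, 47, 47, 49, 50, 49, 47, 43, 44, 43, 45, 45, 42, 45, 43, 44, 38, 38, 40, 39, 39, 39, 39, 40, 40, 38, 33, 11, 34, 32, 34, 33, 35], [53, 54, 56, 47, 47, 49, 50, 49, 47, 43, 44, 43, 45, 45, 42, 45, 43, 44, 38, 38, 40, 39, 39, 39, 39, 40, 40, 38, 33, 11, 34, 32, 34, 33, 35, 36], [53, 54, 56, 47, 47, 49, 50, 49, 47, 43, 44, 43, 45, 45, 42, 45, 43, 44, 38, 38, 40, 39, 39, 39, 39, 40, 40, 38, 33, 11, 34, 32, 34, 33, 35, 36, 36], [53, 54, 56, 47, 47, 49, 50, 49,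 47, 43, 44, 43, 45, 45, 42, 45, 43, 44, 38, 38, 40, 39, 39, 39, 39, 40, 40, 38, 33, 11, 34, 32, 34, 33, 35, 36, 36, 36], [53, 54, 56, 47, 47, 49, 50, 49, 47, 43, 44, 43, 45, 45, 42, 45, 43, 44, 38, 38, 40, 39, 39, 39, 39, 40, 40, 38, 33, 11, 34, 32, 34, 33, 35, 36, 36, 36, 36], [53, 54, 56, 47, 47, 49, 50, 49, 47, 43, 44, 43, 45, 45, 42, 45, 43, 44, 38, 38, 40, 39, 39, 39, 39, 40, 40, 38, 33, 11, 34, 32, 34, 33, 35, 36, 36, 36, 36, 36], [53, 54, 56, 47, 47, 49, 50, 49, 47, 43, 44, 43, 45, 45, 42, 45, 43, 44, 38, 38, 40, 39, 39, 39, 39, 40, 40, 38, 33, 11, 34, 32, 34, 33, 35, 36, 36, 36, 36, 36, 36], [53, 54, 56, 47, 47, 49, 50, 49, 47, 43, 44, 43, 45, 45, 42, 45, 43, 44, 38, 38, 40, 39, 39, 39, 39, 40, 40, 38, 33, 11, 34, 32, 34, 33, 35, 36, 36, 36, 36, 36, 36, 36], [56, 48, 46, 49, 47, 51, 51, 45, 42, 45, 43, 43, 43, 43, 45, 43, 38, 41, 41, 39, 39, 41, 41,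 10, 10, 32, 34, 10, 34], [56, 48, 46, 49, 47, 51, 51, 45, 42, 45, 43, 43, 43, 43, 45, 43, 38, 41, 41, 39, 39, 41, 41, 10, 10, 32, 34, 10, 34, 36], [56, 48, 46, 49, 47, 51, 51, 45, 42, 45, 43, 43, 43, 43, 45, 43, 38, 41, 41, 39, 39, 41, 41, 10, 10, 32, 34, 10, 34, 36, 36], [56, 48, 46, 49, 47, 51, 51, 45, 42, 45, 43, 43, 43, 43, 45, 43, 38, 41, 41, 39, 39, 41, 41, 10, 10, 32, 34, 10, 34, 36, 36, 36], [56, 48, 46, 49, 47, 51, 51, 45, 42, 45, 43, 43, 43, 43, 45, 43, 38, 41, 41, 39, 39, 41, 41, 10, 10, 32, 34, 10, 34, 36, 36, 36, 36], [56, 48, 46, 49, 47, 51, 51, 45, 42, 45, 43, 43, 43, 43, 45, 43, 38, 41, 41, 39, 39, 41, 41, 10, 10, 32, 34, 10, 34, 36, 36, 36, 36, 36], [56, 48, 46, 49, 47, 51, 51, 45, 42, 45, 43, 43, 43, 43, 45, 43, 38, 41, 41, 39, 39, 41, 41, 10, 10, 32, 34, 10, 34, 36, 36, 36, 36, 36, 36], [56, 48, 46, 49, 47, 51, 51, 45, 42, 45, 43, 43, 43,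 43, 45, 43, 38, 41, 41, 39, 39, 41, 41, 10, 10, 32, 34, 10, 34, 36, 36, 36, 36, 36, 36, 36], [53, 54, 56, 47, 47, 49, 50, 49, 47, 43, 44, 43, 45, 45, 42, 45, 43, 44, 38, 38, 40, 39, 39, 39, 39, 40, 40, 38, 33, 11, 33], [53, 54, 56, 47, 47, 49, 50, 49, 47, 43, 44, 43, 45, 45, 42, 45, 43, 44, 38, 38, 40, 39, 39, 39, 39, 40, 40, 38, 33, 11, 33, 36], [53, 54, 56, 47, 47, 49, 50, 49, 47, 43, 44, 43, 45, 45, 42, 45, 43, 44, 38, 38, 40, 39, 39, 39, 39, 40, 40, 38, 33, 11, 33, 36, 36], [53, 54, 56, 47, 47, 49, 50, 49, 47, 43, 44, 43, 45, 45, 42, 45, 43, 44, 38, 38, 40, 39, 39, 39, 39, 40, 40, 38, 33, 11, 33, 36, 36, 36], [53, 54, 56, 47, 47, 49, 50, 49, 47, 43, 44, 43, 45, 45, 42, 45, 43, 44, 38, 38, 40, 39, 39, 39, 39, 40, 40, 38, 33, 11, 33, 36, 36, 36, 36], [53, 54, 56, 47, 47, 49, 50, 49, 47, 43, 44, 43, 45, 45, 42, 45, 43, 44, 38, 38, 40, 39, 39, 39, 39, 40, 40,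 38, 33, 11, 33, 36, 36, 36, 36, 36], [53, 54, 56, 47, 47, 49, 50, 49, 47, 43, 44, 43, 45, 45, 42, 45, 43, 44, 38, 38, 40, 39, 39, 39, 39, 40, 40, 38, 33, 11, 33, 36, 36, 36, 36, 36, 36], [53, 54, 56, 47, 47, 49, 50, 49, 47, 43, 44, 43, 45, 45, 42, 45, 43, 44, 38, 38, 40, 39, 39, 39, 39, 40, 40, 38, 33, 11, 33, 36, 36, 36, 36, 36, 36, 36], [52, 55, 51, 47, 48, 46, 50, 48, 42, 44, 43, 43, 45, 43, 43, 45, 42, 42, 40, 39, 39, 40, 39, 39, 40, 40, 39, 33, 34, 10, 32, 34, 10, 33], [52, 55, 51, 47, 48, 46, 50, 48, 42, 44, 43, 43, 45, 43, 43, 45, 42, 42, 40, 39, 39, 40, 39, 39, 40, 40, 39, 33, 34, 10, 32, 34, 10, 33, 36], [52, 55, 51, 47, 48, 46, 50, 48, 42, 44, 43, 43, 45, 43, 43, 45, 42, 42, 40, 39, 39, 40, 39, 39, 40, 40, 39, 33, 34, 10, 32, 34, 10, 33, 36, 36], [52, 55, 51, 47, 48, 46, 50, 48, 42, 44, 43, 43, 45, 43, 43, 45, 42, 42, 40, 39, 39, 40, 39, 39, 40, 40,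 39, 33, 34, 10, 32, 34, 10, 33, 36, 36, 36], [52, 55, 51, 47, 48, 46, 50, 48, 42, 44, 43, 43, 45, 43, 43, 45, 42, 42, 40, 39, 39, 40, 39, 39, 40, 40, 39, 33, 34, 10, 32, 34, 10, 33, 36, 36, 36, 36], [52, 55, 51, 47, 48, 46, 50, 48, 42, 44, 43, 43, 45, 43, 43, 45, 42, 42, 40, 39, 39, 40, 39, 39, 40, 40, 39, 33, 34, 10, 32, 34, 10, 33, 36, 36, 36, 36, 36], [52, 55, 51, 47, 48, 46, 50, 48, 42, 44, 43, 43, 45, 43, 43, 45, 42, 42, 40, 39, 39, 40, 39, 39, 40, 40, 39, 33, 34, 10, 32, 34, 10, 33, 36, 36, 36, 36, 36, 36], [52, 55, 51, 47, 48, 46, 50, 48, 42, 44, 43, 43, 45, 43, 43, 45, 42, 42, 40, 39, 39, 40, 39, 39, 40, 40, 39, 33, 34, 10, 32, 34, 10, 33, 36, 36, 36, 36, 36, 36, 36], [32, 34, 32, 35, 33, 35], [32, 34, 32, 35, 33, 35, 36], [32, 34, 32, 35, 33, 35, 36, 36], [32, 34, 32, 35, 33, 35, 36, 36, 36], [32, 34, 32, 35, 33, 35, 36, 36, 36, 36], [32, 34, 32, 35,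 33, 35, 36, 36, 36, 36, 36], [32, 34, 32, 35, 33, 35, 36, 36, 36, 36, 36, 36], [32, 34, 32, 35, 33, 35, 36, 36, 36, 36, 36, 36, 36], [54, 48, 50, 47, 50, 50, 50, 45, 43, 45, 43, 44, 42, 42, 42, 39, 40, 40, 40, 40, 40, 40, 39, 34, 11, 33, 35, 10, 35], [54, 48, 50, 47, 50, 50, 50, 45, 43, 45, 43, 44, 42, 42, 42, 39, 40, 40, 40, 40, 40, 40, 39, 34, 11, 33, 35, 10, 35, 36], [54, 48, 50, 47, 50, 50, 50, 45, 43, 45, 43, 44, 42, 42, 42, 39, 40, 40, 40, 40, 40, 40, 39, 34, 11, 33, 35, 10, 35, 36, 36], [54, 48, 50, 47, 50, 50, 50, 45, 43, 45, 43, 44, 42, 42, 42, 39, 40, 40, 40, 40, 40, 40, 39, 34, 11, 33, 35, 10, 35, 36, 36, 36], [54, 48, 50, 47, 50, 50, 50, 45, 43, 45, 43, 44, 42, 42, 42, 39, 40, 40, 40, 40, 40, 40, 39, 34, 11, 33, 35, 10, 35, 36, 36, 36, 36], [54, 48, 50, 47, 50, 50, 50, 45, 43, 45, 43, 44, 42, 42, 42, 39, 40, 40, 40, 40, 40, 40, 39, 34, 11, 33, 35,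 10, 35, 36, 36, 36, 36, 36], [54, 48, 50, 47, 50, 50, 50, 45, 43, 45, 43, 44, 42, 42, 42, 39, 40, 40, 40, 40, 40, 40, 39, 34, 11, 33, 35, 10, 35, 36, 36, 36, 36, 36, 36], [54, 48, 50, 47, 50, 50, 50, 45, 43, 45, 43, 44, 42, 42, 42, 39, 40, 40, 40, 40, 40, 40, 39, 34, 11, 33, 35, 10, 35, 36, 36, 36, 36, 36, 36, 36], [53, 54, 56, 47, 47, 49, 50, 49, 47, 43, 44, 43, 45, 45, 42, 45, 43, 44, 38, 38, 40, 39, 39, 39, 39, 40, 40, 38, 33, 11, 33, 35, 33, 35], [53, 54, 56, 47, 47, 49, 50, 49, 47, 43, 44, 43, 45, 45, 42, 45, 43, 44, 38, 38, 40, 39, 39, 39, 39, 40, 40, 38, 33, 11, 33, 35, 33, 35, 36], [53, 54, 56, 47, 47, 49, 50, 49, 47, 43, 44, 43, 45, 45, 42, 45, 43, 44, 38, 38, 40, 39, 39, 39, 39, 40, 40, 38, 33, 11, 33, 35, 33, 35, 36, 36], [53, 54, 56, 47, 47, 49, 50, 49, 47, 43, 44, 43, 45, 45, 42, 45, 43, 44, 38, 38, 40, 39, 39, 39, 39, 40, 40, 38, 33, 11, 33, 35,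 33, 35, 36, 36, 36], [53, 54, 56, 47, 47, 49, 50, 49, 47, 43, 44, 43, 45, 45, 42, 45, 43, 44, 38, 38, 40, 39, 39, 39, 39, 40, 40, 38, 33, 11, 33, 35, 33, 35, 36, 36, 36, 36], [53, 54, 56, 47, 47, 49, 50, 49, 47, 43, 44, 43, 45, 45, 42, 45, 43, 44, 38, 38, 40, 39, 39, 39, 39, 40, 40, 38, 33, 11, 33, 35, 33, 35, 36, 36, 36, 36, 36], [53, 54, 56, 47, 47, 49, 50, 49, 47, 43, 44, 43, 45, 45, 42, 45, 43, 44, 38, 38, 40, 39, 39, 39, 39, 40, 40, 38, 33, 11, 33, 35, 33, 35, 36, 36, 36, 36, 36, 36], [53, 54, 56, 47, 47, 49, 50, 49, 47, 43, 44, 43, 45, 45, 42, 45, 43, 44, 38, 38, 40, 39, 39, 39, 39, 40, 40, 38, 33, 11, 33, 35, 33, 35, 36, 36, 36, 36, 36, 36, 36], [33, 33, 35, 33, 35, 35], [33, 33, 35, 33, 35, 35, 36], [33, 33, 35, 33, 35, 35, 36, 36], [33, 33, 35, 33, 35, 35, 36, 36, 36], [33, 33, 35, 33, 35, 35, 36, 36, 36, 36], [33, 33, 35, 33, 35, 35, 36, 36, 36, 36,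 36], [33, 33, 35, 33, 35, 35, 36, 36, 36, 36, 36, 36], [33, 33, 35, 33, 35, 35, 36, 36, 36, 36, 36, 36, 36], [34, 32, 34, 32, 34, 34], [34, 32, 34, 32, 34, 34, 36], [34, 32, 34, 32, 34, 34, 36, 36], [34, 32, 34, 32, 34, 34, 36, 36, 36], [34, 32, 34, 32, 34, 34, 36, 36, 36, 36], [34, 32, 34, 32, 34, 34, 36, 36, 36, 36, 36], [34, 32, 34, 32, 34, 34, 36, 36, 36, 36, 36, 36], [34, 32, 34, 32, 34, 34, 36, 36, 36, 36, 36, 36, 36], [33, 33, 33, 35, 35], [33, 33, 33, 35, 35, 36], [33, 33, 33, 35, 35, 36, 36], [33, 33, 33, 35, 35, 36, 36, 36], [33, 33, 33, 35, 35, 36, 36, 36, 36], [33, 33, 33, 35, 35, 36, 36, 36, 36, 36], [33, 33, 33, 35, 35, 36, 36, 36, 36, 36, 36], [33, 33, 33, 35, 35, 36, 36, 36, 36, 36, 36, 36], [56, 49, 47, 49, 50, 49, 51, 43, 43, 43, 44, 44, 42, 45, 45, 43, 40, 38, 38, 38, 38, 41, 38, 38, 40, 40, 10, 10, 35, 32, 35, 11, 33], [56, 49, 47, 49, 50,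 49, 51, 43, 43, 43, 44, 44, 42, 45, 45, 43, 40, 38, 38, 38, 38, 41, 38, 38, 40, 40, 10, 10, 35, 32, 35, 11, 33, 36], [56, 49, 47, 49, 50, 49, 51, 43, 43, 43, 44, 44, 42, 45, 45, 43, 40, 38, 38, 38, 38, 41, 38, 38, 40, 40, 10, 10, 35, 32, 35, 11, 33, 36, 36], [56, 49, 47, 49, 50, 49, 51, 43, 43, 43, 44, 44, 42, 45, 45, 43, 40, 38, 38, 38, 38, 41, 38, 38, 40, 40, 10, 10, 35, 32, 35, 11, 33, 36, 36, 36], [56, 49, 47, 49, 50, 49, 51, 43, 43, 43, 44, 44, 42, 45, 45, 43, 40, 38, 38, 38, 38, 41, 38, 38, 40, 40, 10, 10, 35, 32, 35, 11, 33, 36, 36, 36, 36], [56, 49, 47, 49, 50, 49, 51, 43, 43, 43, 44, 44, 42, 45, 45, 43, 40, 38, 38, 38, 38, 41, 38, 38, 40, 40, 10, 10, 35, 32, 35, 11, 33, 36, 36, 36, 36, 36], [56, 49, 47, 49, 50, 49, 51, 43, 43, 43, 44, 44, 42, 45, 45, 43, 40, 38, 38, 38, 38, 41, 38, 38, 40, 40, 10, 10, 35, 32, 35, 11, 33, 36, 36, 36, 36, 36, 36], [56,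 49, 47, 49, 50, 49, 51, 43, 43, 43, 44, 44, 42, 45, 45, 43, 40, 38, 38, 38, 38, 41, 38, 38, 40, 40, 10, 10, 35, 32, 35, 11, 33, 36, 36, 36, 36, 36, 36, 36], [56, 48, 46, 49, 47, 51, 51, 45, 42, 45, 43, 43, 43, 43, 45, 43, 38, 41, 41, 39, 39, 41, 41, 10, 10, 32, 34, 10, 34, 34, 32], [56, 48, 46, 49, 47, 51, 51, 45, 42, 45, 43, 43, 43, 43, 45, 43, 38, 41, 41, 39, 39, 41, 41, 10, 10, 32, 34, 10, 34, 34, 32, 36], [56, 48, 46, 49, 47, 51, 51, 45, 42, 45, 43, 43, 43, 43, 45, 43, 38, 41, 41, 39, 39, 41, 41, 10, 10, 32, 34, 10, 34, 34, 32, 36, 36], [56, 48, 46, 49, 47, 51, 51, 45, 42, 45, 43, 43, 43, 43, 45, 43, 38, 41, 41, 39, 39, 41, 41, 10, 10, 32, 34, 10, 34, 34, 32, 36, 36, 36], [56, 48, 46, 49, 47, 51, 51, 45, 42, 45, 43, 43, 43, 43, 45, 43, 38, 41, 41, 39, 39, 41, 41, 10, 10, 32, 34, 10, 34, 34, 32, 36, 36, 36, 36], [56, 48, 46, 49, 47, 51, 51, 45, 42, 45, 43,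 43, 43, 43, 45, 43, 38, 41, 41, 39, 39, 41, 41, 10, 10, 32, 34, 10, 34, 34, 32, 36, 36, 36, 36, 36], [56, 48, 46, 49, 47, 51, 51, 45, 42, 45, 43, 43, 43, 43, 45, 43, 38, 41, 41, 39, 39, 41, 41, 10, 10, 32, 34, 10, 34, 34, 32, 36, 36, 36, 36, 36, 36], [56, 48, 46, 49, 47, 51, 51, 45, 42, 45, 43, 43, 43, 43, 45, 43, 38, 41, 41, 39, 39, 41, 41, 10, 10, 32, 34, 10, 34, 34, 32, 36, 36, 36, 36, 36, 36, 36], [33, 34, 33, 35, 33], [33, 34, 33, 35, 33, 36], [33, 34, 33, 35, 33, 36, 36], [33, 34, 33, 35, 33, 36, 36, 36], [33, 34, 33, 35, 33, 36, 36, 36, 36], [33, 34, 33, 35, 33, 36, 36, 36, 36, 36], [33, 34, 33, 35, 33, 36, 36, 36, 36, 36, 36], [33, 34, 33, 35, 33, 36, 36, 36, 36, 36, 36, 36], [53, 54, 56, 47, 47, 49, 50, 49, 47, 43, 44, 43, 45, 45, 42, 45, 43, 44, 38, 38, 40, 39, 39, 39, 39, 40, 40, 38, 33, 11, 34, 34, 32], [53, 54, 56, 47, 47, 49, 50, 49, 47, 43, 44,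 43, 45, 45, 42, 45, 43, 44, 38, 38, 40, 39, 39, 39, 39, 40, 40, 38, 33, 11, 34, 34, 32, 36], [53, 54, 56, 47, 47, 49, 50, 49, 47, 43, 44, 43, 45, 45, 42, 45, 43, 44, 38, 38, 40, 39, 39, 39, 39, 40, 40, 38, 33, 11, 34, 34, 32, 36, 36], [53, 54, 56, 47, 47, 49, 50, 49, 47, 43, 44, 43, 45, 45, 42, 45, 43, 44, 38, 38, 40, 39, 39, 39, 39, 40, 40, 38, 33, 11, 34, 34, 32, 36, 36, 36], [53, 54, 56, 47, 47, 49, 50, 49, 47, 43, 44, 43, 45, 45, 42, 45, 43, 44, 38, 38, 40, 39, 39, 39, 39, 40, 40, 38, 33, 11, 34, 34, 32, 36, 36, 36, 36], [53, 54, 56, 47, 47, 49, 50, 49, 47, 43, 44, 43, 45, 45, 42, 45, 43, 44, 38, 38, 40, 39, 39, 39, 39, 40, 40, 38, 33, 11, 34, 34, 32, 36, 36, 36, 36, 36], [53, 54, 56, 47, 47, 49, 50, 49, 47, 43, 44, 43, 45, 45, 42, 45, 43, 44, 38, 38, 40, 39, 39, 39, 39, 40, 40, 38, 33, 11, 34, 34, 32, 36, 36, 36, 36, 36, 36], [53, 54, 56, 47, 47, 49, 50,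 49, 47, 43, 44, 43, 45, 45, 42, 45, 43, 44, 38, 38, 40, 39, 39, 39, 39, 40, 40, 38, 33, 11, 34, 34, 32, 36, 36, 36, 36, 36, 36, 36], [56, 46, 46, 49, 50, 46, 49, 42, 45, 43, 45, 43, 45, 43, 45, 42, 42, 41, 39, 41, 39, 41, 38, 41, 39, 10, 34, 32, 34, 11, 34, 10], [56, 46, 46, 49, 50, 46, 49, 42, 45, 43, 45, 43, 45, 43, 45, 42, 42, 41, 39, 41, 39, 41, 38, 41, 39, 10, 34, 32, 34, 11, 34, 10, 36], [56, 46, 46, 49, 50, 46, 49, 42, 45, 43, 45, 43, 45, 43, 45, 42, 42, 41, 39, 41, 39, 41, 38, 41, 39, 10, 34, 32, 34, 11, 34, 10, 36, 36], [56, 46, 46, 49, 50, 46, 49, 42, 45, 43, 45, 43, 45, 43, 45, 42, 42, 41, 39, 41, 39, 41, 38, 41, 39, 10, 34, 32, 34, 11, 34, 10, 36, 36, 36], [56, 46, 46, 49, 50, 46, 49, 42, 45, 43, 45, 43, 45, 43, 45, 42, 42, 41, 39, 41, 39, 41, 38, 41, 39, 10, 34, 32, 34, 11, 34, 10, 36, 36, 36, 36], [56, 46, 46, 49, 50, 46, 49, 42, 45, 43, 45, 43,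 45, 43, 45, 42, 42, 41, 39, 41, 39, 41, 38, 41, 39, 10, 34, 32, 34, 11, 34, 10, 36, 36, 36, 36, 36], [56, 46, 46, 49, 50, 46, 49, 42, 45, 43, 45, 43, 45, 43, 45, 42, 42, 41, 39, 41, 39, 41, 38, 41, 39, 10, 34, 32, 34, 11, 34, 10, 36, 36, 36, 36, 36, 36], [56, 46, 46, 49, 50, 46, 49, 42, 45, 43, 45, 43, 45, 43, 45, 42, 42, 41, 39, 41, 39, 41, 38, 41, 39, 10, 34, 32, 34, 11, 34, 10, 36, 36, 36, 36, 36, 36, 36], [32, 34, 33, 34, 33], [32, 34, 33, 34, 33, 36], [32, 34, 33, 34, 33, 36, 36], [32, 34, 33, 34, 33, 36, 36, 36], [32, 34, 33, 34, 33, 36, 36, 36, 36], [32, 34, 33, 34, 33, 36, 36, 36, 36, 36], [32, 34, 33, 34, 33, 36, 36, 36, 36, 36, 36], [32, 34, 33, 34, 33, 36, 36, 36, 36, 36, 36, 36], [33, 33, 33, 35, 33], [33, 33, 33, 35, 33, 36], [33, 33, 33, 35, 33, 36, 36], [33, 33, 33, 35, 33, 36, 36, 36], [33, 33, 33, 35, 33, 36, 36, 36, 36], [33, 33, 33, 35, 33,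 36, 36, 36, 36, 36], [33, 33, 33, 35, 33, 36, 36, 36, 36, 36, 36], [33, 33, 33, 35, 33, 36, 36, 36, 36, 36, 36, 36], [32, 34, 32, 35], [32, 34, 32, 35, 36], [32, 34, 32, 35, 36, 36], [32, 34, 32, 35, 36, 36, 36], [32, 34, 32, 35, 36, 36, 36, 36], [32, 34, 32, 35, 36, 36, 36, 36, 36], [32, 34, 32, 35, 36, 36, 36, 36, 36, 36], [32, 34, 32, 35, 36, 36, 36, 36, 36, 36, 36]]
def rels3 : List (List Nat × Nat) := [([2], 24), ([2, 0], 24), ([2, 1, 0], 27)]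

def codes1 : List Nat := [1, 1, 1, 1, 1, 1, 1, 1, 2, 2, 2, 2, 2, 2, 2, 2, 1, 1, 1, 1, 1, 1, 1, 1, 2, 3, 3, 2, 3, 3, 2, 3, 1, 1, 1, 1, 1, 1, 1, 1, 2, 2, 2, 2, 2, 2, 2, 3, 1, 1, 1, 1, 1, 1, 1, 1, 3, 2, 3, 2, 3, 2, 3, 3, 1, 1, 1, 1, 1, 1, 1, 1, 2, 2, 2, 2, 2, 2, 2, 2, 0, 3, 2, 2, 2, 2, 2, 2, 1, 1, 1, 1, 1, 1, 1, 1, 2, 2, 2, 2, 2, 2, 2, 2, 1, 1, 1, 1, 1, 1, 1, 1, 2, 3, 3, 3, 3, 3, 3, 3, 1, 1, 1, 1, 1, 1, 1, 1, 2, 2, 2, 2, 2, 2, 2, 2, 1, 1, 1, 1, 1, 1, 1, 1, 1, 1, 1, 1, 1, 1, 1, 1, 2, 2, 2, 2, 2, 2, 2, 2, 2, 2, 2, 2, 3, 3, 2, 2, 3, 3, 2, 2, 2, 2, 2, 3, 1, 1, 1, 1, 1, 1, 1, 1, 3, 3, 2, 2, 2, 3, 3, 2, 3, 2, 3, 2, 3, 2, 3, 2, 2, 2, 2, 2, 3, 2, 2, 2, 1, 1, 1, 1, 1, 1, 1, 1, 2, 3, 2, 2, 2, 2, 2, 2, 2, 2, 2, 3, 2, 2, 2, 2, 1, 1, 1, 1, 1, 1, 1, 1, 2, 2, 2, 2, 2, 2, 2, 2, 2, 2, 3, 2, 2, 2, 2, 2, 1, 1, 1, 1, 1, 1, 1, 1, 2, 2, 2, 2, 2, 2, 2, 2, 1, 1, 1, 1, 1, 1, 1, 1, 1,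 1, 1, 1, 1, 1, 1, 1, 2, 2, 2, 2, 2, 2, 2, 2, 1, 1, 1, 1, 1, 1, 1, 1, 2, 2, 2, 2, 2, 2, 2, 2, 1, 1, 1, 1, 1, 1, 1, 1, 1, 1, 1, 1, 1, 1, 1, 1, 1, 1, 1, 1, 1, 1, 1, 1, 1, 1, 1, 1, 1, 1, 1, 1, 1, 1, 1, 1, 1, 1, 1, 1, 1, 1, 1, 1, 1, 1, 1, 1, 1, 1, 1, 1, 1, 1, 1, 1, 2, 2, 2, 3, 2, 2, 2, 2, 3, 3, 2, 2, 2, 3, 3, 2]
def good1 : List (List Nat) := [[34]]
theorem tests1 : OT.ckTests T' (wpow xw 1) fw rels3 good1 cands codes1 = true := by decide +kernel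

theorem rels3_ok : ∀ q ∈ rels3, (((OT.sub3 xw fw yw q.1).map s).prod) ^ q.2 = 1 := by
  intro q hq
  rw [← wpow_prod]
  apply weq1
  · revert q hq; decide
  · revert q hq; decide +kernel

theorem svW_ok : ∀ q ∈ svW, F * (q.2.map s).prod = (q.2.map s).prod * F ∧
    ((act ρ ⟨2112, by decide⟩ (q.2.map s).prod : Fin 31671) : Nat) = q.1 := by
  intro q hq
  constructor
  · have h := weq (Fw ++ q.2) (q.2 ++ Fw) (by revert q hq; decide) (by revert q hq; decide) (by revert q hq; decide +kernel)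
    rw [List.map_append, List.prod_append, List.map_append, List.prod_append] at h
    exact h
  · rw [act_word s tok ρ hρ _ _ (by revert q hq; decide)]
    revert q hq; decide +kernel

theorem cent_cands (g : Fi23) (h : F * g = g * F) : ∃ w ∈ cands, g = (w.map s).prod := by
  have hb : ∀ g : Fi23, (∀ i < 7, act ρ (act ρ ⟨2112, by decide⟩ (F ^ i)) g = act ρ ⟨2112, by decide⟩ (F ^ i)) → g = 1 := by
    intro g hg
    refine Fbase g ?_ ?_ ?_ ?_ ?_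
    · have := hg 0 (by decide)
      change act ρ (act ρ ⟨2112, by decide⟩ ((([36] : List Nat).map s).prod ^ 0)) g = act ρ ⟨2112, by decide⟩ ((([36] : List Nat).map s).prod ^ 0) at this
      rw [Fp0] at this
      exact this
    · have := hg 1 (by decide)
      change act ρ (act ρ ⟨2112, by decide⟩ ((([36] : List Nat).map s).prod ^ 1)) g = act ρ ⟨2112, by decide⟩ ((([36] : List Nat).map s).prod ^ 1) at this
      rw [Fp1] at this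
      exact this
    · have := hg 2 (by decide)
      change act ρ (act ρ ⟨2112, by decide⟩ ((([36] : List Nat).map s).prod ^ 2)) g = act ρ ⟨2112, by decide⟩ ((([36] : List Nat).map s).prod ^ 2) at this
      rw [Fp2] at this
      exact this
    · have := hg 3 (by decide)
      change act ρ (act ρ ⟨2112, by decide⟩ ((([36] : List Nat).map s).prod ^ 3)) g = act ρ ⟨2112, by decide⟩ ((([36] : List Nat).map s).prod ^ 3) at this
      rw [Fp3] at this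
      exact this
    · have := hg 4 (by decide)
      change act ρ (act ρ ⟨2112, by decide⟩ ((([36] : List Nat).map s).prod ^ 4)) g = act ρ ⟨2112, by decide⟩ ((([36] : List Nat).map s).prod ^ 4) at this
      rw [Fp4] at this
      exact this
  have hen : ∀ g : Fi23, F * g = g * F → ∃ a : Nat, ((act ρ ⟨2112, by decide⟩ (g * F ^ a) : Fin 31671) : Nat) ∈ svW.map Prod.fst := by
    intro g hg
    exact conj_enum s tok ρ hρ Fw Fw (by decide) (by decide) ⟨2112, by decide⟩ 7 7 FK0 Frej (svW.map Prod.fst) rfl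
      (fun q hq => OT.ckCand_sound _ _ _ _ q (allR_zero _ _ FS q hq)) g hg
  obtain ⟨w, hw, a, ha, rfl⟩ := OT.cent_list ρ F 8 (by decide) F_pow ⟨2112, by decide⟩ 7 hb _ hen
    (svW.map fun q => (q.2.map s).prod) (by
    intro q hq
    obtain ⟨z, hz, rfl⟩ := List.mem_map.1 hq
    exact ⟨_, List.mem_map.2 ⟨z, hz, rfl⟩, svW_ok z hz⟩) g h
  obtain ⟨z, hz, rfl⟩ := List.mem_map.1 hw
  refine ⟨z.2 ++ wpow Fw a, ?_, ?_⟩
  · have key : ∀ z ∈ svW, ∀ a < 8, z.2 ++ wpow Fw a ∈ cands := by decide +kernel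
    exact key z hz a ha
  · rw [List.map_append, List.prod_append, wpow_prod]
    rfl


/-- straight-line program for the letters of the chain. -/
def prog : List (Nat × List Nat) := [(38, [10, 35, 35, 10, 33, 34, 10, 34, 11, 35, 33, 35, 33, 11, 32]), (39, [33, 10, 32, 34, 32, 34, 10, 35, 11, 35, 32, 11, 34, 34, 11]), (40, [34, 34, 10, 10, 34, 11, 33, 34, 32, 10, 35, 10, 35, 35, 10]), (41, [11, 34, 34, 11, 34, 11, 33, 35, 32, 10, 35, 11, 11, 35, 35]), (42, [40, 40, 39, 39, 39, 40, 40, 39, 41, 41, 38, 38, 38, 40, 38, 38, 41]), (43, [40, 39, 39, 41, 39, 39, 39, 40, 40, 38, 41, 41, 38, 38, 38, 41, 41]), (44, [40, 39, 41, 41, 41, 38, 40, 39, 39, 40, 39, 39, 41, 39, 40, 40, 39, 39, 39]), (45, [38, 38, 38, 41, 41, 38, 40, 38, 38, 41, 38, 38, 41, 39, 40, 40, 40, 38, 41]), (46, [43, 43, 43, 43, 45, 42, 44, 44, 43, 45, 43, 44, 42, 45, 43, 45, 45, 45, 43]), (47, [42,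 44, 44, 44, 42, 44, 43, 45, 42, 44, 42, 45, 45, 43, 44, 42, 42, 42, 42]), (48, [45, 42, 44, 42, 45, 43, 44, 43, 44, 43, 44, 44]), (49, [45, 45, 42, 45, 42, 45, 42, 44, 43, 45, 43, 44]), (50, [45, 45, 42, 42, 42, 42, 42, 44, 44, 42, 42, 42]), (51, [43, 43, 43, 45, 45, 43, 43, 43, 43, 43, 44, 44]), (52, [49, 47, 47, 48, 50, 47, 47, 48, 51]), (53, [50, 49, 46, 46, 51, 49, 46, 46, 48]), (54, [48, 46, 48, 48, 51, 51, 47, 50, 46, 46, 46, 48, 46, 46]), (55, [47, 47, 49, 47, 47, 47, 51, 46, 50, 50, 49, 49, 47, 49]), (56, [49, 49, 46, 50, 46, 48, 47, 48, 51, 47, 49]), (57, [48, 46, 50, 49, 46, 49, 47, 51, 47, 48, 48])]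

theorem inv_letter (l l' : Nat) (h1 : l < 74) (h2 : l' < 74) (h : ∀ i ∈ ([2112, 30684, 18168, 20340, 27096] : List Nat), trN T' [l, l'] i = i) : s l' = (s l)⁻¹ := by
  have := weq1 [l, l'] (by intro k hk; simp only [List.mem_cons, List.not_mem_nil, or_false] at hk; rcases hk with rfl | rfl <;> assumption) h
  rw [List.map_cons, List.map_singleton, List.prod_cons, List.prod_singleton] at this
  exact eq_inv_of_mul_eq_one_right this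

theorem s_x : s 10 = x := by unfold x xw; simp
theorem s_f : s 32 = f := by unfold f fw; simp
theorem s_y : s 34 = y := by unfold y yw; simp
theorem s_x' : s 11 = x⁻¹ := by rw [← s_x]; exact inv_letter 10 11 (by decide) (by decide) (by decide +kernel)
theorem s_f' : s 33 = f⁻¹ := by rw [← s_f]; exact inv_letter 32 33 (by decide) (by decide) (by decide +kernel)
theorem s_y' : s 35 = y⁻¹ := by rw [← s_y]; exact inv_letter 34 35 (by decide) (by decide) (by decide +kernel)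

theorem prog_ok : ∀ e ∈ prog, s e.1 = (e.2.map s).prod := by
  intro e he
  have h := weq [e.1] e.2 (by revert e he; decide) (by revert e he; decide) (by revert e he; decide +kernel)
  rw [List.map_singleton, List.prod_singleton] at h
  exact h

theorem gen_top : Subgroup.closure ({x, f, y} : Set Fi23) = ⊤ := by
  rw [eq_top_iff, ← Fchain.1]
  have hx : x ∈ Subgroup.closure ({x, f, y} : Set Fi23) := Subgroup.subset_closure (Or.inl rfl)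
  have hf : f ∈ Subgroup.closure ({x, f, y} : Set Fi23) := Subgroup.subset_closure (Or.inr (Or.inl rfl))
  have hy : y ∈ Subgroup.closure ({x, f, y} : Set Fi23) := Subgroup.subset_closure (Or.inr (Or.inr rfl))
  have h0 : ∀ l ∈ ([10, 32, 34, 11, 33, 35] : List Nat), s l ∈ Subgroup.closure ({x, f, y} : Set Fi23) := by
    intro l hl
    simp only [List.mem_cons, List.not_mem_nil, or_false] at hl
    rcases hl with rfl | rfl | rfl | rfl | rfl | rfl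
    · rw [s_x]; exact hx
    · rw [s_f]; exact hf
    · rw [s_y]; exact hy
    · rw [s_x']; exact inv_mem hx
    · rw [s_f']; exact inv_mem hf
    · rw [s_y']; exact inv_mem hy
  have h1 := OT.slp_mem s (Subgroup.closure ({x, f, y} : Set Fi23)) prog _ h0 (by decide) prog_ok
  unfold wordGroup
  rw [Subgroup.closure_le]
  rintro _ ⟨w, hw, rfl⟩
  have key : ∀ w ∈ FG0, ∃ l, w = [l] ∧ (l ∈ ([10, 32, 34, 11, 33, 35] : List Nat) ∨ l ∈ prog.map Prod.fst) := by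
    intro w hw
    have key2 : ∀ w ∈ FG0, w = [w.headD 0] ∧ (w.headD 0 ∈ ([10, 32, 34, 11, 33, 35] : List Nat) ∨ w.headD 0 ∈ prog.map Prod.fst) := by decide
    exact ⟨_, key2 w hw⟩
  obtain ⟨l, rfl, hl⟩ := key w hw
  rw [List.map_singleton, List.prod_singleton]
  rcases hl with hl | hl
  · exact h0 l hl
  · obtain ⟨e, he, rfl⟩ := List.mem_map.1 hl
    exact h1 e he


theorem out_le : Finite (Cfsg.Out Fi23) ∧ Nat.card (Cfsg.Out Fi23) ≤ 1 := by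
  haveI : Finite Fi23 := Nat.finite_of_card_ne_zero (by rw [cardG]; decide)
  refine OT.out_card_le 17 x f y x_order (by rw [cardG]; decide) Cx 12 xf (by decide) [1] ?_ gen_top
    ([(1, ((([34] : List Nat).map s).prod))]) ?_
  · have key : ∀ k : ZMod 17, k ≠ 0 → ∃ j ∈ ([1] : List ℕ), ∃ i < 17, k = (j : ZMod 17) * (12 : ZMod 17) ^ i := by decide +kernel
    intro k hk
    obtain ⟨j, hj, i, _, h⟩ := key k hk
    exact ⟨j, hj, i, by push_cast; exact h⟩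
  · intro j hj β hβx hβf
    have hβF : β F = F := by rw [F_eq, map_pow, hβf]
    have hc : F * β y = β y * F := by
      have := congrArg β Fy
      rw [map_mul, map_mul, hβF] at this
      exact this
    obtain ⟨w, hw, hwy⟩ := cent_cands (β y) hc
    simp only [List.mem_cons, List.not_mem_nil, or_false] at hj
    subst hj
    · have h := OT.good_of_tests s tok ρ hρ 1 xw fw yw (by decide) (by decide) rels3 rels3_ok good1 cands codes1 (by decide)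
        (by decide) tests1 β hβx hβf w hw hwy
      unfold good1 at h
      simp only [List.mem_cons, List.not_mem_nil, or_false] at h
      subst h
      rw [hwy]; simp

theorem out_eq : Nat.card (Cfsg.Out Fi23) = 1 := by
  have h1 := out_le
  haveI := h1.1
  have h2 : 0 < Nat.card (Cfsg.Out Fi23) := Nat.card_pos
  omega


end Cfsg.Agent.H8.Fi23O
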