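import Cfsg.Agent.H8.J2Pres
import Cfsg.Agent.H8.T.G24tO
import Cfsg.Agent.H8.T.G24tL

/-!
# The presented group `G₂(4)` (six involutions): order 251596800 and simplicity
-/

set_option autoImplicit false
set_option linter.all false

namespace Cfsg.Agent.H8.G24P

/-- upper bound, for any group with these relations. -/
theorem upper_of {G : Type*} [Group G] (s : Nat → G) (hinv : ∀ l, s l = (s l)⁻¹) (h31 : s 31 = 1)
    (hrel : ∀ p ∈ G24t.rels2, ((p.1.map s).prod) ^ p.2 = 1) :
    Finite (letterGroup s 6) ∧ Nat.card (letterGroup s 6) ≤ 251596800 := by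
  have h1 := J2P.upper_of (subS s [0, 1, 2, 3, 4]) (subS_inv s _ hinv) (subS_31 s _ h31)
    (rels_sub s _ _ _ hrel (by decide))
  have h4 := G24t.upper s hinv h31 hrel (letterGroup (subS s [0, 1, 2, 3, 4]) 5) (by
    intro w hw
    have := sub_mem s [0, 1, 2, 3, 4, 5] [0, 1, 2, 3, 4] 5 G24t.subw (by decide) w hw
    have h5 : w.map (subS s [0, 1, 2, 3, 4, 5]) = w.map s := by
      apply List.map_congr_left
      intro l hl
      have : ∀ w ∈ G24t.subw, ∀ l ∈ w, l < 6 := by decide
      exact subS_id s [0, 1, 2, 3, 4, 5] 6 (by decide) l (this w hw l hl)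
    rw [h5] at this
    exact this) h1.1
  refine ⟨h4.1, ?_⟩
  omega

/-- the abstract presented group. -/
abbrev J : Type := RG 6 G24t.rels2

noncomputable def s : Nat → J := RG.gen 6 G24t.rels2

theorem s_inv : ∀ l, s l = (s l)⁻¹ := RG.gen_inv 6 G24t.rels2
theorem s_31 : s 31 = 1 := RG.gen_ge 6 G24t.rels2 31 (by decide)
theorem s_rels : ∀ p ∈ G24t.rels2, ((p.1.map s).prod) ^ p.2 = 1 := RG.gen_rels 6 G24t.rels2
theorem s_top : letterGroup s 6 = ⊤ := RG.letterGroup_top 6 G24t.rels2
theorem sq (l : Nat) : s l * s l = 1 := RG.gen_mul_self 6 G24t.rels2 l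

theorem finite_and_card_le : Finite J ∧ Nat.card J ≤ 251596800 := by
  have h := upper_of s s_inv s_31 s_rels
  rw [s_top] at h
  refine ⟨?_, ?_⟩
  · have := h.1
    exact Finite.of_equiv _ Subgroup.topEquiv.toEquiv
  · rw [Subgroup.card_top] at h
    exact h.2

instance J_finite : Finite J := finite_and_card_le.1

noncomputable def ρ : J →* Equiv.Perm (Fin 416) :=
  RG.lift 6 G24t.rels2 (permL G24t.tok) (permL_sq G24t.tok)
    (fun l hl => permL_ge G24t.tok l (by omega)) G24t.relp

theorem hρ' : ∀ l, ρ (s l) = permL G24t.tok l := fun l => RG.lift_gen 6 G24t.rels2 _ _ _ _ l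
theorem hρ : ∀ l < 6, ρ (s l) = permL G24t.tok l := fun l _ => hρ' l

/-- the map from `J₂` to any group with the relations of `G₂(4)`. -/
noncomputable def φof {P : Type*} [Group P] (t : Nat → P) (hsq : ∀ l, t l * t l = 1) (h31 : t 31 = 1)
    (hrel : ∀ p ∈ G24t.rels2, ((p.1.map t).prod) ^ p.2 = 1) : J2P.J →* P :=
  RG.lift 5 J2t.rels2 (subS t [0, 1, 2, 3, 4]) (fun _ => hsq _)
    (fun l hl => by
      unfold subS
      rw [List.getD_eq_default _ _ (by simpa using hl), h31])
    (rels_sub t _ _ _ hrel (by decide))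

theorem φof_gen {P : Type*} [Group P] (t : Nat → P) (hsq : ∀ l, t l * t l = 1) (h31 : t 31 = 1)
    (hrel : ∀ p ∈ G24t.rels2, ((p.1.map t).prod) ^ p.2 = 1) (l : Nat) :
    φof t hsq h31 hrel (J2P.s l) = subS t [0, 1, 2, 3, 4] l := RG.lift_gen 5 J2t.rels2 _ _ _ _ l

theorem φof_range {P : Type*} [Group P] (t : Nat → P) (hsq : ∀ l, t l * t l = 1) (h31 : t 31 = 1)
    (hrel : ∀ p ∈ G24t.rels2, ((p.1.map t).prod) ^ p.2 = 1) :
    (φof t hsq h31 hrel).range = wordGroup t [[0], [1], [2], [3], [4]] := by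
  have h1 : (⊤ : Subgroup J2P.J) = wordGroup J2P.s [[0], [1], [2], [3], [4]] := by
    rw [← J2P.s_top]
    exact letterGroup_eq_wordGroup J2P.s 5 _ (by decide) (by decide)
  rw [MonoidHom.range_eq_map, h1, RG.map_wordGroup _ J2P.s (subS t [0, 1, 2, 3, 4]) (φof_gen t hsq h31 hrel)]
  unfold wordGroup
  congr 1
  ext g
  constructor
  · rintro ⟨w, hw, rfl⟩
    refine ⟨w, hw, ?_⟩
    congr 1
    apply List.map_congr_left
    intro l hl
    have : ∀ w ∈ [[0], [1], [2], [3], [4]], ∀ l ∈ w, l < 5 := by decide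
    exact subS_id t _ 5 (by decide) l (this w hw l hl)
  · rintro ⟨w, hw, rfl⟩
    refine ⟨w, hw, ?_⟩
    congr 1
    apply List.map_congr_left
    intro l hl
    have : ∀ w ∈ [[0], [1], [2], [3], [4]], ∀ l ∈ w, l < 5 := by decide
    exact (subS_id t _ 5 (by decide) l (this w hw l hl)).symm

theorem card_J2_image {P : Type*} [Group P] (t : Nat → P) (hsq : ∀ l, t l * t l = 1) (h31 : t 31 = 1)
    (hrel : ∀ p ∈ G24t.rels2, ((p.1.map t).prod) ^ p.2 = 1) (h0 : t 0 ≠ 1) :
    Function.Injective (φof t hsq h31 hrel) ∧ Nat.card (wordGroup t [[0], [1], [2], [3], [4]]) = 604800 := by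
  have hinj : Function.Injective (φof t hsq h31 hrel) := by
    apply injective_of_simple J2P.simple _ (J2P.s 0)
    rw [φof_gen]
    exact h0
  refine ⟨hinj, ?_⟩
  rw [← φof_range t hsq h31 hrel, ← J2P.card_J]
  exact (Nat.card_congr (MonoidHom.ofInjective hinj).toEquiv).symm

theorem perm0_ne : permL G24t.tok 0 ≠ 1 := by
  intro h
  have h1 := permL_apply G24t.tok 0 (by decide) ⟨38, by decide⟩
  rw [h] at h1
  revert h1
  decide +kernel

theorem perm31 : permL G24t.tok 31 = 1 := permL_ge G24t.tok 31 (by decide)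

theorem lowerP : 251596800 ≤ Nat.card (wordGroup (permL G24t.tok) G24t.chG0) := by
  have h1 := G24t.ch_lower (permL G24t.tok) (MonoidHom.id _) (fun l _ => rfl)
  have h2 := (card_J2_image (permL G24t.tok) (permL_sq G24t.tok) perm31 G24t.relp perm0_ne).2
  have h3 : G24t.chG1 = [[0], [1], [2], [3], [4]] := rfl
  rw [h3, h2] at h1
  omega

theorem ρ_injective : Function.Injective ρ := by
  apply injective_of_card ρ (wordGroup (permL G24t.tok) G24t.chG0)
  · rw [← RG.map_wordGroup ρ s _ hρ' G24t.chG0]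
    rintro _ ⟨x, _, rfl⟩
    exact ⟨x, rfl⟩
  · exact le_trans finite_and_card_le.2 lowerP
  · infer_instance

theorem card_J : Nat.card J = 251596800 := by
  apply le_antisymm finite_and_card_le.2
  refine le_trans lowerP ?_
  have h0 := RG.map_wordGroup ρ s _ hρ' G24t.chG0
  rw [← h0]
  exact card_map_le' ρ _

theorem nontrivial_J : Nontrivial J := by
  apply Finite.one_lt_card_iff_nontrivial.1
  rw [card_J]; decide

theorem stab_eq : stabOf ρ ⟨0, by decide⟩ = wordGroup s G24t.clG := by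
  have hle : wordGroup s G24t.clG ≤ stabOf ρ ⟨0, by decide⟩ :=
    wordGroup_le_stabOf s G24t.tok ρ hρ _ _ (by decide +kernel)
  have h2 := G24t.upperIndex s s_inv s_31 s_rels (wordGroup s G24t.clG)
    (fun w hw => mem_wordGroup s _ w (by revert w hw; decide)) s_top
  exact (index_and_stab ρ _ _ hle (G24t.rho_tr s ρ hρ) h2 (by decide)).2.symm

theorem coatom : IsCoatom (stabOf ρ ⟨0, by decide⟩) := G24t.cl_coatom s ρ hρ stab_eq

theorem s0_ne : s 0 ≠ 1 := by
  intro h
  apply perm0_ne
  rw [← hρ' 0, h, map_one]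

theorem stab_simple : IsSimpleGroup (stabOf ρ ⟨0, by decide⟩) := by
  rw [stab_eq]
  have h1 := (card_J2_image s sq s_31 s_rels s0_ne).1
  have h2 : wordGroup s G24t.clG = (φof s sq s_31 s_rels).range := (φof_range s sq s_31 s_rels).symm
  rw [h2]
  have h3 := J2P.simple
  exact ((MonoidHom.ofInjective h1).symm.isSimpleGroup)

theorem simple : IsSimpleGroup J := by
  haveI := nontrivial_J
  refine simple_of_coatom_simple (stabOf ρ ⟨0, by decide⟩) coatom
    (core_free ρ _ ρ_injective (G24t.rho_tr s ρ hρ)) stab_simple ?_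
  intro N hN hne hinf hsup
  refine no_regular_of_sylow ρ _ coatom N hN hinf hsup (G24t.rho_tr s ρ hρ) 13 1 32 (by norm_num) (by decide)
    (by decide) (by decide) (by decide) ?_
  intro d hd h
  have := Nat.le_of_dvd (by decide) hd
  interval_cases d <;> omega

end Cfsg.Agent.H8.G24P
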