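import Cfsg.Agent.H8.OutTool2

/-!
# Automorphisms induced by a normalising permutation
-/

set_option autoImplicit false

namespace Cfsg.Agent.H8

theorem norm_hom {G : Type*} [Group G] (s : Nat → G) {n L : Nat} {T : Nat → Nat → Nat} {inv : Nat → Nat}
    (hT : TableOK n L T inv) (ρ : G →* Equiv.Perm (Fin n)) (hρ : ∀ l < L, ρ (s l) = permL hT l)
    (hinj : Function.Injective ρ) (PT PI : Nat → Nat) (h1 : ∀ i < n, PT i < n ∧ PI (PT i) = i)
    (h2 : ∀ i < n, PI i < n ∧ PT (PI i) = i) (L0 : Nat) (hL0 : L0 ≤ L) (ab : Nat → List Nat)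
    (hab : ∀ l < L0, ∀ k ∈ ab l, k < L) (hc : ∀ l < L0, ∀ i < n, trN T (ab l) (PT i) = PT (T l i))
    (hgen : Subgroup.closure {g | ∃ l < L0, g = s l} = ⊤) :
    ∃ φ : G →* G, ∀ l < L0, φ (s l) = ((ab l).map s).prod := by
  let π : Equiv.Perm (Fin n) :=
    { toFun := fun i => ⟨PT i, (h1 i i.2).1⟩
      invFun := fun i => ⟨PI i, (h2 i i.2).1⟩
      left_inv := fun i => Fin.ext (h1 i i.2).2
      right_inv := fun i => Fin.ext (h2 i i.2).2 }
  have key : ∀ l < L0, ρ (((ab l).map s).prod) = π * ρ (s l) * π⁻¹ := by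
    intro l hl
    rw [← inv_inj]
    apply Equiv.ext
    intro j
    obtain ⟨i, rfl⟩ := π.surjective j
    have e0 : π⁻¹ (π i) = i := π.symm_apply_apply i
    rw [mul_inv_rev, mul_inv_rev, inv_inv, Equiv.Perm.mul_apply, Equiv.Perm.mul_apply, e0]
    apply Fin.ext
    have e1 := act_word s hT ρ hρ (π i) (ab l) (hab l hl)
    have e2 : (((ρ (s l))⁻¹ i : Fin n) : Nat) = T l i := by
      rw [hρ l (lt_of_lt_of_le hl hL0)]
      exact permL_inv_apply hT l (lt_of_lt_of_le hl hL0) i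
    have e3 : ((π ((ρ (s l))⁻¹ i) : Fin n) : Nat) = PT ((ρ (s l))⁻¹ i : Fin n) := rfl
    rw [e3, e2]
    have e4 : ((π i : Fin n) : Nat) = PT i := rfl
    rw [e4] at e1
    rw [← hc l hl i i.2, ← e1]
    rfl
  have hall : ∀ g : G, ∃ g', ρ g' = π * ρ g * π⁻¹ := by
    let K : Subgroup G :=
      { carrier := {g | ∃ g', ρ g' = π * ρ g * π⁻¹}
        one_mem' := ⟨1, by rw [map_one, mul_one, mul_inv_cancel]⟩
        mul_mem' := by
          rintro a b ⟨a', ha⟩ ⟨b', hb⟩
          exact ⟨a' * b', by rw [map_mul, map_mul, ha, hb]; group⟩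
        inv_mem' := by
          rintro a ⟨a', ha⟩
          exact ⟨a'⁻¹, by rw [map_inv, map_inv, ha]; group⟩ }
    have hK : K = ⊤ := by
      rw [eq_top_iff, ← hgen, Subgroup.closure_le]
      rintro g ⟨l, hl, rfl⟩
      exact ⟨_, key l hl⟩
    intro g
    have : g ∈ K := by rw [hK]; exact Subgroup.mem_top g
    exact this
  choose r hr using hall
  refine ⟨{ toFun := r
            map_one' := hinj (by rw [hr, map_one, mul_one, mul_inv_cancel])
            map_mul' := fun g h => hinj (by rw [hr, map_mul, map_mul, hr, hr]; group) }, fun l hl => hinj ?_⟩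
  rw [key l hl]
  exact hr (s l)

end Cfsg.Agent.H8
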