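import Cfsg.Agent.H8.HeMul2
import Cfsg.Agent.H8.PExtOdd
import Cfsg.Agent.H8.HeisCard

/-!
# The Schur multiplier of He
-/

set_option Elab.async false
set_option autoImplicit false
set_option linter.all false
set_option maxRecDepth 100000
set_option maxHeartbeats 2000000

namespace Cfsg.Agent.H8.HeM

open Cfsg.Spor Cfsg.Agent.H8 Cfsg.Agent.H8.HeC Cfsg.Agent.H15.PExtN Cfsg.Agent.H8.PT

noncomputable def pt (x y c : List ℕ) (q i j k : ℕ) : ℕ := (trN T' c)^[k] ((trN T' y)^[j] ((trN T' x)^[i] q))

theorem act_wpow (w : List ℕ) (hw : ∀ l ∈ w, l < 41) (k : ℕ) (b : Fin 2058) :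
    ((act ρ b (W w ^ k) : Fin 2058) : ℕ) = (trN T' w)^[k] b := by
  rw [act_pow]
  induction k with
  | zero => rfl
  | succ k ih =>
    rw [Function.iterate_succ_apply', Function.iterate_succ_apply']
    have h := act_word s tok ρ hρ ((fun x => act ρ x (W w))^[k] b) w hw
    rw [← ih]
    exact h

theorem act_pt (x y c : List ℕ) (hx : ∀ l ∈ x, l < 41) (hy : ∀ l ∈ y, l < 41) (hc : ∀ l ∈ c, l < 41) (q : Fin 2058) (i j k : ℕ) :
    ((act ρ q (W x ^ i * W y ^ j * W c ^ k) : Fin 2058) : ℕ) = pt x y c q i j k := by
  rw [act_mul, act_mul, act_wpow c hc, act_wpow y hy, act_wpow x hx]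
  rfl

theorem card_of (p r : ℕ) (hp : 0 < p) (hr : 0 < r) (x y c : List ℕ) (q : Fin 2058) (IX : ℕ → ℕ)
    (hxL : ∀ l ∈ x, l < 41) (hyL : ∀ l ∈ y, l < 41) (hcL : ∀ l ∈ c, l < 41)
    (hx : W x ^ p = 1) (hy : W y ^ p = 1) (hc : W c ^ r = 1)
    (hxy : W x * W y = W c * (W y * W x)) (hxc : W x * W c = W c * W x) (hyc : W y * W c = W c * W y)
    (hck : ∀ i < p, ∀ j < p, ∀ k < r, IX (pt x y c q i j k) = (i * p + j) * r + k) :
    Nat.card (Subgroup.closure ({W x, W y} : Set He)) = p * (p * r) := by
  haveI : Finite He := finG
  apply HK.card_heis p r hp hr (W x) (W y) (W c) hx hy hc hxy hxc hyc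
  rintro ⟨i, j, k⟩ ⟨i', j', k'⟩ h
  have h1 : pt x y c q i j k = pt x y c q i' j' k' := by
    rw [← act_pt x y c hxL hyL hcL, ← act_pt x y c hxL hyL hcL]
    exact congrArg (fun g => ((act ρ q g : Fin 2058) : ℕ)) h
  have h2 := hck i i.2 j j.2 k k.2
  have h3 := hck i' i'.2 j' j'.2 k' k'.2
  rw [h1, h3] at h2
  have hk : (k : ℕ) = k' := by
    have := congrArg (fun n => n % r) h2
    simp only [Nat.mul_add_mod', Nat.mod_eq_of_lt k.2, Nat.mod_eq_of_lt k'.2] at this
    exact this.symm
  have hij : (i : ℕ) * p + j = i' * p + j' := by
    rw [hk] at h2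
    have := Nat.add_right_cancel h2
    exact (Nat.eq_of_mul_eq_mul_right hr this).symm
  have hj : (j : ℕ) = j' := by
    have := congrArg (fun n => n % p) hij
    simp only [Nat.mul_add_mod', Nat.mod_eq_of_lt j.2, Nat.mod_eq_of_lt j'.2] at this
    exact this
  have hi : (i : ℕ) = i' := by
    rw [hj] at hij
    exact Nat.eq_of_mul_eq_mul_right hp (Nat.add_right_cancel hij)
  have e1 : i = i' := Fin.ext hi
  have e2 : j = j' := Fin.ext hj
  have e3 : k = k' := Fin.ext hk
  rw [e1, e2, e3]

variable {E : Type*} [Group E] {τ : E →* He} {z : E}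

/-- commuting lifts from a scaling element -/
theorem cmO {p : ℕ} (h : PExt p τ z) (hp : p.Prime) (u v g : List ℕ) (r i s : ℕ)
    (h1 : W (g ++ u) = W (((List.replicate r u).flatten ++ (List.replicate i v).flatten) ++ g))
    (h2 : W (g ++ v) = W ((List.replicate s v).flatten ++ g)) (hcm : W (u ++ v) = W (v ++ u))
    (hrs : ¬ (p : ℤ) ∣ (r * s : ℤ) - 1) : ∀ U V : E, τ U = W u → τ V = W v → U * V = V * U := by
  intro U V hU hV
  obtain ⟨g', hg⟩ := h.surj (W g)
  apply PO.key h hp U V g' r i s
  · rw [hg, hU, hV, ← Wa g u, h1, Wa _ g, mul_inv_cancel_right, Wa, Wpow, Wpow]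
  · rw [hg, hV, ← Wa g v, h2, Wa _ g, mul_inv_cancel_right, Wpow]
  · rw [hU, hV, ← Wa, ← Wa, hcm]
  · exact hrs

noncomputable def IX5c0 : Nat := nat_lit 0x12000000000000000000000000000000000000000000000000000000000000000000000000000000000000000000000000002200000000000000000000000000000000000000000000000000000000000000000000000002a000000000000000000000000000000000000000000000000000000000000000000000000000000000000000000000000000000000000000
noncomputable def IX5c1 : Nat := nat_lit 0x10000000000000000000000000
noncomputable def IX5c2 : Nat := nat_lit 0x1c000000000000000000000000000000000000000000000000000000000000000000000000000000000000000040000000000000000000000000000000000000000000000000000000000000000000000000000000000000000000000000000000000000000000000000000000000000000000000000000000000000000000000000000d000000000000000000000000000000000000000000000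
noncomputable def IX5c3 : Nat := nat_lit 0x70000000000000000000000000000000000000000000000000000000000000000000000000000000000000000000000000000000000000000000000000000000000000000000000000000000000000000000000000000000001800016000000000600000000000000000000000000000000000000000000000000
noncomputable def IX5c4 : Nat := nat_lit 0x100000000000000000000000000000000000000000000000000000000000000000000000000000000000000000000000000000000000000000000000000005c0000100000000000000000000000000000c00000000000000000000000000000000000000000000000000000000000000000000000000000000000000000000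
noncomputable def IX5c5 : Nat := nat_lit 0x6000000012000000080000000000000000000000000000000000000000000000000000002600000000000000000000000000000000000000000000000000000000000000000000000000000000000000000000000000000000005800000000000000000000000000000000000000000000000000000000000000000000000000000000000000000000000000000000000000000000000000000000
noncomputable def IX5c6 : Nat := nat_lit 0x280000000000000000000000000000000000000000000000000000000000000000000000000000000000000000000000000000000000000000000000000000000000000000000000000000000000000a00000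
noncomputable def IX5c7 : Nat := nat_lit 0x1e005000000000000000000000000000000000000000000000000000000000000000000000000000000000000000000000000000000000000000000000000000000000000000000000000000000000000000000000000000000000000000000000000000000
noncomputable def IX5c8 : Nat := nat_lit 0x0
noncomputable def IX5 : Nat → Nat := (fun h => @Nat.rec (fun _ => Nat → Nat)
 (fun h => @Nat.rec (fun _ => Nat → Nat)
 (fun h => @Nat.rec (fun _ => Nat → Nat)
 (fun h => @Nat.rec (fun _ => Nat → Nat)
 (fun i => Nat.land (Nat.shiftRight IX5c0 (Nat.mul (nat_lit 5) (Nat.land i (nat_lit 255)))) (nat_lit 31))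
 (fun _ _ => (fun i => Nat.land (Nat.shiftRight IX5c1 (Nat.mul (nat_lit 5) (Nat.land i (nat_lit 255)))) (nat_lit 31))) (Nat.land h (nat_lit 256)) h)
 (fun _ _ => (fun h => @Nat.rec (fun _ => Nat → Nat)
 (fun i => Nat.land (Nat.shiftRight IX5c2 (Nat.mul (nat_lit 5) (Nat.land i (nat_lit 255)))) (nat_lit 31))
 (fun _ _ => (fun i => Nat.land (Nat.shiftRight IX5c3 (Nat.mul (nat_lit 5) (Nat.land i (nat_lit 255)))) (nat_lit 31))) (Nat.land h (nat_lit 256)) h)) (Nat.land h (nat_lit 512)) h)
 (fun _ _ => (fun h => @Nat.rec (fun _ => Nat → Nat)
 (fun h => @Nat.rec (fun _ => Nat → Nat)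
 (fun i => Nat.land (Nat.shiftRight IX5c4 (Nat.mul (nat_lit 5) (Nat.land i (nat_lit 255)))) (nat_lit 31))
 (fun _ _ => (fun i => Nat.land (Nat.shiftRight IX5c5 (Nat.mul (nat_lit 5) (Nat.land i (nat_lit 255)))) (nat_lit 31))) (Nat.land h (nat_lit 256)) h)
 (fun _ _ => (fun h => @Nat.rec (fun _ => Nat → Nat)
 (fun i => Nat.land (Nat.shiftRight IX5c6 (Nat.mul (nat_lit 5) (Nat.land i (nat_lit 255)))) (nat_lit 31))
 (fun _ _ => (fun i => Nat.land (Nat.shiftRight IX5c7 (Nat.mul (nat_lit 5) (Nat.land i (nat_lit 255)))) (nat_lit 31))) (Nat.land h (nat_lit 256)) h)) (Nat.land h (nat_lit 512)) h)) (Nat.land h (nat_lit 0x400)) h)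
 (fun _ _ => (fun i => Nat.land (Nat.shiftRight IX5c8 (Nat.mul (nat_lit 5) (Nat.land i (nat_lit 255)))) (nat_lit 31))) (Nat.land h (nat_lit 0x800)) h)
noncomputable def IX7c0 : Nat := nat_lit 0xb00000100000000000000000000000000162000000000000000280000000000003200000e60000000000000000000000094440000000000053c000000000000000000000000001f40000000000041a1000000025c0000000000000000000000000000000898000000548000000000000000010000000000000000a5000000000000000000000000000000000000388000000000012400001fa000039400000000000000000000000000000008380000000000000000000074ba5a00000000000000004a00000000000000000000000000000000000000000000000000630000000fb35800010d003c8000045800000000000000700001d8000000142000000126310000296000028c00000000000007594db48d000000000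
noncomputable def IX7c1 : Nat := nat_lit 0xb30000000000000000000000000000000000000000000000a00000003100000ca0000102008480000000000000000000000000000000009e0000000000000000001840000000000000000000000000d800009b80000000000000008100000e700504007f029e40000000000000000017a000053400605537c0000000740000000000000000000000000000000000000000000002055000000000000023200003200000000000000000000000000000000000000000000022400003d800009500000000000000000000000000f00000003e800000000520000067000000000002740000000005f000000000000000000000000000000bc00000000000000e0000000000000000000000000000000000520000000000000000000000000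
noncomputable def IX7c2 : Nat := nat_lit 0xfc0019001b80000000b80000000000000000a000000015800000000000000000000000000000000000000000000000000000000000000000000000000000000000000000000000026a000000000d91000000004f800000000001a800768015c351e00000003e000000000000000000000000000001f20000000000000002020000000014e0000236002355000000000000000000000000000000002b00000bc2380000000019c2d060000000000000000003700000002f00000003a00000ef0000000000035800000000000000027400000000000000000000009e8000000004100000000000000000000000001b40000000018e000000000000000000000000c0000000000091002800000000000023000000000000000000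
noncomputable def IX7c3 : Nat := nat_lit 0x11100000000000000000000000000000000000000000800000000ae0000064009800000e6000000000000047000000000292001380000000000186005d80000000042800000000000000000000009100000000000000000000000008a1bc0000005480000000002f28000000000000000000002e4000000000000000001920000001a000a6000cc00568016400000f80000000000000000000000000000000000000000000010a00002180000a3800004f8fc8c00000000000000000000000000000000042000000000000000000092000000000000c0000000000000000000028c00000011000001c000000000000000000000000000000000000000f3005440000000000000000000000000000000000000000000000000000000000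
noncomputable def IX7c4 : Nat := nat_lit 0x4ad5600000000000000000000004140000001a40058000000000000000000000005800000a40000000000000000000000000000000004e000000000000000000000000000000000000000c4000000000002980000288000000000280000000000156000000000000011f2e0001800776f000000000000011e000000000000005c00000c000000000000000000000000000000000050800ff00004120000148000000001d4000000000000051000cf9d802520000000f4001300000000048400008180000007816800000022400bf0200000000000000000000000001a2a0007600000000000000001f1080000000000001312e80000000000000000000000ee0000000008d0000041002650400000000000000000000058019a00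
noncomputable def IX7c5 : Nat := nat_lit 0x8c000000000002a600000000000000000000000000000000000000000000000002dc000000001c12d4d80000000000000000000000000000000001eb840000000000000000000000240000000960000000658000000000000000000000000000e000006600000000000066000000000000000000000d0010f256c0000000000000000000000000098000000000000000000000000000000000000013c00000001ec60050c00002d80182150049c001b000000000000000000000000000000000000000000000000000000000000000000000000000000000000000000001c400000030800000010856006b80000000700001150015000f4004bd8000000000012000000000000000022000000000000000000000000000000026400000000000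
noncomputable def IX7c6 : Nat := nat_lit 0x12a540000000000000000000000000ec000032800000000000004e000000000000000000000021600001b00000001ec00000000000000000000000000000007c00000002c80000000000000000000000000000000000000000750000000000000000005c3540000000000000688000000000018a00000000011000013400000000000002480000000016c0000000000000294002400000002a0000000000000000000000000af00000014521800000000000006a000000000000000000514380000000023a0039000000000002aa00000000000470000000000000000002580000000000000000000000002281a000000000000000000000000000000000272db000000000000026000000000000000009a000000000000000000009f8000000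
noncomputable def IX7c7 : Nat := nat_lit 0x3a4000000000000000000009c1c80000000000000000000000000000000b5000000000003a120000000000000000000000000000f70000000000000000000000001200000000f100000000000374000000000000000000000072000000000000000016800000000001ea00000000000000000000a80a000000000000000011400000000010000000001161f80000000000000000013000007e0026800004cc01260000000000000000000043c000000000008c00001fd360000000000029e206800400000000000000086000000000000004b1b800007806000000000348000000000000000000013e0000000000000000000000000000038c0000000000000000000000000000000002f8000000000000000001a600000000000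
noncomputable def IX7c8 : Nat := nat_lit 0x22e00000000000
noncomputable def IX7 : Nat → Nat := (fun h => @Nat.rec (fun _ => Nat → Nat)
 (fun h => @Nat.rec (fun _ => Nat → Nat)
 (fun h => @Nat.rec (fun _ => Nat → Nat)
 (fun h => @Nat.rec (fun _ => Nat → Nat)
 (fun i => Nat.land (Nat.shiftRight IX7c0 (Nat.mul (nat_lit 9) (Nat.land i (nat_lit 255)))) (nat_lit 511))
 (fun _ _ => (fun i => Nat.land (Nat.shiftRight IX7c1 (Nat.mul (nat_lit 9) (Nat.land i (nat_lit 255)))) (nat_lit 511))) (Nat.land h (nat_lit 256)) h)
 (fun _ _ => (fun h => @Nat.rec (fun _ => Nat → Nat)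
 (fun i => Nat.land (Nat.shiftRight IX7c2 (Nat.mul (nat_lit 9) (Nat.land i (nat_lit 255)))) (nat_lit 511))
 (fun _ _ => (fun i => Nat.land (Nat.shiftRight IX7c3 (Nat.mul (nat_lit 9) (Nat.land i (nat_lit 255)))) (nat_lit 511))) (Nat.land h (nat_lit 256)) h)) (Nat.land h (nat_lit 512)) h)
 (fun _ _ => (fun h => @Nat.rec (fun _ => Nat → Nat)
 (fun h => @Nat.rec (fun _ => Nat → Nat)
 (fun i => Nat.land (Nat.shiftRight IX7c4 (Nat.mul (nat_lit 9) (Nat.land i (nat_lit 255)))) (nat_lit 511))
 (fun _ _ => (fun i => Nat.land (Nat.shiftRight IX7c5 (Nat.mul (nat_lit 9) (Nat.land i (nat_lit 255)))) (nat_lit 511))) (Nat.land h (nat_lit 256)) h)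
 (fun _ _ => (fun h => @Nat.rec (fun _ => Nat → Nat)
 (fun i => Nat.land (Nat.shiftRight IX7c6 (Nat.mul (nat_lit 9) (Nat.land i (nat_lit 255)))) (nat_lit 511))
 (fun _ _ => (fun i => Nat.land (Nat.shiftRight IX7c7 (Nat.mul (nat_lit 9) (Nat.land i (nat_lit 255)))) (nat_lit 511))) (Nat.land h (nat_lit 256)) h)) (Nat.land h (nat_lit 512)) h)) (Nat.land h (nat_lit 0x400)) h)
 (fun _ _ => (fun i => Nat.land (Nat.shiftRight IX7c8 (Nat.mul (nat_lit 9) (Nat.land i (nat_lit 255)))) (nat_lit 511))) (Nat.land h (nat_lit 0x800)) h)
noncomputable def IX3c0 : Nat := nat_lit 0x180000000000009000000000000000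
noncomputable def IX3c1 : Nat := nat_lit 0x0
noncomputable def IX3c2 : Nat := nat_lit 0x1c0000000000000000000000000000000000000000000000000000000000000000000000000000000000000000000000000000000000000000200000000000000000000000000000000000000000000000000000000000000000000000000000000000000000000000000000000280000000000000000000000001800000000000000000000000000000000000000000003400000000000
noncomputable def IX3c3 : Nat := nat_lit 0xc8000000000000000000000000000000000000000000000000000000000000000000000000000000000000000000000000a00000000000000000000000000000000000000000000c000000000000000000000000000000000000060000000000000000000000000000000000000000000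
noncomputable def IX3c4 : Nat := nat_lit 0xb000000000000040000000000000000000000000000000000000000000000000000000000000000000000000000000000000000000000000000000000000000000000000002a1000000000000000000000000000000000000000000000000000000000000000000000000000
noncomputable def IX3c5 : Nat := nat_lit 0x58000000000000000000000000240000000000000000000000000000000000000000000000000000000000000000000000000000000000000000000000000000088000000000000000000000000000000000000000000000000000000000000000000000000000000000000000000000000000000000000000000000000000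
noncomputable def IX3c6 : Nat := nat_lit 0x100000000000000000000000000000000000000000000000000000000000000000000000000000000000000000401400000000000000000000000000000000000000000000000000000000000000000000000000000000000000000000000000000000000000000000000000000000000000000000000000000000000000000000000000000000000000000001e000000000000000000000
noncomputable def IX3c7 : Nat := nat_lit 0xd0000000000002e0000000000000000000000000000000000000000000000000000000000000000000000004c0000000000000000000000000e00000000000000000000000000000000000000000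
noncomputable def IX3c8 : Nat := nat_lit 0x0
noncomputable def IX3 : Nat → Nat := (fun h => @Nat.rec (fun _ => Nat → Nat)
 (fun h => @Nat.rec (fun _ => Nat → Nat)
 (fun h => @Nat.rec (fun _ => Nat → Nat)
 (fun h => @Nat.rec (fun _ => Nat → Nat)
 (fun i => Nat.land (Nat.shiftRight IX3c0 (Nat.mul (nat_lit 5) (Nat.land i (nat_lit 255)))) (nat_lit 31))
 (fun _ _ => (fun i => Nat.land (Nat.shiftRight IX3c1 (Nat.mul (nat_lit 5) (Nat.land i (nat_lit 255)))) (nat_lit 31))) (Nat.land h (nat_lit 256)) h)
 (fun _ _ => (fun h => @Nat.rec (fun _ => Nat → Nat)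
 (fun i => Nat.land (Nat.shiftRight IX3c2 (Nat.mul (nat_lit 5) (Nat.land i (nat_lit 255)))) (nat_lit 31))
 (fun _ _ => (fun i => Nat.land (Nat.shiftRight IX3c3 (Nat.mul (nat_lit 5) (Nat.land i (nat_lit 255)))) (nat_lit 31))) (Nat.land h (nat_lit 256)) h)) (Nat.land h (nat_lit 512)) h)
 (fun _ _ => (fun h => @Nat.rec (fun _ => Nat → Nat)
 (fun h => @Nat.rec (fun _ => Nat → Nat)
 (fun i => Nat.land (Nat.shiftRight IX3c4 (Nat.mul (nat_lit 5) (Nat.land i (nat_lit 255)))) (nat_lit 31))
 (fun _ _ => (fun i => Nat.land (Nat.shiftRight IX3c5 (Nat.mul (nat_lit 5) (Nat.land i (nat_lit 255)))) (nat_lit 31))) (Nat.land h (nat_lit 256)) h)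
 (fun _ _ => (fun h => @Nat.rec (fun _ => Nat → Nat)
 (fun i => Nat.land (Nat.shiftRight IX3c6 (Nat.mul (nat_lit 5) (Nat.land i (nat_lit 255)))) (nat_lit 31))
 (fun _ _ => (fun i => Nat.land (Nat.shiftRight IX3c7 (Nat.mul (nat_lit 5) (Nat.land i (nat_lit 255)))) (nat_lit 31))) (Nat.land h (nat_lit 256)) h)) (Nat.land h (nat_lit 512)) h)) (Nat.land h (nat_lit 0x400)) h)
 (fun _ _ => (fun i => Nat.land (Nat.shiftRight IX3c8 (Nat.mul (nat_lit 5) (Nat.land i (nat_lit 255)))) (nat_lit 31))) (Nat.land h (nat_lit 0x800)) h)

def x5 : List ℕ := [33, 31, 17, 17, 15, 18, 15, 18, 14, 7, 13, 7, 13, 1, 2, 3, 2, 1, 4, 6, 3, 2]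
def y5 : List ℕ := [27, 23, 17, 15, 18, 18, 15, 17, 17, 15, 7, 13, 13, 7, 13, 11, 13, 1, 0, 2, 3, 2, 1, 6, 3, 2, 4, 3, 2]
def c5 : List ℕ := []
def g5 : List ℕ := [33, 31, 17, 15, 17, 17, 17, 15, 17, 15, 13, 11, 14, 11, 14, 14, 1, 0, 2, 3, 2, 1, 3, 2, 3, 2, 6, 5]

theorem hx5 : W x5 ^ 5 = 1 := (by rw [Wpow]; exact We _ [] (by decide +kernel) (by decide) (by decide +kernel))
theorem hy5 : W y5 ^ 5 = 1 := (by rw [Wpow]; exact We _ [] (by decide +kernel) (by decide) (by decide +kernel))
theorem hc5 : W c5 ^ 1 = 1 := (by rw [Wpow]; exact We _ [] (by decide +kernel) (by decide) (by decide +kernel))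
theorem hxy5 : W x5 * W y5 = W c5 * (W y5 * W x5) := (by rw [← Wa, ← Wa, ← Wa]; exact We _ _ (by decide +kernel) (by decide +kernel) (by decide +kernel))
theorem hxc5 : W x5 * W c5 = W c5 * W x5 := (by rw [← Wa, ← Wa]; exact We _ _ (by decide +kernel) (by decide +kernel) (by decide +kernel))
theorem hyc5 : W y5 * W c5 = W c5 * W y5 := (by rw [← Wa, ← Wa]; exact We _ _ (by decide +kernel) (by decide +kernel) (by decide +kernel))

theorem idx5 : (Subgroup.closure ({W x5, W y5} : Set He)).index.Coprime 5 := by
  have h1 := card_of 5 1 (by decide) (by decide) x5 y5 c5 ⟨1, by decide⟩ IX5 (by decide) (by decide) (by decide)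
    hx5 hy5 hc5 hxy5 hxc5 hyc5 (by decide +kernel)
  have h2 := Subgroup.index_mul_card (Subgroup.closure ({W x5, W y5} : Set He))
  rw [h1, cardG] at h2
  have h3 : (Subgroup.closure ({W x5, W y5} : Set He)).index = 161215488 := by omega
  rw [h3]; norm_num

theorem part5 [Finite E] (h : PExt 5 τ z) : z ∉ commutator E := by
  have hp : Nat.Prime 5 := by norm_num
  have hz : ∀ X C : E, τ C = W c5 → X * C = C * X := by
    intro X C hC
    obtain ⟨n, rfl⟩ := h.eq_zpow (x := C) hC
    exact h.centz n X
  exact PO.odd_main h hp (W x5) (W y5) (W c5) hx5 (by rw [show W c5 = 1 from rfl, one_pow]) hxy5 hxc5 hyc5 idx5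
    (fun X C _ hC => hz X C hC) (fun X C _ hC => hz X C hC)
    (fun _ X Y hX hY => (cmO h hp y5 x5 g5 2 0 2 (We _ _ (by decide +kernel) (by decide +kernel) (by decide +kernel)) (We _ _ (by decide +kernel) (by decide +kernel) (by decide +kernel)) (We _ _ (by decide +kernel) (by decide +kernel) (by decide +kernel)) (by norm_num) Y X hY hX).symm)

def x7 : List ℕ := [27, 17, 15, 17, 17, 11, 7, 14, 14, 11, 7, 11, 1, 2, 3, 6, 3, 2, 1, 3, 2, 3, 4]
def y7 : List ℕ := [33, 31, 27, 23, 18, 15, 18, 18, 11, 14, 14, 7, 13, 7, 13, 1, 2, 3, 2, 1, 4, 6, 3, 2, 4, 5]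
def c7 : List ℕ := [18, 15, 18, 18, 7, 11, 13, 11, 14, 7, 13, 7, 1, 2, 4, 3, 2, 1, 6, 3, 2, 3, 2]
def g7 : List ℕ := [33, 31, 23, 17, 17, 15, 17, 17, 7, 11, 1, 0, 2, 3, 2, 1, 6, 3, 2, 4, 3, 2]

theorem hx7 : W x7 ^ 7 = 1 := (by rw [Wpow]; exact We _ [] (by decide +kernel) (by decide) (by decide +kernel))
theorem hy7 : W y7 ^ 7 = 1 := (by rw [Wpow]; exact We _ [] (by decide +kernel) (by decide) (by decide +kernel))
theorem hc7 : W c7 ^ 7 = 1 := (by rw [Wpow]; exact We _ [] (by decide +kernel) (by decide) (by decide +kernel))
theorem hxy7 : W x7 * W y7 = W c7 * (W y7 * W x7) := (by rw [← Wa, ← Wa, ← Wa]; exact We _ _ (by decide +kernel) (by decide +kernel) (by decide +kernel))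
theorem hxc7 : W x7 * W c7 = W c7 * W x7 := (by rw [← Wa, ← Wa]; exact We _ _ (by decide +kernel) (by decide +kernel) (by decide +kernel))
theorem hyc7 : W y7 * W c7 = W c7 * W y7 := (by rw [← Wa, ← Wa]; exact We _ _ (by decide +kernel) (by decide +kernel) (by decide +kernel))

theorem idx7 : (Subgroup.closure ({W x7, W y7} : Set He)).index.Coprime 7 := by
  have h1 := card_of 7 7 (by decide) (by decide) x7 y7 c7 ⟨0, by decide⟩ IX7 (by decide) (by decide) (by decide)
    hx7 hy7 hc7 hxy7 hxc7 hyc7 (by decide +kernel)
  have h2 := Subgroup.index_mul_card (Subgroup.closure ({W x7, W y7} : Set He))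
  rw [h1, cardG] at h2
  have h3 : (Subgroup.closure ({W x7, W y7} : Set He)).index = 11750400 := by omega
  rw [h3]; norm_num

theorem part7 [Finite E] (h : PExt 7 τ z) : z ∉ commutator E := by
  have hp : Nat.Prime 7 := by norm_num
  refine PO.odd_main h hp (W x7) (W y7) (W c7) hx7 hc7 hxy7 hxc7 hyc7 idx7
    (cmO h hp x7 c7 g7 4 0 1 (We _ _ (by decide +kernel) (by decide +kernel) (by decide +kernel)) (We _ _ (by decide +kernel) (by decide +kernel) (by decide +kernel)) (We _ _ (by decide +kernel) (by decide +kernel) (by decide +kernel)) (by norm_num))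
    (cmO h hp y7 c7 g7 2 5 1 (We _ _ (by decide +kernel) (by decide +kernel) (by decide +kernel)) (We _ _ (by decide +kernel) (by decide +kernel) (by decide +kernel)) (We _ _ (by decide +kernel) (by decide +kernel) (by decide +kernel)) (by norm_num)) ?_
  intro h1
  exfalso
  have h2 := act_wpow c7 (by decide) 1 ⟨0, by decide⟩
  rw [h1, one_pow, act_one] at h2
  exact absurd h2 (by decide +kernel)

def x3 : List ℕ := [31, 27, 17, 15, 18, 18, 15, 18, 18, 14, 7, 14, 11, 13, 11, 1, 0, 2, 3, 6, 5, 3, 2, 6]
def y3 : List ℕ := [33, 17, 15, 18, 18, 15, 17, 17, 15, 11, 14, 11, 13, 7, 13, 13, 7, 1, 2, 3, 4, 6, 3, 2, 1, 4]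
def c3 : List ℕ := [31, 27, 23, 18, 15, 17, 17, 15, 18, 14, 11, 13, 7, 14, 11, 7, 1, 2, 3, 4, 5, 3, 2, 1, 4, 3, 6]
def g3 : List ℕ := [31, 23, 17, 15, 18, 18, 15, 18, 18, 7, 13, 13, 7, 13, 7, 14, 11, 4, 5]

theorem hx3 : W x3 ^ 3 = 1 := (by rw [Wpow]; exact We _ [] (by decide +kernel) (by decide) (by decide +kernel))
theorem hy3 : W y3 ^ 3 = 1 := (by rw [Wpow]; exact We _ [] (by decide +kernel) (by decide) (by decide +kernel))
theorem hc3 : W c3 ^ 3 = 1 := (by rw [Wpow]; exact We _ [] (by decide +kernel) (by decide) (by decide +kernel))
theorem hxy3 : W x3 * W y3 = W c3 * (W y3 * W x3) := (by rw [← Wa, ← Wa, ← Wa]; exact We _ _ (by decide +kernel) (by decide +kernel) (by decide +kernel))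
theorem hxc3 : W x3 * W c3 = W c3 * W x3 := (by rw [← Wa, ← Wa]; exact We _ _ (by decide +kernel) (by decide +kernel) (by decide +kernel))
theorem hyc3 : W y3 * W c3 = W c3 * W y3 := (by rw [← Wa, ← Wa]; exact We _ _ (by decide +kernel) (by decide +kernel) (by decide +kernel))

theorem idx3 : (Subgroup.closure ({W x3, W y3} : Set He)).index.Coprime 3 := by
  have h1 := card_of 3 3 (by decide) (by decide) x3 y3 c3 ⟨0, by decide⟩ IX3 (by decide) (by decide) (by decide)
    hx3 hy3 hc3 hxy3 hxc3 hyc3 (by decide +kernel)
  have h2 := Subgroup.index_mul_card (Subgroup.closure ({W x3, W y3} : Set He))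
  rw [h1, cardG] at h2
  have h3 : (Subgroup.closure ({W x3, W y3} : Set He)).index = 149273600 := by omega
  rw [h3]; norm_num

theorem part3 [Finite E] (h : PExt 3 τ z) : z ∉ commutator E := by
  have hp : Nat.Prime 3 := by norm_num
  refine PO.odd_main h hp (W x3) (W y3) (W c3) hx3 hc3 hxy3 hxc3 hyc3 idx3
    (cmO h hp x3 c3 g3 2 1 1 (We _ _ (by decide +kernel) (by decide +kernel) (by decide +kernel)) (We _ _ (by decide +kernel) (by decide +kernel) (by decide +kernel)) (We _ _ (by decide +kernel) (by decide +kernel) (by decide +kernel)) (by norm_num))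
    (cmO h hp y3 c3 g3 2 0 1 (We _ _ (by decide +kernel) (by decide +kernel) (by decide +kernel)) (We _ _ (by decide +kernel) (by decide +kernel) (by decide +kernel)) (We _ _ (by decide +kernel) (by decide +kernel) (by decide +kernel)) (by norm_num)) ?_
  intro h1
  exfalso
  have h2 := act_wpow c3 (by decide) 1 ⟨0, by decide⟩
  rw [h1, one_pow, act_one] at h2
  exact absurd h2 (by decide +kernel)

theorem schur : Cfsg.HasCyclicSchurMultiplier He 1 := by
  haveI : Finite He := finG
  apply hasCyclic_one
  intro p hp hdiv E _ _ τ z h
  rw [cardG] at hdiv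
  have hcase : p = 2 ∨ p = 3 ∨ p = 5 ∨ p = 7 := by
    have h1 : p ∣ 2 ^ 10 * 3 ^ 3 * 5 ^ 2 * 7 ^ 3 * 17 := by
      have : (4030387200 : ℕ) = 2 ^ 10 * 3 ^ 3 * 5 ^ 2 * 7 ^ 3 * 17 := by norm_num
      rw [← this]
      exact (Dvd.intro_left _ rfl).trans ((pow_two p) ▸ hdiv)
    have h17 : p ≠ 17 := by
      rintro rfl
      revert hdiv
      decide
    rcases hp.dvd_mul.1 h1 with h1 | h1
    · rcases hp.dvd_mul.1 h1 with h1 | h1
      · rcases hp.dvd_mul.1 h1 with h1 | h1
        · rcases hp.dvd_mul.1 h1 with h1 | h1
          · left; exact (Nat.prime_dvd_prime_iff_eq hp (by norm_num)).1 (hp.dvd_of_dvd_pow h1)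
          · right; left; exact (Nat.prime_dvd_prime_iff_eq hp (by norm_num)).1 (hp.dvd_of_dvd_pow h1)
        · right; right; left; exact (Nat.prime_dvd_prime_iff_eq hp (by norm_num)).1 (hp.dvd_of_dvd_pow h1)
      · right; right; right; exact (Nat.prime_dvd_prime_iff_eq hp (by norm_num)).1 (hp.dvd_of_dvd_pow h1)
    · exact absurd ((Nat.prime_dvd_prime_iff_eq hp (by norm_num)).1 h1) h17
  rcases hcase with rfl | rfl | rfl | rfl
  · exact two_part h
  · exact part3 h
  · exact part5 h
  · exact part7 h

end Cfsg.Agent.H8.HeM
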