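import Cfsg.Agent.H8.RelGroup
import Cfsg.Agent.H8.T.HetO
import Cfsg.Agent.H8.T.HemtO
import Cfsg.Agent.H8.T.HemtL
import Cfsg.Agent.H8.T.Hekt
import Cfsg.Agent.H8.T.HekXt
import Cfsg.Agent.H8.T.HekBt
import Cfsg.Agent.H8.T.HekCt
import Cfsg.Agent.H8.T.A1t
import Cfsg.Prelude.Def_Spor_He
import Cfsg.Prelude.Def_Sporadic

/-!
# The presented Held group
-/

set_option autoImplicit false
set_option linter.all false
set_option maxRecDepth 100000

namespace Cfsg.Agent.H8.HeP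

open Cfsg.Spor

/-- letter function. -/
def sF {P : Type*} [Group P] (f : He.Gen → P) : Nat → P
  | 0 => f .a
  | 1 => f .b
  | 2 => f .c
  | 3 => f .d
  | 4 => f .e
  | 5 => f .f
  | 6 => f .g
  | _ => 1

theorem sF_sq {P : Type*} [Group P] (f : He.Gen → P) (h : ∀ x, f x * f x = 1) : ∀ l, sF f l * sF f l = 1 := by
  intro l
  unfold sF
  split <;> first | exact h _ | exact one_mul 1

theorem base_of {P : Type*} [Group P] (f : He.Gen → P)
    (hc : ∀ x y m, coxLabel He.edges x y = m → (f x * f y) ^ m = 1)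
    (h1 : f .e = (f .f * f .g) ^ 2)
    (h2 : f .e = (f .a * f .b * f .c) ^ 3)
    (h3 : f .a = (f .c * f .d) ^ 5)
    (h4 : (f .c * f .d * f .f * f .g) ^ 4 = 1)
    (hsq : ∀ x, f x * f x = 1)
    : ∀ p ∈ Het.rels2, ((p.1.map (sF f)).prod) ^ p.2 = 1 := by
  refine List.forall_mem_cons.2 ⟨(show (f .a * (f .b * 1)) ^ 4 = 1 from by rw [mul_one]; exact hc _ _ _ (by decide)), ?_⟩
  refine List.forall_mem_cons.2 ⟨(show (f .a * (f .c * 1)) ^ 2 = 1 from by rw [mul_one]; exact hc _ _ _ (by decide)), ?_⟩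
  refine List.forall_mem_cons.2 ⟨(show (f .a * (f .d * 1)) ^ 2 = 1 from by rw [mul_one]; exact hc _ _ _ (by decide)), ?_⟩
  refine List.forall_mem_cons.2 ⟨(show (f .a * (f .e * 1)) ^ 2 = 1 from by rw [mul_one]; exact hc _ _ _ (by decide)), ?_⟩
  refine List.forall_mem_cons.2 ⟨(show (f .a * (f .f * 1)) ^ 2 = 1 from by rw [mul_one]; exact hc _ _ _ (by decide)), ?_⟩
  refine List.forall_mem_cons.2 ⟨(show (f .a * (f .g * 1)) ^ 2 = 1 from by rw [mul_one]; exact hc _ _ _ (by decide)), ?_⟩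
  refine List.forall_mem_cons.2 ⟨(show (f .b * (f .c * 1)) ^ 3 = 1 from by rw [mul_one]; exact hc _ _ _ (by decide)), ?_⟩
  refine List.forall_mem_cons.2 ⟨(show (f .b * (f .d * 1)) ^ 2 = 1 from by rw [mul_one]; exact hc _ _ _ (by decide)), ?_⟩
  refine List.forall_mem_cons.2 ⟨(show (f .b * (f .e * 1)) ^ 2 = 1 from by rw [mul_one]; exact hc _ _ _ (by decide)), ?_⟩
  refine List.forall_mem_cons.2 ⟨(show (f .b * (f .f * 1)) ^ 2 = 1 from by rw [mul_one]; exact hc _ _ _ (by decide)), ?_⟩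
  refine List.forall_mem_cons.2 ⟨(show (f .b * (f .g * 1)) ^ 2 = 1 from by rw [mul_one]; exact hc _ _ _ (by decide)), ?_⟩
  refine List.forall_mem_cons.2 ⟨(show (f .c * (f .d * 1)) ^ 10 = 1 from by rw [mul_one]; exact hc _ _ _ (by decide)), ?_⟩
  refine List.forall_mem_cons.2 ⟨(show (f .c * (f .e * 1)) ^ 2 = 1 from by rw [mul_one]; exact hc _ _ _ (by decide)), ?_⟩
  refine List.forall_mem_cons.2 ⟨(show (f .c * (f .f * 1)) ^ 2 = 1 from by rw [mul_one]; exact hc _ _ _ (by decide)), ?_⟩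
  refine List.forall_mem_cons.2 ⟨(show (f .c * (f .g * 1)) ^ 2 = 1 from by rw [mul_one]; exact hc _ _ _ (by decide)), ?_⟩
  refine List.forall_mem_cons.2 ⟨(show (f .d * (f .e * 1)) ^ 3 = 1 from by rw [mul_one]; exact hc _ _ _ (by decide)), ?_⟩
  refine List.forall_mem_cons.2 ⟨(show (f .d * (f .f * 1)) ^ 3 = 1 from by rw [mul_one]; exact hc _ _ _ (by decide)), ?_⟩
  refine List.forall_mem_cons.2 ⟨(show (f .d * (f .g * 1)) ^ 3 = 1 from by rw [mul_one]; exact hc _ _ _ (by decide)), ?_⟩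
  refine List.forall_mem_cons.2 ⟨(show (f .e * (f .f * 1)) ^ 2 = 1 from by rw [mul_one]; exact hc _ _ _ (by decide)), ?_⟩
  refine List.forall_mem_cons.2 ⟨(show (f .e * (f .g * 1)) ^ 2 = 1 from by rw [mul_one]; exact hc _ _ _ (by decide)), ?_⟩
  refine List.forall_mem_cons.2 ⟨(show (f .f * (f .g * 1)) ^ 4 = 1 from by rw [mul_one]; exact hc _ _ _ (by decide)), ?_⟩
  refine List.forall_mem_cons.2 ⟨?_, ?_⟩
  · have e : ([4, 5, 6, 5, 6].map (sF f)).prod = f .e * (f .f * f .g) ^ 2 := by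
      simp [sF, pow_succ, mul_assoc]
    change (([4, 5, 6, 5, 6].map (sF f)).prod) ^ 1 = 1
    rw [e, ← h1, hsq, one_pow]
  refine List.forall_mem_cons.2 ⟨?_, ?_⟩
  · have e : ([4, 0, 1, 2, 0, 1, 2, 0, 1, 2].map (sF f)).prod = f .e * (f .a * f .b * f .c) ^ 3 := by
      simp [sF, pow_succ, mul_assoc]
    change (([4, 0, 1, 2, 0, 1, 2, 0, 1, 2].map (sF f)).prod) ^ 1 = 1
    rw [e, ← h2, hsq, one_pow]
  refine List.forall_mem_cons.2 ⟨?_, ?_⟩
  · have e : ([0, 2, 3, 2, 3, 2, 3, 2, 3, 2, 3].map (sF f)).prod = f .a * (f .c * f .d) ^ 5 := by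
      simp [sF, pow_succ, mul_assoc]
    change (([0, 2, 3, 2, 3, 2, 3, 2, 3, 2, 3].map (sF f)).prod) ^ 1 = 1
    rw [e, ← h3, hsq, one_pow]
  refine List.forall_mem_cons.2 ⟨?_, ?_⟩
  · have e : ([2, 3, 5, 6].map (sF f)).prod = f .c * f .d * f .f * f .g := by simp [sF, mul_assoc]
    change (([2, 3, 5, 6].map (sF f)).prod) ^ 4 = 1
    rw [e, h4]
  intro c hc
  exact absurd hc List.not_mem_nil

def pl : List (He.Gen × ℕ × He.Gen) := [(.a, 1, .a), (.b, 1, .b), (.c, 1, .c), (.d, 1, .d), (.e, 1, .e), (.f, 1, .f), (.g, 1, .g), (.a, 4, .b), (.a, 2, .c), (.a, 2, .d), (.a, 2, .e), (.a, 2, .f), (.a, 2, .g), (.b, 3, .c), (.b, 2, .d), (.b, 2, .e), (.b, 2, .f), (.b, 2, .g), (.c, 10, .d), (.c, 2, .e), (.c, 2, .f), (.c, 2, .g), (.d, 3, .e), (.d, 3, .f), (.d, 3, .g), (.e, 2, .f), (.e, 2, .g), (.f, 4, .g)]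

theorem pl_cov : ∀ x y : He.Gen, (x, coxLabel He.edges x y, y) ∈ pl ∨ (y, coxLabel He.edges x y, x) ∈ pl := by
  intro x y
  cases x <;> cases y <;> decide

theorem lift_of {P : Type*} [Group P] (f : He.Gen → P) (hsq : ∀ x, f x * f x = 1)
    (hb : ∀ p ∈ Het.relsP, ((p.1.map (sF f)).prod) ^ p.2 = 1) :
    ∀ r ∈ coxRelators He.edges ∪ {r | r ∈ He.extra}, FreeGroup.lift f r = 1 := by
  rintro r (hr | hr)
  · refine cox_lift He.edges f pl (fun x _ y _ => pl_cov x y) ?_ r hr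
    unfold pl
    refine List.forall_mem_cons.2 ⟨(show (f .a * f .a) ^ 1 = 1 from by rw [pow_one]; exact hsq _), ?_⟩
    refine List.forall_mem_cons.2 ⟨(show (f .b * f .b) ^ 1 = 1 from by rw [pow_one]; exact hsq _), ?_⟩
    refine List.forall_mem_cons.2 ⟨(show (f .c * f .c) ^ 1 = 1 from by rw [pow_one]; exact hsq _), ?_⟩
    refine List.forall_mem_cons.2 ⟨(show (f .d * f .d) ^ 1 = 1 from by rw [pow_one]; exact hsq _), ?_⟩
    refine List.forall_mem_cons.2 ⟨(show (f .e * f .e) ^ 1 = 1 from by rw [pow_one]; exact hsq _), ?_⟩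
    refine List.forall_mem_cons.2 ⟨(show (f .f * f .f) ^ 1 = 1 from by rw [pow_one]; exact hsq _), ?_⟩
    refine List.forall_mem_cons.2 ⟨(show (f .g * f .g) ^ 1 = 1 from by rw [pow_one]; exact hsq _), ?_⟩
    refine List.forall_mem_cons.2 ⟨(show (f .a * f .b) ^ 4 = 1 from by
      have h : (f .a * (f .b * 1)) ^ 4 = 1 := hb ([0, 1], 4) (by decide)
      rwa [mul_one] at h), ?_⟩
    refine List.forall_mem_cons.2 ⟨(show (f .a * f .c) ^ 2 = 1 from by
      have h : (f .a * (f .c * 1)) ^ 2 = 1 := hb ([0, 2], 2) (by decide)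
      rwa [mul_one] at h), ?_⟩
    refine List.forall_mem_cons.2 ⟨(show (f .a * f .d) ^ 2 = 1 from by
      have h : (f .a * (f .d * 1)) ^ 2 = 1 := hb ([0, 3], 2) (by decide)
      rwa [mul_one] at h), ?_⟩
    refine List.forall_mem_cons.2 ⟨(show (f .a * f .e) ^ 2 = 1 from by
      have h : (f .a * (f .e * 1)) ^ 2 = 1 := hb ([0, 4], 2) (by decide)
      rwa [mul_one] at h), ?_⟩
    refine List.forall_mem_cons.2 ⟨(show (f .a * f .f) ^ 2 = 1 from by
      have h : (f .a * (f .f * 1)) ^ 2 = 1 := hb ([0, 5], 2) (by decide)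
      rwa [mul_one] at h), ?_⟩
    refine List.forall_mem_cons.2 ⟨(show (f .a * f .g) ^ 2 = 1 from by
      have h : (f .a * (f .g * 1)) ^ 2 = 1 := hb ([0, 6], 2) (by decide)
      rwa [mul_one] at h), ?_⟩
    refine List.forall_mem_cons.2 ⟨(show (f .b * f .c) ^ 3 = 1 from by
      have h : (f .b * (f .c * 1)) ^ 3 = 1 := hb ([1, 2], 3) (by decide)
      rwa [mul_one] at h), ?_⟩
    refine List.forall_mem_cons.2 ⟨(show (f .b * f .d) ^ 2 = 1 from by
      have h : (f .b * (f .d * 1)) ^ 2 = 1 := hb ([1, 3], 2) (by decide)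
      rwa [mul_one] at h), ?_⟩
    refine List.forall_mem_cons.2 ⟨(show (f .b * f .e) ^ 2 = 1 from by
      have h : (f .b * (f .e * 1)) ^ 2 = 1 := hb ([1, 4], 2) (by decide)
      rwa [mul_one] at h), ?_⟩
    refine List.forall_mem_cons.2 ⟨(show (f .b * f .f) ^ 2 = 1 from by
      have h : (f .b * (f .f * 1)) ^ 2 = 1 := hb ([1, 5], 2) (by decide)
      rwa [mul_one] at h), ?_⟩
    refine List.forall_mem_cons.2 ⟨(show (f .b * f .g) ^ 2 = 1 from by
      have h : (f .b * (f .g * 1)) ^ 2 = 1 := hb ([1, 6], 2) (by decide)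
      rwa [mul_one] at h), ?_⟩
    refine List.forall_mem_cons.2 ⟨(show (f .c * f .d) ^ 10 = 1 from by
      have h : (f .c * (f .d * 1)) ^ 10 = 1 := hb ([2, 3], 10) (by decide)
      rwa [mul_one] at h), ?_⟩
    refine List.forall_mem_cons.2 ⟨(show (f .c * f .e) ^ 2 = 1 from by
      have h : (f .c * (f .e * 1)) ^ 2 = 1 := hb ([2, 4], 2) (by decide)
      rwa [mul_one] at h), ?_⟩
    refine List.forall_mem_cons.2 ⟨(show (f .c * f .f) ^ 2 = 1 from by
      have h : (f .c * (f .f * 1)) ^ 2 = 1 := hb ([2, 5], 2) (by decide)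
      rwa [mul_one] at h), ?_⟩
    refine List.forall_mem_cons.2 ⟨(show (f .c * f .g) ^ 2 = 1 from by
      have h : (f .c * (f .g * 1)) ^ 2 = 1 := hb ([2, 6], 2) (by decide)
      rwa [mul_one] at h), ?_⟩
    refine List.forall_mem_cons.2 ⟨(show (f .d * f .e) ^ 3 = 1 from by
      have h : (f .d * (f .e * 1)) ^ 3 = 1 := hb ([3, 4], 3) (by decide)
      rwa [mul_one] at h), ?_⟩
    refine List.forall_mem_cons.2 ⟨(show (f .d * f .f) ^ 3 = 1 from by
      have h : (f .d * (f .f * 1)) ^ 3 = 1 := hb ([3, 5], 3) (by decide)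
      rwa [mul_one] at h), ?_⟩
    refine List.forall_mem_cons.2 ⟨(show (f .d * f .g) ^ 3 = 1 from by
      have h : (f .d * (f .g * 1)) ^ 3 = 1 := hb ([3, 6], 3) (by decide)
      rwa [mul_one] at h), ?_⟩
    refine List.forall_mem_cons.2 ⟨(show (f .e * f .f) ^ 2 = 1 from by
      have h : (f .e * (f .f * 1)) ^ 2 = 1 := hb ([4, 5], 2) (by decide)
      rwa [mul_one] at h), ?_⟩
    refine List.forall_mem_cons.2 ⟨(show (f .e * f .g) ^ 2 = 1 from by
      have h : (f .e * (f .g * 1)) ^ 2 = 1 := hb ([4, 6], 2) (by decide)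
      rwa [mul_one] at h), ?_⟩
    refine List.forall_mem_cons.2 ⟨(show (f .f * f .g) ^ 4 = 1 from by
      have h : (f .f * (f .g * 1)) ^ 4 = 1 := hb ([5, 6], 4) (by decide)
      rwa [mul_one] at h), ?_⟩
    intro c hc
    exact absurd hc List.not_mem_nil
  · unfold He.extra at hr
    simp only [Set.mem_ofPred_eq, List.mem_cons, List.not_mem_nil, or_false] at hr
    rcases hr with rfl | rfl | rfl | rfl
    · have h : (([4, 5, 6, 5, 6].map (sF f)).prod) ^ 1 = 1 := hb ([4, 5, 6, 5, 6], 1) (by decide)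
      have e : ([4, 5, 6, 5, 6].map (sF f)).prod = f .e * (f .f * f .g) ^ 2 := by
        simp [sF, pow_succ, mul_assoc]
      rw [pow_one, e] at h
      simp only [map_mul, map_pow, map_inv, FreeGroup.lift_apply_of]
      have h' : (f .f * f .g) ^ 2 = f .e := by
        rw [← mul_left_cancel_iff (a := f .e), h, hsq]
      rw [h', mul_inv_cancel]
    · have h : (([4, 0, 1, 2, 0, 1, 2, 0, 1, 2].map (sF f)).prod) ^ 1 = 1 := hb ([4, 0, 1, 2, 0, 1, 2, 0, 1, 2], 1) (by decide)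
      have e : ([4, 0, 1, 2, 0, 1, 2, 0, 1, 2].map (sF f)).prod = f .e * (f .a * f .b * f .c) ^ 3 := by
        simp [sF, pow_succ, mul_assoc]
      rw [pow_one, e] at h
      simp only [map_mul, map_pow, map_inv, FreeGroup.lift_apply_of]
      have h' : (f .a * f .b * f .c) ^ 3 = f .e := by
        rw [← mul_left_cancel_iff (a := f .e), h, hsq]
      rw [h', mul_inv_cancel]
    · have h : (([0, 2, 3, 2, 3, 2, 3, 2, 3, 2, 3].map (sF f)).prod) ^ 1 = 1 := hb ([0, 2, 3, 2, 3, 2, 3, 2, 3, 2, 3], 1) (by decide)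
      have e : ([0, 2, 3, 2, 3, 2, 3, 2, 3, 2, 3].map (sF f)).prod = f .a * (f .c * f .d) ^ 5 := by
        simp [sF, pow_succ, mul_assoc]
      rw [pow_one, e] at h
      simp only [map_mul, map_pow, map_inv, FreeGroup.lift_apply_of]
      have h' : (f .c * f .d) ^ 5 = f .a := by
        rw [← mul_left_cancel_iff (a := f .a), h, hsq]
      rw [h', mul_inv_cancel]
    · have h : (([2, 3, 5, 6].map (sF f)).prod) ^ 4 = 1 := hb ([2, 3, 5, 6], 4) (by decide)
      have e : ([2, 3, 5, 6].map (sF f)).prod = f .c * f .d * f .f * f .g := by simp [sF, mul_assoc]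
      rw [e] at h
      simp only [map_mul, map_pow, map_inv, FreeGroup.lift_apply_of]
      exact h

section grp

/-- the letters of the presented group. -/
def s : Nat → He := sF (fun x => (PresentedGroup.of x : He))

theorem of_sq (x : He.Gen) : (PresentedGroup.of x * PresentedGroup.of x : He) = 1 := by
  have h := cox_rel He.edges He.extra x x 1 (by cases x <;> decide) (by cases x <;> decide) (by cases x <;> decide)
  rwa [pow_one] at h

theorem s_sq : ∀ l, s l * s l = 1 := sF_sq _ of_sq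

theorem s_inv : ∀ l, s l = (s l)⁻¹ := fun l => eq_inv_of_mul_eq_one_left (s_sq l)

theorem s_31 : s 31 = 1 := rfl

theorem s_top : letterGroup s 7 = ⊤ := by
  rw [eq_top_iff]
  have h : (⊤ : Subgroup He) = Subgroup.closure (Set.range PresentedGroup.of) :=
    (PresentedGroup.closure_range_of _).symm
  rw [h, Subgroup.closure_le]
  rintro _ ⟨x, rfl⟩
  refine Subgroup.subset_closure ?_
  cases x
  · exact ⟨0, by decide, rfl⟩
  · exact ⟨1, by decide, rfl⟩
  · exact ⟨2, by decide, rfl⟩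
  · exact ⟨3, by decide, rfl⟩
  · exact ⟨4, by decide, rfl⟩
  · exact ⟨5, by decide, rfl⟩
  · exact ⟨6, by decide, rfl⟩

/-- index of a generator. -/
def idx : He.Gen → Nat
  | .a => 0
  | .b => 1
  | .c => 2
  | .d => 3
  | .e => 4
  | .f => 5
  | .g => 6

theorem sF_idx {P : Type*} [Group P] (t : Nat → P) : ∀ l < 7, sF (fun x => t (idx x)) l = t l := by
  intro l hl
  interval_cases l <;> rfl

/-- the permutation representation attached to a checked table. -/
def homOf {P : Type*} [Group P] (t : Nat → P) (hsq : ∀ l, t l * t l = 1)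
    (hb : ∀ p ∈ Het.relsP, ((p.1.map t).prod) ^ p.2 = 1) : He →* P :=
  PresentedGroup.toGroup (f := fun x => t (idx x)) (lift_of _ (fun x => hsq _) (by
    intro p hp
    have h1 := hb p hp
    have h2 : p.1.map (sF (fun x => t (idx x))) = p.1.map t := by
      apply List.map_congr_left
      intro l hl
      have : ∀ p ∈ Het.relsP, ∀ l ∈ p.1, l < 7 := by decide
      exact sF_idx t l (this p hp l hl)
    rw [h2]
    exact h1))

theorem homOf_s {P : Type*} [Group P] (t : Nat → P) (hsq : ∀ l, t l * t l = 1)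
    (hb : ∀ p ∈ Het.relsP, ((p.1.map t).prod) ^ p.2 = 1) : ∀ l < 7, homOf t hsq hb (s l) = t l := by
  intro l hl
  have key : ∀ x, homOf t hsq hb (PresentedGroup.of x) = t (idx x) := fun x => PresentedGroup.toGroup.of _
  interval_cases l
  · exact key .a
  · exact key .b
  · exact key .c
  · exact key .d
  · exact key .e
  · exact key .f
  · exact key .g

end grp

theorem base : ∀ p ∈ Het.rels2, ((p.1.map s).prod) ^ p.2 = 1 := by
  have ex : ∀ r ∈ He.extra, (PresentedGroup.mk (coxRelators He.edges ∪ {r | r ∈ He.extra}) r) = 1 :=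
    fun r hr => cox_extra He.edges He.extra r hr
  refine base_of _ (fun x y m hm => cox_rel He.edges He.extra x y m (by cases x <;> decide)
    (by cases y <;> decide) hm) ?_ ?_ ?_ ?_ of_sq
  · have h := ex (He.e * ((He.f * He.g) ^ 2)⁻¹) (by simp [He.extra])
    simp only [map_mul, map_pow, map_inv] at h
    exact mul_inv_eq_one.1 h
  · have h := ex (He.e * ((He.a * He.b * He.c) ^ 3)⁻¹) (by simp [He.extra])
    simp only [map_mul, map_pow, map_inv] at h
    exact mul_inv_eq_one.1 h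
  · have h := ex (He.a * ((He.c * He.d) ^ 5)⁻¹) (by simp [He.extra])
    simp only [map_mul, map_pow, map_inv] at h
    exact mul_inv_eq_one.1 h
  · have h := ex ((He.c * He.d * He.f * He.g) ^ 4) (by simp [He.extra])
    simp only [map_mul, map_pow, map_inv] at h
    exact h

/-! ### Order -/

theorem he_upper : Finite (letterGroup s 7) ∧ Nat.card (letterGroup s 7) ≤ 4030387200 := by
  have h1 := A1t.upper (subS s [5]) (subS_inv s _ s_inv) (subS_31 s _ s_31)
    (rels_sub s [5] _ _ base (by decide)) ⊥ (by intro w hw; exact absurd hw (by decide +revert)) inferInstance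
  have h2 := HekCt.upper (subS s [4, 5, 6]) (subS_inv s _ s_inv) (subS_31 s _ s_31)
    (rels_sub s [4, 5, 6] _ _ base (by decide)) _ (sub_mem s [4, 5, 6] [5] 1 _ (by decide)) h1.1
  have h3 := HekBt.upper (subS s [3, 4, 5, 6]) (subS_inv s _ s_inv) (subS_31 s _ s_31)
    (rels_sub s [3, 4, 5, 6] _ _ base (by decide)) _ (sub_mem s [3, 4, 5, 6] [4, 5, 6] 3 _ (by decide)) h2.1
  have h4 := HekXt.upper (subS s [0, 2, 3, 4, 5, 6, 1]) (subS_inv s _ s_inv) (subS_31 s _ s_31)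
    (rels_sub s [0, 2, 3, 4, 5, 6, 1] _ _ base (by decide)) _
    (sub_mem s [0, 2, 3, 4, 5, 6, 1] [3, 4, 5, 6] 4 _ (by decide)) h3.1
  have h5 := Hekt.upper s s_inv s_31 base (letterGroup (subS s [0, 2, 3, 4, 5, 6, 1]) 6) (by
    intro w hw
    have := sub_mem s [0, 1, 2, 3, 4, 5, 6] [0, 2, 3, 4, 5, 6, 1] 6 Hekt.subw (by decide) w hw
    have h5 : w.map (subS s [0, 1, 2, 3, 4, 5, 6]) = w.map s := by
      apply List.map_congr_left
      intro l hl
      have : ∀ w ∈ Hekt.subw, ∀ l ∈ w, l < 7 := by decide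
      exact subS_id s [0, 1, 2, 3, 4, 5, 6] 7 (by decide) l (this w hw l hl)
    rw [h5] at this
    exact this) h4.1
  refine ⟨h5.1, ?_⟩
  have e1 : Nat.card (⊥ : Subgroup He) = 1 := by simp
  rw [e1] at h1
  omega

theorem finite_and_card_le : Finite He ∧ Nat.card He ≤ 4030387200 := by
  have h := he_upper
  rw [s_top] at h
  refine ⟨?_, ?_⟩
  · have := h.1
    exact Finite.of_equiv _ Subgroup.topEquiv.toEquiv
  · rw [Subgroup.card_top] at h
    exact h.2

instance he_finite : Finite He := finite_and_card_le.1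

noncomputable def ρ : He →* Equiv.Perm (Fin 8330) :=
  homOf (permL Hemt.tok) (permL_sq Hemt.tok) Hemt.relp

theorem hρ : ∀ l < 7, ρ (s l) = permL Hemt.tok l := homOf_s _ _ _

theorem hρ' : ∀ l, ρ (s l) = permL Hemt.tok l := by
  intro l
  rcases Nat.lt_or_ge l 7 with h | h
  · exact hρ l h
  · have h1 : s l = 1 := by
      match l, h with
      | (k + 7), _ => rfl
    rw [h1, map_one, permL_ge Hemt.tok l (by omega)]

theorem lowerP : 4030387200 ≤ Nat.card (wordGroup (permL Hemt.tok) Hemt.chG0) := by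
  have h1 := Hemt.ch_lower (permL Hemt.tok) (MonoidHom.id _) (fun l _ => rfl)
  omega

theorem ρ_injective : Function.Injective ρ := by
  apply injective_of_card ρ (wordGroup (permL Hemt.tok) Hemt.chG0)
  · rw [← RG.map_wordGroup ρ s _ hρ' Hemt.chG0]
    rintro _ ⟨x, _, rfl⟩
    exact ⟨x, rfl⟩
  · exact le_trans finite_and_card_le.2 lowerP
  · infer_instance

theorem card_he : Nat.card He = 4030387200 := by
  apply le_antisymm finite_and_card_le.2
  refine le_trans lowerP ?_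
  have h0 := RG.map_wordGroup ρ s _ hρ' Hemt.chG0
  rw [← h0]
  exact card_map_le' ρ _

theorem nontrivial_he : Nontrivial He := by
  apply Finite.one_lt_card_iff_nontrivial.1
  rw [card_he]; decide

/-! ### Simplicity -/

theorem index_stab_M : (wordGroup s Hemt.clG).index = 8330 ∧
    wordGroup s Hemt.clG = stabOf ρ ⟨0, by decide⟩ := by
  have hle : wordGroup s Hemt.clG ≤ stabOf ρ ⟨0, by decide⟩ :=
    wordGroup_le_stabOf s Hemt.tok ρ hρ _ _ (by decide +kernel)
  have h2 := Hemt.upperIndex s s_inv s_31 base (wordGroup s Hemt.clG)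
    (fun w hw => mem_wordGroup s _ w (by revert w hw; decide)) s_top
  exact index_and_stab ρ _ _ hle (Hemt.rho_tr s ρ hρ) h2 (by decide)

theorem coatom : IsCoatom (stabOf ρ ⟨0, by decide⟩) := Hemt.cl_coatom s ρ hρ index_stab_M.2.symm

theorem wd (w : List Nat) (hw : ∀ l ∈ w, l < 7)
    (h : allR (fun i => powT (w.map Hemt.T) i 1 i) 0 8330 = true) : (w.map s).prod = 1 :=
  word_eq_one s Hemt.tok ρ hρ ρ_injective w hw h

/-- the word of the second central involution. -/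
def zw : List Nat := wpow [2, 3, 2, 3, 2, 3, 5] 3

/-- the four-group. -/
noncomputable def A : Subgroup He := Subgroup.closure {s 0, (zw.map s).prod}

theorem mem_A (w : List Nat) (h : w = [0] ∨ w = zw ∨ w = [0] ++ zw) : (w.map s).prod ∈ A := by
  have h0 : s 0 ∈ A := Subgroup.subset_closure (by simp)
  have h1 : (zw.map s).prod ∈ A := Subgroup.subset_closure (by simp)
  rcases h with rfl | rfl | rfl
  · simpa using h0
  · exact h1
  · rw [List.map_append, List.prod_append]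
    exact mul_mem (by simpa using h0) h1

theorem conj_word (w x y W : List Nat) (hW : w ++ x ++ w.reverse ++ y.reverse = W) (h : (W.map s).prod = 1)
    (hy : y = [0] ∨ y = zw ∨ y = [0] ++ zw) :
    (w.map s).prod * (x.map s).prod * ((w.map s).prod)⁻¹ ∈ A := by
  subst hW
  have h1 := word_eq s s_inv (w ++ x ++ w.reverse) y h
  rw [word_inv s s_inv]
  have h2 : (w.map s).prod * (x.map s).prod * (w.reverse.map s).prod = ((w ++ x ++ w.reverse).map s).prod := by
    simp [mul_assoc]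
  rw [h2, h1]
  exact mem_A y hy

theorem cj0_0 : ((([0, 0, 0, 0] : List Nat)).map s).prod = 1 := wd _ (by decide) (by decide +kernel)
theorem cj0_1 : ((([0, 2, 3, 2, 3, 2, 3, 5, 2, 3, 2, 3, 2, 3, 5, 2, 3, 2, 3, 2, 3, 5, 0, 5, 3, 2, 3, 2, 3, 2, 5, 3, 2, 3, 2, 3, 2, 5, 3, 2, 3, 2, 3, 2] : List Nat)).map s).prod = 1 := wd _ (by decide) (by decide +kernel)
theorem cj1_0 : ((([2, 0, 2, 0] : List Nat)).map s).prod = 1 := wd _ (by decide) (by decide +kernel)
theorem cj1_1 : ((([2, 2, 3, 2, 3, 2, 3, 5, 2, 3, 2, 3, 2, 3, 5, 2, 3, 2, 3, 2, 3, 5, 2, 5, 3, 2, 3, 2, 3, 2, 5, 3, 2, 3, 2, 3, 2, 5, 3, 2, 3, 2, 3, 2] : List Nat)).map s).prod = 1 := wd _ (by decide) (by decide +kernel)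
theorem cj2_0 : ((([3, 0, 3, 0] : List Nat)).map s).prod = 1 := wd _ (by decide) (by decide +kernel)
theorem cj2_1 : ((([3, 2, 3, 2, 3, 2, 3, 5, 2, 3, 2, 3, 2, 3, 5, 2, 3, 2, 3, 2, 3, 5, 3, 5, 3, 2, 3, 2, 3, 2, 5, 3, 2, 3, 2, 3, 2, 5, 3, 2, 3, 2, 3, 2] : List Nat)).map s).prod = 1 := wd _ (by decide) (by decide +kernel)
theorem cj3_0 : ((([4, 0, 4, 0] : List Nat)).map s).prod = 1 := wd _ (by decide) (by decide +kernel)
theorem cj3_1 : ((([4, 2, 3, 2, 3, 2, 3, 5, 2, 3, 2, 3, 2, 3, 5, 2, 3, 2, 3, 2, 3, 5, 4, 5, 3, 2, 3, 2, 3, 2, 5, 3, 2, 3, 2, 3, 2, 5, 3, 2, 3, 2, 3, 2] : List Nat)).map s).prod = 1 := wd _ (by decide) (by decide +kernel)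
theorem cj4_0 : ((([5, 0, 5, 0] : List Nat)).map s).prod = 1 := wd _ (by decide) (by decide +kernel)
theorem cj4_1 : ((([5, 2, 3, 2, 3, 2, 3, 5, 2, 3, 2, 3, 2, 3, 5, 2, 3, 2, 3, 2, 3, 5, 5, 5, 3, 2, 3, 2, 3, 2, 5, 3, 2, 3, 2, 3, 2, 5, 3, 2, 3, 2, 3, 2] : List Nat)).map s).prod = 1 := wd _ (by decide) (by decide +kernel)
theorem cj5_0 : ((([6, 0, 6, 0] : List Nat)).map s).prod = 1 := wd _ (by decide) (by decide +kernel)
theorem cj5_1 : ((([6, 2, 3, 2, 3, 2, 3, 5, 2, 3, 2, 3, 2, 3, 5, 2, 3, 2, 3, 2, 3, 5, 6, 5, 3, 2, 3, 2, 3, 2, 5, 3, 2, 3, 2, 3, 2, 5, 3, 2, 3, 2, 3, 2] : List Nat)).map s).prod = 1 := wd _ (by decide) (by decide +kernel)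
theorem cj6_0 : ((([0, 1, 0, 1, 0, 1, 0, 1, 0, 0] : List Nat)).map s).prod = 1 := wd _ (by decide) (by decide +kernel)
theorem cj6_1 : ((([0, 1, 0, 1, 2, 3, 2, 3, 2, 3, 5, 2, 3, 2, 3, 2, 3, 5, 2, 3, 2, 3, 2, 3, 5, 1, 0, 1, 0, 5, 3, 2, 3, 2, 3, 2, 5, 3, 2, 3, 2, 3, 2, 5, 3, 2, 3, 2, 3, 2, 0] : List Nat)).map s).prod = 1 := wd _ (by decide) (by decide +kernel)
theorem cj7_0 : ((([1, 2, 3, 4, 5, 3, 2, 1, 3, 2, 4, 3, 2, 1, 3, 2, 3, 4, 5, 3, 2, 1, 0, 1, 2, 3, 5, 4, 3, 2, 3, 1, 2, 3, 4, 2, 3, 1, 2, 3, 5, 4, 3, 2, 1, 5, 3, 2, 3, 2, 3, 2, 5, 3, 2, 3, 2, 3, 2, 5, 3, 2, 3, 2, 3, 2, 0] : List Nat)).map s).prod = 1 := wd _ (by decide) (by decide +kernel)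
theorem cj7_1 : ((([1, 2, 3, 4, 5, 3, 2, 1, 3, 2, 4, 3, 2, 1, 3, 2, 3, 4, 5, 3, 2, 1, 2, 3, 2, 3, 2, 3, 5, 2, 3, 2, 3, 2, 3, 5, 2, 3, 2, 3, 2, 3, 5, 1, 2, 3, 5, 4, 3, 2, 3, 1, 2, 3, 4, 2, 3, 1, 2, 3, 5, 4, 3, 2, 1, 0] : List Nat)).map s).prod = 1 := wd _ (by decide) (by decide +kernel)
/-- the long word. -/
def tw : List Nat := [1, 2, 3, 4, 5, 3, 2, 1, 3, 2, 4, 3, 2, 1, 3, 2, 3, 4, 5, 3, 2, 1]

theorem conj_gen (w : List Nat) (hw : w ∈ Hemt.clG) :
    (∀ a ∈ A, (w.map s).prod * a * ((w.map s).prod)⁻¹ ∈ A) := by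
  apply conj_closure
  intro a ha
  have key : ∀ w ∈ Hemt.clG, ((w.map s).prod * s 0 * ((w.map s).prod)⁻¹ ∈ A) ∧
      ((w.map s).prod * (zw.map s).prod * ((w.map s).prod)⁻¹ ∈ A) := by
    have e0 : s 0 = (([0] : List Nat).map s).prod := by simp
    rw [e0]
    unfold Hemt.clG
    refine List.forall_mem_cons.2 ⟨⟨conj_word [0] [0] [0] _ (by decide) cj0_0 (by decide), conj_word [0] zw zw _ (by decide) cj0_1 (by decide)⟩, ?_⟩
    refine List.forall_mem_cons.2 ⟨⟨conj_word [2] [0] [0] _ (by decide) cj1_0 (by decide), conj_word [2] zw zw _ (by decide) cj1_1 (by decide)⟩, ?_⟩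
    refine List.forall_mem_cons.2 ⟨⟨conj_word [3] [0] [0] _ (by decide) cj2_0 (by decide), conj_word [3] zw zw _ (by decide) cj2_1 (by decide)⟩, ?_⟩
    refine List.forall_mem_cons.2 ⟨⟨conj_word [4] [0] [0] _ (by decide) cj3_0 (by decide), conj_word [4] zw zw _ (by decide) cj3_1 (by decide)⟩, ?_⟩
    refine List.forall_mem_cons.2 ⟨⟨conj_word [5] [0] [0] _ (by decide) cj4_0 (by decide), conj_word [5] zw zw _ (by decide) cj4_1 (by decide)⟩, ?_⟩
    refine List.forall_mem_cons.2 ⟨⟨conj_word [6] [0] [0] _ (by decide) cj5_0 (by decide), conj_word [6] zw zw _ (by decide) cj5_1 (by decide)⟩, ?_⟩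
    refine List.forall_mem_cons.2 ⟨⟨conj_word [0, 1, 0, 1] [0] [0] _ (by decide) cj6_0 (by decide), conj_word [0, 1, 0, 1] zw ([0] ++ zw) _ (by decide) cj6_1 (by decide)⟩, ?_⟩
    refine List.forall_mem_cons.2 ⟨⟨conj_word [1, 2, 3, 4, 5, 3, 2, 1, 3, 2, 4, 3, 2, 1, 3, 2, 3, 4, 5, 3, 2, 1] [0] ([0] ++ zw) _ (by decide) cj7_0 (by decide), conj_word [1, 2, 3, 4, 5, 3, 2, 1, 3, 2, 4, 3, 2, 1, 3, 2, 3, 4, 5, 3, 2, 1] zw [0] _ (by decide) cj7_1 (by decide)⟩, ?_⟩
    intro c hc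
    exact absurd hc List.not_mem_nil
  rcases ha with rfl | ha
  · exact (key w hw).1
  · rw [Set.mem_singleton_iff.1 ha]; exact (key w hw).2

theorem A_finite_conj (g : He) (h : ∀ a ∈ A, g * a * g⁻¹ ∈ A) : ∀ a ∈ A, g⁻¹ * a * g ∈ A := by
  -- conjugation by `g` is an injective self-map of the finite set `A`
  intro a ha
  let f : A → A := fun x => ⟨g * x * g⁻¹, h x x.2⟩
  have hf : Function.Injective f := by
    intro x y hxy
    have h1 : g * (x : He) * g⁻¹ = g * y * g⁻¹ := congrArg Subtype.val hxy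
    exact Subtype.ext (mul_left_cancel (mul_right_cancel h1))
  obtain ⟨x, hx⟩ := Finite.surjective_of_injective hf ⟨a, ha⟩
  have h2 : g * (x : He) * g⁻¹ = a := congrArg Subtype.val hx
  rw [← h2]
  have : g⁻¹ * (g * (x : He) * g⁻¹) * g = x := by group
  rw [this]
  exact x.2

theorem A_comm : ∀ a ∈ A, ∀ b ∈ A, a * b = b * a := by
  have h0 : s 0 * (zw.map s).prod = (zw.map s).prod * s 0 := by
    have h1 := word_eq s s_inv ([0] ++ zw) (zw ++ [0]) (wd _ (by decide) (by decide +kernel))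
    simpa using h1
  intro a ha b hb
  have hcl : ∀ x ∈ ({s 0, (zw.map s).prod} : Set He), ∀ y ∈ ({s 0, (zw.map s).prod} : Set He), x * y = y * x := by
    rintro x (rfl | hx) y (rfl | hy)
    · rfl
    · rw [Set.mem_singleton_iff.1 hy]; exact h0
    · rw [Set.mem_singleton_iff.1 hx]; exact h0.symm
    · rw [Set.mem_singleton_iff.1 hx, Set.mem_singleton_iff.1 hy]
  have inst := Subgroup.isMulCommutative_closure hcl
  exact congrArg Subtype.val (inst.is_comm.comm ⟨a, ha⟩ ⟨b, hb⟩)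

theorem collapse {P : Type*} [Group P] (t : Nat → P) (hsq : ∀ l, t l * t l = 1)
    (hrel : ∀ p ∈ Het.rels2, ((p.1.map t).prod) ^ p.2 = 1) (h0 : t 0 = 1) : ∀ l < 7, t l = 1 := by
  have h12 : (t 1 * t 2) ^ 3 = 1 := by
    have r := hrel ([1, 2], 3) (by decide)
    simpa using r
  have h4 : t 4 = 1 := by
    have r := hrel ([4, 0, 1, 2, 0, 1, 2, 0, 1, 2], 1) (by decide)
    have e : (([4, 0, 1, 2, 0, 1, 2, 0, 1, 2] : List Nat).map t).prod = t 4 * (t 1 * t 2) ^ 3 := by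
      simp [h0, pow_succ, mul_assoc]
    have r' : ((([4, 0, 1, 2, 0, 1, 2, 0, 1, 2] : List Nat).map t).prod) ^ 1 = 1 := r
    rw [e, h12] at r'
    simpa using r'
  have h3 : t 3 = 1 := by
    have r := hrel ([3, 4], 3) (by decide)
    exact eq_one_of_sq_of_odd (t 3) 1 (hsq 3) (by simpa [h4] using r)
  have h5 : t 5 = 1 := by
    have r := hrel ([3, 5], 3) (by decide)
    exact eq_one_of_sq_of_odd (t 5) 1 (hsq 5) (by simpa [h3] using r)
  have h6 : t 6 = 1 := by
    have r := hrel ([3, 6], 3) (by decide)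
    exact eq_one_of_sq_of_odd (t 6) 1 (hsq 6) (by simpa [h3] using r)
  have h2 : t 2 = 1 := by
    have r := hrel ([0, 2, 3, 2, 3, 2, 3, 2, 3, 2, 3], 1) (by decide)
    have e : (([0, 2, 3, 2, 3, 2, 3, 2, 3, 2, 3] : List Nat).map t).prod = t 2 ^ 5 := by
      simp [h0, h3, pow_succ, mul_assoc]
    have r' : ((([0, 2, 3, 2, 3, 2, 3, 2, 3, 2, 3] : List Nat).map t).prod) ^ 1 = 1 := r
    rw [e, pow_one] at r'
    exact eq_one_of_sq_of_odd (t 2) 2 (hsq 2) r'
  have h1 : t 1 = 1 := by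
    exact eq_one_of_sq_of_odd (t 1) 1 (hsq 1) (by simpa [h2] using h12)
  intro l hl
  interval_cases l <;> assumption

theorem collapse_comm {P : Type*} [CommGroup P] (t : Nat → P) (hsq : ∀ l, t l * t l = 1)
    (hrel : ∀ p ∈ Het.rels2, ((p.1.map t).prod) ^ p.2 = 1) : ∀ l < 7, t l = 1 := by
  have cube : ∀ x y : P, x * x = 1 → y * y = 1 → (x * y) ^ 3 = 1 → x = y := by
    intro x y hx hy h
    have h1 : (x * y) * (x * y) = 1 := by
      calc (x * y) * (x * y) = (x * x) * (y * y) := by simp only [mul_assoc, mul_left_comm, mul_comm]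
        _ = 1 := by rw [hx, hy, one_mul]
    have h2 : x * y = 1 := eq_one_of_sq_of_odd (x * y) 1 h1 h
    calc x = x * (y * y) := by rw [hy, mul_one]
      _ = y := by rw [← mul_assoc, h2, one_mul]
  have e12 : t 1 = t 2 := cube _ _ (hsq _) (hsq _) (by simpa using hrel ([1, 2], 3) (by decide))
  have e34 : t 3 = t 4 := cube _ _ (hsq _) (hsq _) (by simpa using hrel ([3, 4], 3) (by decide))
  have e35 : t 3 = t 5 := cube _ _ (hsq _) (hsq _) (by simpa using hrel ([3, 5], 3) (by decide))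
  have e36 : t 3 = t 6 := cube _ _ (hsq _) (hsq _) (by simpa using hrel ([3, 6], 3) (by decide))
  have h4 : t 4 = 1 := by
    have r := hrel ([4, 5, 6, 5, 6], 1) (by decide)
    have r' : t 4 * (t 5 * (t 6 * (t 5 * t 6))) = 1 := by simpa using r
    rw [← e35, ← e36, ← e34] at r'
    have e : t 3 * (t 3 * (t 3 * (t 3 * t 3))) = t 3 := by
      rw [← mul_assoc (t 3) (t 3) (t 3), hsq, one_mul, ← mul_assoc, hsq, one_mul]
    rw [e] at r'
    rw [← e34]; exact r'
  have h0 : t 0 = 1 := by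
    have r := hrel ([4, 0, 1, 2, 0, 1, 2, 0, 1, 2], 1) (by decide)
    have e : (([4, 0, 1, 2, 0, 1, 2, 0, 1, 2] : List Nat).map t).prod = (t 0 * (t 1 * t 2)) ^ 3 := by
      simp [h4, pow_succ, mul_assoc]
    have r' : ((([4, 0, 1, 2, 0, 1, 2, 0, 1, 2] : List Nat).map t).prod) ^ 1 = 1 := r
    rw [e, e12, hsq, mul_one, pow_one] at r'
    exact eq_one_of_sq_of_odd (t 0) 1 (hsq 0) r'
  exact collapse t hsq hrel h0

theorem normalClosure_A : Subgroup.normalClosure (A : Set He) = ⊤ := by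
  apply normalClosure_of_letters s 7 s_top _ inferInstance
  set N := Subgroup.normalClosure (A : Set He) with hN
  apply collapse (fun l => QuotientGroup.mk' N (s l))
  · intro l
    rw [← map_mul, s_sq, map_one]
  · intro p hp
    have := base p hp
    have h2 := congrArg (QuotientGroup.mk' N) this
    rw [map_pow, map_list_prod, List.map_map, map_one] at h2
    exact h2
  · rw [QuotientGroup.mk'_apply, QuotientGroup.eq_one_iff]
    apply Subgroup.subset_normalClosure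
    exact Subgroup.subset_closure (by simp)

theorem perfect : commutator He = ⊤ := by
  apply perfect_of_letters s 7 s_top
  apply collapse_comm (fun l => (Abelianization.of (s l) : Abelianization He))
  · intro l
    rw [← map_mul, s_sq, map_one]
  · intro p hp
    have := base p hp
    have h2 := congrArg (Abelianization.of (G := He)) this
    rw [map_pow, map_list_prod, List.map_map, map_one] at h2
    exact h2

theorem simple : IsSimpleGroup He := by
  haveI := nontrivial_he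
  refine simple_of_coatom_abelian (stabOf ρ ⟨0, by decide⟩) A coatom
    (core_free ρ _ ρ_injective (Hemt.rho_tr s ρ hρ)) ?_ A_comm normalClosure_A perfect
  rw [← index_stab_M.2]
  apply normalizes_of_gens
  intro w hw
  refine ⟨conj_gen w hw, A_finite_conj _ (conj_gen w hw)⟩

/-! ### The rank 5 action on 2058 points -/

noncomputable def ρ₂ : He →* Equiv.Perm (Fin 2058) :=
  homOf (permL Het.tok) (permL_sq Het.tok) Het.relp

theorem hρ₂ : ∀ l < 7, ρ₂ (s l) = permL Het.tok l := homOf_s _ _ _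

theorem index_stab : (wordGroup s Het.clG).index = 2058 ∧
    wordGroup s Het.clG = stabOf ρ₂ ⟨0, by decide⟩ := by
  have hle : wordGroup s Het.clG ≤ stabOf ρ₂ ⟨0, by decide⟩ :=
    wordGroup_le_stabOf s Het.tok ρ₂ hρ₂ _ _ (by decide +kernel)
  have h2 := Het.upperIndex s s_inv s_31 base (wordGroup s Het.clG)
    (fun w hw => mem_wordGroup s _ w (by revert w hw; decide)) s_top
  exact index_and_stab ρ₂ _ _ hle (Het.rho_tr s ρ₂ hρ₂) h2 (by decide)

/-- the point of a coset. -/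
theorem orbit_len (i : Fin 2058) :
    ∃ g : He, ρ₂ g ⟨0, by decide⟩ = i ∧ ∀ k, cntC Het.clC (Het.clC i) k 2058 0 = true →
      (MulAction.orbit (wordGroup s Het.clG) (QuotientGroup.mk g : He ⧸ wordGroup s Het.clG)).ncard = k := by
  obtain ⟨g, hg⟩ := Het.rho_tr s ρ₂ hρ₂ i
  refine ⟨g, hg, fun k hk => ?_⟩
  rw [orbit_ncard_eq ρ₂ ⟨0, by decide⟩ _ index_stab.2 g, hg,
    cls_orbit s Het.tok ρ₂ hρ₂ Het.clC Het.clQ Het.clG Het.clR (by decide) Het.clOK i]
  exact cntC_ncard _ _ _ _ hk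

theorem orbit_ne (g g' : He) (h : Het.clC (ρ₂ g ⟨0, by decide⟩) ≠ Het.clC (ρ₂ g' ⟨0, by decide⟩)) :
    MulAction.orbit (wordGroup s Het.clG) (QuotientGroup.mk g : He ⧸ wordGroup s Het.clG) ≠
    MulAction.orbit (wordGroup s Het.clG) (QuotientGroup.mk g' : He ⧸ wordGroup s Het.clG) := by
  intro he
  have h1 : (QuotientGroup.mk g : He ⧸ wordGroup s Het.clG) ∈
      MulAction.orbit (wordGroup s Het.clG) (QuotientGroup.mk g' : He ⧸ wordGroup s Het.clG) := by
    rw [← he]; exact MulAction.mem_orbit_self _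
  obtain ⟨k, hk⟩ := h1
  have h2 : (QuotientGroup.mk ((k : He) * g') : He ⧸ wordGroup s Het.clG) = QuotientGroup.mk g := hk
  rw [QuotientGroup.eq] at h2
  have h3 := (SetLike.ext_iff.1 index_stab.2 _).1 h2
  rw [mem_stabOf, map_mul, Equiv.Perm.mul_apply, map_inv,
    Equiv.Perm.inv_eq_iff_eq, map_mul, Equiv.Perm.mul_apply] at h3
  apply h
  rw [h3]
  exact cls_invariant s Het.tok ρ₂ hρ₂ Het.clC Het.clQ Het.clG Het.clR (by decide) Het.clOK k k.2 _

theorem H_eq : ((Subgroup.closure ({He.a, He.c, He.d, He.e, He.f, (He.a * He.b) ^ 2,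
    (He.b * He.c * He.d * He.e) ^ 7} : Set (FreeGroup He.Gen))).map
    (PresentedGroup.mk (coxRelators He.edges ∪ {r | r ∈ He.extra}))) = wordGroup s Het.clG := by
  have e1 : (PresentedGroup.mk (coxRelators He.edges ∪ {r | r ∈ He.extra})) ((He.a * He.b) ^ 2) =
      ((([0, 1, 0, 1] : List Nat)).map s).prod := by
    simp only [map_mul, map_pow]
    simp [s, sF, PresentedGroup.of, pow_succ, mul_assoc]
  have e2 : (PresentedGroup.mk (coxRelators He.edges ∪ {r | r ∈ He.extra})) ((He.b * He.c * He.d * He.e) ^ 7) =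
      ((wpow [1, 2, 3, 4] 7).map s).prod := by
    rw [wpow_prod]
    simp only [map_mul, map_pow]
    simp [s, sF, PresentedGroup.of, mul_assoc]
  apply map_closure_eq
  · intro x hx
    simp only [Set.mem_insert_iff, Set.mem_singleton_iff] at hx
    rcases hx with rfl | rfl | rfl | rfl | rfl | rfl | rfl
    · exact ⟨[0], by decide, by simp [s, sF, PresentedGroup.of]⟩
    · exact ⟨[2], by decide, by simp [s, sF, PresentedGroup.of]⟩
    · exact ⟨[3], by decide, by simp [s, sF, PresentedGroup.of]⟩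
    · exact ⟨[4], by decide, by simp [s, sF, PresentedGroup.of]⟩
    · exact ⟨[5], by decide, by simp [s, sF, PresentedGroup.of]⟩
    · exact ⟨[0, 1, 0, 1], by decide, e1⟩
    · exact ⟨wpow [1, 2, 3, 4] 7, by decide, e2⟩
  · have hG : Het.clG = [[0], [2], [3], [4], [5], [0, 1, 0, 1], wpow [1, 2, 3, 4] 7] := by decide
    rw [hG]
    intro w hw
    simp only [List.mem_cons, List.not_mem_nil, or_false] at hw
    rcases hw with rfl | rfl | rfl | rfl | rfl | rfl | rfl
    · exact ⟨He.a, by simp, by simp [s, sF, PresentedGroup.of]⟩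
    · exact ⟨He.c, by simp, by simp [s, sF, PresentedGroup.of]⟩
    · exact ⟨He.d, by simp, by simp [s, sF, PresentedGroup.of]⟩
    · exact ⟨He.e, by simp, by simp [s, sF, PresentedGroup.of]⟩
    · exact ⟨He.f, by simp, by simp [s, sF, PresentedGroup.of]⟩
    · exact ⟨(He.a * He.b) ^ 2, by simp, e1⟩
    · exact ⟨(He.b * He.c * He.d * He.e) ^ 7, by simp, e2⟩

end Cfsg.Agent.H8.HeP
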