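import Cfsg.Agent.H8.T.HeOx
import Cfsg.Agent.H8.T.HeOF
import Cfsg.Agent.H8.HePres

/-!
# Automorphisms of the presented group He
-/

set_option Elab.async false
set_option autoImplicit false
set_option linter.all false
set_option maxRecDepth 100000
set_option maxHeartbeats 1000000

namespace Cfsg.Agent.H8.HeO

open Cfsg.Spor
open Cfsg.Agent.H8

noncomputable def s : Nat → He := OT.ext Cfsg.Agent.H8.HeP.s 7 bws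

theorem s_lt (l : Nat) (h : l < 7) : s l = Cfsg.Agent.H8.HeP.s l := OT.ext_lt _ _ _ l h

noncomputable def ρ : He →* Equiv.Perm (Fin 2058) := Cfsg.Agent.H8.HeP.ρ₂

theorem hρ : ∀ l < 35, ρ (s l) = permL tok l :=
  OT.ext_rho Cfsg.Agent.H8.HeP.s Cfsg.Agent.H8.Het.tok tok ρ Cfsg.Agent.H8.HeP.hρ₂ hTT hii bws (by decide) (by decide) (by decide) (by
    intro i hi j hj
    have h := hwb i hi j hj
    have e : ∀ w : List Nat, (∀ l ∈ w, l < 7) → ∀ j, trN Cfsg.Agent.H8.Het.T w j = trN T' w j := by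
      intro w
      induction w with
      | nil => intro _ j; rfl
      | cons l w ih =>
        intro hw j
        rw [trN, trN, hTT l (hw l List.mem_cons_self)]
        exact ih (fun l' hl' => hw l' (List.mem_cons_of_mem _ hl')) _
    rw [e _ ?_ j]
    · exact h
    · have hl : bws.length = 14 := by decide
      rw [hl] at hi
      interval_cases i <;> decide)

theorem inj : Function.Injective ρ := injective_of_simple Cfsg.Agent.H8.HeP.simple _ (Cfsg.Agent.H8.HeP.s 1) (by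
    intro h
    have h1 := rho_word Cfsg.Agent.H8.HeP.s Cfsg.Agent.H8.Het.tok Cfsg.Agent.H8.HeP.ρ₂ Cfsg.Agent.H8.HeP.hρ₂ [1] (by decide) ⟨0, by decide⟩
    have h2 : Cfsg.Agent.H8.HeP.ρ₂ (([1] : List Nat).map Cfsg.Agent.H8.HeP.s).prod = 1 := by
      rw [List.map_singleton, List.prod_singleton]; exact h
    rw [h2] at h1
    exact absurd h1 (by decide +kernel))

theorem cardG : Nat.card He = 4030387200 := Cfsg.Agent.H8.HeP.card_he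


theorem xtop : wordGroup s xG0 = ⊤ := by
  rw [eq_top_iff, ← Cfsg.Agent.H8.HeP.s_top]
  unfold letterGroup
  rw [Subgroup.closure_le]
  rintro _ ⟨l, hl, rfl⟩
  have hl' : l < 7 := hl
  have hm : [l] ∈ xG0 := by
    revert hl'; revert l; decide
  have := mem_wordGroup s xG0 [l] hm
  rw [List.map_singleton, List.prod_singleton, s_lt l hl'] at this
  exact this

theorem xchain : (∀ g ∈ wordGroup s xG0, xQ0 (act ρ ⟨457, by decide⟩ g : Fin 2058) ≠ 0) ∧ (∀ g ∈ wordGroup s xG0, act ρ ⟨457, by decide⟩ g = ⟨457, by decide⟩ → g ∈ wordGroup s xG1) ∧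
    (∀ g ∈ wordGroup s xG1, xQ1 (act ρ ⟨1554, by decide⟩ g : Fin 2058) ≠ 0) ∧ (∀ g ∈ wordGroup s xG1, act ρ ⟨1554, by decide⟩ g = ⟨1554, by decide⟩ → g ∈ wordGroup s xG2) ∧
    (∀ g ∈ wordGroup s xG2, xQ2 (act ρ ⟨1549, by decide⟩ g : Fin 2058) ≠ 0) ∧ (∀ g ∈ wordGroup s xG2, act ρ ⟨1549, by decide⟩ g = ⟨1549, by decide⟩ → g ∈ wordGroup s xG3) ∧
    (∀ g ∈ wordGroup s xG3, xQ3 (act ρ ⟨1900, by decide⟩ g : Fin 2058) ≠ 0) ∧ (∀ g ∈ wordGroup s xG3, act ρ ⟨1900, by decide⟩ g = ⟨1900, by decide⟩ → g ∈ wordGroup s ([] : List (List Nat))) := by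
  haveI : Finite He := Nat.finite_of_card_ne_zero (by rw [cardG]; decide)
  have k0 := card_step s tok ρ hρ xQ0 2058 xG0 xG1 (by decide) ⟨457, by decide⟩ xr0 xc0
    (by decide) (by decide +kernel) inferInstance
  have k1 := card_step s tok ρ hρ xQ1 1360 xG1 xG2 (by decide) ⟨1554, by decide⟩ xr1 xc1
    (by decide) (by decide +kernel) inferInstance
  have k2 := card_step s tok ρ hρ xQ2 120 xG2 xG3 (by decide) ⟨1549, by decide⟩ xr2 xc2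
    (by decide) (by decide +kernel) inferInstance
  have k3 := card_step s tok ρ hρ xQ3 12 xG3 ([] : List (List Nat)) (by decide) ⟨1900, by decide⟩ xr3 xc3
    (by decide) (by decide +kernel) inferInstance
  have k : Nat.card (wordGroup s xG0) = 4030387200 := by rw [xtop, Subgroup.card_top, cardG]
  have kl : 0 < Nat.card (wordGroup s ([] : List (List Nat))) := Nat.card_pos
  have e0 : Nat.card (wordGroup s xG0) = 4030387200 := by omega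
  have e1 : Nat.card (wordGroup s xG1) = 1958400 := by omega
  have e2 : Nat.card (wordGroup s xG2) = 1440 := by omega
  have e3 : Nat.card (wordGroup s xG3) = 12 := by omega
  have e4 : Nat.card (wordGroup s ([] : List (List Nat))) = 1 := by omega
  have x0 := exact_step s tok ρ xQ0 2058 xG0 xG1 (by decide) ⟨457, by decide⟩ xr0 xc0
    (by decide) (by decide +kernel) inferInstance hρ (by rw [e0, e1])
  have x1 := exact_step s tok ρ xQ1 1360 xG1 xG2 (by decide) ⟨1554, by decide⟩ xr1 xc1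
    (by decide) (by decide +kernel) inferInstance hρ (by rw [e1, e2])
  have x2 := exact_step s tok ρ xQ2 120 xG2 xG3 (by decide) ⟨1549, by decide⟩ xr2 xc2
    (by decide) (by decide +kernel) inferInstance hρ (by rw [e2, e3])
  have x3 := exact_step s tok ρ xQ3 12 xG3 ([] : List (List Nat)) (by decide) ⟨1900, by decide⟩ xr3 xc3
    (by decide) (by decide +kernel) inferInstance hρ (by rw [e3, e4])
  exact ⟨x0.1, x0.2, x1.1, x1.2, x2.1, x2.2, x3.1, x3.2⟩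

theorem xbot : wordGroup s ([] : List (List Nat)) = ⊥ := by
  unfold wordGroup
  rw [eq_bot_iff, Subgroup.closure_le]
  rintro g ⟨w, hw, _⟩
  simp at hw

theorem xp0 : act ρ ⟨457, by decide⟩ ((([7] : List Nat).map s).prod ^ 0) = (⟨457, by decide⟩ : Fin 2058) :=
  Fin.ext (by rw [OT.iter_fin s tok ρ [7] (by decide) hρ]; decide +kernel)
theorem xp1 : act ρ ⟨457, by decide⟩ ((([7] : List Nat).map s).prod ^ 1) = (⟨1554, by decide⟩ : Fin 2058) :=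
  Fin.ext (by rw [OT.iter_fin s tok ρ [7] (by decide) hρ]; decide +kernel)
theorem xp2 : act ρ ⟨457, by decide⟩ ((([7] : List Nat).map s).prod ^ 2) = (⟨1549, by decide⟩ : Fin 2058) :=
  Fin.ext (by rw [OT.iter_fin s tok ρ [7] (by decide) hρ]; decide +kernel)
theorem xp3 : act ρ ⟨457, by decide⟩ ((([7] : List Nat).map s).prod ^ 3) = (⟨1900, by decide⟩ : Fin 2058) :=
  Fin.ext (by rw [OT.iter_fin s tok ρ [7] (by decide) hρ]; decide +kernel)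

/-- an element fixing the base is trivial. -/
theorem xbase (g : He) (h0 : act ρ ⟨457, by decide⟩ g = (⟨457, by decide⟩ : Fin 2058)) (h1 : act ρ ⟨1554, by decide⟩ g = (⟨1554, by decide⟩ : Fin 2058)) (h2 : act ρ ⟨1549, by decide⟩ g = (⟨1549, by decide⟩ : Fin 2058)) (h3 : act ρ ⟨1900, by decide⟩ g = (⟨1900, by decide⟩ : Fin 2058)) : g = 1 := by
  have g0 : g ∈ wordGroup s xG0 := by rw [xtop]; exact Subgroup.mem_top g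
  have g1 := xchain.2.1 g g0 h0
  have g2 := xchain.2.2.2.1 g g1 h1
  have g3 := xchain.2.2.2.2.2.1 g g2 h2
  have g4 := xchain.2.2.2.2.2.2.2 g g3 h3
  rw [xbot] at g4
  exact Subgroup.mem_bot.1 g4

theorem xrej : Rej ρ (⊤ : Subgroup He) ((List.range 4).map fun i => act ρ ⟨457, by decide⟩ ((([7] : List Nat).map s).prod ^ i)) xK0 := by
  have e : ((List.range 4).map fun i => act ρ (⟨457, by decide⟩ : Fin 2058) ((([7] : List Nat).map s).prod ^ i)) = [(⟨457, by decide⟩ : Fin 2058), (⟨1554, by decide⟩ : Fin 2058), (⟨1549, by decide⟩ : Fin 2058), (⟨1900, by decide⟩ : Fin 2058)] := by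
    change [act ρ (⟨457, by decide⟩ : Fin 2058) ((([7] : List Nat).map s).prod ^ 0), act ρ (⟨457, by decide⟩ : Fin 2058) ((([7] : List Nat).map s).prod ^ 1), act ρ (⟨457, by decide⟩ : Fin 2058) ((([7] : List Nat).map s).prod ^ 2), act ρ (⟨457, by decide⟩ : Fin 2058) ((([7] : List Nat).map s).prod ^ 3)] = _
    rw [xp0, xp1, xp2, xp3]
  rw [e, ← xtop]
  exact (Rej_step s tok ρ hρ (wordGroup s xG0) (wordGroup s xG1) ⟨457, by decide⟩ [(⟨1554, by decide⟩ : Fin 2058), (⟨1549, by decide⟩ : Fin 2058), (⟨1900, by decide⟩ : Fin 2058)] _ xQ0 xG0 10 (by decide)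
    (fun w hw => mem_wordGroup s _ w hw) xchain.1 xchain.2.1 (Rej_step s tok ρ hρ (wordGroup s xG1) (wordGroup s xG2) ⟨1554, by decide⟩ [(⟨1549, by decide⟩ : Fin 2058), (⟨1900, by decide⟩ : Fin 2058)] _ xQ1 xG1 10 (by decide)
    (fun w hw => mem_wordGroup s _ w hw) xchain.2.2.1 xchain.2.2.2.1 (Rej_step s tok ρ hρ (wordGroup s xG2) (wordGroup s xG3) ⟨1549, by decide⟩ [(⟨1900, by decide⟩ : Fin 2058)] _ xQ2 xG2 10 (by decide)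
    (fun w hw => mem_wordGroup s _ w hw) xchain.2.2.2.2.1 xchain.2.2.2.2.2.1 (Rej_step s tok ρ hρ (wordGroup s xG3) (wordGroup s ([] : List (List Nat))) ⟨1900, by decide⟩ [] _ xQ3 xG3 10 (by decide)
    (fun w hw => mem_wordGroup s _ w hw) xchain.2.2.2.2.2.2.1 xchain.2.2.2.2.2.2.2 (Rej_nil ρ _ _)))))

theorem Ftop : wordGroup s FG0 = ⊤ := by
  rw [eq_top_iff, ← Cfsg.Agent.H8.HeP.s_top]
  unfold letterGroup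
  rw [Subgroup.closure_le]
  rintro _ ⟨l, hl, rfl⟩
  have hl' : l < 7 := hl
  have hm : [l] ∈ FG0 := by
    revert hl'; revert l; decide
  have := mem_wordGroup s FG0 [l] hm
  rw [List.map_singleton, List.prod_singleton, s_lt l hl'] at this
  exact this

theorem Fchain : (∀ g ∈ wordGroup s FG0, FQ0 (act ρ ⟨143, by decide⟩ g : Fin 2058) ≠ 0) ∧ (∀ g ∈ wordGroup s FG0, act ρ ⟨143, by decide⟩ g = ⟨143, by decide⟩ → g ∈ wordGroup s FG1) ∧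
    (∀ g ∈ wordGroup s FG1, FQ1 (act ρ ⟨813, by decide⟩ g : Fin 2058) ≠ 0) ∧ (∀ g ∈ wordGroup s FG1, act ρ ⟨813, by decide⟩ g = ⟨813, by decide⟩ → g ∈ wordGroup s FG2) ∧
    (∀ g ∈ wordGroup s FG2, FQ2 (act ρ ⟨1868, by decide⟩ g : Fin 2058) ≠ 0) ∧ (∀ g ∈ wordGroup s FG2, act ρ ⟨1868, by decide⟩ g = ⟨1868, by decide⟩ → g ∈ wordGroup s FG3) ∧
    (∀ g ∈ wordGroup s FG3, FQ3 (act ρ ⟨1861, by decide⟩ g : Fin 2058) ≠ 0) ∧ (∀ g ∈ wordGroup s FG3, act ρ ⟨1861, by decide⟩ g = ⟨1861, by decide⟩ → g ∈ wordGroup s ([] : List (List Nat))) := by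
  haveI : Finite He := Nat.finite_of_card_ne_zero (by rw [cardG]; decide)
  have k0 := card_step s tok ρ hρ FQ0 2058 FG0 FG1 (by decide) ⟨143, by decide⟩ Fr0 Fc0
    (by decide) (by decide +kernel) inferInstance
  have k1 := card_step s tok ρ hρ FQ1 1360 FG1 FG2 (by decide) ⟨813, by decide⟩ Fr1 Fc1
    (by decide) (by decide +kernel) inferInstance
  have k2 := card_step s tok ρ hρ FQ2 360 FG2 FG3 (by decide) ⟨1868, by decide⟩ Fr2 Fc2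
    (by decide) (by decide +kernel) inferInstance
  have k3 := card_step s tok ρ hρ FQ3 4 FG3 ([] : List (List Nat)) (by decide) ⟨1861, by decide⟩ Fr3 Fc3
    (by decide) (by decide +kernel) inferInstance
  have k : Nat.card (wordGroup s FG0) = 4030387200 := by rw [Ftop, Subgroup.card_top, cardG]
  have kl : 0 < Nat.card (wordGroup s ([] : List (List Nat))) := Nat.card_pos
  have e0 : Nat.card (wordGroup s FG0) = 4030387200 := by omega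
  have e1 : Nat.card (wordGroup s FG1) = 1958400 := by omega
  have e2 : Nat.card (wordGroup s FG2) = 1440 := by omega
  have e3 : Nat.card (wordGroup s FG3) = 4 := by omega
  have e4 : Nat.card (wordGroup s ([] : List (List Nat))) = 1 := by omega
  have x0 := exact_step s tok ρ FQ0 2058 FG0 FG1 (by decide) ⟨143, by decide⟩ Fr0 Fc0
    (by decide) (by decide +kernel) inferInstance hρ (by rw [e0, e1])
  have x1 := exact_step s tok ρ FQ1 1360 FG1 FG2 (by decide) ⟨813, by decide⟩ Fr1 Fc1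
    (by decide) (by decide +kernel) inferInstance hρ (by rw [e1, e2])
  have x2 := exact_step s tok ρ FQ2 360 FG2 FG3 (by decide) ⟨1868, by decide⟩ Fr2 Fc2
    (by decide) (by decide +kernel) inferInstance hρ (by rw [e2, e3])
  have x3 := exact_step s tok ρ FQ3 4 FG3 ([] : List (List Nat)) (by decide) ⟨1861, by decide⟩ Fr3 Fc3
    (by decide) (by decide +kernel) inferInstance hρ (by rw [e3, e4])
  exact ⟨x0.1, x0.2, x1.1, x1.2, x2.1, x2.2, x3.1, x3.2⟩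

theorem Fbot : wordGroup s ([] : List (List Nat)) = ⊥ := by
  unfold wordGroup
  rw [eq_bot_iff, Subgroup.closure_le]
  rintro g ⟨w, hw, _⟩
  simp at hw

theorem Fp0 : act ρ ⟨143, by decide⟩ ((([9] : List Nat).map s).prod ^ 0) = (⟨143, by decide⟩ : Fin 2058) :=
  Fin.ext (by rw [OT.iter_fin s tok ρ [9] (by decide) hρ]; decide +kernel)
theorem Fp1 : act ρ ⟨143, by decide⟩ ((([9] : List Nat).map s).prod ^ 1) = (⟨813, by decide⟩ : Fin 2058) :=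
  Fin.ext (by rw [OT.iter_fin s tok ρ [9] (by decide) hρ]; decide +kernel)
theorem Fp2 : act ρ ⟨143, by decide⟩ ((([9] : List Nat).map s).prod ^ 2) = (⟨1868, by decide⟩ : Fin 2058) :=
  Fin.ext (by rw [OT.iter_fin s tok ρ [9] (by decide) hρ]; decide +kernel)
theorem Fp3 : act ρ ⟨143, by decide⟩ ((([9] : List Nat).map s).prod ^ 3) = (⟨1861, by decide⟩ : Fin 2058) :=
  Fin.ext (by rw [OT.iter_fin s tok ρ [9] (by decide) hρ]; decide +kernel)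

/-- an element fixing the base is trivial. -/
theorem Fbase (g : He) (h0 : act ρ ⟨143, by decide⟩ g = (⟨143, by decide⟩ : Fin 2058)) (h1 : act ρ ⟨813, by decide⟩ g = (⟨813, by decide⟩ : Fin 2058)) (h2 : act ρ ⟨1868, by decide⟩ g = (⟨1868, by decide⟩ : Fin 2058)) (h3 : act ρ ⟨1861, by decide⟩ g = (⟨1861, by decide⟩ : Fin 2058)) : g = 1 := by
  have g0 : g ∈ wordGroup s FG0 := by rw [Ftop]; exact Subgroup.mem_top g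
  have g1 := Fchain.2.1 g g0 h0
  have g2 := Fchain.2.2.2.1 g g1 h1
  have g3 := Fchain.2.2.2.2.2.1 g g2 h2
  have g4 := Fchain.2.2.2.2.2.2.2 g g3 h3
  rw [Fbot] at g4
  exact Subgroup.mem_bot.1 g4

theorem Frej : Rej ρ (⊤ : Subgroup He) ((List.range 4).map fun i => act ρ ⟨143, by decide⟩ ((([9] : List Nat).map s).prod ^ i)) FK0 := by
  have e : ((List.range 4).map fun i => act ρ (⟨143, by decide⟩ : Fin 2058) ((([9] : List Nat).map s).prod ^ i)) = [(⟨143, by decide⟩ : Fin 2058), (⟨813, by decide⟩ : Fin 2058), (⟨1868, by decide⟩ : Fin 2058), (⟨1861, by decide⟩ : Fin 2058)] := by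
    change [act ρ (⟨143, by decide⟩ : Fin 2058) ((([9] : List Nat).map s).prod ^ 0), act ρ (⟨143, by decide⟩ : Fin 2058) ((([9] : List Nat).map s).prod ^ 1), act ρ (⟨143, by decide⟩ : Fin 2058) ((([9] : List Nat).map s).prod ^ 2), act ρ (⟨143, by decide⟩ : Fin 2058) ((([9] : List Nat).map s).prod ^ 3)] = _
    rw [Fp0, Fp1, Fp2, Fp3]
  rw [e, ← Ftop]
  exact (Rej_step s tok ρ hρ (wordGroup s FG0) (wordGroup s FG1) ⟨143, by decide⟩ [(⟨813, by decide⟩ : Fin 2058), (⟨1868, by decide⟩ : Fin 2058), (⟨1861, by decide⟩ : Fin 2058)] _ FQ0 FG0 9 (by decide)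
    (fun w hw => mem_wordGroup s _ w hw) Fchain.1 Fchain.2.1 (Rej_step s tok ρ hρ (wordGroup s FG1) (wordGroup s FG2) ⟨813, by decide⟩ [(⟨1868, by decide⟩ : Fin 2058), (⟨1861, by decide⟩ : Fin 2058)] _ FQ1 FG1 9 (by decide)
    (fun w hw => mem_wordGroup s _ w hw) Fchain.2.2.1 Fchain.2.2.2.1 (Rej_step s tok ρ hρ (wordGroup s FG2) (wordGroup s FG3) ⟨1868, by decide⟩ [(⟨1861, by decide⟩ : Fin 2058)] _ FQ2 FG2 9 (by decide)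
    (fun w hw => mem_wordGroup s _ w hw) Fchain.2.2.2.2.1 Fchain.2.2.2.2.2.1 (Rej_step s tok ρ hρ (wordGroup s FG3) (wordGroup s ([] : List (List Nat))) ⟨1861, by decide⟩ [] _ FQ3 FG3 9 (by decide)
    (fun w hw => mem_wordGroup s _ w hw) Fchain.2.2.2.2.2.2.1 Fchain.2.2.2.2.2.2.2 (Rej_nil ρ _ _)))))

/-- word identities are checked on the base. -/
theorem weq (u v : List Nat) (hu : ∀ l ∈ u, l < 35) (hv : ∀ l ∈ v, l < 35)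
    (h : ∀ i ∈ ([143, 813, 1868, 1861] : List Nat), trN T' u i = trN T' v i) : (u.map s).prod = (v.map s).prod := by
  have key : ∀ b : Fin 2058, (b : Nat) ∈ ([143, 813, 1868, 1861] : List Nat) → act ρ b ((u.map s).prod * ((v.map s).prod)⁻¹) = b := by
    intro b hb
    have h1 : act ρ b (u.map s).prod = act ρ b (v.map s).prod := by
      apply Fin.ext
      rw [act_word s tok ρ hρ b u hu, act_word s tok ρ hρ b v hv]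
      exact h b hb
    rw [act_mul, h1, ← act_mul, mul_inv_cancel, act_one]
  exact mul_inv_eq_one.1 (Fbase _ (key ⟨143, by decide⟩ (by decide)) (key ⟨813, by decide⟩ (by decide)) (key ⟨1868, by decide⟩ (by decide)) (key ⟨1861, by decide⟩ (by decide)))


theorem weq1 (u : List Nat) (hu : ∀ l ∈ u, l < 35)
    (h : ∀ i ∈ ([143, 813, 1868, 1861] : List Nat), trN T' u i = i) : (u.map s).prod = 1 :=
  weq u [] hu (by simp) h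

def xw : List Nat := [7]
def fw : List Nat := [6, 5, 3, 2, 6, 3, 2, 1, 3, 2, 3, 2, 3, 4, 3, 1, 2, 3, 5, 2, 3, 2]
def Fw : List Nat := [9]
def yw : List Nat := [3, 4, 5, 3, 2, 1, 4, 3, 2, 5, 3, 6, 3, 2, 3, 1]
noncomputable def x : He := (xw.map s).prod
noncomputable def f : He := (fw.map s).prod
noncomputable def F : He := (Fw.map s).prod
noncomputable def y : He := (yw.map s).prod

theorem x_pow : x ^ 17 = 1 := by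
  unfold x
  rw [← wpow_prod]
  exact weq1 _ (by decide) (by decide +kernel)

theorem x_ne : x ≠ 1 := by
  intro h
  have h1 := act_word s tok ρ hρ ⟨457, by decide⟩ xw (by decide)
  have h2 : act ρ ⟨457, by decide⟩ (xw.map s).prod = (⟨457, by decide⟩ : Fin 2058) := by
    change act ρ ⟨457, by decide⟩ x = _
    rw [h, act_one]
  rw [h2] at h1
  exact absurd h1 (by decide +kernel)

instance prime_p : Fact (Nat.Prime 17) := ⟨by norm_num⟩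

theorem x_order : orderOf x = 17 := orderOf_eq_prime x_pow x_ne

theorem xf : x * f = f * x ^ 8 := by
  have h := weq (xw ++ fw) (fw ++ wpow xw 8) (by decide) (by decide) (by decide +kernel)
  rw [List.map_append, List.prod_append, List.map_append, List.prod_append, wpow_prod] at h
  exact h

theorem F_eq : F = f ^ 2 := by
  unfold F f
  rw [← wpow_prod]
  exact weq _ _ (by decide) (by decide) (by decide +kernel)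

theorem F_pow : F ^ 4 = 1 := by
  unfold F
  rw [← wpow_prod]
  exact weq1 _ (by decide) (by decide +kernel)

theorem Fy : F * y = y * F := by
  have h := weq (Fw ++ yw) (yw ++ Fw) (by decide) (by decide) (by decide +kernel)
  rw [List.map_append, List.prod_append, List.map_append, List.prod_append] at h
  exact h

theorem Cx (g : He) (h : x * g = g * x) : g ∈ Subgroup.zpowers x := by
  have hb : ∀ g : He, (∀ i < 4, act ρ (act ρ ⟨457, by decide⟩ (x ^ i)) g = act ρ ⟨457, by decide⟩ (x ^ i)) → g = 1 := by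
    intro g hg
    refine xbase g ?_ ?_ ?_ ?_

    · have := hg 0 (by decide)
      change act ρ (act ρ ⟨457, by decide⟩ ((([7] : List Nat).map s).prod ^ 0)) g = act ρ ⟨457, by decide⟩ ((([7] : List Nat).map s).prod ^ 0) at this
      rw [xp0] at this
      exact this
    · have := hg 1 (by decide)
      change act ρ (act ρ ⟨457, by decide⟩ ((([7] : List Nat).map s).prod ^ 1)) g = act ρ ⟨457, by decide⟩ ((([7] : List Nat).map s).prod ^ 1) at this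
      rw [xp1] at this
      exact this
    · have := hg 2 (by decide)
      change act ρ (act ρ ⟨457, by decide⟩ ((([7] : List Nat).map s).prod ^ 2)) g = act ρ ⟨457, by decide⟩ ((([7] : List Nat).map s).prod ^ 2) at this
      rw [xp2] at this
      exact this
    · have := hg 3 (by decide)
      change act ρ (act ρ ⟨457, by decide⟩ ((([7] : List Nat).map s).prod ^ 3)) g = act ρ ⟨457, by decide⟩ ((([7] : List Nat).map s).prod ^ 3) at this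
      rw [xp3] at this
      exact this
  have hen : ∀ g : He, x * g = g * x → ∃ a : Nat, ((act ρ ⟨457, by decide⟩ (g * x ^ a) : Fin 2058) : Nat) ∈ ([457, 837, 854, 1089] : List Nat) := by
    intro g hg
    exact conj_enum s tok ρ hρ xw xw (by decide) (by decide) ⟨457, by decide⟩ 4 4 xK0 xrej ([457, 837, 854, 1089] : List Nat) rfl
      (fun q hq => OT.ckCand_sound _ _ _ _ q (allR_zero _ _ xS q hq)) g hg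
  obtain ⟨w, hw, a, _, rfl⟩ := OT.cent_list ρ x 17 (by decide) x_pow ⟨457, by decide⟩ 4 hb ([457, 837, 854, 1089] : List Nat) hen
    ((List.range 17).map fun i => x ^ i) (by
    intro q hq
    have key : ∀ q ∈ ([457, 837, 854, 1089] : List Nat), ∃ i < 17, (trN T' xw)^[i] 457 = q := by decide +kernel
    obtain ⟨i, hi, h⟩ := key q hq
    refine ⟨x ^ i, List.mem_map.2 ⟨i, List.mem_range.2 hi, rfl⟩, by rw [← pow_succ', pow_succ], ?_⟩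
    unfold x
    rw [OT.iter_fin s tok ρ xw (by decide) hρ]
    exact h) g h
  obtain ⟨i, _, rfl⟩ := List.mem_map.1 hw
  exact mul_mem (Subgroup.pow_mem _ (Subgroup.mem_zpowers x) i) (Subgroup.pow_mem _ (Subgroup.mem_zpowers x) a)

/-- centraliser representatives. -/
def svW : List (Nat × List Nat) := [(2, [2, 1, 3, 2, 1, 3, 4, 5, 3, 2, 3, 2, 1, 3, 2, 3, 6, 5, 3, 2, 3, 5, 3, 4, 2, 1]), (18, [1, 2, 5, 3, 2, 1, 3, 2, 5, 3, 2, 6, 3, 2, 3, 6, 4, 1, 2, 3, 1, 2, 3, 0]), (32, [2, 3, 2, 5, 3, 2, 1, 3, 4, 3, 2, 3, 2, 1, 3, 2, 3, 6, 2, 3, 5, 6]), (37, [2, 5, 3, 6, 3, 2, 1, 3, 2, 3, 2, 4, 3, 6, 3, 4, 1, 2, 3, 5, 2, 3, 1, 2, 3, 6, 5, 0]), (63, [3, 2, 5, 3, 6, 3, 2, 1, 3, 2, 6, 3, 2, 5, 3, 1, 2, 3, 4, 3, 1, 2, 3, 6, 2, 1]), (70, [0, 1, 0, 6, 5, 3, 2, 4, 3, 2, 1, 3, 2, 3, 2, 5, 3, 4, 1, 2, 3, 6, 4, 2, 3]), (75, [0, 1,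 3, 6, 3, 2, 3, 2, 1, 5, 3, 2, 3, 2, 3, 6, 4, 1, 2, 3, 2, 3, 6, 1, 2, 3, 5, 2, 3]), (101, [0, 2, 5, 3, 2, 1, 3, 6, 3, 2, 3, 2, 6, 3, 4, 5, 1, 2, 3, 6, 2, 3, 5, 1, 2, 3, 1, 2, 1]), (120, [5, 3, 6, 3, 2, 3, 2, 1, 3, 2, 5, 3, 2, 3, 5, 2, 3, 1, 2, 3, 2, 3, 6, 3, 5]), (131, [2, 3, 2, 1, 3, 2, 1, 6, 3, 2, 1, 5, 3, 2, 3, 6, 5, 3, 4, 1, 2, 3, 5, 1, 2]), (143, []), (147, [1, 0, 2, 1, 5, 6, 3, 2, 1, 5, 3, 2, 6, 3, 5, 1, 2, 3, 2, 3, 1, 2, 3, 2, 3, 4, 3, 1]), (171, [1, 3, 6, 5, 3, 2, 1, 3, 2, 1, 3, 2, 5, 3, 6, 2, 3, 4, 3, 0, 1, 2, 3, 5, 4, 3]), (182, [0, 2, 3, 5, 6, 3, 2, 1, 4, 3, 2, 1, 3, 4, 5, 3, 2, 3, 4, 1, 2, 3, 6, 5, 3, 2, 0]), (190, [0, 1, 2, 1, 6, 5, 3, 2, 3, 2, 1, 6, 3, 2, 3, 5, 6, 3, 1, 2, 3, 6, 1, 2, 3, 4, 2, 0, 1]), (220, [6, 3, 2, 1, 0, 4, 3, 2, 1, 3, 5, 3, 2, 3, 5, 2, 3, 1, 2, 3, 5, 3, 4, 3, 1]), (222, [3,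 2, 6, 3, 5, 3, 2, 1, 3, 2, 3, 6, 5, 3, 4, 2, 3, 5, 1, 2, 3, 2, 3, 5, 3, 2, 1]), (226, [0, 1, 5, 3, 6, 5, 3, 2, 3, 2, 1, 6, 3, 2, 3, 6, 1, 2, 3, 1, 2, 3, 1, 2, 3, 6, 5, 0]), (266, [3, 2, 5, 3, 2, 3, 2, 1, 6, 3, 2, 3, 2, 5, 3, 2, 3, 6, 1, 2, 3, 2, 3, 5, 2, 3]), (313, [3, 2, 3, 2, 1, 5, 3, 2, 3, 2, 1, 6, 3, 2, 3, 6, 3, 5, 2, 3, 1, 2, 3, 2, 1]), (336, [1, 0, 5, 3, 2, 1, 3, 2, 6, 3, 2, 1, 3, 2, 5, 3, 2, 3, 6, 3, 5, 3, 1, 2, 3, 6, 3, 1, 2]), (497, [3, 2, 1, 3, 2, 6, 3, 2, 3, 2, 1, 4, 5, 3, 6, 2, 3, 4, 1, 2, 3, 6, 2, 3, 2]), (698, [0, 1, 3, 4, 3, 2, 3, 2, 3, 5, 3, 2, 1, 6, 3, 2, 3, 6, 5, 3, 2, 3, 1, 2, 3, 6, 5, 1]), (704, [3, 6, 3, 2, 3, 4, 3, 2, 1, 5, 3, 2, 3, 5, 6, 3, 1, 2, 3, 6, 4, 3, 1, 2, 3, 4, 1, 0]), (709, [0, 1, 2, 4, 6, 3, 2, 1, 5, 3, 2, 3, 2, 5, 3, 6, 2, 3, 1, 2, 3, 5, 4, 3, 2, 3, 5, 6, 0, 1]), (745,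 [0, 1, 0, 1, 2, 5, 3, 2, 1, 3, 2, 3, 2, 1, 5, 3, 2, 3, 6, 2, 3, 2, 3, 1, 2, 3, 5]), (772, [0, 1, 6, 3, 2, 3, 5, 6, 3, 2, 4, 3, 2, 1, 3, 2, 3, 2, 3, 6, 3, 2, 3, 1, 2, 3, 6, 5, 3, 6]), (805, [0, 2, 3, 5, 3, 2, 1, 3, 4, 3, 2, 1, 3, 2, 6, 3, 2, 3, 5, 4, 3, 1, 2, 3, 6, 5, 0]), (855, [6, 3, 2, 1, 4, 3, 2, 1, 5, 3, 4, 6, 3, 2, 3, 5, 3, 6, 3, 0, 1, 0]), (1091, [0, 2, 1, 0, 5, 6, 3, 2, 1, 5, 3, 2, 6, 3, 2, 3, 6, 1, 2, 3, 5, 0, 1, 2, 1]), (1276, [2, 1, 4, 3, 5, 3, 6, 3, 2, 1, 5, 3, 2, 3, 6, 4, 3, 5, 2, 3, 1, 2, 3, 6, 2, 3, 1]), (1740, [0, 2, 1, 3, 2, 6, 3, 2, 1, 5, 3, 2, 1, 4, 3, 2, 3, 1, 2, 3, 6, 3, 4, 3, 1, 2, 1])]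
def cands : List (List Nat) := [[2, 1, 3, 2, 1, 3, 4, 5, 3, 2, 3, 2, 1, 3, 2, 3, 6, 5, 3, 2, 3, 5, 3, 4, 2, 1], [2, 1, 3, 2, 1, 3, 4, 5, 3, 2, 3, 2, 1, 3, 2, 3, 6, 5, 3, 2, 3, 5, 3, 4, 2, 1, 9], [2, 1, 3, 2, 1, 3, 4, 5, 3, 2, 3, 2, 1, 3, 2, 3, 6, 5, 3, 2, 3, 5, 3, 4, 2, 1, 9, 9], [2, 1, 3, 2, 1, 3, 4, 5, 3, 2, 3, 2, 1, 3, 2, 3, 6, 5, 3, 2, 3, 5, 3, 4, 2, 1, 9, 9, 9], [1, 2, 5, 3, 2, 1, 3, 2, 5, 3, 2, 6, 3, 2, 3, 6, 4, 1, 2, 3, 1, 2, 3, 0], [1, 2, 5, 3, 2, 1, 3, 2, 5, 3, 2, 6, 3, 2, 3, 6, 4, 1, 2, 3, 1, 2, 3, 0, 9], [1, 2, 5, 3, 2, 1, 3, 2, 5, 3, 2, 6, 3, 2, 3, 6, 4, 1, 2, 3, 1, 2, 3, 0, 9, 9], [1, 2, 5, 3, 2, 1, 3, 2, 5, 3, 2, 6, 3, 2, 3, 6, 4, 1, 2, 3, 1, 2, 3, 0, 9, 9, 9], [2, 3, 2, 5, 3, 2, 1, 3, 4, 3, 2, 3, 2, 1, 3, 2, 3, 6, 2, 3, 5, 6], [2, 3, 2, 5, 3, 2, 1, 3, 4, 3, 2, 3, 2, 1, 3, 2, 3, 6, 2, 3, 5,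 6, 9], [2, 3, 2, 5, 3, 2, 1, 3, 4, 3, 2, 3, 2, 1, 3, 2, 3, 6, 2, 3, 5, 6, 9, 9], [2, 3, 2, 5, 3, 2, 1, 3, 4, 3, 2, 3, 2, 1, 3, 2, 3, 6, 2, 3, 5, 6, 9, 9, 9], [2, 5, 3, 6, 3, 2, 1, 3, 2, 3, 2, 4, 3, 6, 3, 4, 1, 2, 3, 5, 2, 3, 1, 2, 3, 6, 5, 0], [2, 5, 3, 6, 3, 2, 1, 3, 2, 3, 2, 4, 3, 6, 3, 4, 1, 2, 3, 5, 2, 3, 1, 2, 3, 6, 5, 0, 9], [2, 5, 3, 6, 3, 2, 1, 3, 2, 3, 2, 4, 3, 6, 3, 4, 1, 2, 3, 5, 2, 3, 1, 2, 3, 6, 5, 0, 9, 9], [2, 5, 3, 6, 3, 2, 1, 3, 2, 3, 2, 4, 3, 6, 3, 4, 1, 2, 3, 5, 2, 3, 1, 2, 3, 6, 5, 0, 9, 9, 9], [3, 2, 5, 3, 6, 3, 2, 1, 3, 2, 6, 3, 2, 5, 3, 1, 2, 3, 4, 3, 1, 2, 3, 6, 2, 1], [3, 2, 5, 3, 6, 3, 2, 1, 3, 2, 6, 3, 2, 5, 3, 1, 2, 3, 4, 3, 1, 2, 3, 6, 2, 1, 9], [3, 2, 5, 3, 6, 3, 2, 1, 3, 2, 6, 3, 2, 5, 3, 1, 2, 3, 4, 3, 1, 2, 3, 6, 2, 1, 9, 9], [3, 2, 5, 3, 6, 3, 2, 1, 3, 2, 6, 3, 2, 5, 3,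 1, 2, 3, 4, 3, 1, 2, 3, 6, 2, 1, 9, 9, 9], [0, 1, 0, 6, 5, 3, 2, 4, 3, 2, 1, 3, 2, 3, 2, 5, 3, 4, 1, 2, 3, 6, 4, 2, 3], [0, 1, 0, 6, 5, 3, 2, 4, 3, 2, 1, 3, 2, 3, 2, 5, 3, 4, 1, 2, 3, 6, 4, 2, 3, 9], [0, 1, 0, 6, 5, 3, 2, 4, 3, 2, 1, 3, 2, 3, 2, 5, 3, 4, 1, 2, 3, 6, 4, 2, 3, 9, 9], [0, 1, 0, 6, 5, 3, 2, 4, 3, 2, 1, 3, 2, 3, 2, 5, 3, 4, 1, 2, 3, 6, 4, 2, 3, 9, 9, 9], [0, 1, 3, 6, 3, 2, 3, 2, 1, 5, 3, 2, 3, 2, 3, 6, 4, 1, 2, 3, 2, 3, 6, 1, 2, 3, 5, 2, 3], [0, 1, 3, 6, 3, 2, 3, 2, 1, 5, 3, 2, 3, 2, 3, 6, 4, 1, 2, 3, 2, 3, 6, 1, 2, 3, 5, 2, 3, 9], [0, 1, 3, 6, 3, 2, 3, 2, 1, 5, 3, 2, 3, 2, 3, 6, 4, 1, 2, 3, 2, 3, 6, 1, 2, 3, 5, 2, 3, 9, 9], [0, 1, 3, 6, 3, 2, 3, 2, 1, 5, 3, 2, 3, 2, 3, 6, 4, 1, 2, 3, 2, 3, 6, 1, 2, 3, 5, 2, 3, 9, 9, 9], [0, 2, 5, 3, 2, 1, 3, 6, 3, 2, 3, 2, 6, 3, 4, 5, 1, 2, 3, 6, 2, 3, 5, 1,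 2, 3, 1, 2, 1], [0, 2, 5, 3, 2, 1, 3, 6, 3, 2, 3, 2, 6, 3, 4, 5, 1, 2, 3, 6, 2, 3, 5, 1, 2, 3, 1, 2, 1, 9], [0, 2, 5, 3, 2, 1, 3, 6, 3, 2, 3, 2, 6, 3, 4, 5, 1, 2, 3, 6, 2, 3, 5, 1, 2, 3, 1, 2, 1, 9, 9], [0, 2, 5, 3, 2, 1, 3, 6, 3, 2, 3, 2, 6, 3, 4, 5, 1, 2, 3, 6, 2, 3, 5, 1, 2, 3, 1, 2, 1, 9, 9, 9], [5, 3, 6, 3, 2, 3, 2, 1, 3, 2, 5, 3, 2, 3, 5, 2, 3, 1, 2, 3, 2, 3, 6, 3, 5], [5, 3, 6, 3, 2, 3, 2, 1, 3, 2, 5, 3, 2, 3, 5, 2, 3, 1, 2, 3, 2, 3, 6, 3, 5, 9], [5, 3, 6, 3, 2, 3, 2, 1, 3, 2, 5, 3, 2, 3, 5, 2, 3, 1, 2, 3, 2, 3, 6, 3, 5, 9, 9], [5, 3, 6, 3, 2, 3, 2, 1, 3, 2, 5, 3, 2, 3, 5, 2, 3, 1, 2, 3, 2, 3, 6, 3, 5, 9, 9, 9], [2, 3, 2, 1, 3, 2, 1, 6, 3, 2, 1, 5, 3, 2, 3, 6, 5, 3, 4, 1, 2, 3, 5, 1, 2], [2, 3, 2, 1, 3, 2, 1, 6, 3, 2, 1, 5, 3, 2, 3, 6, 5, 3, 4, 1, 2, 3, 5, 1, 2, 9], [2, 3, 2, 1, 3, 2, 1, 6, 3, 2,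 1, 5, 3, 2, 3, 6, 5, 3, 4, 1, 2, 3, 5, 1, 2, 9, 9], [2, 3, 2, 1, 3, 2, 1, 6, 3, 2, 1, 5, 3, 2, 3, 6, 5, 3, 4, 1, 2, 3, 5, 1, 2, 9, 9, 9], [], [9], [9, 9], [9, 9, 9], [1, 0, 2, 1, 5, 6, 3, 2, 1, 5, 3, 2, 6, 3, 5, 1, 2, 3, 2, 3, 1, 2, 3, 2, 3, 4, 3, 1], [1, 0, 2, 1, 5, 6, 3, 2, 1, 5, 3, 2, 6, 3, 5, 1, 2, 3, 2, 3, 1, 2, 3, 2, 3, 4, 3, 1, 9], [1, 0, 2, 1, 5, 6, 3, 2, 1, 5, 3, 2, 6, 3, 5, 1, 2, 3, 2, 3, 1, 2, 3, 2, 3, 4, 3, 1, 9, 9], [1, 0, 2, 1, 5, 6, 3, 2, 1, 5, 3, 2, 6, 3, 5, 1, 2, 3, 2, 3, 1, 2, 3, 2, 3, 4, 3, 1, 9, 9, 9], [1, 3, 6, 5, 3, 2, 1, 3, 2, 1, 3, 2, 5, 3, 6, 2, 3, 4, 3, 0, 1, 2, 3, 5, 4, 3], [1, 3, 6, 5, 3, 2, 1, 3, 2, 1, 3, 2, 5, 3, 6, 2, 3, 4, 3, 0, 1, 2, 3, 5, 4, 3, 9], [1, 3, 6, 5, 3, 2, 1, 3, 2, 1, 3, 2, 5, 3, 6, 2, 3, 4, 3, 0, 1, 2, 3, 5, 4, 3, 9, 9], [1, 3, 6, 5, 3, 2, 1, 3, 2, 1, 3, 2, 5,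 3, 6, 2, 3, 4, 3, 0, 1, 2, 3, 5, 4, 3, 9, 9, 9], [0, 2, 3, 5, 6, 3, 2, 1, 4, 3, 2, 1, 3, 4, 5, 3, 2, 3, 4, 1, 2, 3, 6, 5, 3, 2, 0], [0, 2, 3, 5, 6, 3, 2, 1, 4, 3, 2, 1, 3, 4, 5, 3, 2, 3, 4, 1, 2, 3, 6, 5, 3, 2, 0, 9], [0, 2, 3, 5, 6, 3, 2, 1, 4, 3, 2, 1, 3, 4, 5, 3, 2, 3, 4, 1, 2, 3, 6, 5, 3, 2, 0, 9, 9], [0, 2, 3, 5, 6, 3, 2, 1, 4, 3, 2, 1, 3, 4, 5, 3, 2, 3, 4, 1, 2, 3, 6, 5, 3, 2, 0, 9, 9, 9], [0, 1, 2, 1, 6, 5, 3, 2, 3, 2, 1, 6, 3, 2, 3, 5, 6, 3, 1, 2, 3, 6, 1, 2, 3, 4, 2, 0, 1], [0, 1, 2, 1, 6, 5, 3, 2, 3, 2, 1, 6, 3, 2, 3, 5, 6, 3, 1, 2, 3, 6, 1, 2, 3, 4, 2, 0, 1, 9], [0, 1, 2, 1, 6, 5, 3, 2, 3, 2, 1, 6, 3, 2, 3, 5, 6, 3, 1, 2, 3, 6, 1, 2, 3, 4, 2, 0, 1, 9, 9], [0, 1, 2, 1, 6, 5, 3, 2, 3, 2, 1, 6, 3, 2, 3, 5, 6, 3, 1, 2, 3, 6, 1, 2, 3, 4, 2, 0, 1, 9, 9, 9], [6, 3, 2, 1, 0, 4, 3, 2, 1, 3, 5, 3, 2, 3,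 5, 2, 3, 1, 2, 3, 5, 3, 4, 3, 1], [6, 3, 2, 1, 0, 4, 3, 2, 1, 3, 5, 3, 2, 3, 5, 2, 3, 1, 2, 3, 5, 3, 4, 3, 1, 9], [6, 3, 2, 1, 0, 4, 3, 2, 1, 3, 5, 3, 2, 3, 5, 2, 3, 1, 2, 3, 5, 3, 4, 3, 1, 9, 9], [6, 3, 2, 1, 0, 4, 3, 2, 1, 3, 5, 3, 2, 3, 5, 2, 3, 1, 2, 3, 5, 3, 4, 3, 1, 9, 9, 9], [3, 2, 6, 3, 5, 3, 2, 1, 3, 2, 3, 6, 5, 3, 4, 2, 3, 5, 1, 2, 3, 2, 3, 5, 3, 2, 1], [3, 2, 6, 3, 5, 3, 2, 1, 3, 2, 3, 6, 5, 3, 4, 2, 3, 5, 1, 2, 3, 2, 3, 5, 3, 2, 1, 9], [3, 2, 6, 3, 5, 3, 2, 1, 3, 2, 3, 6, 5, 3, 4, 2, 3, 5, 1, 2, 3, 2, 3, 5, 3, 2, 1, 9, 9], [3, 2, 6, 3, 5, 3, 2, 1, 3, 2, 3, 6, 5, 3, 4, 2, 3, 5, 1, 2, 3, 2, 3, 5, 3, 2, 1, 9, 9, 9], [0, 1, 5, 3, 6, 5, 3, 2, 3, 2, 1, 6, 3, 2, 3, 6, 1, 2, 3, 1, 2, 3, 1, 2, 3, 6, 5, 0], [0, 1, 5, 3, 6, 5, 3, 2, 3, 2, 1, 6, 3, 2, 3, 6, 1, 2, 3, 1, 2, 3, 1, 2, 3, 6, 5, 0, 9], [0, 1,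 5, 3, 6, 5, 3, 2, 3, 2, 1, 6, 3, 2, 3, 6, 1, 2, 3, 1, 2, 3, 1, 2, 3, 6, 5, 0, 9, 9], [0, 1, 5, 3, 6, 5, 3, 2, 3, 2, 1, 6, 3, 2, 3, 6, 1, 2, 3, 1, 2, 3, 1, 2, 3, 6, 5, 0, 9, 9, 9], [3, 2, 5, 3, 2, 3, 2, 1, 6, 3, 2, 3, 2, 5, 3, 2, 3, 6, 1, 2, 3, 2, 3, 5, 2, 3], [3, 2, 5, 3, 2, 3, 2, 1, 6, 3, 2, 3, 2, 5, 3, 2, 3, 6, 1, 2, 3, 2, 3, 5, 2, 3, 9], [3, 2, 5, 3, 2, 3, 2, 1, 6, 3, 2, 3, 2, 5, 3, 2, 3, 6, 1, 2, 3, 2, 3, 5, 2, 3, 9, 9], [3, 2, 5, 3, 2, 3, 2, 1, 6, 3, 2, 3, 2, 5, 3, 2, 3, 6, 1, 2, 3, 2, 3, 5, 2, 3, 9, 9, 9], [3, 2, 3, 2, 1, 5, 3, 2, 3, 2, 1, 6, 3, 2, 3, 6, 3, 5, 2, 3, 1, 2, 3, 2, 1], [3, 2, 3, 2, 1, 5, 3, 2, 3, 2, 1, 6, 3, 2, 3, 6, 3, 5, 2, 3, 1, 2, 3, 2, 1, 9], [3, 2, 3, 2, 1, 5, 3, 2, 3, 2, 1, 6, 3, 2, 3, 6, 3, 5, 2, 3, 1, 2, 3, 2, 1, 9, 9], [3, 2, 3, 2, 1, 5, 3, 2, 3, 2, 1, 6, 3, 2, 3, 6, 3, 5, 2,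 3, 1, 2, 3, 2, 1, 9, 9, 9], [1, 0, 5, 3, 2, 1, 3, 2, 6, 3, 2, 1, 3, 2, 5, 3, 2, 3, 6, 3, 5, 3, 1, 2, 3, 6, 3, 1, 2], [1, 0, 5, 3, 2, 1, 3, 2, 6, 3, 2, 1, 3, 2, 5, 3, 2, 3, 6, 3, 5, 3, 1, 2, 3, 6, 3, 1, 2, 9], [1, 0, 5, 3, 2, 1, 3, 2, 6, 3, 2, 1, 3, 2, 5, 3, 2, 3, 6, 3, 5, 3, 1, 2, 3, 6, 3, 1, 2, 9, 9], [1, 0, 5, 3, 2, 1, 3, 2, 6, 3, 2, 1, 3, 2, 5, 3, 2, 3, 6, 3, 5, 3, 1, 2, 3, 6, 3, 1, 2, 9, 9, 9], [3, 2, 1, 3, 2, 6, 3, 2, 3, 2, 1, 4, 5, 3, 6, 2, 3, 4, 1, 2, 3, 6, 2, 3, 2], [3, 2, 1, 3, 2, 6, 3, 2, 3, 2, 1, 4, 5, 3, 6, 2, 3, 4, 1, 2, 3, 6, 2, 3, 2, 9], [3, 2, 1, 3, 2, 6, 3, 2, 3, 2, 1, 4, 5, 3, 6, 2, 3, 4, 1, 2, 3, 6, 2, 3, 2, 9, 9], [3, 2, 1, 3, 2, 6, 3, 2, 3, 2, 1, 4, 5, 3, 6, 2, 3, 4, 1, 2, 3, 6, 2, 3, 2, 9, 9, 9], [0, 1, 3, 4, 3, 2, 3, 2, 3, 5, 3, 2, 1, 6, 3, 2, 3, 6, 5, 3, 2, 3, 1, 2, 3, 6, 5, 1], [0,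 1, 3, 4, 3, 2, 3, 2, 3, 5, 3, 2, 1, 6, 3, 2, 3, 6, 5, 3, 2, 3, 1, 2, 3, 6, 5, 1, 9], [0, 1, 3, 4, 3, 2, 3, 2, 3, 5, 3, 2, 1, 6, 3, 2, 3, 6, 5, 3, 2, 3, 1, 2, 3, 6, 5, 1, 9, 9], [0, 1, 3, 4, 3, 2, 3, 2, 3, 5, 3, 2, 1, 6, 3, 2, 3, 6, 5, 3, 2, 3, 1, 2, 3, 6, 5, 1, 9, 9, 9], [3, 6, 3, 2, 3, 4, 3, 2, 1, 5, 3, 2, 3, 5, 6, 3, 1, 2, 3, 6, 4, 3, 1, 2, 3, 4, 1, 0], [3, 6, 3, 2, 3, 4, 3, 2, 1, 5, 3, 2, 3, 5, 6, 3, 1, 2, 3, 6, 4, 3, 1, 2, 3, 4, 1, 0, 9], [3, 6, 3, 2, 3, 4, 3, 2, 1, 5, 3, 2, 3, 5, 6, 3, 1, 2, 3, 6, 4, 3, 1, 2, 3, 4, 1, 0, 9, 9], [3, 6, 3, 2, 3, 4, 3, 2, 1, 5, 3, 2, 3, 5, 6, 3, 1, 2, 3, 6, 4, 3, 1, 2, 3, 4, 1, 0, 9, 9, 9], [0, 1, 2, 4, 6, 3, 2, 1, 5, 3, 2, 3, 2, 5, 3, 6, 2, 3, 1, 2, 3, 5, 4, 3, 2, 3, 5, 6, 0, 1], [0, 1, 2, 4, 6, 3, 2, 1, 5, 3, 2, 3, 2, 5, 3, 6, 2, 3, 1, 2, 3, 5, 4, 3, 2, 3, 5, 6, 0, 1,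 9], [0, 1, 2, 4, 6, 3, 2, 1, 5, 3, 2, 3, 2, 5, 3, 6, 2, 3, 1, 2, 3, 5, 4, 3, 2, 3, 5, 6, 0, 1, 9, 9], [0, 1, 2, 4, 6, 3, 2, 1, 5, 3, 2, 3, 2, 5, 3, 6, 2, 3, 1, 2, 3, 5, 4, 3, 2, 3, 5, 6, 0, 1, 9, 9, 9], [0, 1, 0, 1, 2, 5, 3, 2, 1, 3, 2, 3, 2, 1, 5, 3, 2, 3, 6, 2, 3, 2, 3, 1, 2, 3, 5], [0, 1, 0, 1, 2, 5, 3, 2, 1, 3, 2, 3, 2, 1, 5, 3, 2, 3, 6, 2, 3, 2, 3, 1, 2, 3, 5, 9], [0, 1, 0, 1, 2, 5, 3, 2, 1, 3, 2, 3, 2, 1, 5, 3, 2, 3, 6, 2, 3, 2, 3, 1, 2, 3, 5, 9, 9], [0, 1, 0, 1, 2, 5, 3, 2, 1, 3, 2, 3, 2, 1, 5, 3, 2, 3, 6, 2, 3, 2, 3, 1, 2, 3, 5, 9, 9, 9], [0, 1, 6, 3, 2, 3, 5, 6, 3, 2, 4, 3, 2, 1, 3, 2, 3, 2, 3, 6, 3, 2, 3, 1, 2, 3, 6, 5, 3, 6], [0, 1, 6, 3, 2, 3, 5, 6, 3, 2, 4, 3, 2, 1, 3, 2, 3, 2, 3, 6, 3, 2, 3, 1, 2, 3, 6, 5, 3, 6, 9], [0, 1, 6, 3, 2, 3, 5, 6, 3, 2, 4, 3, 2, 1, 3, 2, 3, 2, 3, 6, 3, 2, 3, 1, 2,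 3, 6, 5, 3, 6, 9, 9], [0, 1, 6, 3, 2, 3, 5, 6, 3, 2, 4, 3, 2, 1, 3, 2, 3, 2, 3, 6, 3, 2, 3, 1, 2, 3, 6, 5, 3, 6, 9, 9, 9], [0, 2, 3, 5, 3, 2, 1, 3, 4, 3, 2, 1, 3, 2, 6, 3, 2, 3, 5, 4, 3, 1, 2, 3, 6, 5, 0], [0, 2, 3, 5, 3, 2, 1, 3, 4, 3, 2, 1, 3, 2, 6, 3, 2, 3, 5, 4, 3, 1, 2, 3, 6, 5, 0, 9], [0, 2, 3, 5, 3, 2, 1, 3, 4, 3, 2, 1, 3, 2, 6, 3, 2, 3, 5, 4, 3, 1, 2, 3, 6, 5, 0, 9, 9], [0, 2, 3, 5, 3, 2, 1, 3, 4, 3, 2, 1, 3, 2, 6, 3, 2, 3, 5, 4, 3, 1, 2, 3, 6, 5, 0, 9, 9, 9], [6, 3, 2, 1, 4, 3, 2, 1, 5, 3, 4, 6, 3, 2, 3, 5, 3, 6, 3, 0, 1, 0], [6, 3, 2, 1, 4, 3, 2, 1, 5, 3, 4, 6, 3, 2, 3, 5, 3, 6, 3, 0, 1, 0, 9], [6, 3, 2, 1, 4, 3, 2, 1, 5, 3, 4, 6, 3, 2, 3, 5, 3, 6, 3, 0, 1, 0, 9, 9], [6, 3, 2, 1, 4, 3, 2, 1, 5, 3, 4, 6, 3, 2, 3, 5, 3, 6, 3, 0, 1, 0, 9, 9, 9], [0, 2, 1, 0, 5, 6, 3, 2, 1, 5, 3, 2, 6, 3, 2, 3, 6,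 1, 2, 3, 5, 0, 1, 2, 1], [0, 2, 1, 0, 5, 6, 3, 2, 1, 5, 3, 2, 6, 3, 2, 3, 6, 1, 2, 3, 5, 0, 1, 2, 1, 9], [0, 2, 1, 0, 5, 6, 3, 2, 1, 5, 3, 2, 6, 3, 2, 3, 6, 1, 2, 3, 5, 0, 1, 2, 1, 9, 9], [0, 2, 1, 0, 5, 6, 3, 2, 1, 5, 3, 2, 6, 3, 2, 3, 6, 1, 2, 3, 5, 0, 1, 2, 1, 9, 9, 9], [2, 1, 4, 3, 5, 3, 6, 3, 2, 1, 5, 3, 2, 3, 6, 4, 3, 5, 2, 3, 1, 2, 3, 6, 2, 3, 1], [2, 1, 4, 3, 5, 3, 6, 3, 2, 1, 5, 3, 2, 3, 6, 4, 3, 5, 2, 3, 1, 2, 3, 6, 2, 3, 1, 9], [2, 1, 4, 3, 5, 3, 6, 3, 2, 1, 5, 3, 2, 3, 6, 4, 3, 5, 2, 3, 1, 2, 3, 6, 2, 3, 1, 9, 9], [2, 1, 4, 3, 5, 3, 6, 3, 2, 1, 5, 3, 2, 3, 6, 4, 3, 5, 2, 3, 1, 2, 3, 6, 2, 3, 1, 9, 9, 9], [0, 2, 1, 3, 2, 6, 3, 2, 1, 5, 3, 2, 1, 4, 3, 2, 3, 1, 2, 3, 6, 3, 4, 3, 1, 2, 1], [0, 2, 1, 3, 2, 6, 3, 2, 1, 5, 3, 2, 1, 4, 3, 2, 3, 1, 2, 3, 6, 3, 4, 3, 1, 2, 1, 9], [0, 2, 1, 3, 2, 6, 3,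 2, 1, 5, 3, 2, 1, 4, 3, 2, 3, 1, 2, 3, 6, 3, 4, 3, 1, 2, 1, 9, 9], [0, 2, 1, 3, 2, 6, 3, 2, 1, 5, 3, 2, 1, 4, 3, 2, 3, 1, 2, 3, 6, 3, 4, 3, 1, 2, 1, 9, 9, 9]]
def rels3 : List (List Nat × Nat) := [([2], 2), ([2, 0], 21), ([2, 0, 0], 6)]

def codes1 : List Nat := [1, 3, 1, 2, 1, 1, 1, 1, 1, 1, 1, 1, 1, 1, 1, 1, 1, 1, 1, 1, 1, 3, 1, 2, 1, 1, 1, 1, 1, 1, 1, 1, 2, 1, 2, 1, 1, 1, 1, 1, 2, 1, 2, 1, 1, 2, 1, 2, 1, 2, 1, 2, 2, 1, 2, 1, 1, 1, 1, 1, 1, 1, 1, 1, 1, 2, 1, 2, 1, 1, 1, 1, 2, 1, 2, 1, 1, 2, 1, 2, 1, 1, 1, 1, 1, 1, 1, 1, 1, 2, 1, 2, 1, 0, 1, 2, 1, 3, 1, 2, 1, 2, 1, 2, 2, 1, 2, 1, 1, 1, 1, 1, 1, 1, 1, 1, 1, 2, 1, 2, 1, 1, 1, 1, 1, 1, 1, 1]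
def good1 : List (List Nat) := [[3, 6, 3, 2, 3, 4, 3, 2, 1, 5, 3, 2, 3, 5, 6, 3, 1, 2, 3, 6, 4, 3, 1, 2, 3, 4, 1, 0, 9]]
theorem tests1 : OT.ckTests T' (wpow xw 1) fw rels3 good1 cands codes1 = true := by decide +kernel
def codes3 : List Nat := [1, 2, 1, 2, 1, 1, 1, 1, 1, 1, 1, 1, 1, 1, 1, 1, 1, 1, 1, 1, 1, 3, 1, 2, 1, 1, 1, 1, 1, 1, 1, 1, 2, 1, 2, 1, 1, 1, 1, 1, 2, 1, 2, 1, 1, 2, 1, 2, 1, 2, 1, 2, 2, 1, 3, 1, 1, 1, 1, 1, 1, 1, 1, 1, 1, 2, 1, 2, 1, 1, 1, 1, 2, 1, 2, 1, 1, 2, 1, 3, 1, 1, 1, 1, 1, 1, 1, 1, 1, 2, 1, 2, 1, 2, 1, 2, 1, 0, 1, 2, 1, 2, 1, 2, 2, 1, 2, 1, 1, 1, 1, 1, 1, 1, 1, 1, 1, 2, 1, 2, 1, 1, 1, 1, 1, 1, 1, 1]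
def good3 : List (List Nat) := [[0, 1, 2, 4, 6, 3, 2, 1, 5, 3, 2, 3, 2, 5, 3, 6, 2, 3, 1, 2, 3, 5, 4, 3, 2, 3, 5, 6, 0, 1, 9]]
theorem tests3 : OT.ckTests T' (wpow xw 3) fw rels3 good3 cands codes3 = true := by decide +kernel

theorem rels3_ok : ∀ q ∈ rels3, (((OT.sub3 xw fw yw q.1).map s).prod) ^ q.2 = 1 := by
  intro q hq
  rw [← wpow_prod]
  apply weq1
  · revert q hq; decide
  · revert q hq; decide +kernel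

theorem svW_ok : ∀ q ∈ svW, F * (q.2.map s).prod = (q.2.map s).prod * F ∧
    ((act ρ ⟨143, by decide⟩ (q.2.map s).prod : Fin 2058) : Nat) = q.1 := by
  intro q hq
  constructor
  · have h := weq (Fw ++ q.2) (q.2 ++ Fw) (by revert q hq; decide) (by revert q hq; decide) (by revert q hq; decide +kernel)
    rw [List.map_append, List.prod_append, List.map_append, List.prod_append] at h
    exact h
  · rw [act_word s tok ρ hρ _ _ (by revert q hq; decide)]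
    revert q hq; decide +kernel

theorem cent_cands (g : He) (h : F * g = g * F) : ∃ w ∈ cands, g = (w.map s).prod := by
  have hb : ∀ g : He, (∀ i < 4, act ρ (act ρ ⟨143, by decide⟩ (F ^ i)) g = act ρ ⟨143, by decide⟩ (F ^ i)) → g = 1 := by
    intro g hg
    refine Fbase g ?_ ?_ ?_ ?_
    · have := hg 0 (by decide)
      change act ρ (act ρ ⟨143, by decide⟩ ((([9] : List Nat).map s).prod ^ 0)) g = act ρ ⟨143, by decide⟩ ((([9] : List Nat).map s).prod ^ 0) at this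
      rw [Fp0] at this
      exact this
    · have := hg 1 (by decide)
      change act ρ (act ρ ⟨143, by decide⟩ ((([9] : List Nat).map s).prod ^ 1)) g = act ρ ⟨143, by decide⟩ ((([9] : List Nat).map s).prod ^ 1) at this
      rw [Fp1] at this
      exact this
    · have := hg 2 (by decide)
      change act ρ (act ρ ⟨143, by decide⟩ ((([9] : List Nat).map s).prod ^ 2)) g = act ρ ⟨143, by decide⟩ ((([9] : List Nat).map s).prod ^ 2) at this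
      rw [Fp2] at this
      exact this
    · have := hg 3 (by decide)
      change act ρ (act ρ ⟨143, by decide⟩ ((([9] : List Nat).map s).prod ^ 3)) g = act ρ ⟨143, by decide⟩ ((([9] : List Nat).map s).prod ^ 3) at this
      rw [Fp3] at this
      exact this
  have hen : ∀ g : He, F * g = g * F → ∃ a : Nat, ((act ρ ⟨143, by decide⟩ (g * F ^ a) : Fin 2058) : Nat) ∈ svW.map Prod.fst := by
    intro g hg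
    exact conj_enum s tok ρ hρ Fw Fw (by decide) (by decide) ⟨143, by decide⟩ 4 4 FK0 Frej (svW.map Prod.fst) rfl
      (fun q hq => OT.ckCand_sound _ _ _ _ q (allR_zero _ _ FS q hq)) g hg
  obtain ⟨w, hw, a, ha, rfl⟩ := OT.cent_list ρ F 4 (by decide) F_pow ⟨143, by decide⟩ 4 hb _ hen
    (svW.map fun q => (q.2.map s).prod) (by
    intro q hq
    obtain ⟨z, hz, rfl⟩ := List.mem_map.1 hq
    exact ⟨_, List.mem_map.2 ⟨z, hz, rfl⟩, svW_ok z hz⟩) g h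
  obtain ⟨z, hz, rfl⟩ := List.mem_map.1 hw
  refine ⟨z.2 ++ wpow Fw a, ?_, ?_⟩
  · have key : ∀ z ∈ svW, ∀ a < 4, z.2 ++ wpow Fw a ∈ cands := by decide +kernel
    exact key z hz a ha
  · rw [List.map_append, List.prod_append, wpow_prod]
    rfl


/-- symbols `x f y x⁻¹ f⁻¹ y⁻¹`. -/
def vals : Nat → List Nat := fun c => [xw, fw, yw, [8], fw.reverse, yw.reverse].getD c []

def lw : Nat → List Nat := fun l => [[0, 0, 0, 0, 2, 3, 2, 0, 0, 0, 0, 2, 3, 5, 1, 3, 3, 4, 5, 3, 5], [4, 3, 2, 3, 2, 3, 2, 4, 0, 2, 0, 0, 4, 5, 0, 4, 3, 5], [0, 4, 3, 2, 3, 2, 3, 2, 4, 0, 2, 0, 0, 4, 5, 0, 4, 3, 5, 3], [1, 0, 0, 2, 3, 2, 3, 3, 2, 4, 3, 2, 1, 3, 5, 3, 5, 1, 5, 3], [3, 3, 2, 3, 2, 3, 1, 2, 3, 2, 3, 2, 3, 3, 5, 3, 5], [0, 1, 2, 3, 1, 2, 3, 3, 3, 2, 0, 1, 3, 3, 3, 5, 0, 5, 1, 5], [1, 1, 3, 2, 3, 2, 0, 0, 2, 3, 2, 3, 1, 1]].getD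 l []

theorem lett : ∀ l < 7, ∀ i ∈ ([143, 813, 1868, 1861] : List Nat), trN T' [l] i = trN T' ((lw l).flatMap vals) i := by decide +kernel

theorem gen_top : Subgroup.closure ({x, f, y} : Set He) = ⊤ := by
  rw [eq_top_iff, ← Cfsg.Agent.H8.HeP.s_top]
  unfold letterGroup
  rw [Subgroup.closure_le]
  rintro _ ⟨l, hl, rfl⟩
  have hx : x ∈ Subgroup.closure ({x, f, y} : Set He) := Subgroup.subset_closure (Or.inl rfl)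
  have hf : f ∈ Subgroup.closure ({x, f, y} : Set He) := Subgroup.subset_closure (Or.inr (Or.inl rfl))
  have hy : y ∈ Subgroup.closure ({x, f, y} : Set He) := Subgroup.subset_closure (Or.inr (Or.inr rfl))
  have hv : ∀ c < 6, ((vals c).map s).prod ∈ Subgroup.closure ({x, f, y} : Set He) := by
    intro c hc
    interval_cases c
    · exact hx
    · exact hf
    · exact hy
    · have e : (([8] : List Nat).map s).prod = x⁻¹ := by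
        rw [eq_inv_iff_mul_eq_one]
        have := weq1 ([8] ++ xw) (by decide) (by decide +kernel)
        rw [List.map_append, List.prod_append] at this
        exact this
      change (([8] : List Nat).map s).prod ∈ _
      rw [e]; exact inv_mem hx
    · have e : ((fw.reverse).map s).prod = f⁻¹ := by
        rw [eq_inv_iff_mul_eq_one]
        have := weq1 (fw.reverse ++ fw) (by decide) (by decide +kernel)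
        rw [List.map_append, List.prod_append] at this
        exact this
      change ((fw.reverse).map s).prod ∈ _
      rw [e]; exact inv_mem hf
    · have e : ((yw.reverse).map s).prod = y⁻¹ := by
        rw [eq_inv_iff_mul_eq_one]
        have := weq1 (yw.reverse ++ yw) (by decide) (by decide +kernel)
        rw [List.map_append, List.prod_append] at this
        exact this
      change ((yw.reverse).map s).prod ∈ _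
      rw [e]; exact inv_mem hy
  have h1 : s l = (((lw l).flatMap vals).map s).prod := by
    have := weq [l] ((lw l).flatMap vals) (by intro k hk; rw [List.mem_singleton] at hk; rw [hk]; exact lt_trans hl (by decide)) (by
      have key : ∀ l < 7, ∀ k ∈ (lw l).flatMap vals, k < 35 := by decide
      exact key l hl) (lett l hl)
    rw [List.map_singleton, List.prod_singleton] at this
    exact this
  rw [SetLike.mem_coe, ← s_lt l hl, h1]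
  have hc : ∀ c ∈ lw l, c < 6 := by
    have key : ∀ l < 7, ∀ c ∈ lw l, c < 6 := by decide
    exact key l hl
  clear h1
  generalize lw l = u at hc
  induction u with
  | nil => simp
  | cons c u ih =>
    rw [List.flatMap_cons, List.map_append, List.prod_append]
    exact mul_mem (hv c (hc c List.mem_cons_self)) (ih fun c' hc' => hc c' (List.mem_cons_of_mem _ hc'))


theorem out_le : Finite (Cfsg.Out He) ∧ Nat.card (Cfsg.Out He) ≤ 2 := by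
  haveI : Finite He := Nat.finite_of_card_ne_zero (by rw [cardG]; decide)
  refine OT.out_card_le 17 x f y x_order (by rw [cardG]; decide) Cx 8 xf (by decide) [1, 3] ?_ gen_top
    ([(1, ((([3, 6, 3, 2, 3, 4, 3, 2, 1, 5, 3, 2, 3, 5, 6, 3, 1, 2, 3, 6, 4, 3, 1, 2, 3, 4, 1, 0, 9] : List Nat).map s).prod)), (3, ((([0, 1, 2, 4, 6, 3, 2, 1, 5, 3, 2, 3, 2, 5, 3, 6, 2, 3, 1, 2, 3, 5, 4, 3, 2, 3, 5, 6, 0, 1, 9] : List Nat).map s).prod))]) ?_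
  · have key : ∀ k : ZMod 17, k ≠ 0 → ∃ j ∈ ([1, 3] : List ℕ), ∃ i < 17, k = (j : ZMod 17) * (8 : ZMod 17) ^ i := by decide
    intro k hk
    obtain ⟨j, hj, i, _, h⟩ := key k hk
    exact ⟨j, hj, i, by push_cast; exact h⟩
  · intro j hj β hβx hβf
    have hβF : β F = F := by rw [F_eq, map_pow, hβf]
    have hc : F * β y = β y * F := by
      have := congrArg β Fy
      rw [map_mul, map_mul, hβF] at this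
      exact this
    obtain ⟨w, hw, hwy⟩ := cent_cands (β y) hc
    simp only [List.mem_cons, List.not_mem_nil, or_false] at hj
    rcases hj with rfl | rfl
    · have h := OT.good_of_tests s tok ρ hρ 1 xw fw yw (by decide) (by decide) rels3 rels3_ok good1 cands codes1 (by decide)
        (by decide) tests1 β hβx hβf w hw hwy
      unfold good1 at h
      simp only [List.mem_cons, List.not_mem_nil, or_false] at h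
      subst h
      rw [hwy]; simp
    · have h := OT.good_of_tests s tok ρ hρ 3 xw fw yw (by decide) (by decide) rels3 rels3_ok good3 cands codes3 (by decide)
        (by decide) tests3 β hβx hβf w hw hwy
      unfold good3 at h
      simp only [List.mem_cons, List.not_mem_nil, or_false] at h
      subst h
      rw [hwy]; simp

/-- images of the letters. -/
def aw : Nat → List Nat := fun l => [[0, 2, 3, 2, 5, 3, 2, 6, 3, 2, 1, 3, 2, 3, 5, 3, 4, 2, 3, 1, 2, 3, 6, 2, 3, 5, 2, 3, 2], [0, 2, 3, 2, 1, 3, 6, 3, 2, 4, 3, 2, 1, 3, 2, 6, 3, 5, 1, 2, 3, 2, 3, 0], [0, 2, 5, 3, 2, 6, 3, 5, 6, 3, 2, 5, 3, 6], [0, 1, 2, 3, 6, 3, 2, 1, 0, 3, 2, 1, 3, 2, 5, 3, 1, 2, 3, 4, 2, 3, 1, 2, 3, 6, 4, 2], [2, 1, 3, 5, 3, 6, 3, 2, 3, 2, 1, 3, 2, 4, 3, 2, 3, 1, 2, 3, 6, 2, 3, 5, 3, 1, 2], [0, 2, 4, 6, 3, 2, 1, 3, 4, 6, 3, 2, 3, 2,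 3, 6, 1, 2, 3, 5, 2, 3, 2, 3, 6, 4], [0, 1, 2, 3, 4, 5, 3, 2, 1, 4, 3, 2, 3, 2, 4, 3, 6, 3, 1, 2, 3, 1, 2, 3, 6, 3, 4, 0, 1, 2, 3, 2]].getD l []

noncomputable def t : Nat → He := fun l => ((aw l).map s).prod

theorem t_sq : ∀ l, t l * t l = 1 := by
  intro l
  by_cases hl : l < 7
  · unfold t
    have h1 := weq1 (aw l ++ aw l) (by
      have key : ∀ l < 7, ∀ k ∈ aw l ++ aw l, k < 35 := by decide
      exact key l hl) (by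
      have key : ∀ l < 7, ∀ i ∈ ([143, 813, 1868, 1861] : List Nat), trN T' (aw l ++ aw l) i = i := by decide +kernel
      exact key l hl)
    rw [List.map_append, List.prod_append] at h1
    exact h1
  · have : aw l = [] := List.getD_eq_default _ _ (by
      have h2 : ([[0, 2, 3, 2, 5, 3, 2, 6, 3, 2, 1, 3, 2, 3, 5, 3, 4, 2, 3, 1, 2, 3, 6, 2, 3, 5, 2, 3, 2], [0, 2, 3, 2, 1, 3, 6, 3, 2, 4, 3, 2, 1, 3, 2, 6, 3, 5, 1, 2, 3, 2, 3, 0], [0, 2, 5, 3, 2, 6, 3, 5, 6, 3, 2, 5, 3, 6], [0, 1, 2, 3, 6, 3, 2, 1, 0, 3, 2, 1, 3, 2, 5, 3, 1, 2, 3, 4, 2, 3, 1, 2, 3, 6, 4, 2], [2, 1, 3, 5, 3, 6, 3, 2, 3, 2, 1, 3, 2, 4, 3, 2, 3, 1, 2, 3, 6, 2, 3, 5, 3, 1, 2], [0, 2, 4, 6, 3, 2, 1, 3, 4, 6, 3, 2, 3, 2, 3, 6, 1, 2, 3, 5, 2, 3, 2, 3, 6, 4], [0, 1, 2, 3, 4, 5, 3, 2, 1, 4, 3, 2, 3, 2, 4, 3, 6, 3, 1, 2, 3, 1, 2, 3, 6, 3, 4, 0, 1,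 2, 3, 2]] : List (List Nat)).length = 7 := by decide
      omega)
    unfold t
    rw [this]; simp

theorem t_word (w : List Nat) : (w.map t).prod = ((w.flatMap aw).map s).prod := by
  induction w with
  | nil => rfl
  | cons l w ih => rw [List.map_cons, List.prod_cons, ih, List.flatMap_cons, List.map_append, List.prod_append]; rfl

theorem t_rel : ∀ q ∈ Cfsg.Agent.H8.Het.relsP, ((q.1.map t).prod) ^ q.2 = 1 := by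
  intro q hq
  rw [t_word, ← wpow_prod]
  apply weq1
  · have key : ∀ q ∈ Cfsg.Agent.H8.Het.relsP, ∀ k ∈ wpow (q.1.flatMap aw) q.2, k < 35 := by decide +kernel
    exact key q hq
  · have key : ∀ q ∈ Cfsg.Agent.H8.Het.relsP, ∀ i ∈ ([143, 813, 1868, 1861] : List Nat), trN T' (wpow (q.1.flatMap aw) q.2) i = i := by decide +kernel
    exact key q hq

noncomputable def φ : He →* He := Cfsg.Agent.H8.HeP.homOf t t_sq t_rel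

theorem φ_word (w : List Nat) (hw : ∀ l ∈ w, l < 7) : φ ((w.map s).prod) = ((w.flatMap aw).map s).prod := by
  rw [← t_word, map_list_prod, List.map_map]
  congr 1
  apply List.map_congr_left
  intro l hl
  change φ (s l) = t l
  rw [s_lt l (hw l hl)]
  exact Cfsg.Agent.H8.HeP.homOf_s t t_sq t_rel l (hw l hl)

theorem x_base : x = (([1, 2, 3, 5] : List Nat).map s).prod := weq _ _ (by decide) (by decide) (by decide +kernel)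

theorem φx : φ x = x ^ 3 := by
  rw [x_base, φ_word _ (by decide), ← x_base]
  unfold x
  rw [← wpow_prod]
  exact weq _ _ (by decide +kernel) (by decide) (by decide +kernel)

theorem φf : φ f = f := by
  unfold f
  rw [φ_word _ (by decide)]
  exact weq _ _ (by decide +kernel) (by decide) (by decide +kernel)

theorem φ_bij : Function.Bijective φ := by
  haveI : Finite He := Nat.finite_of_card_ne_zero (by rw [cardG]; decide)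
  have h1 : Function.Injective φ := injective_of_simple Cfsg.Agent.H8.HeP.simple φ x (by
    rw [φx]
    intro h
    have h2 := orderOf_dvd_of_pow_eq_one h
    rw [x_order] at h2
    exact absurd h2 (by decide))
  exact ⟨h1, Finite.surjective_of_injective h1⟩

noncomputable def α : MulAut He := MulEquiv.ofBijective φ φ_bij


theorem α_outer (g : He) : α ≠ MulAut.conj g := by
  intro h
  have hx : g * x * g⁻¹ = x ^ 3 := by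
    have := DFunLike.congr_fun h x
    have e : α x = φ x := rfl
    rw [e, φx] at this
    exact this.symm
  have h1 : x * g⁻¹ = g⁻¹ * x ^ 3 := by rw [← hx]; group
  have h2 : x ^ 3 = ((wpow xw 3).map s).prod := by rw [wpow_prod]; rfl
  rw [h2] at h1
  obtain ⟨a, ha⟩ := conj_enum s tok ρ hρ xw (wpow xw 3) (by decide) (by decide) ⟨457, by decide⟩ 4 4 xK0 xrej [] rfl
      (fun q hq => OT.ckCand_sound _ _ _ _ q (allR_zero _ _ xN q hq)) g⁻¹ h1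
  simp at ha


theorem out_eq : Nat.card (Cfsg.Out He) = 2 := by
  have h1 := out_le
  have h2 := OT.one_lt_out h1.1 α α_outer
  omega


end Cfsg.Agent.H8.HeO
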