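import Cfsg.Agent.H8.HePres
import Cfsg.Agent.H8.WordTop
import Cfsg.Agent.H8.RelIso
import Cfsg.Agent.H8.T.Sp4tB
import Cfsg.Agent.H8.T.Sp4tL
import Cfsg.Agent.H5.SpOrder

/-!
# `Sp₄(4):2` in the presented Held group
-/

set_option autoImplicit false
set_option linter.all false
set_option maxRecDepth 100000
set_option maxHeartbeats 400000

namespace Cfsg.Agent.H8

section
variable {H S : Type*} [Group H] [Group S] (R : H → S → Prop)
  (hone : R 1 1) (hmul : ∀ h M h' M', R h M → R h' M' → R (h * h') (M * M'))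
  (hinv : ∀ h M, R h M → R h⁻¹ M⁻¹) (h1 : ∀ M, R 1 M → M = 1)

include hone hmul hinv h1

theorem rel_hom1 (tot : ∀ h, ∃ M, R h M) : ∃ f : H →* S, ∀ h, R h (f h) := by
  choose F hF using tot
  have key : ∀ h M M', R h M → R h M' → M = M' := by
    intro h M M' hM hM'
    have h2 := hmul _ _ _ _ (hinv _ _ hM) hM'
    rw [inv_mul_cancel] at h2
    exact inv_mul_eq_one.1 (h1 _ h2)
  exact ⟨⟨⟨F, key _ _ _ (hF 1) hone⟩, fun a b => key _ _ _ (hF _) (hmul _ _ _ _ (hF a) (hF b))⟩, hF⟩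

/-- index two subgroups from a relation. -/
theorem index_two_iso [Finite H] [Finite S] (h2 : ∀ h, R h 1 → h = 1) (t : H) (htt : t * t = 1) (τ : S → S)
    (ht : ∀ h M, R h M → R (t * h * t⁻¹) (τ M)) (T : Set H) (hT : Subgroup.closure T = ⊤)
    (hT' : ∀ g ∈ T, g = t ∨ ∃ M, R g M) (hc : Nat.card H = 2 * Nat.card S) :
    ∃ N : Subgroup H, N.Normal ∧ N.index = 2 ∧ Nonempty (N ≃* S) := by
  have key : ∀ h M M', R h M → R h M' → M = M' := by
    intro h M M' hM hM'
    have h2 := hmul _ _ _ _ (hinv _ _ hM) hM'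
    rw [inv_mul_cancel] at h2
    exact inv_mul_eq_one.1 (h1 _ h2)
  let N : Subgroup H := 
    { carrier := {h | ∃ M, R h M}
      one_mem' := ⟨1, hone⟩
      mul_mem' := by rintro a b ⟨M, hM⟩ ⟨M', hM'⟩; exact ⟨_, hmul _ _ _ _ hM hM'⟩
      inv_mem' := by rintro a ⟨M, hM⟩; exact ⟨_, hinv _ _ hM⟩ }
  have hN : ∀ h, h ∈ N ↔ ∃ M, R h M := fun h => Iff.rfl
  obtain ⟨f, hf⟩ := rel_hom1 (H := N) (S := S) (fun h M => R h M) hone (fun h M h' M' a b => hmul _ _ _ _ a b)
    (fun h M a => hinv _ _ a) (fun M a => h1 M a) (fun h => h.2)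
  have hinj : Function.Injective f := by
    rw [injective_iff_map_eq_one]
    intro a ha
    have h3 := hf a
    rw [ha] at h3
    exact Subtype.ext (h2 _ h3)
  have hcN : Nat.card N ≤ Nat.card S := Nat.card_le_card_of_injective f hinj
  have hti : t⁻¹ = t := (eq_inv_of_mul_eq_one_left htt).symm
  have hconj : ∀ n ∈ N, t * n * t ∈ N := by
    rintro n ⟨M, hM⟩
    have := ht _ _ hM
    rw [hti] at this
    exact ⟨_, this⟩
  have hcov : ∀ g : H, g ∈ N ∨ t * g ∈ N := by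
    intro g
    have hg : g ∈ Subgroup.closure T := by rw [hT]; exact Subgroup.mem_top g
    refine Subgroup.closure_induction_left (p := fun g _ => g ∈ N ∨ t * g ∈ N) (Or.inl N.one_mem) ?_ ?_ hg
    · intro x hx y _ hy
      rcases hT' x hx with rfl | hM
      · rcases hy with hy | hy
        · right; rw [← mul_assoc, htt, one_mul]; exact hy
        · left; exact hy
      · have hx' : x ∈ N := hM
        rcases hy with hy | hy
        · left; exact N.mul_mem hx' hy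
        · right
          have e : t * (x * y) = (t * x * t) * (t * y) := by
            have : t * x * t * (t * y) = t * x * (t * t) * y := by simp only [mul_assoc]
            rw [this, htt, mul_one, mul_assoc]
          rw [e]
          exact N.mul_mem (hconj _ hx') hy
    · intro x hx y _ hy
      rcases hT' x hx with rfl | hM
      · rw [hti]
        rcases hy with hy | hy
        · right; rw [← mul_assoc, htt, one_mul]; exact hy
        · left; exact hy
      · have hx' : x⁻¹ ∈ N := N.inv_mem hM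
        rcases hy with hy | hy
        · left; exact N.mul_mem hx' hy
        · right
          have e : t * (x⁻¹ * y) = (t * x⁻¹ * t) * (t * y) := by
            have : t * x⁻¹ * t * (t * y) = t * x⁻¹ * (t * t) * y := by simp only [mul_assoc]
            rw [this, htt, mul_one, mul_assoc]
          rw [e]
          exact N.mul_mem (hconj _ hx') hy
  have hidx : N.index ≤ 2 := by
    have hsurj : Function.Surjective (fun b : Bool => (QuotientGroup.mk (if b then t else 1) : H ⧸ N)) := by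
      intro q
      obtain ⟨g, rfl⟩ := QuotientGroup.mk_surjective q
      rcases hcov g⁻¹ with h | h
      · refine ⟨false, ?_⟩
        show (QuotientGroup.mk 1 : H ⧸ N) = QuotientGroup.mk g
        rw [QuotientGroup.eq]
        simpa using N.inv_mem h
      · refine ⟨true, ?_⟩
        show (QuotientGroup.mk t : H ⧸ N) = QuotientGroup.mk g
        rw [QuotientGroup.eq]
        have := N.inv_mem h
        rw [mul_inv_rev, inv_inv, hti] at this
        have h5 := hconj _ this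
        rw [hti]
        have e : t * (g * t) * t = t * g * (t * t) := by simp only [mul_assoc]
        rw [e, htt, mul_one] at h5
        exact h5
    have := Nat.card_le_card_of_surjective _ hsurj
    simpa [Subgroup.index] using this
  have hmulc : Nat.card N * N.index = Nat.card H := Subgroup.card_mul_index N
  have hS0 : 0 < Nat.card S := Nat.card_pos
  have hN0 : 0 < Nat.card N := Nat.card_pos
  have hi2 : N.index = 2 := by
    rcases Nat.lt_or_ge N.index 2 with h | h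
    · exfalso
      have : Nat.card N * N.index ≤ Nat.card S * 1 := Nat.mul_le_mul hcN (by omega)
      omega
    · omega
  have hcard : Nat.card N = Nat.card S := by
    rw [hi2] at hmulc; omega
  refine ⟨N, Subgroup.normal_of_index_eq_two hi2, hi2, ?_⟩
  have hb : Function.Bijective f := hinj.bijective_of_nat_card_le hcard.ge
  exact ⟨MulEquiv.ofBijective f hb⟩

end

namespace HeSp

open Cfsg.Spor HeP

/-- the point stabiliser, by involutive generators. -/
abbrev HH : Subgroup He := wordGroup s Sp4t.gw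

theorem gw_eq : Sp4t.gw = [[0], [2], [3], [4], [5], [0, 1, 0, 1],
    wpow [1, 2, 3, 4] 7 ++ [0] ++ (wpow [1, 2, 3, 4] 7).reverse] := by decide

theorem clG_eq : Het.clG = [[0], [2], [3], [4], [5], [0, 1, 0, 1], wpow [1, 2, 3, 4] 7] := by decide

theorem HH_le : HH ≤ wordGroup s Het.clG := by
  unfold HH wordGroup
  rw [Subgroup.closure_le]
  rintro _ ⟨w, hw, rfl⟩
  rw [gw_eq] at hw
  simp only [List.mem_cons, List.not_mem_nil, or_false] at hw
  have hm : ∀ w ∈ Het.clG, (w.map s).prod ∈ wordGroup s Het.clG := fun w hw => mem_wordGroup s _ w hw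
  rw [clG_eq] at hm
  rcases hw with rfl | rfl | rfl | rfl | rfl | rfl | rfl
  · exact (clG_eq ▸ hm _ (by simp))
  · exact (clG_eq ▸ hm _ (by simp))
  · exact (clG_eq ▸ hm _ (by simp))
  · exact (clG_eq ▸ hm _ (by simp))
  · exact (clG_eq ▸ hm _ (by simp))
  · exact (clG_eq ▸ hm _ (by simp))
  · have hy : (((wpow [1, 2, 3, 4] 7).map s).prod) ∈ wordGroup s Het.clG := by
      exact (clG_eq ▸ hm _ (by simp))
    have ha : ((([0] : List Nat).map s).prod) ∈ wordGroup s Het.clG := by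
      exact (clG_eq ▸ hm _ (by simp))
    have e := word_inv s s_inv (wpow [1, 2, 3, 4] 7)
    rw [SetLike.mem_coe, List.map_append, List.map_append, List.prod_append, List.prod_append, ← e]
    exact mul_mem (mul_mem hy ha) (inv_mem hy)

/-- the block of a point. -/
noncomputable def b (i : Fin 2058) : Fin 85 := ⟨Sp4t.bl i, Nat.le_of_ble_eq_true (allR_zero _ _ Sp4t.kbl i i.2)⟩

/-- a representative. -/
theorem b_surj (p : Fin 85) : ∃ i : Fin 2058, Het.clC i = 2 ∧ b i = p := by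
  obtain ⟨h1, h2, h3⟩ := ckRoot_sound _ _ _ _ (allR_zero _ _ Sp4t.krt p p.2)
  exact ⟨⟨Sp4t.rt p, h3⟩, h1, Fin.ext h2⟩

theorem cls_inv (h : HH) (i : Fin 2058) : Het.clC (ρ₂ (h : He) i) = Het.clC i :=
  cls_invariant s Het.tok ρ₂ hρ₂ Het.clC Het.clQ Het.clG Het.clR (by decide) Het.clOK h (HH_le h.2) i

/-- the block relation. -/
def RP (h : HH) (σ : Equiv.Perm (Fin 85)) : Prop := ∀ i : Fin 2058, Het.clC i = 2 → b (ρ₂ (h : He) i) = σ (b i)

theorem RP_one : RP 1 1 := by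
  intro i hi
  show b (ρ₂ (1 : He) i) = _
  rw [map_one]; rfl

theorem RP_mul (h : HH) (σ) (h' : HH) (σ') (H1 : RP h σ) (H2 : RP h' σ') : RP (h * h') (σ * σ') := by
  intro i hi
  show b (ρ₂ ((h : He) * (h' : He)) i) = _
  rw [map_mul, Equiv.Perm.mul_apply, H1 _ (by rw [cls_inv]; exact hi), H2 i hi]
  rfl

theorem RP_inv (h : HH) (σ) (H1 : RP h σ) : RP h⁻¹ σ⁻¹ := by
  intro i hi
  have h2 := H1 (ρ₂ ((h⁻¹ : HH) : He) i) (by rw [cls_inv]; exact hi)
  rw [Equiv.Perm.eq_inv_iff_eq, ← h2, ← Equiv.Perm.mul_apply, ← map_mul]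
  rw [Subgroup.coe_inv, mul_inv_cancel, map_one]; rfl

theorem RP_uniq (σ) (H1 : RP 1 σ) : σ = 1 := by
  ext p
  obtain ⟨i, hi, rfl⟩ := b_surj p
  have := H1 i hi
  rw [← this]
  show ((b (ρ₂ (1 : He) i) : Fin 85) : Nat) = _
  rw [map_one]; rfl

theorem trN_of (w : List Nat) (hw : ∀ l ∈ w, l < 7) (i : Fin 2058) :
    ((ρ₂ (w.map s).prod i : Fin 2058) : Nat) = trN Het.T w.reverse i := by
  have h := rho_word s Het.tok ρ₂ hρ₂ w.reverse (by intro l hl; exact hw l (List.mem_reverse.1 hl)) i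
  rw [← h, ← map_inv, word_inv s s_inv, List.reverse_reverse]

theorem RP_of (k : Nat) (hk : k < 7) (w : List Nat) (hw : ∀ l ∈ w, l < 7) (P : Nat → Nat) (hP : Sp4t.T k = P)
    (h : allR (ckBl Het.clC Sp4t.bl P (w.reverse.map Het.T)) 0 2058 = true)
    (x : HH) (hx : (x : He) = (w.map s).prod) : RP x (permL Sp4t.tok k) := by
  intro i hi
  apply Fin.ext
  rw [permL_apply Sp4t.tok k hk, hx]
  show Sp4t.bl (ρ₂ (w.map s).prod i : Fin 2058) = Sp4t.T k (Sp4t.bl i)
  rw [trN_of w hw, hP]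
  exact ckBl_sound _ _ _ _ _ _ (allR_zero _ _ h i i.2) hi

theorem RP_gen (k : Nat) (hk : k < 7) (x : HH) (hx : (x : He) = ((getL [] Sp4t.gw k).map s).prod) :
    RP x (permL Sp4t.tok k) := by
  interval_cases k
  · exact RP_of 0 (by decide) [0] (by decide) Sp4t.T0 rfl Sp4t.kb0 x hx
  · exact RP_of 1 (by decide) [2] (by decide) Sp4t.T1 rfl Sp4t.kb1 x hx
  · exact RP_of 2 (by decide) [3] (by decide) Sp4t.T2 rfl Sp4t.kb2 x hx
  · exact RP_of 3 (by decide) [4] (by decide) Sp4t.T3 rfl Sp4t.kb3 x hx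
  · exact RP_of 4 (by decide) [5] (by decide) Sp4t.T4 rfl Sp4t.kb4 x hx
  · exact RP_of 5 (by decide) [0, 1, 0, 1] (by decide) Sp4t.T5 rfl Sp4t.kb5 x hx
  · exact RP_of 6 (by decide) [1, 2, 3, 4, 1, 2, 3, 4, 1, 2, 3, 4, 1, 2, 3, 4, 1, 2, 3, 4, 1, 2, 3, 4, 1, 2, 3, 4, 0, 4, 3, 2, 1, 4, 3, 2, 1, 4, 3, 2, 1, 4, 3, 2, 1, 4, 3, 2, 1, 4, 3, 2, 1, 4, 3, 2, 1] (by decide) Sp4t.T6 rfl Sp4t.kb6 x hx

theorem gw_mem (k : Nat) : ((getL [] Sp4t.gw k).map s).prod ∈ HH := by
  rcases getL_mem_or ([] : List Nat) Sp4t.gw k with h | h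
  · rw [h]; exact one_mem _
  · exact mem_wordGroup s _ _ h

/-- the generators. -/
noncomputable def sH (k : Nat) : HH := ⟨((getL [] Sp4t.gw k).map s).prod, gw_mem k⟩

theorem gw_idx : ∀ w ∈ Sp4t.gw, ∃ k, k < 7 ∧ getL [] Sp4t.gw k = w := by
  intro w hw
  unfold Sp4t.gw at hw
  simp only [List.mem_cons, List.not_mem_nil, or_false] at hw
  rcases hw with rfl | rfl | rfl | rfl | rfl | rfl | rfl
  · exact ⟨0, by decide, rfl⟩
  · exact ⟨1, by decide, rfl⟩
  · exact ⟨2, by decide, rfl⟩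
  · exact ⟨3, by decide, rfl⟩
  · exact ⟨4, by decide, rfl⟩
  · exact ⟨5, by decide, rfl⟩
  · exact ⟨6, by decide, rfl⟩

theorem top_gen : Subgroup.closure {g : HH | ∃ k, k < 7 ∧ g = sH k} = ⊤ := by
  apply wordGroup_sub_top'
  intro w hw x hx
  obtain ⟨k, hk, rfl⟩ := gw_idx w hw
  exact Subgroup.subset_closure ⟨k, hk, Subtype.ext hx⟩

theorem exP : ∃ f : HH →* Equiv.Perm (Fin 85), ∀ h, RP h (f h) := by
  apply rel_hom1 RP RP_one RP_mul RP_inv RP_uniq
  apply rel_total RP RP_one RP_mul RP_inv _ top_gen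
  rintro _ ⟨k, hk, rfl⟩
  exact ⟨_, RP_gen k hk _ rfl⟩

noncomputable def πP : HH →* Equiv.Perm (Fin 85) := exP.choose

theorem πP_spec (h : HH) : RP h (πP h) := exP.choose_spec h

theorem RP_uniq2 (h : HH) (σ σ') (h1 : RP h σ) (h2 : RP h σ') : σ = σ' := by
  have h3 := RP_mul _ _ _ _ (RP_inv _ _ h1) h2
  rw [inv_mul_cancel] at h3
  exact inv_mul_eq_one.1 (RP_uniq _ h3)

theorem πP_gen (k : Nat) (hk : k < 7) : πP (sH k) = permL Sp4t.tok k :=
  RP_uniq2 _ _ _ (πP_spec _) (RP_gen k hk _ rfl)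

theorem πP_gen' (k : Nat) : πP (sH k) = permL Sp4t.tok k := by
  rcases Nat.lt_or_ge k 7 with h | h
  · exact πP_gen k h
  · have h1 : sH k = 1 := by
      match k, h with
      | (k + 7), _ => rfl
    rw [h1, map_one, permL_ge Sp4t.tok k (by omega)]

theorem lowerP : 1958400 ≤ Nat.card (wordGroup (permL Sp4t.tok) Sp4t.chG0) := by
  have h1 := Sp4t.ch_lower (permL Sp4t.tok) (MonoidHom.id _) (fun l _ => rfl)
  omega

theorem card_H : Nat.card (wordGroup s Het.clG) = 1958400 := by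
  have h1 := Subgroup.card_mul_index (wordGroup s Het.clG)
  rw [index_stab.1, card_he] at h1
  omega

theorem card_HH_le : Nat.card HH ≤ 1958400 := by
  rw [← card_H]
  exact Nat.card_le_card_of_injective _ (Subgroup.inclusion_injective HH_le)

theorem πP_injective : Function.Injective πP := by
  apply injective_of_card πP (wordGroup (permL Sp4t.tok) Sp4t.chG0)
  · rw [← RG.map_wordGroup πP sH _ πP_gen' Sp4t.chG0]
    rintro _ ⟨x, _, rfl⟩
    exact ⟨x, rfl⟩
  · exact le_trans card_HH_le lowerP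
  · infer_instance

theorem card_HH : Nat.card HH = 1958400 := by
  apply le_antisymm card_HH_le
  refine le_trans lowerP ?_
  have h0 := RG.map_wordGroup πP sH _ πP_gen' Sp4t.chG0
  rw [← h0]
  exact card_map_le' πP _

theorem HH_eq : HH = wordGroup s Het.clG := by
  apply Subgroup.eq_of_le_of_card_ge HH_le
  rw [card_HH, card_H]

/-! ### Matrices -/

noncomputable def vS (p : Fin 85) : Fin 2 ⊕ Fin 2 → F4 := vecS (Sp4t.vc p)

noncomputable abbrev Sp := Matrix.symplecticGroup (Fin 2) F4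

abbrev MM := Matrix (Fin 2 ⊕ Fin 2) (Fin 2 ⊕ Fin 2) F4

def RM (h : HH) (M : Sp) : Prop := ∀ p, ∃ a : F4, a ≠ 0 ∧ (M : MM).mulVec (vS p) = a • vS (πP h p)

theorem RM_one : RM 1 1 := by
  intro p
  refine ⟨1, one_ne_zero, ?_⟩
  rw [map_one, one_smul]
  show (1 : MM).mulVec (vS p) = _
  rw [Matrix.one_mulVec]
  rfl

theorem RM_mul (h : HH) (M : Sp) (h' : HH) (M' : Sp) (H1 : RM h M) (H2 : RM h' M') : RM (h * h') (M * M') := by
  intro p
  obtain ⟨a, ha, h2⟩ := H2 p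
  obtain ⟨c, hc, h3⟩ := H1 (πP h' p)
  refine ⟨a * c, mul_ne_zero ha hc, ?_⟩
  show ((M : MM) * (M' : MM)).mulVec (vS p) = _
  rw [← Matrix.mulVec_mulVec, h2, Matrix.mulVec_smul, h3, smul_smul, map_mul]
  rfl

theorem RM_inv (h : HH) (M : Sp) (H1 : RM h M) : RM h⁻¹ M⁻¹ := by
  intro p
  obtain ⟨a, ha, h2⟩ := H1 ((πP h)⁻¹ p)
  have e : πP h ((πP h)⁻¹ p) = p := by
    rw [← Equiv.Perm.mul_apply, mul_inv_cancel]; rfl
  rw [e] at h2
  refine ⟨a⁻¹, inv_ne_zero ha, ?_⟩
  rw [map_inv]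
  have h3 : ((M⁻¹ : Sp) : MM) * (M : MM) = 1 := by
    have : (M⁻¹ * M : Sp) = 1 := inv_mul_cancel M
    exact congrArg Subtype.val this
  have h4 := congrArg (((M⁻¹ : Sp) : MM).mulVec) h2
  rw [Matrix.mulVec_mulVec, h3, Matrix.one_mulVec, Matrix.mulVec_smul] at h4
  rw [h4, smul_smul, inv_mul_cancel₀ ha, one_smul]

theorem vS_e (p : Nat) (hp : p < 85) (u : Fin 2 ⊕ Fin 2 → F4)
    (h : ∀ k, F4.beq' (comp (Sp4t.vc p) (ixS k)) (u k) = true) : vS ⟨p, hp⟩ = u := by
  funext k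
  exact F4.eq_of_beq' (h k)

def uu (a b c d : F4) : Fin 2 ⊕ Fin 2 → F4 := Sum.elim ![a, b] ![c, d]

theorem vS_uu (p : Nat) (hp : p < 85) (a b c d : F4)
    (h : band (F4.beq' (comp (Sp4t.vc p) 0) a) (band (F4.beq' (comp (Sp4t.vc p) 1) b)
      (band (F4.beq' (comp (Sp4t.vc p) 2) c) (F4.beq' (comp (Sp4t.vc p) 3) d))) = true) :
    vS ⟨p, hp⟩ = uu a b c d := by
  rw [band_eq_true, band_eq_true, band_eq_true] at h
  obtain ⟨h0, h1, h2, h3⟩ := h
  apply vS_e
  rintro (k | k) <;> fin_cases k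
  · exact h0
  · exact h1
  · exact h2
  · exact h3

theorem v21 : vS ⟨21, by decide⟩ = uu 1 0 0 0 := vS_uu _ _ _ _ _ _ (by decide +kernel)
theorem v5 : vS ⟨5, by decide⟩ = uu 0 1 0 0 := vS_uu _ _ _ _ _ _ (by decide +kernel)
theorem v1 : vS ⟨1, by decide⟩ = uu 0 0 1 0 := vS_uu _ _ _ _ _ _ (by decide +kernel)
theorem v0 : vS ⟨0, by decide⟩ = uu 0 0 0 1 := vS_uu _ _ _ _ _ _ (by decide +kernel)
theorem v37 : vS ⟨37, by decide⟩ = uu 1 1 0 0 := vS_uu _ _ _ _ _ _ (by decide +kernel)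
theorem v25 : vS ⟨25, by decide⟩ = uu 1 0 1 0 := vS_uu _ _ _ _ _ _ (by decide +kernel)
theorem v22 : vS ⟨22, by decide⟩ = uu 1 0 0 1 := vS_uu _ _ _ _ _ _ (by decide +kernel)

theorem scalar_of (M : MM) (h : ∀ p, ∃ a : F4, a ≠ 0 ∧ M.mulVec (vS p) = a • vS p) : ∃ a : F4, M = a • (1 : MM) := by
  obtain ⟨a0, _, h0⟩ := h ⟨21, by decide⟩
  obtain ⟨a1, _, h1⟩ := h ⟨5, by decide⟩
  obtain ⟨a2, _, h2⟩ := h ⟨1, by decide⟩
  obtain ⟨a3, _, h3⟩ := h ⟨0, by decide⟩
  obtain ⟨b1, _, k1⟩ := h ⟨37, by decide⟩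
  obtain ⟨b2, _, k2⟩ := h ⟨25, by decide⟩
  obtain ⟨b3, _, k3⟩ := h ⟨22, by decide⟩
  rw [v21] at h0
  rw [v5] at h1
  rw [v1] at h2
  rw [v0] at h3
  rw [v37] at k1
  rw [v25] at k2
  rw [v22] at k3
  have e1 : uu 1 1 0 0 = uu 1 0 0 0 + uu 0 1 0 0 := by
    funext k; rcases k with k | k <;> fin_cases k <;> simp [uu]
  have e2 : uu 1 0 1 0 = uu 1 0 0 0 + uu 0 0 1 0 := by
    funext k; rcases k with k | k <;> fin_cases k <;> simp [uu]
  have e3 : uu 1 0 0 1 = uu 1 0 0 0 + uu 0 0 0 1 := by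
    funext k; rcases k with k | k <;> fin_cases k <;> simp [uu]
  rw [e1, Matrix.mulVec_add, h0, h1] at k1
  rw [e2, Matrix.mulVec_add, h0, h2] at k2
  rw [e3, Matrix.mulVec_add, h0, h3] at k3
  have p1 := congrFun k1 (Sum.inl 0)
  have q1 := congrFun k1 (Sum.inl 1)
  have p2 := congrFun k2 (Sum.inl 0)
  have q2 := congrFun k2 (Sum.inr 0)
  have p3 := congrFun k3 (Sum.inl 0)
  have q3 := congrFun k3 (Sum.inr 1)
  simp [uu] at p1 q1 p2 q2 p3 q3
  refine ⟨a0, ?_⟩
  have s1 : a1 = a0 := by rw [p1, q1]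
  have s2 : a2 = a0 := by rw [p2, q2]
  have s3 : a3 = a0 := by rw [p3, q3]
  rw [s1] at h1
  rw [s2] at h2
  rw [s3] at h3
  ext i j
  have hj : M.mulVec (Pi.single j 1) = a0 • (Pi.single j 1 : Fin 2 ⊕ Fin 2 → F4) := by
    have g0 : uu 1 0 0 0 = Pi.single (Sum.inl 0) 1 := by
      funext k; rcases k with k | k <;> fin_cases k <;> simp [uu, Pi.single_apply]
    have g1 : uu 0 1 0 0 = Pi.single (Sum.inl 1) 1 := by
      funext k; rcases k with k | k <;> fin_cases k <;> simp [uu, Pi.single_apply]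
    have g2 : uu 0 0 1 0 = Pi.single (Sum.inr 0) 1 := by
      funext k; rcases k with k | k <;> fin_cases k <;> simp [uu, Pi.single_apply]
    have g3 : uu 0 0 0 1 = Pi.single (Sum.inr 1) 1 := by
      funext k; rcases k with k | k <;> fin_cases k <;> simp [uu, Pi.single_apply]
    rw [g0] at h0
    rw [g1] at h1
    rw [g2] at h2
    rw [g3] at h3
    rcases j with j | j <;> fin_cases j
    · exact h0
    · exact h1
    · exact h2
    · exact h3
  rw [Matrix.mulVec_single_one] at hj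
  have := congrFun hj i
  rw [Matrix.smul_apply, Matrix.one_apply]
  have h5 : M i j = a0 • (Pi.single j 1 : Fin 2 ⊕ Fin 2 → F4) i := this
  rw [h5, Pi.single_apply]

theorem RM_uniq (M : Sp) (H : RM 1 M) : M = 1 := by
  have h1 : ∀ p, ∃ a : F4, a ≠ 0 ∧ (M : MM).mulVec (vS p) = a • vS p := by
    intro p
    obtain ⟨a, ha, h⟩ := H p
    rw [map_one] at h
    exact ⟨a, ha, h⟩
  obtain ⟨a, ha⟩ := scalar_of _ h1
  have h2 := SymplecticGroup.mem_iff.1 M.2
  rw [ha] at h2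
  have h3 := congrFun (congrFun h2 (Sum.inr 0)) (Sum.inl 0)
  have h4 : a * a = 1 := by
    simpa [Matrix.J, Matrix.smul_mul, Matrix.mul_smul, Matrix.transpose_smul] using h3
  have h5 : a = 1 := by
    rcases F4.cases4 a with rfl | rfl | rfl | rfl
    · simp at h4
    · rfl
    · exact absurd h4 (by intro h; cases h)
    · exact absurd h4 (by intro h; cases h)
  apply Subtype.ext
  rw [ha, h5, one_smul]
  rfl

theorem vS_inj (p q : Fin 85) (a b : F4) (ha : a ≠ 0) (hb : b ≠ 0) (h : a • vS p = b • vS q) : p = q := by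
  apply Fin.ext
  refine ix_unique 4 Sp4t.ix (Sp4t.vc p) p (Sp4t.vc q) q (allR_zero _ _ Sp4t.kix p p.2)
    (allR_zero _ _ Sp4t.kix q q.2) a b ha hb ?_
  funext k
  have h0 := congrFun h (Sum.inl 0)
  have h1 := congrFun h (Sum.inl 1)
  have h2 := congrFun h (Sum.inr 0)
  have h3 := congrFun h (Sum.inr 1)
  fin_cases k
  · exact h0
  · exact h1
  · exact h2
  · exact h3

theorem RM_faith (h : HH) (H : RM h 1) : h = 1 := by
  apply πP_injective
  rw [map_one]
  ext p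
  obtain ⟨a, ha, h2⟩ := H p
  have h3 : (1 : MM).mulVec (vS p) = a • vS (πP h p) := h2
  rw [Matrix.one_mulVec] at h3
  have h4 := vS_inj p (πP h p) 1 a one_ne_zero ha (by rw [one_smul]; exact h3)
  rw [← h4]; rfl

theorem RM_of (k : Nat) (hk : k < 7) (m : Nat) (hm : ckSp m = true) (P : Nat → Nat) (hP : Sp4t.T k = P)
    (h : allR (ckMv F4id m Sp4t.vc P) 0 85 = true) : RM (sH k) ⟨matS m, ckSp_sound m hm⟩ := by
  intro p
  obtain ⟨a, ha, h1⟩ := ckMv_sound F4id m Sp4t.vc P p (allR_zero _ _ h p p.2)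
  refine ⟨a, ha, ?_⟩
  have h2 : (matS m).mulVec (vS p) = a • vecS (Sp4t.vc (P p)) := h1
  refine Eq.trans h2 ?_
  have e : ((πP (sH k) p : Fin 85) : Nat) = P p := by
    rw [πP_gen k hk, permL_apply Sp4t.tok k hk, ← hP]
    rfl
  unfold vS
  rw [e]

theorem exM (k : Nat) (hk : k < 7) : sH k = sH 5 ∨ ∃ M, RM (sH k) M := by
  interval_cases k
  · exact Or.inr ⟨_, RM_of 0 (by decide) 1260192769 (by decide +kernel) Sp4t.T0 rfl Sp4t.km0⟩
  · exact Or.inr ⟨_, RM_of 1 (by decide) 1074922497 (by decide +kernel) Sp4t.T1 rfl Sp4t.km1⟩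
  · exact Or.inr ⟨_, RM_of 2 (by decide) 857596061 (by decide +kernel) Sp4t.T2 rfl Sp4t.km2⟩
  · exact Or.inr ⟨_, RM_of 3 (by decide) 1260127233 (by decide +kernel) Sp4t.T3 rfl Sp4t.km3⟩
  · exact Or.inr ⟨_, RM_of 4 (by decide) 1125975041 (by decide +kernel) Sp4t.T4 rfl Sp4t.km4⟩
  · exact Or.inl rfl
  · exact Or.inr ⟨_, RM_of 6 (by decide) 2413808385 (by decide +kernel) Sp4t.T6 rfl Sp4t.km6⟩

/-! ### The semilinear element -/

noncomputable def AA : Sp := ⟨matS 2266565633, ckSp_sound _ (by decide +kernel)⟩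

noncomputable def fr : F4 →+* F4 := frobenius F4 2

theorem fr_sq (a : F4) : F4sq a = fr a := by
  show F4.mul' a a = a ^ 2
  rw [pow_two]; rfl

/-- the Frobenius image of a symplectic matrix. -/
theorem Fr_mem (M : MM) (h : M ∈ Matrix.symplecticGroup (Fin 2) F4) :
    M.map fr ∈ Matrix.symplecticGroup (Fin 2) F4 := by
  rw [SymplecticGroup.mem_iff] at h ⊢
  have h2 := congrArg (fun N : MM => N.map fr) h
  simp only [Matrix.map_mul, Matrix.map_J, Matrix.transpose_map] at h2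
  exact h2

noncomputable def Fr (M : Sp) : Sp := ⟨(M : MM).map fr, Fr_mem _ M.2⟩

theorem semi (p : Fin 85) : ∃ a : F4, a ≠ 0 ∧
    (AA : MM).mulVec (fun j => fr (vS p j)) = a • vS (πP (sH 5) p) := by
  obtain ⟨a, ha, h1⟩ := ckMv_sound F4sq 2266565633 Sp4t.vc Sp4t.T5 p (allR_zero _ _ Sp4t.km5 p p.2)
  refine ⟨a, ha, ?_⟩
  have e : ((πP (sH 5) p : Fin 85) : Nat) = Sp4t.T5 p := by
    rw [πP_gen 5 (by decide), permL_apply Sp4t.tok 5 (by decide)]
    rfl
  have h2 : (AA : MM).mulVec (fun j => F4sq (vS p j)) = a • vecS (Sp4t.vc (Sp4t.T5 p)) := h1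
  simp only [fr_sq] at h2
  refine Eq.trans h2 ?_
  unfold vS
  rw [e]

theorem map_mulVec' (M : MM) (v : Fin 2 ⊕ Fin 2 → F4) :
    (M.map fr).mulVec (fun j => fr (v j)) = fun j => fr (M.mulVec v j) := by
  funext j
  simp only [Matrix.mulVec, dotProduct, Matrix.map_apply, map_sum, map_mul]

theorem RM_t (h : HH) (M : Sp) (H : RM h M) : RM (sH 5 * h * (sH 5)⁻¹) (AA * Fr M * AA⁻¹) := by
  intro p
  set q := (πP (sH 5))⁻¹ p with hq
  have hp : πP (sH 5) q = p := by
    rw [hq, ← Equiv.Perm.mul_apply, mul_inv_cancel]; rfl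
  obtain ⟨a, ha, h1⟩ := semi q
  obtain ⟨c, hc, h2⟩ := H q
  obtain ⟨d, hd, h3⟩ := semi (πP h q)
  rw [hp] at h1
  have e : πP (sH 5 * h * (sH 5)⁻¹) p = πP (sH 5) (πP h q) := by
    rw [map_mul, map_mul, map_inv]; rfl
  rw [e]
  have hv : vS p = a⁻¹ • (AA : MM).mulVec (fun j => fr (vS q j)) := by
    rw [h1, smul_smul, inv_mul_cancel₀ ha, one_smul]
  have hA : ((AA⁻¹ : Sp) : MM) * (AA : MM) = 1 := by
    have : (AA⁻¹ * AA : Sp) = 1 := inv_mul_cancel AA
    exact congrArg Subtype.val this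
  have h5 : ((AA * Fr M * AA⁻¹ : Sp) : MM) = (AA : MM) * (M : MM).map fr * ((AA⁻¹ : Sp) : MM) := rfl
  have h6 : (fun j => fr ((M : MM).mulVec (vS q) j)) = fr c • (fun j => fr (vS (πP h q) j)) := by
    funext j
    rw [h2]
    show fr (c * _) = fr c * _
    rw [map_mul]
  refine ⟨a⁻¹ * (fr c * d), mul_ne_zero (inv_ne_zero ha) (mul_ne_zero ((map_ne_zero fr).2 hc) hd), ?_⟩
  rw [hv, h5, Matrix.mulVec_smul, Matrix.mulVec_mulVec, mul_assoc, mul_assoc, hA, mul_one, ← Matrix.mulVec_mulVec,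
    map_mulVec', h6, Matrix.mulVec_smul, h3, smul_smul, smul_smul, mul_assoc]

theorem sH5_sq : sH 5 * sH 5 = 1 := by
  apply Subtype.ext
  show ((([0, 1, 0, 1] : List Nat)).map s).prod * ((([0, 1, 0, 1] : List Nat)).map s).prod = 1
  have h := base ([0, 1], 4) (by decide)
  have h' : (s 0 * s 1) ^ 4 = 1 := by simpa using h
  rw [← h']
  simp [pow_succ, mul_assoc]

theorem card_Sp4 : Nat.card Sp = 979200 := by
  have h := Cfsg.Agent.H5.card_Sp (F := F4) F4.card_F4 2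
  rw [h]
  decide

theorem main : ∃ N : Subgroup HH, N.Normal ∧ N.index = 2 ∧ Nonempty (N ≃* Sp) := by
  haveI : Finite Sp := Nat.finite_of_card_ne_zero (by rw [card_Sp4]; decide)
  apply index_two_iso RM RM_one RM_mul RM_inv RM_uniq RM_faith (sH 5) sH5_sq (fun M => AA * Fr M * AA⁻¹) RM_t _
    top_gen
  · rintro _ ⟨k, hk, rfl⟩
    exact exM k hk
  · rw [card_HH, card_Sp4]

theorem main' : ∃ N : Subgroup (wordGroup s Het.clG), N.Normal ∧ N.index = 2 ∧
    Nonempty (N ≃* Matrix.symplecticGroup (Fin 2) F4) := by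
  rw [← HH_eq]
  exact main

end HeSp

end Cfsg.Agent.H8
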