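import Cfsg.Agent.H8.Ico9

/-!
# The double cover `2·J₂` is perfect
-/

set_option Elab.async false
set_option autoImplicit false
set_option linter.all false
set_option maxRecDepth 100000
set_option maxHeartbeats 1000000

namespace Cfsg.Agent.H8.Ico

open Quaternion Cfsg.Spor Ic V3

def chain : List (Nat × V3) := [(5, ⟨⟨⟨1, 0⟩, ⟨0, 0⟩, ⟨0, 0⟩, ⟨0, 0⟩⟩, ⟨⟨0, 0⟩, ⟨-1, 0⟩, ⟨0, 0⟩, ⟨0, 0⟩⟩, ⟨⟨0, 0⟩, ⟨2, -2⟩, ⟨-3, 1⟩, ⟨-1, 1⟩⟩⟩),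
  (1, ⟨⟨⟨0, 0⟩, ⟨1, -1⟩, ⟨-1, 0⟩, ⟨-1, 1⟩⟩, ⟨⟨-2, 1⟩, ⟨-1, 0⟩, ⟨1, 0⟩, ⟨-1, 1⟩⟩, ⟨⟨0, 0⟩, ⟨1, -1⟩, ⟨-1, 0⟩, ⟨-1, 1⟩⟩⟩),
  (2, ⟨⟨⟨0, 0⟩, ⟨1, -1⟩, ⟨-1, 0⟩, ⟨-1, 1⟩⟩, ⟨⟨2, -1⟩, ⟨1, 0⟩, ⟨-1, 0⟩, ⟨1, -1⟩⟩, ⟨⟨0, 0⟩, ⟨1, -1⟩, ⟨-1, 0⟩, ⟨-1, 1⟩⟩⟩),
  (0, ⟨⟨⟨0, 0⟩, ⟨-1, 1⟩, ⟨1, 0⟩, ⟨1, -1⟩⟩, ⟨⟨2, -1⟩, ⟨1, 0⟩, ⟨-1, 0⟩, ⟨1, -1⟩⟩, ⟨⟨0, 0⟩, ⟨1, -1⟩, ⟨-1, 0⟩, ⟨-1, 1⟩⟩⟩),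
  (1, ⟨⟨⟨-1, 0⟩, ⟨-1, 1⟩, ⟨1, -1⟩, ⟨0, 0⟩⟩, ⟨⟨1, -1⟩, ⟨1, 0⟩, ⟨-1, 1⟩, ⟨0, 0⟩⟩, ⟨⟨0, 0⟩, ⟨-3, 2⟩, ⟨3, -2⟩, ⟨2, -1⟩⟩⟩),
  (0, ⟨⟨⟨1, 0⟩, ⟨1, -1⟩, ⟨-1, 1⟩, ⟨0, 0⟩⟩, ⟨⟨1, -1⟩, ⟨1, 0⟩, ⟨-1, 1⟩, ⟨0, 0⟩⟩, ⟨⟨0, 0⟩, ⟨-3, 2⟩, ⟨3, -2⟩, ⟨2, -1⟩⟩⟩),
  (5, ⟨⟨⟨0, 0⟩, ⟨1, -1⟩, ⟨-1, 1⟩, ⟨0, 0⟩⟩, ⟨⟨1, -1⟩, ⟨0, 0⟩, ⟨-1, 1⟩, ⟨0, 0⟩⟩, ⟨⟨0, 0⟩, ⟨-1, 0⟩, ⟨0, -1⟩, ⟨1, 0⟩⟩⟩),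
  (1, ⟨⟨⟨0, 0⟩, ⟨2, -1⟩, ⟨-2, 1⟩, ⟨0, 0⟩⟩, ⟨⟨0, -1⟩, ⟨0, 0⟩, ⟨0, 1⟩, ⟨0, 0⟩⟩, ⟨⟨0, 0⟩, ⟨1, -1⟩, ⟨-1, 0⟩, ⟨-1, 1⟩⟩⟩),
  (2, ⟨⟨⟨0, 0⟩, ⟨2, -1⟩, ⟨-2, 1⟩, ⟨0, 0⟩⟩, ⟨⟨0, 1⟩, ⟨0, 0⟩, ⟨0, -1⟩, ⟨0, 0⟩⟩, ⟨⟨0, 0⟩, ⟨1, -1⟩, ⟨-1, 0⟩, ⟨-1, 1⟩⟩⟩),
  (5, ⟨⟨⟨0, 0⟩, ⟨0, 0⟩, ⟨0, 0⟩, ⟨1, 0⟩⟩, ⟨⟨-2, 2⟩, ⟨1, 0⟩, ⟨1, -1⟩, ⟨-2, 1⟩⟩, ⟨⟨-2, 1⟩, ⟨-1, 0⟩, ⟨2, -1⟩, ⟨-1, 1⟩⟩⟩),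
  (1, ⟨⟨⟨0, 0⟩, ⟨-1, 1⟩, ⟨1, -1⟩, ⟨1, -1⟩⟩, ⟨⟨-1, 1⟩, ⟨0, 0⟩, ⟨1, -1⟩, ⟨-1, 1⟩⟩, ⟨⟨-1, 0⟩, ⟨-1, 0⟩, ⟨1, 0⟩, ⟨1, 0⟩⟩⟩),
  (0, ⟨⟨⟨0, 0⟩, ⟨1, -1⟩, ⟨-1, 1⟩, ⟨-1, 1⟩⟩, ⟨⟨-1, 1⟩, ⟨0, 0⟩, ⟨1, -1⟩, ⟨-1, 1⟩⟩, ⟨⟨-1, 0⟩, ⟨-1, 0⟩, ⟨1, 0⟩, ⟨1, 0⟩⟩⟩),
  (5, ⟨⟨⟨0, 0⟩, ⟨3, -2⟩, ⟨-3, 2⟩, ⟨-2, 1⟩⟩, ⟨⟨1, 0⟩, ⟨-1, 0⟩, ⟨0, -1⟩, ⟨1, 0⟩⟩, ⟨⟨1, -1⟩, ⟨1, -1⟩, ⟨-2, 1⟩, ⟨1, 0⟩⟩⟩),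
  (1, ⟨⟨⟨0, 0⟩, ⟨4, -2⟩, ⟨-4, 2⟩, ⟨-2, 2⟩⟩, ⟨⟨0, 0⟩, ⟨0, 0⟩, ⟨0, 0⟩, ⟨0, 0⟩⟩, ⟨⟨0, 0⟩, ⟨0, 0⟩, ⟨0, 0⟩, ⟨0, 0⟩⟩⟩),
  (2, ⟨⟨⟨0, 0⟩, ⟨4, -2⟩, ⟨-4, 2⟩, ⟨-2, 2⟩⟩, ⟨⟨0, 0⟩, ⟨0, 0⟩, ⟨0, 0⟩, ⟨0, 0⟩⟩, ⟨⟨0, 0⟩, ⟨0, 0⟩, ⟨0, 0⟩, ⟨0, 0⟩⟩⟩),
  (5, ⟨⟨⟨0, 0⟩, ⟨2, -1⟩, ⟨-2, 1⟩, ⟨-1, 1⟩⟩, ⟨⟨-2, 2⟩, ⟨0, 0⟩, ⟨1, -1⟩, ⟨-2, 1⟩⟩, ⟨⟨-1, 1⟩, ⟨-1, 1⟩, ⟨1, -1⟩, ⟨0, -1⟩⟩⟩),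
  (1, ⟨⟨⟨0, 0⟩, ⟨2, -1⟩, ⟨-2, 1⟩, ⟨-1, 0⟩⟩, ⟨⟨-2, 2⟩, ⟨-1, 0⟩, ⟨2, -2⟩, ⟨-1, 1⟩⟩, ⟨⟨0, 0⟩, ⟨2, -1⟩, ⟨-2, 1⟩, ⟨-1, 0⟩⟩⟩),
  (2, ⟨⟨⟨0, 0⟩, ⟨2, -1⟩, ⟨-2, 1⟩, ⟨-1, 0⟩⟩, ⟨⟨2, -2⟩, ⟨1, 0⟩, ⟨-2, 2⟩, ⟨1, -1⟩⟩, ⟨⟨0, 0⟩, ⟨2, -1⟩, ⟨-2, 1⟩, ⟨-1, 0⟩⟩⟩),
  (0, ⟨⟨⟨0, 0⟩, ⟨-2, 1⟩, ⟨2, -1⟩, ⟨1, 0⟩⟩, ⟨⟨2, -2⟩, ⟨1, 0⟩, ⟨-2, 2⟩, ⟨1, -1⟩⟩, ⟨⟨0, 0⟩, ⟨2, -1⟩, ⟨-2, 1⟩, ⟨-1, 0⟩⟩⟩),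
  (1, ⟨⟨⟨-1, 0⟩, ⟨0, 0⟩, ⟨1, 0⟩, ⟨-1, 0⟩⟩, ⟨⟨-1, 0⟩, ⟨1, -1⟩, ⟨-1, 1⟩, ⟨-1, 1⟩⟩, ⟨⟨1, -1⟩, ⟨0, 0⟩, ⟨0, 0⟩, ⟨0, 0⟩⟩⟩),
  (0, ⟨⟨⟨1, 0⟩, ⟨0, 0⟩, ⟨-1, 0⟩, ⟨1, 0⟩⟩, ⟨⟨-1, 0⟩, ⟨1, -1⟩, ⟨-1, 1⟩, ⟨-1, 1⟩⟩, ⟨⟨1, -1⟩, ⟨0, 0⟩, ⟨0, 0⟩, ⟨0, 0⟩⟩⟩),
  (5, ⟨⟨⟨1, 0⟩, ⟨-2, 1⟩, ⟨1, -1⟩, ⟨2, -1⟩⟩, ⟨⟨-3, 2⟩, ⟨1, -1⟩, ⟨0, 0⟩, ⟨-3, 2⟩⟩, ⟨⟨0, 0⟩, ⟨-1, 1⟩, ⟨1, -1⟩, ⟨0, -1⟩⟩⟩),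
  (1, ⟨⟨⟨1, -1⟩, ⟨-3, 2⟩, ⟨2, -1⟩, ⟨3, -2⟩⟩, ⟨⟨-1, 1⟩, ⟨0, -1⟩, ⟨0, 0⟩, ⟨-1, 1⟩⟩, ⟨⟨0, 0⟩, ⟨2, -1⟩, ⟨-2, 1⟩, ⟨-1, 0⟩⟩⟩),
  (2, ⟨⟨⟨1, -1⟩, ⟨-3, 2⟩, ⟨2, -1⟩, ⟨3, -2⟩⟩, ⟨⟨1, -1⟩, ⟨0, 1⟩, ⟨0, 0⟩, ⟨1, -1⟩⟩, ⟨⟨0, 0⟩, ⟨2, -1⟩, ⟨-2, 1⟩, ⟨-1, 0⟩⟩⟩),
  (5, ⟨⟨⟨1, -1⟩, ⟨-2, 1⟩, ⟨1, -1⟩, ⟨2, -1⟩⟩, ⟨⟨2, -2⟩, ⟨1, 0⟩, ⟨-1, 1⟩, ⟨2, -1⟩⟩, ⟨⟨1, 0⟩, ⟨1, -1⟩, ⟨-1, 0⟩, ⟨0, 0⟩⟩⟩),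
  (1, ⟨⟨⟨1, -1⟩, ⟨-1, 1⟩, ⟨1, 0⟩, ⟨1, -1⟩⟩, ⟨⟨1, -1⟩, ⟨2, -1⟩, ⟨-2, 1⟩, ⟨0, 0⟩⟩, ⟨⟨1, 0⟩, ⟨-3, 1⟩, ⟨2, -2⟩, ⟨2, -1⟩⟩⟩),
  (0, ⟨⟨⟨-1, 1⟩, ⟨1, -1⟩, ⟨-1, 0⟩, ⟨-1, 1⟩⟩, ⟨⟨1, -1⟩, ⟨2, -1⟩, ⟨-2, 1⟩, ⟨0, 0⟩⟩, ⟨⟨1, 0⟩, ⟨-3, 1⟩, ⟨2, -2⟩, ⟨2, -1⟩⟩⟩),
  (5, ⟨⟨⟨-1, 1⟩, ⟨0, 0⟩, ⟨0, 0⟩, ⟨0, 0⟩⟩, ⟨⟨0, 0⟩, ⟨1, 0⟩, ⟨-1, 0⟩, ⟨-1, 0⟩⟩, ⟨⟨0, 0⟩, ⟨-2, 1⟩, ⟨1, -1⟩, ⟨1, -1⟩⟩⟩),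
  (1, ⟨⟨⟨-2, 0⟩, ⟨0, 0⟩, ⟨0, 0⟩, ⟨0, 0⟩⟩, ⟨⟨0, 0⟩, ⟨0, 0⟩, ⟨0, 0⟩, ⟨0, 0⟩⟩, ⟨⟨0, 0⟩, ⟨0, 0⟩, ⟨0, 0⟩, ⟨0, 0⟩⟩⟩),
  (2, ⟨⟨⟨-2, 0⟩, ⟨0, 0⟩, ⟨0, 0⟩, ⟨0, 0⟩⟩, ⟨⟨0, 0⟩, ⟨0, 0⟩, ⟨0, 0⟩, ⟨0, 0⟩⟩, ⟨⟨0, 0⟩, ⟨0, 0⟩, ⟨0, 0⟩, ⟨0, 0⟩⟩⟩)]

def chk : List (Nat × V3) → V3 → Bool
  | [], v => decide (v = ⟨(sc ⟨-2, 0⟩), zero, zero⟩)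
  | (l, v') :: rest, v => decide (refl (rep (gi l)) v = v') && chk rest v'

theorem chain_ok : chk chain o1 = true := by decide +kernel
theorem chain_let : chain.map Prod.fst = (IcoT.dW ++ IcoT.dW).reverse := by decide +kernel

theorem gl_ev (l : Nat) (v : V3) (hv : inL v = true) :
    ((gl l ⟨v.ev, (inL_iff v).1 hv⟩ : icoLeech) : Fin 3 → ℍ[ℝ]) = (refl (rep (gi l)) v).ev := by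
  have hr := root_rep _ (gi_lt l)
  unfold gl
  rw [S_apply hr, ev_refl _ _ (even_ip v _ hv hr.1)]

theorem chk_sound : ∀ (c : List (Nat × V3)) (v : V3) (hv : inL v = true), chk c v = true →
    ((((c.map Prod.fst).reverse.map gl).prod ⟨v.ev, (inL_iff v).1 hv⟩ : icoLeech) : Fin 3 → ℍ[ℝ]) =
      (⟨(sc ⟨-2, 0⟩), zero, zero⟩ : V3).ev := by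
  intro c
  induction c with
  | nil =>
    intro v hv h
    have h' : v = ⟨(sc ⟨-2, 0⟩), zero, zero⟩ := of_decide_eq_true h
    subst h'
    simp
  | cons p c ih =>
    intro v hv h
    obtain ⟨l, v'⟩ := p
    rw [chk, Bool.and_eq_true, decide_eq_true_eq] at h
    obtain ⟨h1, h2⟩ := h
    have hv' : inL v' = true := by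
      rw [← h1]; exact inL_refl _ _ (root_rep _ (gi_lt l)).1 hv
    have h3 := ih v' hv' h2
    rw [List.map_cons, List.reverse_cons, List.map_append, List.prod_append, Equiv.Perm.mul_apply]
    have e : (([l].map gl).prod ⟨v.ev, (inL_iff v).1 hv⟩ : icoLeech) = ⟨v'.ev, (inL_iff v').1 hv'⟩ := by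
      apply Subtype.ext
      rw [List.map_singleton, List.prod_singleton, gl_ev l v hv, h1]
    show ((((c.map Prod.fst).reverse.map gl).prod (([l].map gl).prod ⟨v.ev, (inL_iff v).1 hv⟩) : icoLeech) : Fin 3 → ℍ[ℝ]) = _
    rw [e]
    exact h3

noncomputable def Dd : ↥twoJ2 := ⟨A 3, A_mem 3⟩

theorem A3_eq : A 3 = (IcoT.dW.map gl).prod := by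
  unfold A; rw [if_neg (by decide), if_pos rfl]

theorem Dd_sq : Dd * Dd = ⟨negL, negL_mem⟩ := by
  have hc : Dd * Dd ∈ Subgroup.center ↥twoJ2 := by
    rw [← ker_Θ, MonoidHom.mem_ker, map_mul]
    have h : Θ Dd = permL IcoT.tok 3 := Θ_eq (acts_A 3 (by decide))
    rw [h, permL_sq IcoT.tok 3]
  rcases center_cases hc with h | h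
  · exfalso
    have h1 : (A 3 * A 3 : Equiv.Perm icoLeech) = 1 := congrArg Subtype.val h
    have h2 := chk_sound chain o1 root_o1.1 chain_ok
    rw [chain_let, List.reverse_reverse, List.map_append, List.prod_append, ← A3_eq, h1] at h2
    have h3 : o1.ev = (⟨(sc ⟨-2, 0⟩), zero, zero⟩ : V3).ev := h2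
    exact absurd (V3.ev_inj h3) (by decide)
  · exact h

theorem ab_S {j : Nat} (hj : j < 315) : (Abelianization.of (⟨S (rep j), S_mem j hj⟩ : ↥twoJ2)) =
    Abelianization.of (⟨S (rep 0), S_mem 0 (by decide)⟩ : ↥twoJ2) := by
  obtain ⟨g, hg, h⟩ := conj_zero _ j hj le_rfl
  have e : (⟨S (rep 0), S_mem 0 (by decide)⟩ : ↥twoJ2) = ⟨g, hg⟩ * ⟨S (rep j), S_mem j hj⟩ * (⟨g, hg⟩)⁻¹ :=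
    Subtype.ext h.symm
  rw [e, map_mul, map_mul, map_inv, mul_comm, ← mul_assoc, inv_mul_cancel, one_mul]

theorem ab_sq (g : ↥twoJ2) : Abelianization.of g * Abelianization.of g = 1 := by
  obtain ⟨x, hx⟩ := g
  have key : ∀ y (hy : y ∈ Subgroup.closure {f | IsIcoReflection f}),
      Abelianization.of (⟨y, hy⟩ : ↥twoJ2) * Abelianization.of (⟨y, hy⟩ : ↥twoJ2) = 1 := by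
    intro y hy
    induction hy using Subgroup.closure_induction with
    | mem y hy =>
      obtain ⟨r, hr, rfl⟩ := (isRefl_iff y).1 hy
      rw [← map_mul]
      have e : (⟨S r, Subgroup.subset_closure hy⟩ * ⟨S r, Subgroup.subset_closure hy⟩ : ↥twoJ2) = 1 :=
        Subtype.ext (S_mul_self hr)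
      rw [e, map_one]
    | one =>
      have e : (⟨1, one_mem _⟩ : ↥twoJ2) = 1 := rfl
      rw [e, map_one, mul_one]
    | mul a b ha hb h1 h2 =>
      have e : (⟨a * b, mul_mem ha hb⟩ : ↥twoJ2) = ⟨a, ha⟩ * ⟨b, hb⟩ := rfl
      rw [e, map_mul, mul_mul_mul_comm, h1, h2, mul_one]
    | inv a ha h1 =>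
      have e : (⟨a⁻¹, inv_mem ha⟩ : ↥twoJ2) = (⟨a, ha⟩)⁻¹ := rfl
      rw [e, map_inv, ← mul_inv, h1, inv_one]
  exact key x hx

theorem negL_commutator : (⟨negL, negL_mem⟩ : ↥twoJ2) ∈ commutator ↥twoJ2 := by
  have h1 : Abelianization.of (⟨negL, negL_mem⟩ : ↥twoJ2) = 1 := by
    rw [← Dd_sq, map_mul, ab_sq]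
  rw [← MonoidHom.mem_ker, Abelianization.ker_of] at h1
  exact h1

end Cfsg.Agent.H8.Ico
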