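import Cfsg.Agent.H8.SimpleCrit

/-!
# Subgroups of index two from relations, almost simple stabilisers
-/

set_option autoImplicit false
set_option linter.all false
set_option maxHeartbeats 400000

namespace Cfsg.Agent.H8.Ix2

section
variable {H S : Type*} [Group H] [Group S] (R : H → S → Prop)
  (hone : R 1 1) (hmul : ∀ h M h' M', R h M → R h' M' → R (h * h') (M * M'))
  (hinv : ∀ h M, R h M → R h⁻¹ M⁻¹) (h1 : ∀ M, R 1 M → M = 1)

include hone hmul hinv h1

theorem rel_hom1 (tot : ∀ h, ∃ M, R h M) : ∃ f : H →* S, ∀ h, R h (f h) := by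
  choose F hF using tot
  have key : ∀ h M M', R h M → R h M' → M = M' := by
    intro h M M' hM hM'
    have h2 := hmul _ _ _ _ (hinv _ _ hM) hM'
    rw [inv_mul_cancel] at h2
    exact inv_mul_eq_one.1 (h1 _ h2)
  exact ⟨⟨⟨F, key _ _ _ (hF 1) hone⟩, fun a b => key _ _ _ (hF _) (hmul _ _ _ _ (hF a) (hF b))⟩, hF⟩

/-- index two subgroups from a relation. -/
theorem index_two_iso [Finite H] [Finite S] (h2 : ∀ h, R h 1 → h = 1) (t : H) (htt : t * t = 1)
    (ht : ∀ h M, R h M → ∃ M', R (t * h * t⁻¹) M') (T : Set H) (hT : Subgroup.closure T = ⊤)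
    (hT' : ∀ g ∈ T, g = t ∨ ∃ M, R g M) (hc : Nat.card H = 2 * Nat.card S) :
    ∃ N : Subgroup H, N.Normal ∧ N.index = 2 ∧ Nonempty (N ≃* S) := by
  have key : ∀ h M M', R h M → R h M' → M = M' := by
    intro h M M' hM hM'
    have h2 := hmul _ _ _ _ (hinv _ _ hM) hM'
    rw [inv_mul_cancel] at h2
    exact inv_mul_eq_one.1 (h1 _ h2)
  let N : Subgroup H := 
    { carrier := {h | ∃ M, R h M}
      one_mem' := ⟨1, hone⟩
      mul_mem' := by rintro a b ⟨M, hM⟩ ⟨M', hM'⟩; exact ⟨_, hmul _ _ _ _ hM hM'⟩
      inv_mem' := by rintro a ⟨M, hM⟩; exact ⟨_, hinv _ _ hM⟩ }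
  have hN : ∀ h, h ∈ N ↔ ∃ M, R h M := fun h => Iff.rfl
  obtain ⟨f, hf⟩ := rel_hom1 (H := N) (S := S) (fun h M => R h M) hone (fun h M h' M' a b => hmul _ _ _ _ a b)
    (fun h M a => hinv _ _ a) (fun M a => h1 M a) (fun h => h.2)
  have hinj : Function.Injective f := by
    rw [injective_iff_map_eq_one]
    intro a ha
    have h3 := hf a
    rw [ha] at h3
    exact Subtype.ext (h2 _ h3)
  have hcN : Nat.card N ≤ Nat.card S := Nat.card_le_card_of_injective f hinj
  have hti : t⁻¹ = t := (eq_inv_of_mul_eq_one_left htt).symm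
  have hconj : ∀ n ∈ N, t * n * t ∈ N := by
    rintro n ⟨M, hM⟩
    have := ht _ _ hM
    rw [hti] at this
    exact this
  have hcov : ∀ g : H, g ∈ N ∨ t * g ∈ N := by
    intro g
    have hg : g ∈ Subgroup.closure T := by rw [hT]; exact Subgroup.mem_top g
    refine Subgroup.closure_induction_left (p := fun g _ => g ∈ N ∨ t * g ∈ N) (Or.inl N.one_mem) ?_ ?_ hg
    · intro x hx y _ hy
      rcases hT' x hx with rfl | hM
      · rcases hy with hy | hy
        · right; rw [← mul_assoc, htt, one_mul]; exact hy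
        · left; exact hy
      · have hx' : x ∈ N := hM
        rcases hy with hy | hy
        · left; exact N.mul_mem hx' hy
        · right
          have e : t * (x * y) = (t * x * t) * (t * y) := by
            have : t * x * t * (t * y) = t * x * (t * t) * y := by simp only [mul_assoc]
            rw [this, htt, mul_one, mul_assoc]
          rw [e]
          exact N.mul_mem (hconj _ hx') hy
    · intro x hx y _ hy
      rcases hT' x hx with rfl | hM
      · rw [hti]
        rcases hy with hy | hy
        · right; rw [← mul_assoc, htt, one_mul]; exact hy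
        · left; exact hy
      · have hx' : x⁻¹ ∈ N := N.inv_mem hM
        rcases hy with hy | hy
        · left; exact N.mul_mem hx' hy
        · right
          have e : t * (x⁻¹ * y) = (t * x⁻¹ * t) * (t * y) := by
            have : t * x⁻¹ * t * (t * y) = t * x⁻¹ * (t * t) * y := by simp only [mul_assoc]
            rw [this, htt, mul_one, mul_assoc]
          rw [e]
          exact N.mul_mem (hconj _ hx') hy
  have hidx : N.index ≤ 2 := by
    have hsurj : Function.Surjective (fun b : Bool => (QuotientGroup.mk (if b then t else 1) : H ⧸ N)) := by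
      intro q
      obtain ⟨g, rfl⟩ := QuotientGroup.mk_surjective q
      rcases hcov g⁻¹ with h | h
      · refine ⟨false, ?_⟩
        show (QuotientGroup.mk 1 : H ⧸ N) = QuotientGroup.mk g
        rw [QuotientGroup.eq]
        simpa using N.inv_mem h
      · refine ⟨true, ?_⟩
        show (QuotientGroup.mk t : H ⧸ N) = QuotientGroup.mk g
        rw [QuotientGroup.eq]
        have := N.inv_mem h
        rw [mul_inv_rev, inv_inv, hti] at this
        have h5 := hconj _ this
        rw [hti]
        have e : t * (g * t) * t = t * g * (t * t) := by simp only [mul_assoc]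
        rw [e, htt, mul_one] at h5
        exact h5
    have := Nat.card_le_card_of_surjective _ hsurj
    simpa [Subgroup.index] using this
  have hmulc : Nat.card N * N.index = Nat.card H := Subgroup.card_mul_index N
  have hS0 : 0 < Nat.card S := Nat.card_pos
  have hN0 : 0 < Nat.card N := Nat.card_pos
  have hi2 : N.index = 2 := by
    rcases Nat.lt_or_ge N.index 2 with h | h
    · exfalso
      have : Nat.card N * N.index ≤ Nat.card S * 1 := Nat.mul_le_mul hcN (by omega)
      omega
    · omega
  have hcard : Nat.card N = Nat.card S := by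
    rw [hi2] at hmulc; omega
  refine ⟨N, Subgroup.normal_of_index_eq_two hi2, hi2, ?_⟩
  have hb : Function.Bijective f := hinj.bijective_of_nat_card_le hcard.ge
  exact ⟨MulEquiv.ofBijective f hb⟩

end

/-- transport of the index two statement along an isomorphism. -/
theorem transport {H H' S : Type*} [Group H] [Group H'] [Group S] (e : H ≃* H')
    (h : ∃ N : Subgroup H, N.Normal ∧ N.index = 2 ∧ Nonempty (N ≃* S)) :
    ∃ N : Subgroup H', N.Normal ∧ N.index = 2 ∧ Nonempty (N ≃* S) := by
  obtain ⟨N, hN, h2, ⟨f⟩⟩ := h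
  refine ⟨N.map e.toMonoidHom, hN.map _ e.surjective, ?_, ⟨(e.subgroupMap N).symm.trans f⟩⟩
  rw [Subgroup.index_map_of_bijective e.bijective]
  exact h2

/-- normal subgroups of an almost simple group. -/
theorem normal_of_index_two {H : Type*} [Group H] (L : Subgroup H) (hLn : L.Normal) (hL2 : L.index = 2)
    (hLs : IsSimpleGroup L) (hZ : ∀ z : H, (∀ g, g * z = z * g) → z = 1) (K : Subgroup H) (hK : K.Normal) :
    K = ⊥ ∨ L ≤ K := by
  have h1 : (K.subgroupOf L).Normal := by infer_instance
  rcases hLs.eq_bot_or_eq_top_of_normal _ h1 with h | h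
  · left
    rw [eq_bot_iff]
    intro x hx
    rw [Subgroup.mem_bot]
    by_contra hx1
    have hnot : ∀ y ∈ K, y ≠ 1 → y ∉ L := by
      intro y hy hy1 hyL
      apply hy1
      have : (⟨y, hyL⟩ : L) ∈ K.subgroupOf L := hy
      rw [h, Subgroup.mem_bot] at this
      exact congrArg Subtype.val this
    apply hx1
    apply hZ
    intro g
    have h2 : g * x * g⁻¹ ∈ K := hK.conj_mem x hx g
    have h3 : g * x * g⁻¹ ≠ 1 := by
      intro h4
      apply hx1
      have : x = g⁻¹ * (g * x * g⁻¹) * g := by group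
      rw [this, h4]; simp
    have h4 : (g * x * g⁻¹) * x⁻¹ ∈ L := by
      rw [Subgroup.mul_mem_iff_of_index_two hL2]
      constructor
      · intro h5; exact absurd h5 (hnot _ h2 h3)
      · intro h5
        exact absurd h5 (hnot _ (K.inv_mem hx) (by simpa using hx1))
    have h5 : (g * x * g⁻¹) * x⁻¹ ∈ K := K.mul_mem h2 (K.inv_mem hx)
    have h6 : (g * x * g⁻¹) * x⁻¹ = 1 := by
      by_contra h7
      exact hnot _ h5 h7 h4
    have h7 : g * x * g⁻¹ = x := mul_inv_eq_one.1 h6
    rw [mul_inv_eq_iff_eq_mul] at h7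
    exact h7
  · right
    intro x hx
    have : (⟨x, hx⟩ : L) ∈ K.subgroupOf L := by rw [h]; exact Subgroup.mem_top _
    exact this

/-- simplicity criterion with an almost simple maximal subgroup. -/
theorem simple_of_coatom_almost {G : Type*} [Group G] [Nontrivial G] (H : Subgroup G) (hH : IsCoatom H)
    (hcore : ∀ N : Subgroup G, N.Normal → N ≤ H → N = ⊥)
    (hs : ∀ K : Subgroup H, K.Normal → K = ⊥ ∨ ∀ x y : H, x * y * x⁻¹ * y⁻¹ ∈ K)
    (hperf : commutator G = ⊤)
    (hreg : ∀ N : Subgroup G, N.Normal → N ≠ ⊥ → N ⊓ H = ⊥ → N ⊔ H = ⊤ → False) : IsSimpleGroup G := by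
  refine ⟨fun N hN => ?_⟩
  by_cases h1 : N = ⊥
  · exact Or.inl h1
  right
  have hNH : ¬ N ≤ H := fun h => h1 (hcore N hN h)
  have hsup : N ⊔ H = ⊤ := by
    apply hH.2
    refine lt_of_le_of_ne le_sup_right ?_
    intro h
    exact hNH (by rw [h]; exact le_sup_left)
  have h2 : (N.subgroupOf H).Normal := by infer_instance
  rcases hs _ h2 with h | h
  · exfalso
    apply hreg N hN h1 _ hsup
    rw [eq_bot_iff]
    rintro x ⟨hx1, hx2⟩
    rw [Subgroup.mem_bot]
    have : (⟨x, hx2⟩ : H) ∈ N.subgroupOf H := hx1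
    rw [h, Subgroup.mem_bot] at this
    exact congrArg Subtype.val this
  · rw [eq_top_iff, ← hperf, commutator_def, Subgroup.commutator_le]
    intro a _ b _
    have hq : ∀ g : G, ∃ h : H, (QuotientGroup.mk g : G ⧸ N) = QuotientGroup.mk (h : G) := by
      intro g
      have hg : g ∈ H ⊔ N := by rw [sup_comm, hsup]; exact Subgroup.mem_top g
      rw [Subgroup.mem_sup_of_normal_right] at hg
      obtain ⟨y, hy, n, hn, rfl⟩ := hg
      refine ⟨⟨y, hy⟩, ?_⟩
      rw [QuotientGroup.eq]
      have e : (y * n)⁻¹ * y = n⁻¹ := by group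
      show (y * n)⁻¹ * y ∈ N
      rw [e]
      exact N.inv_mem hn
    obtain ⟨x, hx⟩ := hq a
    obtain ⟨y, hy⟩ := hq b
    rw [← QuotientGroup.eq_one_iff]
    have h3 : (x : G) * y * (x : G)⁻¹ * (y : G)⁻¹ ∈ N := h x y
    rw [← QuotientGroup.eq_one_iff] at h3
    rw [commutatorElement_def]
    simp only [QuotientGroup.mk_mul, QuotientGroup.mk_inv] at h3 ⊢
    rw [hx, hy]
    exact h3

end Cfsg.Agent.H8.Ix2
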