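import Cfsg.Agent.H8.J2Pres

/-!
# Homomorphisms out of the presented group `J₂`
-/

set_option autoImplicit false
set_option linter.all false

namespace Cfsg.Agent.H8.J2P

def tr {P : Type*} [Group P] (t : Nat → P) (l : Nat) : P := if l < 5 then t l else 1

theorem tr_lt {P : Type*} [Group P] (t : Nat → P) (l : Nat) (hl : l < 5) : tr t l = t l := if_pos hl
theorem tr_ge {P : Type*} [Group P] (t : Nat → P) (l : Nat) (hl : 5 ≤ l) : tr t l = 1 := if_neg (by omega)

theorem tr_map {P : Type*} [Group P] (t : Nat → P) : ∀ p ∈ J2t.rels2, p.1.map (tr t) = p.1.map t := by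
  intro p hp
  have h2 : ∀ l ∈ p.1, l < 5 := by
    revert p hp; decide
  apply List.map_congr_left
  intro l hl
  exact tr_lt t l (h2 l hl)

theorem tr_sq {P : Type*} [Group P] (t : Nat → P) (hsq : ∀ l, t l * t l = 1) (l : Nat) : tr t l * tr t l = 1 := by
  rcases Nat.lt_or_ge l 5 with h | h
  · rw [tr_lt t l h]; exact hsq l
  · rw [tr_ge t l h]; simp

theorem tr_rel {P : Type*} [Group P] (t : Nat → P) (hb : ∀ p ∈ J2t.rels2, ((p.1.map t).prod) ^ p.2 = 1) :
    ∀ p ∈ J2t.rels2, ((p.1.map (tr t)).prod) ^ p.2 = 1 := by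
  intro p hp; rw [tr_map t p hp]; exact hb p hp

noncomputable def homOf {P : Type*} [Group P] (t : Nat → P) (hsq : ∀ l, t l * t l = 1)
    (hb : ∀ p ∈ J2t.rels2, ((p.1.map t).prod) ^ p.2 = 1) : J →* P :=
  RG.lift 5 J2t.rels2 (tr t) (tr_sq t hsq) (tr_ge t) (tr_rel t hb)

theorem homOf_s {P : Type*} [Group P] (t : Nat → P) (hsq : ∀ l, t l * t l = 1)
    (hb : ∀ p ∈ J2t.rels2, ((p.1.map t).prod) ^ p.2 = 1) : ∀ l < 5, homOf t hsq hb (s l) = t l := by
  intro l hl
  have h : homOf t hsq hb (s l) = tr t l := RG.lift_gen 5 J2t.rels2 (tr t) (tr_sq t hsq) (tr_ge t) (tr_rel t hb) l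
  rw [h, tr_lt t l hl]

end Cfsg.Agent.H8.J2P
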