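import Cfsg.Agent.H8.T.J2Ox
import Cfsg.Agent.H8.T.J2OF
import Cfsg.Agent.H8.T.J2Ob
import Cfsg.Agent.H8.J2Hom

/-!
# Automorphisms of the group J2P.J
-/

set_option Elab.async false
set_option autoImplicit false
set_option linter.all false
set_option maxRecDepth 100000
set_option maxHeartbeats 2000000

namespace Cfsg.Agent.H8.J2O

open Cfsg.Spor
open Cfsg.Agent.H8

noncomputable def s : Nat → J2P.J := OT.extI Cfsg.Agent.H8.J2P.s 5 bws

theorem s_lt (l : Nat) (h : l < 5) : s l = Cfsg.Agent.H8.J2P.s l := OT.extI_lt _ _ _ l h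

noncomputable def ρ : J2P.J →* Equiv.Perm (Fin 280) := Cfsg.Agent.H8.J2P.ρ

theorem hρ : ∀ l < 37, ρ (s l) = permL tok l :=
  OT.extI_rho tok ρ bws Cfsg.Agent.H8.J2P.s 5 (by
    intro l hl
    have h0 : ρ (Cfsg.Agent.H8.J2P.s l) = permL Cfsg.Agent.H8.J2t.tok l := Cfsg.Agent.H8.J2P.hρ l hl
    rw [h0]
    ext j
    rw [permL_apply Cfsg.Agent.H8.J2t.tok l hl, permL_apply tok l (lt_trans hl (by decide)), hii l hl,
      hTT _ (Cfsg.Agent.H8.J2t.tok.inv_lt l hl)]) (by decide) hwb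

theorem inj : Function.Injective ρ := Cfsg.Agent.H8.J2P.ρ_injective

theorem cardG : Nat.card J2P.J = 604800 := Cfsg.Agent.H8.J2P.card_J

theorem xchain : wordGroup s xG0 = ⊤ ∧ (∀ g ∈ wordGroup s xG0, xQ0 (act ρ ⟨36, by decide⟩ g : Fin 280) ≠ 0) ∧ (∀ g ∈ wordGroup s xG0, act ρ ⟨36, by decide⟩ g = ⟨36, by decide⟩ → g ∈ wordGroup s xG1) ∧
    (∀ g ∈ wordGroup s xG1, xQ1 (act ρ ⟨128, by decide⟩ g : Fin 280) ≠ 0) ∧ (∀ g ∈ wordGroup s xG1, act ρ ⟨128, by decide⟩ g = ⟨128, by decide⟩ → g ∈ wordGroup s xG2) ∧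
    (∀ g ∈ wordGroup s xG2, xQ2 (act ρ ⟨259, by decide⟩ g : Fin 280) ≠ 0) ∧ (∀ g ∈ wordGroup s xG2, act ρ ⟨259, by decide⟩ g = ⟨259, by decide⟩ → g ∈ wordGroup s xG3) ∧
    (∀ g ∈ wordGroup s xG3, xQ3 (act ρ ⟨263, by decide⟩ g : Fin 280) ≠ 0) ∧ (∀ g ∈ wordGroup s xG3, act ρ ⟨263, by decide⟩ g = ⟨263, by decide⟩ → g ∈ wordGroup s ([] : List (List Nat))) := by
  haveI : Finite J2P.J := Nat.finite_of_card_ne_zero (by rw [cardG]; decide)
  have k0 := card_step s tok ρ hρ xQ0 280 xG0 xG1 (by decide) ⟨36, by decide⟩ xr0 xc0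
    (by decide) (by decide +kernel) inferInstance
  have k1 := card_step s tok ρ hρ xQ1 108 xG1 xG2 (by decide) ⟨128, by decide⟩ xr1 xc1
    (by decide) (by decide +kernel) inferInstance
  have k2 := card_step s tok ρ hρ xQ2 20 xG2 xG3 (by decide) ⟨259, by decide⟩ xr2 xc2
    (by decide) (by decide +kernel) inferInstance
  have k3 := card_step s tok ρ hρ xQ3 1 xG3 ([] : List (List Nat)) (by decide) ⟨263, by decide⟩ xr3 xc3
    (by decide) (by decide +kernel) inferInstance
  have k : Nat.card (wordGroup s xG0) ≤ 604800 := by rw [← cardG]; exact Subgroup.card_le_card_group _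
  have kl : 0 < Nat.card (wordGroup s ([] : List (List Nat))) := Nat.card_pos
  have e0 : Nat.card (wordGroup s xG0) = 604800 := by omega
  have e1 : Nat.card (wordGroup s xG1) = 2160 := by omega
  have e2 : Nat.card (wordGroup s xG2) = 20 := by omega
  have e3 : Nat.card (wordGroup s xG3) = 1 := by omega
  have e4 : Nat.card (wordGroup s ([] : List (List Nat))) = 1 := by omega
  have x0 := exact_step s tok ρ xQ0 280 xG0 xG1 (by decide) ⟨36, by decide⟩ xr0 xc0
    (by decide) (by decide +kernel) inferInstance hρ (by rw [e0, e1])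
  have x1 := exact_step s tok ρ xQ1 108 xG1 xG2 (by decide) ⟨128, by decide⟩ xr1 xc1
    (by decide) (by decide +kernel) inferInstance hρ (by rw [e1, e2])
  have x2 := exact_step s tok ρ xQ2 20 xG2 xG3 (by decide) ⟨259, by decide⟩ xr2 xc2
    (by decide) (by decide +kernel) inferInstance hρ (by rw [e2, e3])
  have x3 := exact_step s tok ρ xQ3 1 xG3 ([] : List (List Nat)) (by decide) ⟨263, by decide⟩ xr3 xc3
    (by decide) (by decide +kernel) inferInstance hρ (by rw [e3, e4])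
  exact ⟨Subgroup.eq_top_of_card_eq _ (by rw [e0, cardG]), x0.1, x0.2, x1.1, x1.2, x2.1, x2.2, x3.1, x3.2⟩

theorem xbot : wordGroup s ([] : List (List Nat)) = ⊥ := by
  unfold wordGroup
  rw [eq_bot_iff, Subgroup.closure_le]
  rintro g ⟨w, hw, _⟩
  simp at hw

theorem xp0 : act ρ ⟨36, by decide⟩ ((([5] : List Nat).map s).prod ^ 0) = (⟨36, by decide⟩ : Fin 280) :=
  Fin.ext (by rw [OT.iter_fin s tok ρ [5] (by decide) hρ]; decide +kernel)
theorem xp1 : act ρ ⟨36, by decide⟩ ((([5] : List Nat).map s).prod ^ 1) = (⟨128, by decide⟩ : Fin 280) :=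
  Fin.ext (by rw [OT.iter_fin s tok ρ [5] (by decide) hρ]; decide +kernel)
theorem xp2 : act ρ ⟨36, by decide⟩ ((([5] : List Nat).map s).prod ^ 2) = (⟨259, by decide⟩ : Fin 280) :=
  Fin.ext (by rw [OT.iter_fin s tok ρ [5] (by decide) hρ]; decide +kernel)
theorem xp3 : act ρ ⟨36, by decide⟩ ((([5] : List Nat).map s).prod ^ 3) = (⟨263, by decide⟩ : Fin 280) :=
  Fin.ext (by rw [OT.iter_fin s tok ρ [5] (by decide) hρ]; decide +kernel)

/-- an element fixing the base is trivial. -/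
theorem xbase (g : J2P.J) (h0 : act ρ ⟨36, by decide⟩ g = (⟨36, by decide⟩ : Fin 280)) (h1 : act ρ ⟨128, by decide⟩ g = (⟨128, by decide⟩ : Fin 280)) (h2 : act ρ ⟨259, by decide⟩ g = (⟨259, by decide⟩ : Fin 280)) (h3 : act ρ ⟨263, by decide⟩ g = (⟨263, by decide⟩ : Fin 280)) : g = 1 := by
  have g0 : g ∈ wordGroup s xG0 := by rw [xchain.1]; exact Subgroup.mem_top g
  have g1 := xchain.2.2.1 g g0 h0
  have g2 := xchain.2.2.2.2.1 g g1 h1
  have g3 := xchain.2.2.2.2.2.2.1 g g2 h2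
  have g4 := xchain.2.2.2.2.2.2.2.2 g g3 h3
  rw [xbot] at g4
  exact Subgroup.mem_bot.1 g4

theorem xrej : Rej ρ (⊤ : Subgroup J2P.J) ((List.range 4).map fun i => act ρ ⟨36, by decide⟩ ((([5] : List Nat).map s).prod ^ i)) xK0 := by
  have e : ((List.range 4).map fun i => act ρ (⟨36, by decide⟩ : Fin 280) ((([5] : List Nat).map s).prod ^ i)) = [(⟨36, by decide⟩ : Fin 280), (⟨128, by decide⟩ : Fin 280), (⟨259, by decide⟩ : Fin 280), (⟨263, by decide⟩ : Fin 280)] := by
    change [act ρ (⟨36, by decide⟩ : Fin 280) ((([5] : List Nat).map s).prod ^ 0), act ρ (⟨36, by decide⟩ : Fin 280) ((([5] : List Nat).map s).prod ^ 1), act ρ (⟨36, by decide⟩ : Fin 280) ((([5] : List Nat).map s).prod ^ 2), act ρ (⟨36, by decide⟩ : Fin 280) ((([5] : List Nat).map s).prod ^ 3)] = _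
    rw [xp0, xp1, xp2, xp3]
  rw [e, ← xchain.1]
  exact (Rej_step s tok ρ hρ (wordGroup s xG0) (wordGroup s xG1) ⟨36, by decide⟩ [(⟨128, by decide⟩ : Fin 280), (⟨259, by decide⟩ : Fin 280), (⟨263, by decide⟩ : Fin 280)] _ xQ0 xG0 10 (by decide)
    (fun w hw => mem_wordGroup s _ w hw) xchain.2.1 xchain.2.2.1 (Rej_step s tok ρ hρ (wordGroup s xG1) (wordGroup s xG2) ⟨128, by decide⟩ [(⟨259, by decide⟩ : Fin 280), (⟨263, by decide⟩ : Fin 280)] _ xQ1 xG1 10 (by decide)
    (fun w hw => mem_wordGroup s _ w hw) xchain.2.2.2.1 xchain.2.2.2.2.1 (Rej_step s tok ρ hρ (wordGroup s xG2) (wordGroup s xG3) ⟨259, by decide⟩ [(⟨263, by decide⟩ : Fin 280)] _ xQ2 xG2 10 (by decide)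
    (fun w hw => mem_wordGroup s _ w hw) xchain.2.2.2.2.2.1 xchain.2.2.2.2.2.2.1 (Rej_step s tok ρ hρ (wordGroup s xG3) (wordGroup s ([] : List (List Nat))) ⟨263, by decide⟩ [] _ xQ3 xG3 10 (by decide)
    (fun w hw => mem_wordGroup s _ w hw) xchain.2.2.2.2.2.2.2.1 xchain.2.2.2.2.2.2.2.2 (Rej_nil ρ _ _)))))
theorem Fchain : wordGroup s FG0 = ⊤ ∧ (∀ g ∈ wordGroup s FG0, FQ0 (act ρ ⟨27, by decide⟩ g : Fin 280) ≠ 0) ∧ (∀ g ∈ wordGroup s FG0, act ρ ⟨27, by decide⟩ g = ⟨27, by decide⟩ → g ∈ wordGroup s FG1) ∧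
    (∀ g ∈ wordGroup s FG1, FQ1 (act ρ ⟨250, by decide⟩ g : Fin 280) ≠ 0) ∧ (∀ g ∈ wordGroup s FG1, act ρ ⟨250, by decide⟩ g = ⟨250, by decide⟩ → g ∈ wordGroup s FG2) ∧
    (∀ g ∈ wordGroup s FG2, FQ2 (act ρ ⟨64, by decide⟩ g : Fin 280) ≠ 0) ∧ (∀ g ∈ wordGroup s FG2, act ρ ⟨64, by decide⟩ g = ⟨64, by decide⟩ → g ∈ wordGroup s ([] : List (List Nat))) := by
  haveI : Finite J2P.J := Nat.finite_of_card_ne_zero (by rw [cardG]; decide)
  have k0 := card_step s tok ρ hρ FQ0 280 FG0 FG1 (by decide) ⟨27, by decide⟩ Fr0 Fc0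
    (by decide) (by decide +kernel) inferInstance
  have k1 := card_step s tok ρ hρ FQ1 108 FG1 FG2 (by decide) ⟨250, by decide⟩ Fr1 Fc1
    (by decide) (by decide +kernel) inferInstance
  have k2 := card_step s tok ρ hρ FQ2 20 FG2 ([] : List (List Nat)) (by decide) ⟨64, by decide⟩ Fr2 Fc2
    (by decide) (by decide +kernel) inferInstance
  have k : Nat.card (wordGroup s FG0) ≤ 604800 := by rw [← cardG]; exact Subgroup.card_le_card_group _
  have kl : 0 < Nat.card (wordGroup s ([] : List (List Nat))) := Nat.card_pos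
  have e0 : Nat.card (wordGroup s FG0) = 604800 := by omega
  have e1 : Nat.card (wordGroup s FG1) = 2160 := by omega
  have e2 : Nat.card (wordGroup s FG2) = 20 := by omega
  have e3 : Nat.card (wordGroup s ([] : List (List Nat))) = 1 := by omega
  have x0 := exact_step s tok ρ FQ0 280 FG0 FG1 (by decide) ⟨27, by decide⟩ Fr0 Fc0
    (by decide) (by decide +kernel) inferInstance hρ (by rw [e0, e1])
  have x1 := exact_step s tok ρ FQ1 108 FG1 FG2 (by decide) ⟨250, by decide⟩ Fr1 Fc1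
    (by decide) (by decide +kernel) inferInstance hρ (by rw [e1, e2])
  have x2 := exact_step s tok ρ FQ2 20 FG2 ([] : List (List Nat)) (by decide) ⟨64, by decide⟩ Fr2 Fc2
    (by decide) (by decide +kernel) inferInstance hρ (by rw [e2, e3])
  exact ⟨Subgroup.eq_top_of_card_eq _ (by rw [e0, cardG]), x0.1, x0.2, x1.1, x1.2, x2.1, x2.2⟩

theorem Fbot : wordGroup s ([] : List (List Nat)) = ⊥ := by
  unfold wordGroup
  rw [eq_bot_iff, Subgroup.closure_le]
  rintro g ⟨w, hw, _⟩
  simp at hw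

theorem Fp0 : act ρ ⟨27, by decide⟩ ((([19] : List Nat).map s).prod ^ 0) = (⟨27, by decide⟩ : Fin 280) :=
  Fin.ext (by rw [OT.iter_fin s tok ρ [19] (by decide) hρ]; decide +kernel)
theorem Fp1 : act ρ ⟨27, by decide⟩ ((([19] : List Nat).map s).prod ^ 1) = (⟨250, by decide⟩ : Fin 280) :=
  Fin.ext (by rw [OT.iter_fin s tok ρ [19] (by decide) hρ]; decide +kernel)
theorem Fp2 : act ρ ⟨27, by decide⟩ ((([19] : List Nat).map s).prod ^ 2) = (⟨64, by decide⟩ : Fin 280) :=
  Fin.ext (by rw [OT.iter_fin s tok ρ [19] (by decide) hρ]; decide +kernel)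
theorem Fp3 : act ρ ⟨27, by decide⟩ ((([19] : List Nat).map s).prod ^ 3) = (⟨83, by decide⟩ : Fin 280) :=
  Fin.ext (by rw [OT.iter_fin s tok ρ [19] (by decide) hρ]; decide +kernel)
theorem Fp4 : act ρ ⟨27, by decide⟩ ((([19] : List Nat).map s).prod ^ 4) = (⟨265, by decide⟩ : Fin 280) :=
  Fin.ext (by rw [OT.iter_fin s tok ρ [19] (by decide) hρ]; decide +kernel)

/-- an element fixing the base is trivial. -/
theorem Fbase (g : J2P.J) (h0 : act ρ ⟨27, by decide⟩ g = (⟨27, by decide⟩ : Fin 280)) (h1 : act ρ ⟨250, by decide⟩ g = (⟨250, by decide⟩ : Fin 280)) (h2 : act ρ ⟨64, by decide⟩ g = (⟨64, by decide⟩ : Fin 280)) : g = 1 := by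
  have g0 : g ∈ wordGroup s FG0 := by rw [Fchain.1]; exact Subgroup.mem_top g
  have g1 := Fchain.2.2.1 g g0 h0
  have g2 := Fchain.2.2.2.2.1 g g1 h1
  have g3 := Fchain.2.2.2.2.2.2 g g2 h2
  rw [Fbot] at g3
  exact Subgroup.mem_bot.1 g3

theorem Frej : Rej ρ (⊤ : Subgroup J2P.J) ((List.range 5).map fun i => act ρ ⟨27, by decide⟩ ((([19] : List Nat).map s).prod ^ i)) FK0 := by
  have e : ((List.range 5).map fun i => act ρ (⟨27, by decide⟩ : Fin 280) ((([19] : List Nat).map s).prod ^ i)) = [(⟨27, by decide⟩ : Fin 280), (⟨250, by decide⟩ : Fin 280), (⟨64, by decide⟩ : Fin 280), (⟨83, by decide⟩ : Fin 280), (⟨265, by decide⟩ : Fin 280)] := by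
    change [act ρ (⟨27, by decide⟩ : Fin 280) ((([19] : List Nat).map s).prod ^ 0), act ρ (⟨27, by decide⟩ : Fin 280) ((([19] : List Nat).map s).prod ^ 1), act ρ (⟨27, by decide⟩ : Fin 280) ((([19] : List Nat).map s).prod ^ 2), act ρ (⟨27, by decide⟩ : Fin 280) ((([19] : List Nat).map s).prod ^ 3), act ρ (⟨27, by decide⟩ : Fin 280) ((([19] : List Nat).map s).prod ^ 4)] = _
    rw [Fp0, Fp1, Fp2, Fp3, Fp4]
  rw [e, ← Fchain.1]
  exact (Rej_step s tok ρ hρ (wordGroup s FG0) (wordGroup s FG1) ⟨27, by decide⟩ [(⟨250, by decide⟩ : Fin 280), (⟨64, by decide⟩ : Fin 280), (⟨83, by decide⟩ : Fin 280), (⟨265, by decide⟩ : Fin 280)] _ FQ0 FG0 10 (by decide)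
    (fun w hw => mem_wordGroup s _ w hw) Fchain.2.1 Fchain.2.2.1 (Rej_step s tok ρ hρ (wordGroup s FG1) (wordGroup s FG2) ⟨250, by decide⟩ [(⟨64, by decide⟩ : Fin 280), (⟨83, by decide⟩ : Fin 280), (⟨265, by decide⟩ : Fin 280)] _ FQ1 FG1 10 (by decide)
    (fun w hw => mem_wordGroup s _ w hw) Fchain.2.2.2.1 Fchain.2.2.2.2.1 (Rej_step s tok ρ hρ (wordGroup s FG2) (wordGroup s ([] : List (List Nat))) ⟨64, by decide⟩ [(⟨83, by decide⟩ : Fin 280), (⟨265, by decide⟩ : Fin 280)] _ FQ2 FG2 10 (by decide)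
    (fun w hw => mem_wordGroup s _ w hw) Fchain.2.2.2.2.2.1 Fchain.2.2.2.2.2.2 (Rej_nil ρ _ _))))

/-- word identities are checked on the base. -/
theorem weq (u v : List Nat) (hu : ∀ l ∈ u, l < 37) (hv : ∀ l ∈ v, l < 37)
    (h : ∀ i ∈ ([27, 250, 64] : List Nat), trN T' u i = trN T' v i) : (u.map s).prod = (v.map s).prod := by
  have key : ∀ b : Fin 280, (b : Nat) ∈ ([27, 250, 64] : List Nat) → act ρ b ((u.map s).prod * ((v.map s).prod)⁻¹) = b := by
    intro b hb
    have h1 : act ρ b (u.map s).prod = act ρ b (v.map s).prod := by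
      apply Fin.ext
      rw [act_word s tok ρ hρ b u hu, act_word s tok ρ hρ b v hv]
      exact h b hb
    rw [act_mul, h1, ← act_mul, mul_inv_cancel, act_one]
  exact mul_inv_eq_one.1 (Fbase _ (key ⟨27, by decide⟩ (by decide)) (key ⟨250, by decide⟩ (by decide)) (key ⟨64, by decide⟩ (by decide)))

theorem weq1 (u : List Nat) (hu : ∀ l ∈ u, l < 37)
    (h : ∀ i ∈ ([27, 250, 64] : List Nat), trN T' u i = i) : (u.map s).prod = 1 :=
  weq u [] hu (by simp) h

def xw : List Nat := [5]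
def fw : List Nat := [15]
def Fw : List Nat := [19]
def yw : List Nat := [17]
noncomputable def x : J2P.J := (xw.map s).prod
noncomputable def f : J2P.J := (fw.map s).prod
noncomputable def F : J2P.J := (Fw.map s).prod
noncomputable def y : J2P.J := (yw.map s).prod

theorem x_pow : x ^ 7 = 1 := by
  unfold x
  rw [← wpow_prod]
  exact weq1 _ (by decide) (by decide +kernel)

theorem x_ne : x ≠ 1 := by
  intro h
  have h1 := act_word s tok ρ hρ ⟨36, by decide⟩ xw (by decide)
  have h2 : act ρ ⟨36, by decide⟩ (xw.map s).prod = (⟨36, by decide⟩ : Fin 280) := by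
    change act ρ ⟨36, by decide⟩ x = _
    rw [h, act_one]
  rw [h2] at h1
  exact absurd h1 (by decide +kernel)

instance prime_p : Fact (Nat.Prime 7) := ⟨by norm_num⟩

theorem x_order : orderOf x = 7 := orderOf_eq_prime x_pow x_ne

theorem xf : x * f = f * x ^ 5 := by
  have h := weq (xw ++ fw) (fw ++ wpow xw 5) (by decide) (by decide) (by decide +kernel)
  rw [List.map_append, List.prod_append, List.map_append, List.prod_append, wpow_prod] at h
  exact h

theorem F_eq : F = f ^ 1 := by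
  unfold F f
  rw [← wpow_prod]
  exact weq _ _ (by decide) (by decide) (by decide +kernel)

theorem F_pow : F ^ 6 = 1 := by
  unfold F
  rw [← wpow_prod]
  exact weq1 _ (by decide) (by decide +kernel)

theorem Fy : F * y = y * F := by
  have h := weq (Fw ++ yw) (yw ++ Fw) (by decide) (by decide) (by decide +kernel)
  rw [List.map_append, List.prod_append, List.map_append, List.prod_append] at h
  exact h

theorem Cx (g : J2P.J) (h : x * g = g * x) : g ∈ Subgroup.zpowers x := by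
  have hb : ∀ g : J2P.J, (∀ i < 4, act ρ (act ρ ⟨36, by decide⟩ (x ^ i)) g = act ρ ⟨36, by decide⟩ (x ^ i)) → g = 1 := by
    intro g hg
    refine xbase g ?_ ?_ ?_ ?_
    · have := hg 0 (by decide)
      change act ρ (act ρ ⟨36, by decide⟩ ((([5] : List Nat).map s).prod ^ 0)) g = act ρ ⟨36, by decide⟩ ((([5] : List Nat).map s).prod ^ 0) at this
      rw [xp0] at this
      exact this
    · have := hg 1 (by decide)
      change act ρ (act ρ ⟨36, by decide⟩ ((([5] : List Nat).map s).prod ^ 1)) g = act ρ ⟨36, by decide⟩ ((([5] : List Nat).map s).prod ^ 1) at this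
      rw [xp1] at this
      exact this
    · have := hg 2 (by decide)
      change act ρ (act ρ ⟨36, by decide⟩ ((([5] : List Nat).map s).prod ^ 2)) g = act ρ ⟨36, by decide⟩ ((([5] : List Nat).map s).prod ^ 2) at this
      rw [xp2] at this
      exact this
    · have := hg 3 (by decide)
      change act ρ (act ρ ⟨36, by decide⟩ ((([5] : List Nat).map s).prod ^ 3)) g = act ρ ⟨36, by decide⟩ ((([5] : List Nat).map s).prod ^ 3) at this
      rw [xp3] at this
      exact this
  have hen : ∀ g : J2P.J, x * g = g * x → ∃ a : Nat, ((act ρ ⟨36, by decide⟩ (g * x ^ a) : Fin 280) : Nat) ∈ ([36, 128] : List Nat) := by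
    intro g hg
    exact conj_enum s tok ρ hρ xw xw (by decide) (by decide) ⟨36, by decide⟩ 4 4 xK0 xrej ([36, 128] : List Nat) rfl
      (fun q hq => OT.ckCand_sound _ _ _ _ q (allR_zero _ _ xS q hq)) g hg
  obtain ⟨w, hw, a, _, rfl⟩ := OT.cent_list ρ x 7 (by decide) x_pow ⟨36, by decide⟩ 4 hb ([36, 128] : List Nat) hen
    ((List.range 7).map fun i => x ^ i) (by
    intro q hq
    have key : ∀ q ∈ ([36, 128] : List Nat), ∃ i < 7, (trN T' xw)^[i] 36 = q := by decide +kernel
    obtain ⟨i, hi, h⟩ := key q hq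
    refine ⟨x ^ i, List.mem_map.2 ⟨i, List.mem_range.2 hi, rfl⟩, by rw [← pow_succ', pow_succ], ?_⟩
    unfold x
    rw [OT.iter_fin s tok ρ xw (by decide) hρ]
    exact h) g h
  obtain ⟨i, _, rfl⟩ := List.mem_map.1 hw
  exact mul_mem (Subgroup.pow_mem _ (Subgroup.mem_zpowers x) i) (Subgroup.pow_mem _ (Subgroup.mem_zpowers x) a)

/-- centraliser representatives. -/
def svW : List (Nat × List Nat) := [(27, []), (37, [18])]
def cands : List (List Nat) := [[], [19], [19, 19], [19, 19, 19], [19, 19, 19, 19], [19, 19, 19, 19, 19], [18], [18, 19], [18, 19, 19], [18, 19, 19, 19], [18, 19, 19, 19, 19], [18, 19, 19, 19, 19, 19]]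
def rels3 : List (List Nat × Nat) := [([2, 0], 7), ([2, 1], 2)]

def codes1 : List Nat := [2, 1, 1, 1, 1, 1, 2, 0, 1, 2, 0, 1]
def good1 : List (List Nat) := [[18, 19], [18, 19, 19, 19, 19]]
theorem tests1 : OT.ckTests T' (wpow xw 1) fw rels3 good1 cands codes1 = true := by decide +kernel

theorem rels3_ok : ∀ q ∈ rels3, (((OT.sub3 xw fw yw q.1).map s).prod) ^ q.2 = 1 := by
  intro q hq
  rw [← wpow_prod]
  apply weq1
  · revert q hq; decide
  · revert q hq; decide +kernel

theorem svW_ok : ∀ q ∈ svW, F * (q.2.map s).prod = (q.2.map s).prod * F ∧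
    ((act ρ ⟨27, by decide⟩ (q.2.map s).prod : Fin 280) : Nat) = q.1 := by
  intro q hq
  constructor
  · have h := weq (Fw ++ q.2) (q.2 ++ Fw) (by revert q hq; decide) (by revert q hq; decide) (by revert q hq; decide +kernel)
    rw [List.map_append, List.prod_append, List.map_append, List.prod_append] at h
    exact h
  · rw [act_word s tok ρ hρ _ _ (by revert q hq; decide)]
    revert q hq; decide +kernel

theorem cent_cands (g : J2P.J) (h : F * g = g * F) : ∃ w ∈ cands, g = (w.map s).prod := by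
  have hb : ∀ g : J2P.J, (∀ i < 5, act ρ (act ρ ⟨27, by decide⟩ (F ^ i)) g = act ρ ⟨27, by decide⟩ (F ^ i)) → g = 1 := by
    intro g hg
    refine Fbase g ?_ ?_ ?_
    · have := hg 0 (by decide)
      change act ρ (act ρ ⟨27, by decide⟩ ((([19] : List Nat).map s).prod ^ 0)) g = act ρ ⟨27, by decide⟩ ((([19] : List Nat).map s).prod ^ 0) at this
      rw [Fp0] at this
      exact this
    · have := hg 1 (by decide)
      change act ρ (act ρ ⟨27, by decide⟩ ((([19] : List Nat).map s).prod ^ 1)) g = act ρ ⟨27, by decide⟩ ((([19] : List Nat).map s).prod ^ 1) at this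
      rw [Fp1] at this
      exact this
    · have := hg 2 (by decide)
      change act ρ (act ρ ⟨27, by decide⟩ ((([19] : List Nat).map s).prod ^ 2)) g = act ρ ⟨27, by decide⟩ ((([19] : List Nat).map s).prod ^ 2) at this
      rw [Fp2] at this
      exact this
  have hen : ∀ g : J2P.J, F * g = g * F → ∃ a : Nat, ((act ρ ⟨27, by decide⟩ (g * F ^ a) : Fin 280) : Nat) ∈ svW.map Prod.fst := by
    intro g hg
    exact conj_enum s tok ρ hρ Fw Fw (by decide) (by decide) ⟨27, by decide⟩ 5 5 FK0 Frej (svW.map Prod.fst) rfl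
      (fun q hq => OT.ckCand_sound _ _ _ _ q (allR_zero _ _ FS q hq)) g hg
  obtain ⟨w, hw, a, ha, rfl⟩ := OT.cent_list ρ F 6 (by decide) F_pow ⟨27, by decide⟩ 5 hb _ hen
    (svW.map fun q => (q.2.map s).prod) (by
    intro q hq
    obtain ⟨z, hz, rfl⟩ := List.mem_map.1 hq
    exact ⟨_, List.mem_map.2 ⟨z, hz, rfl⟩, svW_ok z hz⟩) g h
  obtain ⟨z, hz, rfl⟩ := List.mem_map.1 hw
  refine ⟨z.2 ++ wpow Fw a, ?_, ?_⟩
  · have key : ∀ z ∈ svW, ∀ a < 6, z.2 ++ wpow Fw a ∈ cands := by decide +kernel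
    exact key z hz a ha
  · rw [List.map_append, List.prod_append, wpow_prod]
    rfl


/-- straight-line program for the letters of the chain. -/
def prog : List (Nat × List Nat) := [(21, [16, 5, 18, 15, 5, 5, 17, 6, 6]), (22, [5, 5, 18, 6, 6, 16, 17, 6, 15]), (23, [16, 18, 6, 18, 5, 15, 5, 16]), (24, [15, 6, 16, 6, 17, 5, 17, 15]), (25, [23, 21, 23, 23, 23, 21, 21, 24, 22, 22]), (26, [21, 21, 23, 22, 22, 24, 24, 24, 22, 24]), (27, [21, 23, 21, 21, 24, 21, 24, 24]), (28, [23, 23, 22, 23, 22, 22, 24, 22])]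

theorem inv_letter (l l' : Nat) (h1 : l < 37) (h2 : l' < 37) (h : ∀ i ∈ ([27, 250, 64] : List Nat), trN T' [l, l'] i = i) : s l' = (s l)⁻¹ := by
  have := weq1 [l, l'] (by intro k hk; simp only [List.mem_cons, List.not_mem_nil, or_false] at hk; rcases hk with rfl | rfl <;> assumption) h
  rw [List.map_cons, List.map_singleton, List.prod_cons, List.prod_singleton] at this
  exact eq_inv_of_mul_eq_one_right this

theorem s_x : s 5 = x := by unfold x xw; simp
theorem s_f : s 15 = f := by unfold f fw; simp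
theorem s_y : s 17 = y := by unfold y yw; simp
theorem s_x' : s 6 = x⁻¹ := by rw [← s_x]; exact inv_letter 5 6 (by decide) (by decide) (by decide +kernel)
theorem s_f' : s 16 = f⁻¹ := by rw [← s_f]; exact inv_letter 15 16 (by decide) (by decide) (by decide +kernel)
theorem s_y' : s 18 = y⁻¹ := by rw [← s_y]; exact inv_letter 17 18 (by decide) (by decide) (by decide +kernel)

theorem prog_ok : ∀ e ∈ prog, s e.1 = (e.2.map s).prod := by
  intro e he
  have h := weq [e.1] e.2 (by revert e he; decide) (by revert e he; decide) (by revert e he; decide +kernel)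
  rw [List.map_singleton, List.prod_singleton] at h
  exact h

theorem gen_top : Subgroup.closure ({x, f, y} : Set J2P.J) = ⊤ := by
  rw [eq_top_iff, ← Fchain.1]
  have hx : x ∈ Subgroup.closure ({x, f, y} : Set J2P.J) := Subgroup.subset_closure (Or.inl rfl)
  have hf : f ∈ Subgroup.closure ({x, f, y} : Set J2P.J) := Subgroup.subset_closure (Or.inr (Or.inl rfl))
  have hy : y ∈ Subgroup.closure ({x, f, y} : Set J2P.J) := Subgroup.subset_closure (Or.inr (Or.inr rfl))
  have h0 : ∀ l ∈ ([5, 15, 17, 6, 16, 18] : List Nat), s l ∈ Subgroup.closure ({x, f, y} : Set J2P.J) := by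
    intro l hl
    simp only [List.mem_cons, List.not_mem_nil, or_false] at hl
    rcases hl with rfl | rfl | rfl | rfl | rfl | rfl
    · rw [s_x]; exact hx
    · rw [s_f]; exact hf
    · rw [s_y]; exact hy
    · rw [s_x']; exact inv_mem hx
    · rw [s_f']; exact inv_mem hf
    · rw [s_y']; exact inv_mem hy
  have h1 := OT.slp_mem s (Subgroup.closure ({x, f, y} : Set J2P.J)) prog _ h0 (by decide) prog_ok
  unfold wordGroup
  rw [Subgroup.closure_le]
  rintro _ ⟨w, hw, rfl⟩
  have key : ∀ w ∈ FG0, ∃ l, w = [l] ∧ (l ∈ ([5, 15, 17, 6, 16, 18] : List Nat) ∨ l ∈ prog.map Prod.fst) := by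
    intro w hw
    have key2 : ∀ w ∈ FG0, w = [w.headD 0] ∧ (w.headD 0 ∈ ([5, 15, 17, 6, 16, 18] : List Nat) ∨ w.headD 0 ∈ prog.map Prod.fst) := by decide
    exact ⟨_, key2 w hw⟩
  obtain ⟨l, rfl, hl⟩ := key w hw
  rw [List.map_singleton, List.prod_singleton]
  rcases hl with hl | hl
  · exact h0 l hl
  · obtain ⟨e, he, rfl⟩ := List.mem_map.1 hl
    exact h1 e he


theorem out_le : Finite (Cfsg.Out J2P.J) ∧ Nat.card (Cfsg.Out J2P.J) ≤ 2 := by
  haveI : Finite J2P.J := Nat.finite_of_card_ne_zero (by rw [cardG]; decide)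
  refine OT.out_card_le 7 x f y x_order (by rw [cardG]; decide) Cx 5 xf (by decide) [1] ?_ gen_top
    ([(1, ((([18, 19] : List Nat).map s).prod)), (1, ((([18, 19, 19, 19, 19] : List Nat).map s).prod))]) ?_
  · have key : ∀ k : ZMod 7, k ≠ 0 → ∃ j ∈ ([1] : List ℕ), ∃ i < 7, k = (j : ZMod 7) * (5 : ZMod 7) ^ i := by decide +kernel
    intro k hk
    obtain ⟨j, hj, i, _, h⟩ := key k hk
    exact ⟨j, hj, i, by push_cast; exact h⟩
  · intro j hj β hβx hβf
    have hβF : β F = F := by rw [F_eq, map_pow, hβf]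
    have hc : F * β y = β y * F := by
      have := congrArg β Fy
      rw [map_mul, map_mul, hβF] at this
      exact this
    obtain ⟨w, hw, hwy⟩ := cent_cands (β y) hc
    simp only [List.mem_cons, List.not_mem_nil, or_false] at hj
    subst hj
    · have h := OT.good_of_tests s tok ρ hρ 1 xw fw yw (by decide) (by decide) rels3 rels3_ok good1 cands codes1 (by decide)
        (by decide) tests1 β hβx hβf w hw hwy
      unfold good1 at h
      simp only [List.mem_cons, List.not_mem_nil, or_false] at h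
      rcases h with rfl | rfl
      · rw [hwy]; simp
      · rw [hwy]; simp

/-- images of the letters. -/
def ab : Nat → List Nat := fun l => [[26, 27, 23, 21, 21, 21, 18, 6, 18, 6, 18], [25, 25, 25, 25, 25, 22, 23, 15, 6, 17, 5, 16], [26, 26, 21, 24, 22, 22, 24, 22, 5, 17, 6, 15, 17], [25, 22, 22, 23, 5, 15, 6, 18], [27, 22, 22, 23, 22, 5, 17, 5, 17, 5, 15]].getD l []
def aw : Nat → List Nat := fun l => [[26, 27, 23, 21, 21, 21, 18, 6, 18, 6, 18], [25, 25, 25, 25, 25, 22, 23, 15, 6, 17, 5, 16], [26, 26, 21, 24, 22, 22, 24, 22, 5, 17, 6, 15, 17], [25, 22, 22, 23, 5, 15, 6, 18], [27, 22, 22, 23, 22, 5, 17, 5, 17, 5, 15], [5], [6], [25, 27, 23, 21, 21, 21, 5, 17, 6, 17], [18, 5, 18, 6, 22, 22, 22, 24, 28, 26], [26, 26, 21, 21, 21, 23, 17, 6, 6], [5, 5, 18, 24, 22, 22, 22, 25, 25], [26, 26, 22, 5, 15, 18, 6, 17], [18, 5, 17, 16, 6, 21, 25, 25], [26, 26, 21, 21, 21, 23, 17, 6, 6], [5, 5, 18, 24, 22, 22, 22, 25, 25], [15], [16], [15, 18], [17, 16]].getD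 l []

noncomputable def t : Nat → J2P.J := fun l => ((ab l).map s).prod

theorem t_sq : ∀ l, t l * t l = 1 := by
  intro l
  by_cases hl : l < 5
  · unfold t
    have h1 := weq1 (ab l ++ ab l) (by
      have key : ∀ l < 5, ∀ k ∈ ab l ++ ab l, k < 37 := by decide
      exact key l hl) (by
      have key : ∀ l < 5, ∀ i ∈ (([27, 250, 64] : List Nat) : List Nat), trN T' (ab l ++ ab l) i = i := by decide +kernel
      exact key l hl)
    rw [List.map_append, List.prod_append] at h1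
    exact h1
  · have : ab l = [] := List.getD_eq_default _ _ (by
      have h2 : ([[26, 27, 23, 21, 21, 21, 18, 6, 18, 6, 18], [25, 25, 25, 25, 25, 22, 23, 15, 6, 17, 5, 16], [26, 26, 21, 24, 22, 22, 24, 22, 5, 17, 6, 15, 17], [25, 22, 22, 23, 5, 15, 6, 18], [27, 22, 22, 23, 22, 5, 17, 5, 17, 5, 15]] : List (List Nat)).length = 5 := by decide
      omega)
    unfold t
    rw [this]; simp

theorem t_word (w : List Nat) : (w.map t).prod = ((w.flatMap ab).map s).prod := (OT.flatMap_prod s ab w).symm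

theorem t_rel : ∀ q ∈ Cfsg.Agent.H8.J2t.rels2, ((q.1.map t).prod) ^ q.2 = 1 := by
  intro q hq
  rw [t_word, ← wpow_prod]
  apply weq1
  · have key : ∀ q ∈ Cfsg.Agent.H8.J2t.rels2, ∀ k ∈ wpow (q.1.flatMap ab) q.2, k < 37 := by decide +kernel
    exact key q hq
  · have key : ∀ q ∈ Cfsg.Agent.H8.J2t.rels2, ∀ i ∈ (([27, 250, 64] : List Nat) : List Nat), trN T' (wpow (q.1.flatMap ab) q.2) i = i := by decide +kernel
    exact key q hq

noncomputable def φ : J2P.J →* J2P.J := Cfsg.Agent.H8.J2P.homOf t t_sq t_rel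

theorem φ_base (l : Nat) (hl : l < 5) : φ (s l) = t l := by
  rw [s_lt l hl]
  exact Cfsg.Agent.H8.J2P.homOf_s t t_sq t_rel l hl


def progA : List (Nat × List Nat) := [(5, [0, 1, 2, 1, 3, 2, 1, 3, 4]), (6, [4, 3, 1, 2, 3, 1, 2, 1, 0]), (7, [1, 2, 3]), (8, [3, 2, 1]), (9, [0, 3]), (10, [3, 0]), (11, [9, 7, 7, 7, 9, 7, 7, 10, 8, 9, 7, 7, 7, 7, 10, 8, 10, 7, 7, 7]), (12, [8, 8, 8, 9, 7, 9, 8, 8, 8, 8, 10, 7, 9, 8, 8, 10, 8, 8, 8, 10]), (13, [9]), (14, [10]), (15, [11, 13, 11, 13, 8, 8, 9, 6, 0, 6, 1, 2]), (16, [2, 1, 5, 0, 5, 10, 7, 7, 14, 12, 14, 12]), (17, [11, 13, 11, 8, 8, 8, 9, 7, 9, 8, 6, 3]), (18, [3, 5, 7, 10, 8, 10, 7, 7, 7, 12, 14, 12])]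

theorem progA_ok : ∀ e ∈ progA, s e.1 = (e.2.map s).prod := by
  intro e he
  have h := weq [e.1] e.2 (by revert e he; decide) (by revert e he; decide) (by revert e he; decide +kernel)
  rw [List.map_singleton, List.prod_singleton] at h
  exact h

theorem progA_im : ∀ e ∈ progA, ((aw e.1).map s).prod = (e.2.map fun l => ((aw l).map s).prod).prod := by
  intro e he
  rw [← OT.flatMap_prod s aw e.2]
  exact weq _ _ (by revert e he; decide) (by revert e he; decide +kernel) (by revert e he; decide +kernel)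

theorem ab_aw : ∀ l < 5, ab l = aw l := by decide

theorem φs : ∀ e ∈ progA, φ (s e.1) = ((aw e.1).map s).prod :=
  OT.slp_hom φ s (fun l => ((aw l).map s).prod) progA [0, 1, 2, 3, 4] (by
    intro l hl
    have h : l < 5 := by
      have key : ∀ l ∈ ([0, 1, 2, 3, 4] : List Nat), l < 5 := by decide
      exact key l hl
    rw [φ_base l h]
    unfold t
    rw [ab_aw l h]) (by decide) progA_ok progA_im

theorem φs' (l : Nat) (h : l ∈ progA.map Prod.fst) : φ (s l) = ((aw l).map s).prod := by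
  obtain ⟨e, he, rfl⟩ := List.mem_map.1 h
  exact φs e he

theorem φx : φ x = x ^ 1 := by
  rw [← s_x, φs' 5 (by decide), s_x]
  unfold x
  rw [← wpow_prod]
  exact weq _ _ (by decide +kernel) (by decide) (by decide +kernel)

theorem φf : φ f = f := by
  rw [← s_f, φs' 15 (by decide), s_f]
  unfold f
  exact weq _ _ (by decide +kernel) (by decide) (by decide +kernel)

theorem φ_bij : Function.Bijective φ := by
  haveI : Finite J2P.J := Nat.finite_of_card_ne_zero (by rw [cardG]; decide)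
  have h1 : Function.Injective φ := injective_of_simple Cfsg.Agent.H8.J2P.simple φ x (by
    rw [φx]
    intro h
    have h2 := orderOf_dvd_of_pow_eq_one h
    rw [x_order] at h2
    exact absurd h2 (by decide))
  exact ⟨h1, Finite.surjective_of_injective h1⟩

noncomputable def α : MulAut J2P.J := MulEquiv.ofBijective φ φ_bij


theorem φy : φ y ≠ y := by
  rw [← s_y, φs' 17 (by decide)]
  intro h
  have h1 := act_word s tok ρ hρ ⟨0, by decide⟩ (aw 17) (by decide +kernel)
  rw [h, s_y] at h1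
  have h2 := act_word s tok ρ hρ ⟨0, by decide⟩ yw (by decide)
  have h3 : (yw.map s).prod = y := rfl
  rw [h3, h1] at h2
  exact absurd h2 (by decide +kernel)

theorem α_outer (g : J2P.J) : α ≠ MulAut.conj g := by
  intro h
  have hx : g * x * g⁻¹ = x := by
    have := DFunLike.congr_fun h x
    have e : α x = φ x := rfl
    rw [e, φx, pow_one] at this
    exact this.symm
  have hf : g * f * g⁻¹ = f := by
    have := DFunLike.congr_fun h f
    have e : α f = φ f := rfl
    rw [e, φf] at this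
    exact this.symm
  have hg := OT.inner_trivial 7 x f x_order Cx 5 xf (by decide) g hx hf
  have := DFunLike.congr_fun h y
  have e : α y = φ y := rfl
  rw [e, hg] at this
  apply φy
  rw [this]; simp


theorem out_eq : Nat.card (Cfsg.Out J2P.J) = 2 := by
  have h1 := out_le
  have h2 := OT.one_lt_out h1.1 α α_outer
  omega


end Cfsg.Agent.H8.J2O
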