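import Cfsg.Agent.H7.Conway10

/-!
# Coded vectors of the Leech lattice

A vector is coded by a natural number with 24 hexadecimal digits: the coordinate at `gpt i` is the `i`-th digit minus 8.
-/

set_option autoImplicit false
set_option linter.all false

namespace Cfsg.Agent.H8.Lt

open Cfsg Cfsg.Agent.H7

def dv (c i : ℕ) : ℕ := Nat.mod (Nat.shiftRight c (Nat.mul 4 i)) 16

theorem dv_def (c i : ℕ) : dv c i = (c / 2 ^ (4 * i)) % 16 := by
  show (c >>> (4 * i)) % 16 = _
  rw [Nat.shiftRight_eq_div_pow]

theorem dv_zero (c : ℕ) : dv c 0 = c % 16 := by rw [dv_def]; simp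

theorem dv_succ (c i : ℕ) : dv c (i + 1) = dv (c / 16) i := by
  rw [dv_def, dv_def, Nat.div_div_eq_div_mul]
  have e : 2 ^ (4 * (i + 1)) = 16 * 2 ^ (4 * i) := by
    rw [mul_add, pow_add, mul_comm]
    norm_num
  rw [e]

def vf (c : ℕ) (p : GolayPt) : ℤ := (dv c (gidx p) : ℤ) - 8

/-- mask of the positions where the second bit is set -/
def dmask : ℕ → ℕ → ℕ
  | 0, _ => 0
  | k + 1, c => (c / 2) % 2 + 2 * dmask k (c / 16)

theorem dmask_lt (k : ℕ) : ∀ c, dmask k c < 2 ^ k := by
  induction k with
  | zero => intro c; simp [dmask]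
  | succ k ih =>
    intro c
    have := ih (c / 16)
    rw [dmask, pow_succ]
    omega

theorem testBit_add_two (a b i : ℕ) (ha : a < 2) : (a + 2 * b).testBit (i + 1) = b.testBit i := by
  rw [Nat.testBit_succ]
  congr 1
  omega

theorem dmask_testBit (k : ℕ) : ∀ c i, i < k → ((dmask k c).testBit i = true ↔ (dv c i / 2) % 2 = 1) := by
  induction k with
  | zero => intro c i hi; omega
  | succ k ih =>
    intro c i hi
    rw [dmask]
    rcases i with _ | i
    · rw [dv_zero, Nat.testBit_zero, decide_eq_true_iff]
      omega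
    · rw [testBit_add_two _ _ _ (by omega), ih _ _ (by omega), dv_succ]

def dsum : ℕ → ℕ → ℕ
  | 0, _ => 0
  | k + 1, c => (c / 4) % 4 + dsum k (c / 16)

theorem dsum_eq (k : ℕ) : ∀ c, dsum k c = ∑ i ∈ Finset.range k, dv c i / 4 := by
  induction k with
  | zero => intro c; simp [dsum]
  | succ k ih =>
    intro c
    rw [dsum, ih, Finset.sum_range_succ', add_comm]
    congr 1
    · exact Finset.sum_congr rfl (fun i _ => by rw [dv_succ])
    · rw [dv_zero]; omega

def dpar : ℕ → ℕ → ℕ → Bool
  | 0, _, _ => true
  | k + 1, c, m => Nat.beq (c % 2) m && dpar k (c / 16) m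

theorem dpar_spec (k : ℕ) : ∀ c m, dpar k c m = true → ∀ i < k, dv c i % 2 = m := by
  induction k with
  | zero => intro c m _ i hi; omega
  | succ k ih =>
    intro c m h i hi
    rw [dpar, Bool.and_eq_true] at h
    rcases i with _ | i
    · rw [dv_zero]
      have := Nat.eq_of_beq_eq_true h.1
      omega
    · rw [dv_succ]
      exact ih _ _ h.2 i (by omega)

/-- the code describes a lattice vector -/
def isLV (c : ℕ) : Bool := dpar 24 c (c % 2) && (isCW (dmask 24 c) && Nat.beq ((dsum 24 c + c % 2) % 2) 0)

theorem sum_gidx (f : ℕ → ℤ) : ∑ p : GolayPt, f (gidx p) = ∑ i ∈ Finset.range 24, f i := by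
  symm
  refine Finset.sum_bij' (fun i _ => gpt i) (fun p _ => gidx p) ?_ ?_ ?_ ?_ ?_
  · intro i _; exact Finset.mem_univ _
  · intro p _; exact Finset.mem_range.2 (gidx_lt p)
  · intro i hi; exact gidx_gpt (Finset.mem_range.1 hi)
  · intro p _; exact gpt_gidx p
  · intro i hi; rw [gidx_gpt (Finset.mem_range.1 hi)]

theorem sum_gpt (f : GolayPt → ℤ) : ∑ p : GolayPt, f p = ∑ i ∈ Finset.range 24, f (gpt i) := by
  rw [← sum_gidx (fun i => f (gpt i))]
  exact Finset.sum_congr rfl (fun p _ => by rw [gpt_gidx])

theorem vf_mem {c : ℕ} (h : isLV c = true) : vf c ∈ leechLattice := by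
  unfold isLV at h
  rw [Bool.and_eq_true, Bool.and_eq_true] at h
  obtain ⟨h1, h2, h3⟩ := h
  have h1 := dpar_spec 24 c _ h1
  have h3 := Nat.eq_of_beq_eq_true h3
  have hl := dmask_lt 24 c
  rw [mem_leech]
  refine ⟨((c % 2 : ℕ) : ℤ), toSet (dmask 24 c), fun p => ((dv c (gidx p) / 4 : ℕ) : ℤ) - 2,
    (toSet_mem_GC (by norm_num at hl; exact hl)).2 h2, ?_, ?_⟩
  · intro p
    have hp := gidx_lt p
    have e1 := h1 (gidx p) hp
    have e2 := dmask_testBit 24 c (gidx p) hp
    have h16 : dv c (gidx p) < 16 := Nat.mod_lt _ (by norm_num)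
    rw [← mem_toSet] at e2
    unfold vf ind
    by_cases hb : p ∈ toSet (dmask 24 c)
    · rw [if_pos hb]
      have := e2.1 hb
      push_cast
      omega
    · rw [if_neg hb]
      have : ¬ (dv c (gidx p) / 2) % 2 = 1 := fun hh => hb (e2.2 hh)
      push_cast
      omega
  · rw [sum_gidx (fun i => ((dv c i / 4 : ℕ) : ℤ) - 2), Finset.sum_sub_distrib]
    have e := dsum_eq 24 c
    have e' : (∑ i ∈ Finset.range 24, ((dv c i / 4 : ℕ) : ℤ)) = ((dsum 24 c : ℕ) : ℤ) := by
      rw [e]; push_cast; rfl
    rw [e', Finset.sum_const, Finset.card_range]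
    simp only [nsmul_eq_mul]
    push_cast
    omega

/-- the lattice vector with a given code -/
def lv (c : ℕ) (h : isLV c = true) : leechLattice := ⟨vf c, vf_mem h⟩

/-- coordinates -/
def co (v : leechLattice) (i : ℕ) : ℤ := (v : GolayPt → ℤ) (gpt i)

theorem co_ext {v w : leechLattice} (h : ∀ i < 24, co v i = co w i) : v = w := by
  apply Subtype.ext
  funext p
  have := h (gidx p) (gidx_lt p)
  unfold co at this
  rwa [gpt_gidx] at this

theorem co_lv {c : ℕ} (h : isLV c = true) {i : ℕ} (hi : i < 24) : co (lv c h) i = (dv c i : ℤ) - 8 := by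
  show vf c (gpt i) = _
  unfold vf
  rw [gidx_gpt hi]

theorem co_add (v w : leechLattice) (i : ℕ) : co (v + w) i = co v i + co w i := rfl
theorem co_neg (v : leechLattice) (i : ℕ) : co (-v) i = - co v i := rfl
theorem co_zero (i : ℕ) : co 0 i = 0 := rfl

theorem bL_co (v w : leechLattice) : 8 * bL v w = ∑ i ∈ Finset.range 24, co v i * co w i := by
  rw [bL_mul]
  unfold dotInt
  rw [sum_gpt (fun p => (v : GolayPt → ℤ) p * (w : GolayPt → ℤ) p)]
  rfl

theorem sqNorm_co (v : leechLattice) : sqNorm (v : GolayPt → ℤ) = ∑ i ∈ Finset.range 24, co v i * co v i := by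
  rw [← bL_self, bL_co]

/-! ### sparse matrices -/

/-- rows: pairs (positions with coefficient +1, positions with coefficient -1) -/
abbrev Rows := List (List ℕ × List ℕ)

def rp (R : Rows) (i : ℕ) : List ℕ := (R.getD i ([], [])).1
def rq (R : Rows) (i : ℕ) : List ℕ := (R.getD i ([], [])).2

def lin (R : Rows) (x : ℕ → ℤ) (i : ℕ) : ℤ := ((rp R i).map x).sum - ((rq R i).map x).sum

def cf (R : Rows) (i k : ℕ) : ℤ := ((rp R i).count k : ℤ) - ((rq R i).count k : ℤ)

theorem sum_map_count (l : List ℕ) (hl : ∀ j ∈ l, j < 24) (x : ℕ → ℤ) :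
    (l.map x).sum = ∑ k ∈ Finset.range 24, (l.count k : ℤ) * x k := by
  induction l with
  | nil => simp
  | cons a l ih =>
    rw [List.map_cons, List.sum_cons, ih (fun j hj => hl j (List.mem_cons_of_mem _ hj))]
    have ha : a ∈ Finset.range 24 := Finset.mem_range.2 (hl a List.mem_cons_self)
    rw [← Finset.sum_erase_add _ _ ha, ← Finset.sum_erase_add (f := fun k => ((a :: l).count k : ℤ) * x k) _ ha]
    have e1 : ∀ k ∈ (Finset.range 24).erase a, ((a :: l).count k : ℤ) * x k = (l.count k : ℤ) * x k := by
      intro k hk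
      have : a ≠ k := fun h => (Finset.mem_erase.1 hk).1 h.symm
      rw [List.count_cons_of_ne this]
    rw [Finset.sum_congr rfl e1, List.count_cons_self]
    push_cast
    ring

def Small (R : Rows) : Prop := ∀ i < 24, (∀ j ∈ rp R i, j < 24) ∧ (∀ j ∈ rq R i, j < 24)

theorem lin_eq {R : Rows} (hR : Small R) (x : ℕ → ℤ) {i : ℕ} (hi : i < 24) :
    lin R x i = ∑ k ∈ Finset.range 24, cf R i k * x k := by
  unfold lin cf
  rw [sum_map_count _ (hR i hi).1, sum_map_count _ (hR i hi).2, ← Finset.sum_sub_distrib]
  exact Finset.sum_congr rfl (fun k _ => by ring)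

/-- the matrix is symmetric with square four -/
structure OKR (R : Rows) : Prop where
  small : Small R
  symm : ∀ i < 24, ∀ k < 24, cf R i k = cf R k i
  sq : ∀ i < 24, ∀ k < 24, lin R (fun j => cf R j k) i = if i = k then 4 else 0

theorem lin_lin {R : Rows} (h : OKR R) (x y : ℕ → ℤ) (hy : ∀ i < 24, 2 * y i = lin R x i) :
    ∀ i < 24, 2 * x i = lin R y i := by
  intro i hi
  have h1 : 2 * lin R y i = 4 * x i := by
    rw [lin_eq h.small y hi, Finset.mul_sum]
    have e1 : ∀ j ∈ Finset.range 24, 2 * (cf R i j * y j) = ∑ k ∈ Finset.range 24, cf R i j * cf R j k * x k := by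
      intro j hj
      have := hy j (Finset.mem_range.1 hj)
      rw [lin_eq h.small x (Finset.mem_range.1 hj)] at this
      calc 2 * (cf R i j * y j) = cf R i j * (2 * y j) := by ring
        _ = _ := by rw [this, Finset.mul_sum]; exact Finset.sum_congr rfl (fun k _ => by ring)
    rw [Finset.sum_congr rfl e1, Finset.sum_comm]
    have e2 : ∀ k ∈ Finset.range 24, (∑ j ∈ Finset.range 24, cf R i j * cf R j k * x k) = (if i = k then 4 else 0) * x k := by
      intro k hk
      rw [← h.sq i hi k (Finset.mem_range.1 hk), lin_eq h.small _ hi, Finset.sum_mul]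
    rw [Finset.sum_congr rfl e2]
    simp only [ite_mul, zero_mul]
    rw [Finset.sum_ite_eq, if_pos (Finset.mem_range.2 hi)]
  omega

theorem norm_lin {R : Rows} (h : OKR R) (x y : ℕ → ℤ) (hy : ∀ i < 24, 2 * y i = lin R x i) :
    ∑ i ∈ Finset.range 24, y i * y i = ∑ i ∈ Finset.range 24, x i * x i := by
  have h2 := lin_lin h x y hy
  have h3 : 2 * ∑ i ∈ Finset.range 24, y i * y i = 2 * ∑ i ∈ Finset.range 24, x i * x i := by
    rw [Finset.mul_sum, Finset.mul_sum]
    have e1 : ∀ i ∈ Finset.range 24, 2 * (y i * y i) = ∑ k ∈ Finset.range 24, cf R i k * x k * y i := by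
      intro i hi
      have := hy i (Finset.mem_range.1 hi)
      rw [lin_eq h.small x (Finset.mem_range.1 hi)] at this
      calc 2 * (y i * y i) = (2 * y i) * y i := by ring
        _ = _ := by rw [this, Finset.sum_mul]
    rw [Finset.sum_congr rfl e1, Finset.sum_comm]
    apply Finset.sum_congr rfl
    intro k hk
    have hk' := Finset.mem_range.1 hk
    have := h2 k hk'
    rw [lin_eq h.small y hk'] at this
    calc ∑ i ∈ Finset.range 24, cf R i k * x k * y i = x k * ∑ i ∈ Finset.range 24, cf R k i * y i := by
          rw [Finset.mul_sum]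
          apply Finset.sum_congr rfl
          intro i hi
          rw [h.symm i (Finset.mem_range.1 hi) k hk']
          ring
      _ = 2 * (x k * x k) := by rw [← this]; ring
  omega

/-- the vector `y` is the image of `x` -/
def Rel (R : Rows) (x y : leechLattice) : Prop := ∀ i < 24, 2 * co y i = lin R (co x) i

theorem lin_add (R : Rows) (x y : ℕ → ℤ) (i : ℕ) : lin R (fun j => x j + y j) i = lin R x i + lin R y i := by
  unfold lin
  rw [List.sum_map_add, List.sum_map_add]
  ring

theorem lin_neg (R : Rows) (x : ℕ → ℤ) (i : ℕ) : lin R (fun j => - x j) i = - lin R x i := by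
  unfold lin
  have h : ∀ l : List ℕ, (l.map fun j => - x j).sum = - (l.map x).sum := by
    intro l
    induction l with
    | nil => simp
    | cons a l ih => simp only [List.map_cons, List.sum_cons, ih]; ring
  rw [h, h]
  ring

theorem Rel.add {R : Rows} {x y x' y' : leechLattice} (h : Rel R x y) (h' : Rel R x' y') : Rel R (x + x') (y + y') := by
  intro i hi
  have e : co (x + x') = fun j => co x j + co x' j := rfl
  rw [co_add, mul_add, h i hi, h' i hi, e, lin_add]

theorem Rel.neg {R : Rows} {x y : leechLattice} (h : Rel R x y) : Rel R (-x) (-y) := by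
  intro i hi
  have e : co (-x) = fun j => - co x j := rfl
  rw [co_neg, mul_neg, h i hi, e, lin_neg]

theorem Rel.zero (R : Rows) : Rel R 0 0 := by
  intro i hi
  unfold lin
  have h : ∀ l : List ℕ, (l.map (co 0)).sum = 0 := by
    intro l
    induction l with
    | nil => rfl
    | cons a l ih => rw [List.map_cons, List.sum_cons, ih, co_zero]; rfl
  rw [h, h, co_zero]
  rfl

theorem Rel.unique {R : Rows} {x y y' : leechLattice} (h : Rel R x y) (h' : Rel R x y') : y = y' := by
  apply co_ext
  intro i hi
  have h1 := h i hi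
  have h2 := h' i hi
  omega

theorem Rel.symm {R : Rows} (hR : OKR R) {x y : leechLattice} (h : Rel R x y) : Rel R y x :=
  lin_lin hR _ _ h

/-- total relation -/
def Tot (R : Rows) : Prop := ∀ x : leechLattice, ∃ y, Rel R x y

noncomputable def eltAdd (R : Rows) (hR : OKR R) (hT : Tot R) : leechLattice ≃+ leechLattice where
  toFun x := (hT x).choose
  invFun x := (hT x).choose
  left_inv x := (Rel.unique ((hT x).choose_spec.symm hR) (hT (hT x).choose).choose_spec).symm
  right_inv x := (Rel.unique ((hT x).choose_spec.symm hR) (hT (hT x).choose).choose_spec).symm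
  map_add' x y := Rel.unique (hT (x + y)).choose_spec ((hT x).choose_spec.add (hT y).choose_spec)

noncomputable def elt (R : Rows) (hR : OKR R) (hT : Tot R) : Co0 :=
  mkCo0 (eltAdd R hR hT) (fun x => by
    rw [sqNorm_co, sqNorm_co]
    exact norm_lin hR _ _ (hT x).choose_spec)

theorem elt_rel {R : Rows} (hR : OKR R) (hT : Tot R) (x : leechLattice) : Rel R x (elt R hR hT • x) :=
  (hT x).choose_spec

theorem elt_eq {R : Rows} (hR : OKR R) (hT : Tot R) {x y : leechLattice} (h : Rel R x y) : elt R hR hT • x = y :=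
  Rel.unique (elt_rel hR hT x) h

theorem elt_sq {R : Rows} (hR : OKR R) (hT : Tot R) : elt R hR hT * elt R hR hT = 1 := by
  apply co0_ext
  intro v
  rw [mul_smul, one_smul]
  exact elt_eq hR hT ((elt_rel hR hT v).symm hR)

/-! ### checks on codes -/

noncomputable def sumd (c : ℕ) (l : List ℕ) : ℕ :=
  @List.rec ℕ (fun _ => ℕ → ℕ) (fun acc => acc) (fun j _ ih acc => ih (Nat.add acc (dv c j))) l 0

theorem sumd_eq (c : ℕ) (l : List ℕ) : sumd c l = (l.map (dv c)).sum := by
  have h : ∀ acc, @List.rec ℕ (fun _ => ℕ → ℕ) (fun acc => acc) (fun j _ ih acc => ih (Nat.add acc (dv c j))) l acc =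
      acc + (l.map (dv c)).sum := by
    induction l with
    | nil => intro acc; simp
    | cons a l ih =>
      intro acc
      show @List.rec ℕ (fun _ => ℕ → ℕ) (fun acc => acc) (fun j _ ih acc => ih (Nat.add acc (dv c j))) l (Nat.add acc (dv c a)) = _
      rw [ih, List.map_cons, List.sum_cons]
      show acc + dv c a + _ = _
      ring
  unfold sumd
  rw [h 0, zero_add]

/-- the digit check: `2 y_i = sum over P - sum over Q`. -/
noncomputable def ckRow (c d : ℕ) (i : ℕ) (r : List ℕ × List ℕ) : Bool :=
  Nat.beq (Nat.add (Nat.add (Nat.mul 2 (dv d i)) (sumd c r.2)) (Nat.mul 8 r.1.length))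
    (Nat.add (Nat.add (sumd c r.1) 16) (Nat.mul 8 r.2.length))

noncomputable def ckRows (c d : ℕ) (R : Rows) : Bool :=
  @List.rec (List ℕ × List ℕ) (fun _ => ℕ → Bool) (fun _ => true)
    (fun r _ ih i => @Bool.rec (fun _ => Bool) false (ih (Nat.succ i)) (ckRow c d i r)) R 0

theorem ckRows_spec (c d : ℕ) (R : Rows) : ∀ i0, @List.rec (List ℕ × List ℕ) (fun _ => ℕ → Bool) (fun _ => true)
    (fun r _ ih i => @Bool.rec (fun _ => Bool) false (ih (Nat.succ i)) (ckRow c d i r)) R i0 = true →
    ∀ i < R.length, ckRow c d (i0 + i) (R.getD i ([], [])) = true := by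
  induction R with
  | nil => intro i0 _ i hi; simp at hi
  | cons r R ih =>
    intro i0 h i hi
    have h' : @Bool.rec (fun _ => Bool) false (@List.rec (List ℕ × List ℕ) (fun _ => ℕ → Bool) (fun _ => true)
      (fun r _ ih i => @Bool.rec (fun _ => Bool) false (ih (Nat.succ i)) (ckRow c d i r)) R (Nat.succ i0)) (ckRow c d i0 r) = true := h
    rcases hb : ckRow c d i0 r with _ | _
    · rw [hb] at h'; cases h'
    · rw [hb] at h'
      rcases i with _ | i
      · exact hb
      · have := ih _ h' i (by simpa using hi)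
        rw [show i0 + (i + 1) = Nat.succ i0 + i by omega]
        simpa using this

theorem map_sub8 (c : ℕ) (l : List ℕ) (x : ℕ → ℤ) (hx : ∀ j ∈ l, x j = (dv c j : ℤ) - 8) :
    (l.map x).sum = ((l.map (dv c)).sum : ℕ) - 8 * (l.length : ℤ) := by
  induction l with
  | nil => simp
  | cons a l ih =>
    rw [List.map_cons, List.sum_cons, List.map_cons, List.sum_cons, List.length_cons,
      ih (fun j hj => hx j (List.mem_cons_of_mem _ hj)), hx a List.mem_cons_self]
    push_cast
    ring

theorem rel_of_ck {R : Rows} (hs : Small R) (hl : R.length = 24) {c d : ℕ} (hc : isLV c = true) (hd : isLV d = true)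
    (h : ckRows c d R = true) : Rel R (lv c hc) (lv d hd) := by
  intro i hi
  have h1 := ckRows_spec c d R 0 h i (by omega)
  rw [zero_add] at h1
  unfold ckRow at h1
  have h2 := Nat.eq_of_beq_eq_true h1
  rw [sumd_eq, sumd_eq] at h2
  unfold lin
  rw [map_sub8 c (rp R i) _ (fun j hj => co_lv hc ((hs i hi).1 j hj)),
    map_sub8 c (rq R i) _ (fun j hj => co_lv hc ((hs i hi).2 j hj)), co_lv hd hi]
  have h3 : 2 * dv d i + ((rq R i).map (dv c)).sum + 8 * (rp R i).length =
    ((rp R i).map (dv c)).sum + 16 + 8 * (rq R i).length := h2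
  omega

/-! ### generators of the lattice -/

def genC : List ℕ := [22447979379041562318170785932, 22447979379041562318170785992, 22447979379041562318170786952, 22447979379041562318170802312, 22447979379041562318171048072, 22447979379041562318174980232, 22447979379041562318237894792, 22447979379041562319244527752, 22447979379041562335350655112, 22447979379041562593048692872, 22447979379041566716217297032, 22447979379041632686914963592, 22447979379042688218077628552, 22447979379059576716680267912, 22447979379329792694322497672, 22447979383653248336598173832, 22447979452828538613008992392, 22447980559633183035582089352, 22447998268507493796751640712, 22448281610496465975464462472, 22452815082320020834869610632, 22525350631496898585351981192, 23685919418326942593069910152, 62062060636173731114942761100, 52777520413600321436643788938, 42874141182330805176569989288, 52779937640220987209261025928, 42912836804243803063448021128, 52161109916456238658079066248, 52199653834939484793018550408, 52816356530671422952050296968, 42257599012453625049328945288,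 42296284085143300040911521928, 42915245248178099906232748168, 52199643839101597801375107208, 52816196597265231085755205768, 67343938137124686954512357785]

end Cfsg.Agent.H8.Lt
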