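import Cfsg.Agent.H8.Lt1
import Cfsg.Agent.H8.SiftTool

/-!
# Generators of the Leech lattice, sparse matrix automorphisms, actions on finite sets of vectors
-/

set_option autoImplicit false
set_option linter.all false

namespace Cfsg.Agent.H8.Lt

open Cfsg Cfsg.Agent.H7

def genK : AddSubgroup (GolayPt → ℤ) := AddSubgroup.closure (vf '' {c | c ∈ genC})

theorem gen_mem {c : ℕ} (h : c ∈ genC) : vf c ∈ genK := AddSubgroup.subset_closure ⟨c, h, rfl⟩

theorem gen_a : ∀ i < 23, ∀ p : GolayPt, vf (genC.getD i 0) p = 4 * ((if p = gpt i then 1 else 0) - (if p = gpt 23 then 1 else 0)) := by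
  decide +kernel

theorem gen_b : ∀ p : GolayPt, vf (genC.getD 23 0) p = 4 * ((if p = gpt 0 then 1 else 0) + (if p = gpt 23 then 1 else 0)) := by
  decide +kernel

theorem gen_c : ∀ i < 12, ∀ p : GolayPt, vf (genC.getD (24 + i) 0) p = 2 * (if (gRows.getD i 0).testBit (gidx p) = true then 1 else 0) := by
  decide +kernel

theorem gen_d : ∀ p : GolayPt, vf (genC.getD 36 0) p = 1 + 4 * (if p = gpt 23 then 1 else 0) := by
  decide +kernel

theorem K1 {i : ℕ} (hi : i < 23) : (4 : ℤ) • (ind {gpt i} - ind {gpt 23}) ∈ genK := by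
  have h : vf (genC.getD i 0) = (4 : ℤ) • (ind {gpt i} - ind {gpt 23}) := by
    funext p
    rw [gen_a i hi p]
    simp only [Pi.smul_apply, Pi.sub_apply, smul_eq_mul, ind_single]
  rw [← h]
  apply gen_mem
  rw [List.getD_eq_getElem _ _ (by simp [genC]; omega)]
  exact List.getElem_mem _

theorem K2 : (4 : ℤ) • (ind {gpt 0} + ind {gpt 23}) ∈ genK := by
  have h : vf (genC.getD 23 0) = (4 : ℤ) • (ind {gpt 0} + ind {gpt 23}) := by
    funext p
    rw [gen_b p]
    simp only [Pi.smul_apply, Pi.add_apply, smul_eq_mul, ind_single]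
  rw [← h]
  exact gen_mem (by decide)

theorem K3 : (8 : ℤ) • ind {gpt 23} ∈ genK := by
  have h := genK.sub_mem K2 (K1 (i := 0) (by norm_num))
  have e : (4 : ℤ) • (ind {gpt 0} + ind {gpt 23}) - (4 : ℤ) • (ind {gpt 0} - ind {gpt 23}) = (8 : ℤ) • ind {gpt 23} := by
    funext p
    simp only [Pi.smul_apply, Pi.add_apply, Pi.sub_apply, smul_eq_mul]
    ring
  rwa [e] at h

theorem gpt_inj {i j : ℕ} (hi : i < 24) (hj : j < 24) (h : gpt i = gpt j) : i = j := by
  rw [← gidx_gpt hi, ← gidx_gpt hj, h]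

theorem K4 {y : GolayPt → ℤ} (hy : (2 : ℤ) ∣ ∑ i, y i) : (4 : ℤ) • y ∈ genK := by
  obtain ⟨t, ht⟩ := hy
  have e : (4 : ℤ) • y = (∑ i ∈ Finset.range 23, y (gpt i) • ((4 : ℤ) • (ind {gpt i} - ind {gpt 23}))) + t • ((8 : ℤ) • ind {gpt 23}) := by
    funext p
    have hs := sum_gpt y
    rw [Finset.sum_range_succ, ht] at hs
    rw [Pi.add_apply, Finset.sum_apply]
    simp only [Pi.smul_apply, Pi.sub_apply, smul_eq_mul, ind_single]
    obtain ⟨k, hk, rfl⟩ : ∃ k < 24, p = gpt k := ⟨gidx p, gidx_lt p, (gpt_gidx p).symm⟩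
    by_cases h23 : k = 23
    · subst h23
      rw [if_pos rfl]
      have e1 : ∀ i ∈ Finset.range 23, y (gpt i) * (4 * ((if gpt 23 = gpt i then (1 : ℤ) else 0) - 1)) = - (4 * y (gpt i)) := by
        intro i hi
        rw [if_neg (fun h => by have := gpt_inj (by norm_num) (by have := Finset.mem_range.1 hi; omega) h; have := Finset.mem_range.1 hi; omega)]
        ring
      rw [Finset.sum_congr rfl e1, Finset.sum_neg_distrib, ← Finset.mul_sum]
      linarith
    · rw [if_neg (fun h => h23 (gpt_inj hk (by norm_num) h))]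
      have hk' : k ∈ Finset.range 23 := Finset.mem_range.2 (by omega)
      rw [← Finset.sum_erase_add _ _ hk', if_pos rfl]
      have e1 : ∀ i ∈ (Finset.range 23).erase k, y (gpt i) * (4 * ((if gpt k = gpt i then (1 : ℤ) else 0) - 0)) = 0 := by
        intro i hi
        rw [if_neg (fun h => (Finset.mem_erase.1 hi).1 (gpt_inj hk (by have := Finset.mem_range.1 (Finset.mem_erase.1 hi).2; omega) h).symm)]
        ring
      rw [Finset.sum_eq_zero e1]
      ring
  rw [e]
  refine genK.add_mem (genK.sum_mem fun i hi => genK.zsmul_mem (K1 (Finset.mem_range.1 hi)) _) (genK.zsmul_mem K3 _)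

theorem K5 : ∀ r ∈ gRows, (2 : ℤ) • ind (toSet r) ∈ genK := by
  intro r hr
  obtain ⟨i, hi, hri⟩ := List.getElem_of_mem hr
  have hi' : i < 12 := hi
  have hri' : gRows.getD i 0 = r := by rw [List.getD_eq_getElem _ _ hi, hri]
  have h : vf (genC.getD (24 + i) 0) = (2 : ℤ) • ind (toSet r) := by
    funext p
    rw [gen_c i hi' p, hri']
    simp only [Pi.smul_apply, smul_eq_mul, ind]
    congr 1
    by_cases hb : r.testBit (gidx p) = true
    · rw [if_pos hb, if_pos (mem_toSet.2 hb)]
    · rw [if_neg hb, if_neg (fun h => hb (mem_toSet.1 h))]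
  rw [← h]
  apply gen_mem
  have hl : 24 + i < genC.length := by
    have : genC.length = 37 := by decide
    omega
  rw [List.getD_eq_getElem _ _ hl]
  exact List.getElem_mem _

theorem K6 (l : List ℕ) (hl : ∀ r ∈ l, r ∈ gRows) (a : ℕ) : toSet (encL l a) ∈ GC ∧ (2 : ℤ) • ind (toSet (encL l a)) ∈ genK := by
  induction l generalizing a with
  | nil =>
    rw [encL, toSet_zero]
    refine ⟨GC_empty, ?_⟩
    have : (2 : ℤ) • ind (∅ : Finset GolayPt) = 0 := by funext p; simp [ind]
    rw [this]
    exact genK.zero_mem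
  | cons r l ih =>
    obtain ⟨h1, h2⟩ := ih (fun x hx => hl x (List.mem_cons_of_mem _ hx)) (a / 2)
    have hr : toSet r ∈ GC := by
      have hr' := hl r List.mem_cons_self
      have h16 : r < 16777216 := by
        have : ∀ r ∈ gRows, r < 16777216 := by decide
        exact this r hr'
      rw [toSet_mem_GC h16]
      have : ∀ r ∈ gRows, isCW r = true := by decide +kernel
      exact this r hr'
    rw [encL]
    split_ifs with h
    · rw [toSet_xor]
      refine ⟨GC_symmDiff hr h1, ?_⟩
      have e : (2 : ℤ) • ind (symmDiff (toSet r) (toSet (encL l (a / 2)))) =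
          (2 : ℤ) • ind (toSet r) + (2 : ℤ) • ind (toSet (encL l (a / 2))) - (4 : ℤ) • ind (toSet r ∩ toSet (encL l (a / 2))) := by
        funext p
        simp only [Pi.smul_apply, Pi.add_apply, Pi.sub_apply, smul_eq_mul, ind, Finset.mem_symmDiff, Finset.mem_inter]
        by_cases hp1 : p ∈ toSet r <;> by_cases hp2 : p ∈ toSet (encL l (a / 2)) <;> simp [hp1, hp2]
      rw [e]
      refine genK.sub_mem (genK.add_mem (K5 r (hl r List.mem_cons_self)) h2) (K4 ?_)
      rw [ind_sum]
      exact_mod_cast GC_inter_even hr h1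
    · rw [Nat.zero_xor]
      exact ⟨h1, h2⟩

theorem leech_le {x : GolayPt → ℤ} (hx : x ∈ leechLattice) : x ∈ genK := by
  have key : ∀ s ∈ GC, (2 : ℤ) • ind s ∈ genK := by
    intro s hs
    obtain ⟨a, _, rfl⟩ := mem_GC_iff.1 hs
    exact (K6 gRows (fun _ h => h) a).2
  rcases mem_leech_cases.1 hx with ⟨s, y, h1, h2, h3⟩ | ⟨s, y, h1, h2, h3⟩
  · have e : x = (2 : ℤ) • ind s + (4 : ℤ) • y := by
      funext p
      rw [h2 p]
      simp only [Pi.smul_apply, Pi.add_apply, smul_eq_mul]
      ring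
    rw [e]
    exact genK.add_mem (key s h1) (K4 (by simpa using h3))
  · have e : x = vf (genC.getD 36 0) + (2 : ℤ) • ind s + (4 : ℤ) • (y - ind {gpt 23}) := by
      funext p
      rw [h2 p]
      simp only [Pi.smul_apply, Pi.add_apply, Pi.sub_apply, smul_eq_mul, gen_d p, ind_single]
      ring
    rw [e]
    refine genK.add_mem (genK.add_mem (gen_mem (by decide)) (key s h1)) (K4 ?_)
    simp only [Pi.sub_apply, Finset.sum_sub_distrib, ind_sum, Finset.card_singleton]
    simpa using h3

/-- the relation is total when it is on generators -/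
theorem tot_of_gen {R : Rows} (hs : Small R) (hl : R.length = 24) (im : ℕ → ℕ)
    (h : ∀ t < 37, isLV (im t) = true ∧ ckRows (genC.getD t 0) (im t) R = true)
    (hg : ∀ c ∈ genC, isLV c = true) : Tot R := by
  have key : ∀ x ∈ genK, ∃ y : leechLattice, ∀ i < 24, 2 * co y i = lin R (fun j => x (gpt j)) i := by
    intro x hx
    induction hx using AddSubgroup.closure_induction with
    | mem x hx =>
      obtain ⟨c, hc, rfl⟩ := hx
      obtain ⟨t, ht, rfl⟩ := List.getElem_of_mem (show c ∈ genC from hc)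
      have ht' : t < 37 := ht
      obtain ⟨h1, h2⟩ := h t ht'
      rw [List.getD_eq_getElem _ _ ht] at h2
      exact ⟨lv _ h1, rel_of_ck hs hl (hg _ hc) h1 h2⟩
    | zero => exact ⟨0, Rel.zero R⟩
    | add x y _ _ hx hy =>
      obtain ⟨x', hx'⟩ := hx
      obtain ⟨y', hy'⟩ := hy
      refine ⟨x' + y', fun i hi => ?_⟩
      rw [co_add, mul_add, hx' i hi, hy' i hi]
      exact (lin_add R (fun j => x (gpt j)) (fun j => y (gpt j)) i).symm
    | neg x _ hx =>
      obtain ⟨x', hx'⟩ := hx
      refine ⟨-x', fun i hi => ?_⟩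
      rw [co_neg, mul_neg, hx' i hi]
      exact (lin_neg R (fun j => x (gpt j)) i).symm
  intro x
  exact key x (leech_le x.2)

theorem gen_lv : ∀ c ∈ genC, isLV c = true := by decide +kernel

/-! ### boolean test for matrices -/

def okB (R : Rows) : Bool :=
  decide (R.length = 24) && (decide (∀ i : ℕ, i < 24 → (∀ j ∈ rp R i, j < 24) ∧ (∀ j ∈ rq R i, j < 24)) &&
  decide (∀ i : ℕ, i < 24 → ∀ k : ℕ, k < 24 → cf R i k = cf R k i ∧ lin R (fun j => cf R j k) i = if i = k then 4 else 0))

theorem okB_spec {R : Rows} (h : okB R = true) : R.length = 24 ∧ OKR R := by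
  unfold okB at h
  rw [Bool.and_eq_true, Bool.and_eq_true] at h
  obtain ⟨h1, h2, h3⟩ := h
  have h1 := of_decide_eq_true h1
  have h2 := of_decide_eq_true h2
  have h3 := of_decide_eq_true h3
  exact ⟨h1, h2, fun i hi k hk => (h3 i hi k hk).1, fun i hi k hk => (h3 i hi k hk).2⟩

/-! ### actions -/

section
variable {G : Type*} [Group G] {X : Type*} [MulAction G X] {n : ℕ}

theorem exists_rho (f : Fin n → X) (hf : Function.Injective f) (hG : ∀ (g : G) (i : Fin n), ∃ j, g • f i = f j) :
    ∃ ρ : G →* Equiv.Perm (Fin n), ∀ g i, f (ρ g i) = g • f i := by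
  choose r hr using hG
  have h1 : ∀ i, r 1 i = i := fun i => hf (by rw [← hr, one_smul])
  have h2 : ∀ g h i, r (g * h) i = r g (r h i) := fun g h i => hf (by rw [← hr, mul_smul, hr, hr])
  refine ⟨{ toFun := fun g => { toFun := r g, invFun := r g⁻¹, left_inv := fun i => by rw [← h2, inv_mul_cancel, h1],
                                right_inv := fun i => by rw [← h2, mul_inv_cancel, h1] }
            map_one' := Equiv.ext h1
            map_mul' := fun g h => Equiv.ext (h2 g h) }, fun g i => (hr g i).symm⟩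

end

theorem surj_of_ncard {X : Type*} {n : ℕ} (f : Fin n → X) (hf : Function.Injective f) (S : Set X)
    (hS : ∀ i, f i ∈ S) (hc : S.ncard = n) (hn : n ≠ 0) : ∀ x ∈ S, ∃ i, f i = x := by
  have hfin : S.Finite := Set.finite_of_ncard_ne_zero (by rw [hc]; exact hn)
  have h1 : Set.range f ⊆ S := by rintro _ ⟨i, rfl⟩; exact hS i
  have h2 : (Set.range f).ncard = n := by
    rw [← Set.image_univ, Set.ncard_image_of_injective _ hf, Set.ncard_univ, Nat.card_eq_fintype_card, Fintype.card_fin]
  have h3 : Set.range f = S := Set.eq_of_subset_of_ncard_le h1 (by rw [h2, hc]) hfin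
  intro x hx
  rw [← h3] at hx
  exact hx

end Cfsg.Agent.H8.Lt
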