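import Cfsg.Agent.H8.LtCo3

/-!
# Subgroups of `Co3` fixing a further vector
-/

set_option autoImplicit false
set_option linter.all false

namespace Cfsg.Agent.H8.Lt

open Cfsg Cfsg.Agent.H7 Cfsg.Agent.H8

theorem ckDot_of {c d pb nb : ℕ} (hc : isLV c = true) (hd : isLV d = true)
    (h : bL (lv c hc) (lv d hd) = (pb : ℤ) - nb) : ckDot c d pb nb = true := by
  have h2 := bL_co (lv c hc) (lv d hd)
  have e : ∀ i ∈ Finset.range 24, co (lv c hc) i * co (lv d hd) i =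
      (dv c i : ℤ) * dv d i - 8 * dv c i - 8 * dv d i + 64 := by
    intro i hi
    rw [co_lv hc (Finset.mem_range.1 hi), co_lv hd (Finset.mem_range.1 hi)]
    ring
  rw [Finset.sum_congr rfl e, Finset.sum_add_distrib, Finset.sum_sub_distrib, Finset.sum_sub_distrib,
    ← Finset.mul_sum, ← Finset.mul_sum, Finset.sum_const, Finset.card_range, h] at h2
  have h1 : dotN 24 c d + (1536 + 8 * nb) = 8 * (sumN 24 c + sumN 24 d + pb) := by
    rw [dotN_eq, sumN_eq, sumN_eq]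
    have h3 : ((∑ i ∈ Finset.range 24, dv c i * dv d i : ℕ) : ℤ) + (1536 + 8 * nb) =
        8 * ((∑ i ∈ Finset.range 24, dv c i : ℕ) + (∑ i ∈ Finset.range 24, dv d i : ℕ) + pb) := by
      push_cast
      simp only [nsmul_eq_mul] at h2
      push_cast at h2
      linarith
    exact_mod_cast h3
  show Nat.beq (dotN 24 c d + (1536 + 8 * nb)) (8 * (sumN 24 c + sumN 24 d + pb)) = true
  rw [h1]
  exact Nat.beq_refl _

/-- completeness test for a sublist -/
noncomputable def ckSubV (VC EM EI : ℕ → ℕ) (m U pb nb j : ℕ) : Bool :=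
  @Bool.rec (fun _ => Bool) true
    (@Bool.rec (fun _ => Bool) false (Nat.beq (EM (EI j)) j) (Nat.ble (Nat.succ (EI j)) m)) (ckDot (VC j) U pb nb)

theorem ckSubV_spec {VC EM EI : ℕ → ℕ} {m U pb nb j : ℕ} (h : ckSubV VC EM EI m U pb nb j = true)
    (h2 : ckDot (VC j) U pb nb = true) : EI j < m ∧ EM (EI j) = j := by
  unfold ckSubV at h
  rw [h2] at h
  rcases hb : Nat.ble (Nat.succ (EI j)) m with _ | _
  · rw [hb] at h; cases h
  · rw [hb] at h
    exact ⟨Nat.le_of_ble_eq_true hb, Nat.eq_of_beq_eq_true h⟩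

theorem word_vec (w : List ℕ) (hw : ∀ l ∈ w, l < 3) (i : Fin 552) :
    ∃ h : trN LtC3.T w i < 552, ((((w.map LtCo3.s).prod)⁻¹ : LtCo3.G) : Co0) • LtCo3.vec i = LtCo3.vec ⟨trN LtC3.T w i, h⟩ := by
  have h1 := act_word LtCo3.s LtC3.tok LtCo3.ρ LtCo3.hρ i w hw
  have h2 : trN LtC3.T w i < 552 := by rw [← h1]; exact (act LtCo3.ρ i _).2
  refine ⟨h2, ?_⟩
  rw [← LtCo3.ρ_spec]
  congr 1
  apply Fin.ext
  rw [map_inv]
  exact h1

end Cfsg.Agent.H8.Lt
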