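import Cfsg.Agent.H8.T.LtM

/-!
# `McL` acting on 275 vectors
-/

set_option autoImplicit false
set_option linter.all false
set_option maxRecDepth 100000

namespace Cfsg.Agent.H8.LtMcL

open Cfsg Cfsg.Agent.H7 Cfsg.Agent.H8 Cfsg.Agent.H8.Lt Cfsg.Agent.H8.LtM

/-- the further vector -/
def u1 : leechLattice := lv U okU

theorem st_0_u1 : ((LtCo3.s 0 : LtCo3.G) : Co0) • u1 = u1 :=
  elt_eq _ _ (rel_of_ck (okB_spec LtC3.okR0).2.small (okB_spec LtC3.okR0).1 _ _ (by decide +kernel))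

theorem st_1_u1 : ((LtCo3.s 1 : LtCo3.G) : Co0) • u1 = u1 :=
  elt_eq _ _ (rel_of_ck (okB_spec LtC3.okR1).2.small (okB_spec LtC3.okR1).1 _ _ (by decide +kernel))

def b1 : leechLattice := lv 32970469712967296991277787240 (by decide +kernel)

theorem st_2_u1 : ((LtCo3.s 2 : LtCo3.G) : Co0) • u1 = b1 :=
  elt_eq _ _ (rel_of_ck (okB_spec LtC3.okR2).2.small (okB_spec LtC3.okR2).1 _ _ (by decide +kernel))

def b2 : leechLattice := lv 32392603171192064859259439720 (by decide +kernel)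

theorem st_0_b1 : ((LtCo3.s 0 : LtCo3.G) : Co0) • b1 = b2 :=
  elt_eq _ _ (rel_of_ck (okB_spec LtC3.okR0).2.small (okB_spec LtC3.okR0).1 _ _ (by decide +kernel))

theorem st_1_b2 : ((LtCo3.s 1 : LtCo3.G) : Co0) • b2 = b2 :=
  elt_eq _ _ (rel_of_ck (okB_spec LtC3.okR1).2.small (okB_spec LtC3.okR1).1 _ _ (by decide +kernel))

theorem st_0_b2 : ((LtCo3.s 0 : LtCo3.G) : Co0) • b2 = b1 :=
  elt_eq _ _ (rel_of_ck (okB_spec LtC3.okR0).2.small (okB_spec LtC3.okR0).1 _ _ (by decide +kernel))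

theorem st_2_b1 : ((LtCo3.s 2 : LtCo3.G) : Co0) • b1 = u1 :=
  elt_eq _ _ (rel_of_ck (okB_spec LtC3.okR2).2.small (okB_spec LtC3.okR2).1 _ _ (by decide +kernel))

def mw : ℕ → List ℕ := fun l => ([[0], [1], [1, 2, 0, 1, 0, 2, 1]] : List (List ℕ)).getD l []

theorem mw_ok (l : ℕ) : ∀ k ∈ mw l, k < 3 := by
  by_cases h : l < 3
  · have : ∀ l < 3, ∀ k ∈ mw l, k < 3 := by decide
    exact this l h
  · have : mw l = [] := by
      unfold mw
      rw [List.getD_eq_default]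
      show 3 ≤ l
      omega
    rw [this]; simp

/-- the letters in `Co3` -/
noncomputable def g3 (l : ℕ) : LtCo3.G := ((mw l).map LtCo3.s).prod

theorem g3_u1 (l : ℕ) : (g3 l : Co0) • u1 = u1 := by
  by_cases h : l < 3
  · interval_cases l
    · show (((([0] : List ℕ).map LtCo3.s).prod : LtCo3.G) : Co0) • u1 = u1
      simp only [List.map_cons, List.map_nil, List.prod_cons, List.prod_nil, mul_one, Subgroup.coe_mul, mul_smul]
      rw [st_0_u1]
    · show (((([1] : List ℕ).map LtCo3.s).prod : LtCo3.G) : Co0) • u1 = u1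
      simp only [List.map_cons, List.map_nil, List.prod_cons, List.prod_nil, mul_one, Subgroup.coe_mul, mul_smul]
      rw [st_1_u1]
    · show (((([1, 2, 0, 1, 0, 2, 1] : List ℕ).map LtCo3.s).prod : LtCo3.G) : Co0) • u1 = u1
      simp only [List.map_cons, List.map_nil, List.prod_cons, List.prod_nil, mul_one, Subgroup.coe_mul, mul_smul]
      rw [st_1_u1, st_2_u1, st_0_b1, st_1_b2, st_0_b2, st_2_b1, st_1_u1]
  · have : mw l = [] := by
      unfold mw
      rw [List.getD_eq_default]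
      show 3 ≤ l
      omega
    unfold g3
    rw [this]
    exact one_smul _ _

theorem u1_norm : bL u1 u1 = 4 := by
  have := ckDot_spec okU okU uU
  rw [u1, this]; norm_num

theorem u1_w0 : bL u1 LtCo3.w0 = 3 := by
  have := ckDot_spec (pb := 3) (nb := 0) okU LtC3.okW (by decide +kernel)
  rw [u1, LtCo3.w0, this]; norm_num

abbrev G := (MulAction.stabilizer Co0 LtCo3.w0 ⊓ MulAction.stabilizer Co0 u1 : Subgroup Co0)

theorem em_lt {i : ℕ} (hi : i < 275) : EM i < 552 := Nat.le_of_ble_eq_true (allR_zero _ _ eBd i hi)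

theorem EM_lt {i j : ℕ} (hij : i < j) (hj : j < 275) : EM i < EM j := by
  induction j with
  | zero => omega
  | succ j ih =>
    have h1 : EM j < EM (j + 1) := by
      have := allR_zero _ _ eLt j (by omega)
      exact Nat.le_of_ble_eq_true this
    rcases Nat.lt_or_ge i j with h | h
    · exact lt_trans (ih h (by omega)) h1
    · have : i = j := by omega
      rw [this]; exact h1

noncomputable def vec (i : Fin 275) : leechLattice := LtCo3.vec ⟨EM i, em_lt i.2⟩

theorem vec_inj : Function.Injective vec := by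
  intro i j h
  have h1 := Fin.mk.inj (LtCo3.vec_inj h)
  rcases Nat.lt_trichotomy (i : ℕ) j with h2 | h2 | h2
  · exact absurd h1 (Nat.ne_of_lt (EM_lt h2 j.2))
  · exact Fin.ext h2
  · exact absurd h1.symm (Nat.ne_of_lt (EM_lt h2 i.2))

theorem vec_u1 (i : Fin 275) : bL (vec i) u1 = (2 : ℕ) - (0 : ℕ) :=
  ckDot_spec (LtCo3.vC_ok (em_lt i.2)) okU (allR_zero _ _ eDot i i.2)

theorem G_inv (g : G) (i : Fin 275) : ∃ j, (g : Co0) • vec i = vec j := by
  have hg : (g : Co0) • LtCo3.w0 = LtCo3.w0 := g.2.1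
  have hu : (g : Co0) • u1 = u1 := g.2.2
  obtain ⟨j, hj⟩ := LtCo3.vec_surj ((g : Co0) • vec i) (by rw [co0_bL]; exact LtCo3.vec_norm _) (by
    have h := co0_bL (g : Co0) (vec i) LtCo3.w0
    rw [hg] at h
    rw [h]
    exact LtCo3.vec_w0 _)
  have h2 : bL (LtCo3.vec j) u1 = (2 : ℕ) - (0 : ℕ) := by
    rw [hj]
    have h := co0_bL (g : Co0) (vec i) u1
    rw [hu] at h
    rw [h, vec_u1]
  obtain ⟨h3, h4⟩ := ckSubV_spec (allR_zero _ _ eSub j j.2) (ckDot_of (LtCo3.vC_ok j.2) okU h2)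
  refine ⟨⟨EI j, h3⟩, ?_⟩
  rw [← hj]
  unfold vec
  congr 1
  exact Fin.ext h4.symm

noncomputable def s (l : ℕ) : G := ⟨(g3 l : Co0), (g3 l).2, g3_u1 l⟩

theorem rho_ex : ∃ ρ : G →* Equiv.Perm (Fin 275), ∀ g i, vec (ρ g i) = g • vec i :=
  exists_rho vec vec_inj G_inv

noncomputable def ρ : G →* Equiv.Perm (Fin 275) := rho_ex.choose

theorem ρ_spec (g : G) (i : Fin 275) : vec (ρ g i) = (g : Co0) • vec i := rho_ex.choose_spec g i

theorem hρ : ∀ l < 3, ρ (s l) = permL tok l := by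
  intro l hl
  rw [← inv_inj, ← map_inv]
  apply Equiv.ext
  intro i
  apply vec_inj
  rw [ρ_spec]
  obtain ⟨h1, h2⟩ := word_vec (mw l) (mw_ok l) ⟨EM i, em_lt i.2⟩
  have h3 : (((s l)⁻¹ : G) : Co0) • vec i = LtCo3.vec ⟨trN LtC3.T (mw l) (EM i), h1⟩ := h2
  rw [h3]
  unfold vec
  congr 1
  apply Fin.ext
  have h4 : (((permL tok l)⁻¹ i : Fin 275) : ℕ) = T l i := permL_inv_apply tok l hl i
  show trN LtC3.T (mw l) (EM i) = EM ((permL tok l)⁻¹ i : Fin 275)
  rw [h4]
  interval_cases l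
  · exact Nat.eq_of_beq_eq_true (allR_zero _ _ ek0 i i.2)
  · exact Nat.eq_of_beq_eq_true (allR_zero _ _ ek1 i i.2)
  · exact Nat.eq_of_beq_eq_true (allR_zero _ _ ek2 i i.2)

theorem isoK : Nonempty (G ≃* ↥McLS) := mcl_iso' LtCo3.w0 u1 LtCo3.w0_norm u1_norm u1_w0

theorem cardG : Nat.card G = 898128000 := by
  obtain ⟨e⟩ := isoK
  rw [Nat.card_congr e.toEquiv, card_McLS]

theorem simple : IsSimpleGroup G := by
  obtain ⟨e⟩ := isoK
  exact simple_of_iso e mcl_simple

theorem s_sq (l : ℕ) (hl : l < 3) : ρ (s l) ≠ 1 := by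
  intro h
  rw [hρ l hl] at h
  have h2 := congrArg (fun σ : Equiv.Perm (Fin 275) => ((σ ⟨1, by norm_num⟩ : Fin 275) : ℕ)) h
  have h3 : T l 1 = 1 := by
    have e := permL_apply tok l hl ⟨1, by norm_num⟩
    exact e.symm.trans h2
  revert h3
  interval_cases l <;> decide +kernel

theorem ρ_injective : Function.Injective ρ := by
  rw [← MonoidHom.ker_eq_bot_iff]
  rcases simple.eq_bot_or_eq_top_of_normal ρ.ker inferInstance with h | h
  · exact h
  · exfalso
    have h1 : s 0 ∈ ρ.ker := by rw [h]; exact Subgroup.mem_top _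
    exact s_sq 0 (by norm_num) h1

end Cfsg.Agent.H8.LtMcL
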