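import Cfsg.Agent.H8.T.McLOx
import Cfsg.Agent.H8.T.McLOF
import Cfsg.Agent.H8.T.McLOb
import Cfsg.Agent.H8.LtMcL
import Cfsg.Agent.H8.NormHom

/-!
# Automorphisms of the group LtMcL.G
-/

set_option Elab.async false
set_option autoImplicit false
set_option linter.all false
set_option maxRecDepth 100000
set_option maxHeartbeats 2000000

namespace Cfsg.Agent.H8.McLO

open Cfsg.Spor
open Cfsg.Agent.H8

noncomputable def s : Nat → LtMcL.G := OT.extI Cfsg.Agent.H8.LtMcL.s 3 bws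

theorem s_lt (l : Nat) (h : l < 3) : s l = Cfsg.Agent.H8.LtMcL.s l := OT.extI_lt _ _ _ l h

noncomputable def ρ : LtMcL.G →* Equiv.Perm (Fin 275) := Cfsg.Agent.H8.LtMcL.ρ

theorem hρ : ∀ l < 59, ρ (s l) = permL tok l :=
  OT.extI_rho tok ρ bws Cfsg.Agent.H8.LtMcL.s 3 (by
    intro l hl
    have h0 : ρ (Cfsg.Agent.H8.LtMcL.s l) = permL Cfsg.Agent.H8.LtM.tok l := Cfsg.Agent.H8.LtMcL.hρ l hl
    rw [h0]
    ext j
    rw [permL_apply Cfsg.Agent.H8.LtM.tok l hl, permL_apply tok l (lt_trans hl (by decide)), hii l hl,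
      hTT _ (Cfsg.Agent.H8.LtM.tok.inv_lt l hl)]) (by decide) hwb

theorem inj : Function.Injective ρ := Cfsg.Agent.H8.LtMcL.ρ_injective

theorem cardG : Nat.card LtMcL.G = 898128000 := Cfsg.Agent.H8.LtMcL.cardG

theorem xchain : wordGroup s xG0 = ⊤ ∧ (∀ g ∈ wordGroup s xG0, xQ0 (act ρ ⟨40, by decide⟩ g : Fin 275) ≠ 0) ∧ (∀ g ∈ wordGroup s xG0, act ρ ⟨40, by decide⟩ g = ⟨40, by decide⟩ → g ∈ wordGroup s xG1) ∧
    (∀ g ∈ wordGroup s xG1, xQ1 (act ρ ⟨120, by decide⟩ g : Fin 275) ≠ 0) ∧ (∀ g ∈ wordGroup s xG1, act ρ ⟨120, by decide⟩ g = ⟨120, by decide⟩ → g ∈ wordGroup s xG2) ∧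
    (∀ g ∈ wordGroup s xG2, xQ2 (act ρ ⟨122, by decide⟩ g : Fin 275) ≠ 0) ∧ (∀ g ∈ wordGroup s xG2, act ρ ⟨122, by decide⟩ g = ⟨122, by decide⟩ → g ∈ wordGroup s xG3) ∧
    (∀ g ∈ wordGroup s xG3, xQ3 (act ρ ⟨143, by decide⟩ g : Fin 275) ≠ 0) ∧ (∀ g ∈ wordGroup s xG3, act ρ ⟨143, by decide⟩ g = ⟨143, by decide⟩ → g ∈ wordGroup s xG4) ∧
    (∀ g ∈ wordGroup s xG4, xQ4 (act ρ ⟨44, by decide⟩ g : Fin 275) ≠ 0) ∧ (∀ g ∈ wordGroup s xG4, act ρ ⟨44, by decide⟩ g = ⟨44, by decide⟩ → g ∈ wordGroup s xG5) ∧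
    (∀ g ∈ wordGroup s xG5, xQ5 (act ρ ⟨61, by decide⟩ g : Fin 275) ≠ 0) ∧ (∀ g ∈ wordGroup s xG5, act ρ ⟨61, by decide⟩ g = ⟨61, by decide⟩ → g ∈ wordGroup s ([] : List (List Nat))) := by
  haveI : Finite LtMcL.G := Nat.finite_of_card_ne_zero (by rw [cardG]; decide)
  have k0 := card_step s tok ρ hρ xQ0 275 xG0 xG1 (by decide) ⟨40, by decide⟩ xr0 xc0
    (by decide) (by decide +kernel) inferInstance
  have k1 := card_step s tok ρ hρ xQ1 162 xG1 xG2 (by decide) ⟨120, by decide⟩ xr1 xc1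
    (by decide) (by decide +kernel) inferInstance
  have k2 := card_step s tok ρ hρ xQ2 56 xG2 xG3 (by decide) ⟨122, by decide⟩ xr2 xc2
    (by decide) (by decide +kernel) inferInstance
  have k3 := card_step s tok ρ hρ xQ3 36 xG3 xG4 (by decide) ⟨143, by decide⟩ xr3 xc3
    (by decide) (by decide +kernel) inferInstance
  have k4 := card_step s tok ρ hρ xQ4 10 xG4 xG5 (by decide) ⟨44, by decide⟩ xr4 xc4
    (by decide) (by decide +kernel) inferInstance
  have k5 := card_step s tok ρ hρ xQ5 1 xG5 ([] : List (List Nat)) (by decide) ⟨61, by decide⟩ xr5 xc5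
    (by decide) (by decide +kernel) inferInstance
  have k : Nat.card (wordGroup s xG0) ≤ 898128000 := by rw [← cardG]; exact Subgroup.card_le_card_group _
  have kl : 0 < Nat.card (wordGroup s ([] : List (List Nat))) := Nat.card_pos
  have e0 : Nat.card (wordGroup s xG0) = 898128000 := by omega
  have e1 : Nat.card (wordGroup s xG1) = 3265920 := by omega
  have e2 : Nat.card (wordGroup s xG2) = 20160 := by omega
  have e3 : Nat.card (wordGroup s xG3) = 360 := by omega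
  have e4 : Nat.card (wordGroup s xG4) = 10 := by omega
  have e5 : Nat.card (wordGroup s xG5) = 1 := by omega
  have e6 : Nat.card (wordGroup s ([] : List (List Nat))) = 1 := by omega
  have x0 := exact_step s tok ρ xQ0 275 xG0 xG1 (by decide) ⟨40, by decide⟩ xr0 xc0
    (by decide) (by decide +kernel) inferInstance hρ (by rw [e0, e1])
  have x1 := exact_step s tok ρ xQ1 162 xG1 xG2 (by decide) ⟨120, by decide⟩ xr1 xc1
    (by decide) (by decide +kernel) inferInstance hρ (by rw [e1, e2])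
  have x2 := exact_step s tok ρ xQ2 56 xG2 xG3 (by decide) ⟨122, by decide⟩ xr2 xc2
    (by decide) (by decide +kernel) inferInstance hρ (by rw [e2, e3])
  have x3 := exact_step s tok ρ xQ3 36 xG3 xG4 (by decide) ⟨143, by decide⟩ xr3 xc3
    (by decide) (by decide +kernel) inferInstance hρ (by rw [e3, e4])
  have x4 := exact_step s tok ρ xQ4 10 xG4 xG5 (by decide) ⟨44, by decide⟩ xr4 xc4
    (by decide) (by decide +kernel) inferInstance hρ (by rw [e4, e5])
  have x5 := exact_step s tok ρ xQ5 1 xG5 ([] : List (List Nat)) (by decide) ⟨61, by decide⟩ xr5 xc5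
    (by decide) (by decide +kernel) inferInstance hρ (by rw [e5, e6])
  exact ⟨Subgroup.eq_top_of_card_eq _ (by rw [e0, cardG]), x0.1, x0.2, x1.1, x1.2, x2.1, x2.2, x3.1, x3.2, x4.1, x4.2, x5.1, x5.2⟩

theorem xbot : wordGroup s ([] : List (List Nat)) = ⊥ := by
  unfold wordGroup
  rw [eq_bot_iff, Subgroup.closure_le]
  rintro g ⟨w, hw, _⟩
  simp at hw

theorem xp0 : act ρ ⟨40, by decide⟩ ((([3] : List Nat).map s).prod ^ 0) = (⟨40, by decide⟩ : Fin 275) :=
  Fin.ext (by rw [OT.iter_fin s tok ρ [3] (by decide) hρ]; decide +kernel)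
theorem xp1 : act ρ ⟨40, by decide⟩ ((([3] : List Nat).map s).prod ^ 1) = (⟨120, by decide⟩ : Fin 275) :=
  Fin.ext (by rw [OT.iter_fin s tok ρ [3] (by decide) hρ]; decide +kernel)
theorem xp2 : act ρ ⟨40, by decide⟩ ((([3] : List Nat).map s).prod ^ 2) = (⟨122, by decide⟩ : Fin 275) :=
  Fin.ext (by rw [OT.iter_fin s tok ρ [3] (by decide) hρ]; decide +kernel)
theorem xp3 : act ρ ⟨40, by decide⟩ ((([3] : List Nat).map s).prod ^ 3) = (⟨143, by decide⟩ : Fin 275) :=
  Fin.ext (by rw [OT.iter_fin s tok ρ [3] (by decide) hρ]; decide +kernel)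
theorem xp4 : act ρ ⟨40, by decide⟩ ((([3] : List Nat).map s).prod ^ 4) = (⟨44, by decide⟩ : Fin 275) :=
  Fin.ext (by rw [OT.iter_fin s tok ρ [3] (by decide) hρ]; decide +kernel)
theorem xp5 : act ρ ⟨40, by decide⟩ ((([3] : List Nat).map s).prod ^ 5) = (⟨61, by decide⟩ : Fin 275) :=
  Fin.ext (by rw [OT.iter_fin s tok ρ [3] (by decide) hρ]; decide +kernel)

/-- an element fixing the base is trivial. -/
theorem xbase (g : LtMcL.G) (h0 : act ρ ⟨40, by decide⟩ g = (⟨40, by decide⟩ : Fin 275)) (h1 : act ρ ⟨120, by decide⟩ g = (⟨120, by decide⟩ : Fin 275)) (h2 : act ρ ⟨122, by decide⟩ g = (⟨122, by decide⟩ : Fin 275)) (h3 : act ρ ⟨143, by decide⟩ g = (⟨143, by decide⟩ : Fin 275)) (h4 : act ρ ⟨44, by decide⟩ g = (⟨44, by decide⟩ : Fin 275)) (h5 : act ρ ⟨61, by decide⟩ g = (⟨61, by decide⟩ : Fin 275)) : g = 1 := by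
  have g0 : g ∈ wordGroup s xG0 := by rw [xchain.1]; exact Subgroup.mem_top g
  have g1 := xchain.2.2.1 g g0 h0
  have g2 := xchain.2.2.2.2.1 g g1 h1
  have g3 := xchain.2.2.2.2.2.2.1 g g2 h2
  have g4 := xchain.2.2.2.2.2.2.2.2.1 g g3 h3
  have g5 := xchain.2.2.2.2.2.2.2.2.2.2.1 g g4 h4
  have g6 := xchain.2.2.2.2.2.2.2.2.2.2.2.2 g g5 h5
  rw [xbot] at g6
  exact Subgroup.mem_bot.1 g6

theorem xrej : Rej ρ (⊤ : Subgroup LtMcL.G) ((List.range 6).map fun i => act ρ ⟨40, by decide⟩ ((([3] : List Nat).map s).prod ^ i)) xK0 := by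
  have e : ((List.range 6).map fun i => act ρ (⟨40, by decide⟩ : Fin 275) ((([3] : List Nat).map s).prod ^ i)) = [(⟨40, by decide⟩ : Fin 275), (⟨120, by decide⟩ : Fin 275), (⟨122, by decide⟩ : Fin 275), (⟨143, by decide⟩ : Fin 275), (⟨44, by decide⟩ : Fin 275), (⟨61, by decide⟩ : Fin 275)] := by
    change [act ρ (⟨40, by decide⟩ : Fin 275) ((([3] : List Nat).map s).prod ^ 0), act ρ (⟨40, by decide⟩ : Fin 275) ((([3] : List Nat).map s).prod ^ 1), act ρ (⟨40, by decide⟩ : Fin 275) ((([3] : List Nat).map s).prod ^ 2), act ρ (⟨40, by decide⟩ : Fin 275) ((([3] : List Nat).map s).prod ^ 3), act ρ (⟨40, by decide⟩ : Fin 275) ((([3] : List Nat).map s).prod ^ 4), act ρ (⟨40, by decide⟩ : Fin 275) ((([3] : List Nat).map s).prod ^ 5)] = _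
    rw [xp0, xp1, xp2, xp3, xp4, xp5]
  rw [e, ← xchain.1]
  exact (Rej_step s tok ρ hρ (wordGroup s xG0) (wordGroup s xG1) ⟨40, by decide⟩ [(⟨120, by decide⟩ : Fin 275), (⟨122, by decide⟩ : Fin 275), (⟨143, by decide⟩ : Fin 275), (⟨44, by decide⟩ : Fin 275), (⟨61, by decide⟩ : Fin 275)] _ xQ0 xG0 8 (by decide)
    (fun w hw => mem_wordGroup s _ w hw) xchain.2.1 xchain.2.2.1 (Rej_step s tok ρ hρ (wordGroup s xG1) (wordGroup s xG2) ⟨120, by decide⟩ [(⟨122, by decide⟩ : Fin 275), (⟨143, by decide⟩ : Fin 275), (⟨44, by decide⟩ : Fin 275), (⟨61, by decide⟩ : Fin 275)] _ xQ1 xG1 8 (by decide)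
    (fun w hw => mem_wordGroup s _ w hw) xchain.2.2.2.1 xchain.2.2.2.2.1 (Rej_step s tok ρ hρ (wordGroup s xG2) (wordGroup s xG3) ⟨122, by decide⟩ [(⟨143, by decide⟩ : Fin 275), (⟨44, by decide⟩ : Fin 275), (⟨61, by decide⟩ : Fin 275)] _ xQ2 xG2 8 (by decide)
    (fun w hw => mem_wordGroup s _ w hw) xchain.2.2.2.2.2.1 xchain.2.2.2.2.2.2.1 (Rej_step s tok ρ hρ (wordGroup s xG3) (wordGroup s xG4) ⟨143, by decide⟩ [(⟨44, by decide⟩ : Fin 275), (⟨61, by decide⟩ : Fin 275)] _ xQ3 xG3 8 (by decide)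
    (fun w hw => mem_wordGroup s _ w hw) xchain.2.2.2.2.2.2.2.1 xchain.2.2.2.2.2.2.2.2.1 (Rej_step s tok ρ hρ (wordGroup s xG4) (wordGroup s xG5) ⟨44, by decide⟩ [(⟨61, by decide⟩ : Fin 275)] _ xQ4 xG4 8 (by decide)
    (fun w hw => mem_wordGroup s _ w hw) xchain.2.2.2.2.2.2.2.2.2.1 xchain.2.2.2.2.2.2.2.2.2.2.1 (Rej_step s tok ρ hρ (wordGroup s xG5) (wordGroup s ([] : List (List Nat))) ⟨61, by decide⟩ [] _ xQ5 xG5 8 (by decide)
    (fun w hw => mem_wordGroup s _ w hw) xchain.2.2.2.2.2.2.2.2.2.2.2.1 xchain.2.2.2.2.2.2.2.2.2.2.2.2 (Rej_nil ρ _ _)))))))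
theorem Fchain : wordGroup s FG0 = ⊤ ∧ (∀ g ∈ wordGroup s FG0, FQ0 (act ρ ⟨37, by decide⟩ g : Fin 275) ≠ 0) ∧ (∀ g ∈ wordGroup s FG0, act ρ ⟨37, by decide⟩ g = ⟨37, by decide⟩ → g ∈ wordGroup s FG1) ∧
    (∀ g ∈ wordGroup s FG1, FQ1 (act ρ ⟨145, by decide⟩ g : Fin 275) ≠ 0) ∧ (∀ g ∈ wordGroup s FG1, act ρ ⟨145, by decide⟩ g = ⟨145, by decide⟩ → g ∈ wordGroup s FG2) ∧
    (∀ g ∈ wordGroup s FG2, FQ2 (act ρ ⟨70, by decide⟩ g : Fin 275) ≠ 0) ∧ (∀ g ∈ wordGroup s FG2, act ρ ⟨70, by decide⟩ g = ⟨70, by decide⟩ → g ∈ wordGroup s FG3) ∧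
    (∀ g ∈ wordGroup s FG3, FQ3 (act ρ ⟨97, by decide⟩ g : Fin 275) ≠ 0) ∧ (∀ g ∈ wordGroup s FG3, act ρ ⟨97, by decide⟩ g = ⟨97, by decide⟩ → g ∈ wordGroup s FG4) ∧
    (∀ g ∈ wordGroup s FG4, FQ4 (act ρ ⟨96, by decide⟩ g : Fin 275) ≠ 0) ∧ (∀ g ∈ wordGroup s FG4, act ρ ⟨96, by decide⟩ g = ⟨96, by decide⟩ → g ∈ wordGroup s ([] : List (List Nat))) := by
  haveI : Finite LtMcL.G := Nat.finite_of_card_ne_zero (by rw [cardG]; decide)
  have k0 := card_step s tok ρ hρ FQ0 275 FG0 FG1 (by decide) ⟨37, by decide⟩ Fr0 Fc0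
    (by decide) (by decide +kernel) inferInstance
  have k1 := card_step s tok ρ hρ FQ1 162 FG1 FG2 (by decide) ⟨145, by decide⟩ Fr1 Fc1
    (by decide) (by decide +kernel) inferInstance
  have k2 := card_step s tok ρ hρ FQ2 105 FG2 FG3 (by decide) ⟨70, by decide⟩ Fr2 Fc2
    (by decide) (by decide +kernel) inferInstance
  have k3 := card_step s tok ρ hρ FQ3 64 FG3 FG4 (by decide) ⟨97, by decide⟩ Fr3 Fc3
    (by decide) (by decide +kernel) inferInstance
  have k4 := card_step s tok ρ hρ FQ4 3 FG4 ([] : List (List Nat)) (by decide) ⟨96, by decide⟩ Fr4 Fc4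
    (by decide) (by decide +kernel) inferInstance
  have k : Nat.card (wordGroup s FG0) ≤ 898128000 := by rw [← cardG]; exact Subgroup.card_le_card_group _
  have kl : 0 < Nat.card (wordGroup s ([] : List (List Nat))) := Nat.card_pos
  have e0 : Nat.card (wordGroup s FG0) = 898128000 := by omega
  have e1 : Nat.card (wordGroup s FG1) = 3265920 := by omega
  have e2 : Nat.card (wordGroup s FG2) = 20160 := by omega
  have e3 : Nat.card (wordGroup s FG3) = 192 := by omega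
  have e4 : Nat.card (wordGroup s FG4) = 3 := by omega
  have e5 : Nat.card (wordGroup s ([] : List (List Nat))) = 1 := by omega
  have x0 := exact_step s tok ρ FQ0 275 FG0 FG1 (by decide) ⟨37, by decide⟩ Fr0 Fc0
    (by decide) (by decide +kernel) inferInstance hρ (by rw [e0, e1])
  have x1 := exact_step s tok ρ FQ1 162 FG1 FG2 (by decide) ⟨145, by decide⟩ Fr1 Fc1
    (by decide) (by decide +kernel) inferInstance hρ (by rw [e1, e2])
  have x2 := exact_step s tok ρ FQ2 105 FG2 FG3 (by decide) ⟨70, by decide⟩ Fr2 Fc2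
    (by decide) (by decide +kernel) inferInstance hρ (by rw [e2, e3])
  have x3 := exact_step s tok ρ FQ3 64 FG3 FG4 (by decide) ⟨97, by decide⟩ Fr3 Fc3
    (by decide) (by decide +kernel) inferInstance hρ (by rw [e3, e4])
  have x4 := exact_step s tok ρ FQ4 3 FG4 ([] : List (List Nat)) (by decide) ⟨96, by decide⟩ Fr4 Fc4
    (by decide) (by decide +kernel) inferInstance hρ (by rw [e4, e5])
  exact ⟨Subgroup.eq_top_of_card_eq _ (by rw [e0, cardG]), x0.1, x0.2, x1.1, x1.2, x2.1, x2.2, x3.1, x3.2, x4.1, x4.2⟩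

theorem Fbot : wordGroup s ([] : List (List Nat)) = ⊥ := by
  unfold wordGroup
  rw [eq_bot_iff, Subgroup.closure_le]
  rintro g ⟨w, hw, _⟩
  simp at hw

theorem Fp0 : act ρ ⟨37, by decide⟩ ((([25] : List Nat).map s).prod ^ 0) = (⟨37, by decide⟩ : Fin 275) :=
  Fin.ext (by rw [OT.iter_fin s tok ρ [25] (by decide) hρ]; decide +kernel)
theorem Fp1 : act ρ ⟨37, by decide⟩ ((([25] : List Nat).map s).prod ^ 1) = (⟨145, by decide⟩ : Fin 275) :=
  Fin.ext (by rw [OT.iter_fin s tok ρ [25] (by decide) hρ]; decide +kernel)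
theorem Fp2 : act ρ ⟨37, by decide⟩ ((([25] : List Nat).map s).prod ^ 2) = (⟨70, by decide⟩ : Fin 275) :=
  Fin.ext (by rw [OT.iter_fin s tok ρ [25] (by decide) hρ]; decide +kernel)
theorem Fp3 : act ρ ⟨37, by decide⟩ ((([25] : List Nat).map s).prod ^ 3) = (⟨97, by decide⟩ : Fin 275) :=
  Fin.ext (by rw [OT.iter_fin s tok ρ [25] (by decide) hρ]; decide +kernel)
theorem Fp4 : act ρ ⟨37, by decide⟩ ((([25] : List Nat).map s).prod ^ 4) = (⟨96, by decide⟩ : Fin 275) :=
  Fin.ext (by rw [OT.iter_fin s tok ρ [25] (by decide) hρ]; decide +kernel)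

/-- an element fixing the base is trivial. -/
theorem Fbase (g : LtMcL.G) (h0 : act ρ ⟨37, by decide⟩ g = (⟨37, by decide⟩ : Fin 275)) (h1 : act ρ ⟨145, by decide⟩ g = (⟨145, by decide⟩ : Fin 275)) (h2 : act ρ ⟨70, by decide⟩ g = (⟨70, by decide⟩ : Fin 275)) (h3 : act ρ ⟨97, by decide⟩ g = (⟨97, by decide⟩ : Fin 275)) (h4 : act ρ ⟨96, by decide⟩ g = (⟨96, by decide⟩ : Fin 275)) : g = 1 := by
  have g0 : g ∈ wordGroup s FG0 := by rw [Fchain.1]; exact Subgroup.mem_top g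
  have g1 := Fchain.2.2.1 g g0 h0
  have g2 := Fchain.2.2.2.2.1 g g1 h1
  have g3 := Fchain.2.2.2.2.2.2.1 g g2 h2
  have g4 := Fchain.2.2.2.2.2.2.2.2.1 g g3 h3
  have g5 := Fchain.2.2.2.2.2.2.2.2.2.2 g g4 h4
  rw [Fbot] at g5
  exact Subgroup.mem_bot.1 g5

theorem Frej : Rej ρ (⊤ : Subgroup LtMcL.G) ((List.range 5).map fun i => act ρ ⟨37, by decide⟩ ((([25] : List Nat).map s).prod ^ i)) FK0 := by
  have e : ((List.range 5).map fun i => act ρ (⟨37, by decide⟩ : Fin 275) ((([25] : List Nat).map s).prod ^ i)) = [(⟨37, by decide⟩ : Fin 275), (⟨145, by decide⟩ : Fin 275), (⟨70, by decide⟩ : Fin 275), (⟨97, by decide⟩ : Fin 275), (⟨96, by decide⟩ : Fin 275)] := by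
    change [act ρ (⟨37, by decide⟩ : Fin 275) ((([25] : List Nat).map s).prod ^ 0), act ρ (⟨37, by decide⟩ : Fin 275) ((([25] : List Nat).map s).prod ^ 1), act ρ (⟨37, by decide⟩ : Fin 275) ((([25] : List Nat).map s).prod ^ 2), act ρ (⟨37, by decide⟩ : Fin 275) ((([25] : List Nat).map s).prod ^ 3), act ρ (⟨37, by decide⟩ : Fin 275) ((([25] : List Nat).map s).prod ^ 4)] = _
    rw [Fp0, Fp1, Fp2, Fp3, Fp4]
  rw [e, ← Fchain.1]
  exact (Rej_step s tok ρ hρ (wordGroup s FG0) (wordGroup s FG1) ⟨37, by decide⟩ [(⟨145, by decide⟩ : Fin 275), (⟨70, by decide⟩ : Fin 275), (⟨97, by decide⟩ : Fin 275), (⟨96, by decide⟩ : Fin 275)] _ FQ0 FG0 8 (by decide)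
    (fun w hw => mem_wordGroup s _ w hw) Fchain.2.1 Fchain.2.2.1 (Rej_step s tok ρ hρ (wordGroup s FG1) (wordGroup s FG2) ⟨145, by decide⟩ [(⟨70, by decide⟩ : Fin 275), (⟨97, by decide⟩ : Fin 275), (⟨96, by decide⟩ : Fin 275)] _ FQ1 FG1 8 (by decide)
    (fun w hw => mem_wordGroup s _ w hw) Fchain.2.2.2.1 Fchain.2.2.2.2.1 (Rej_step s tok ρ hρ (wordGroup s FG2) (wordGroup s FG3) ⟨70, by decide⟩ [(⟨97, by decide⟩ : Fin 275), (⟨96, by decide⟩ : Fin 275)] _ FQ2 FG2 8 (by decide)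
    (fun w hw => mem_wordGroup s _ w hw) Fchain.2.2.2.2.2.1 Fchain.2.2.2.2.2.2.1 (Rej_step s tok ρ hρ (wordGroup s FG3) (wordGroup s FG4) ⟨97, by decide⟩ [(⟨96, by decide⟩ : Fin 275)] _ FQ3 FG3 8 (by decide)
    (fun w hw => mem_wordGroup s _ w hw) Fchain.2.2.2.2.2.2.2.1 Fchain.2.2.2.2.2.2.2.2.1 (Rej_step s tok ρ hρ (wordGroup s FG4) (wordGroup s ([] : List (List Nat))) ⟨96, by decide⟩ [] _ FQ4 FG4 8 (by decide)
    (fun w hw => mem_wordGroup s _ w hw) Fchain.2.2.2.2.2.2.2.2.2.1 Fchain.2.2.2.2.2.2.2.2.2.2 (Rej_nil ρ _ _))))))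

/-- word identities are checked on the base. -/
theorem weq (u v : List Nat) (hu : ∀ l ∈ u, l < 59) (hv : ∀ l ∈ v, l < 59)
    (h : ∀ i ∈ ([37, 145, 70, 97, 96] : List Nat), trN T' u i = trN T' v i) : (u.map s).prod = (v.map s).prod := by
  have key : ∀ b : Fin 275, (b : Nat) ∈ ([37, 145, 70, 97, 96] : List Nat) → act ρ b ((u.map s).prod * ((v.map s).prod)⁻¹) = b := by
    intro b hb
    have h1 : act ρ b (u.map s).prod = act ρ b (v.map s).prod := by
      apply Fin.ext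
      rw [act_word s tok ρ hρ b u hu, act_word s tok ρ hρ b v hv]
      exact h b hb
    rw [act_mul, h1, ← act_mul, mul_inv_cancel, act_one]
  exact mul_inv_eq_one.1 (Fbase _ (key ⟨37, by decide⟩ (by decide)) (key ⟨145, by decide⟩ (by decide)) (key ⟨70, by decide⟩ (by decide)) (key ⟨97, by decide⟩ (by decide)) (key ⟨96, by decide⟩ (by decide)))

theorem weq1 (u : List Nat) (hu : ∀ l ∈ u, l < 59)
    (h : ∀ i ∈ ([37, 145, 70, 97, 96] : List Nat), trN T' u i = i) : (u.map s).prod = 1 :=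
  weq u [] hu (by simp) h

def xw : List Nat := [3]
def fw : List Nat := [21]
def Fw : List Nat := [25]
def yw : List Nat := [23]
noncomputable def x : LtMcL.G := (xw.map s).prod
noncomputable def f : LtMcL.G := (fw.map s).prod
noncomputable def F : LtMcL.G := (Fw.map s).prod
noncomputable def y : LtMcL.G := (yw.map s).prod

theorem x_pow : x ^ 11 = 1 := by
  unfold x
  rw [← wpow_prod]
  exact weq1 _ (by decide) (by decide +kernel)

theorem x_ne : x ≠ 1 := by
  intro h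
  have h1 := act_word s tok ρ hρ ⟨40, by decide⟩ xw (by decide)
  have h2 : act ρ ⟨40, by decide⟩ (xw.map s).prod = (⟨40, by decide⟩ : Fin 275) := by
    change act ρ ⟨40, by decide⟩ x = _
    rw [h, act_one]
  rw [h2] at h1
  exact absurd h1 (by decide +kernel)

instance prime_p : Fact (Nat.Prime 11) := ⟨by norm_num⟩

theorem x_order : orderOf x = 11 := orderOf_eq_prime x_pow x_ne

theorem xf : x * f = f * x ^ 9 := by
  have h := weq (xw ++ fw) (fw ++ wpow xw 9) (by decide) (by decide) (by decide +kernel)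
  rw [List.map_append, List.prod_append, List.map_append, List.prod_append, wpow_prod] at h
  exact h

theorem F_eq : F = f ^ 1 := by
  unfold F f
  rw [← wpow_prod]
  exact weq _ _ (by decide) (by decide) (by decide +kernel)

theorem F_pow : F ^ 5 = 1 := by
  unfold F
  rw [← wpow_prod]
  exact weq1 _ (by decide) (by decide +kernel)

theorem Fy : F * y = y * F := by
  have h := weq (Fw ++ yw) (yw ++ Fw) (by decide) (by decide) (by decide +kernel)
  rw [List.map_append, List.prod_append, List.map_append, List.prod_append] at h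
  exact h

theorem Cx (g : LtMcL.G) (h : x * g = g * x) : g ∈ Subgroup.zpowers x := by
  have hb : ∀ g : LtMcL.G, (∀ i < 6, act ρ (act ρ ⟨40, by decide⟩ (x ^ i)) g = act ρ ⟨40, by decide⟩ (x ^ i)) → g = 1 := by
    intro g hg
    refine xbase g ?_ ?_ ?_ ?_ ?_ ?_
    · have := hg 0 (by decide)
      change act ρ (act ρ ⟨40, by decide⟩ ((([3] : List Nat).map s).prod ^ 0)) g = act ρ ⟨40, by decide⟩ ((([3] : List Nat).map s).prod ^ 0) at this
      rw [xp0] at this
      exact this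
    · have := hg 1 (by decide)
      change act ρ (act ρ ⟨40, by decide⟩ ((([3] : List Nat).map s).prod ^ 1)) g = act ρ ⟨40, by decide⟩ ((([3] : List Nat).map s).prod ^ 1) at this
      rw [xp1] at this
      exact this
    · have := hg 2 (by decide)
      change act ρ (act ρ ⟨40, by decide⟩ ((([3] : List Nat).map s).prod ^ 2)) g = act ρ ⟨40, by decide⟩ ((([3] : List Nat).map s).prod ^ 2) at this
      rw [xp2] at this
      exact this
    · have := hg 3 (by decide)
      change act ρ (act ρ ⟨40, by decide⟩ ((([3] : List Nat).map s).prod ^ 3)) g = act ρ ⟨40, by decide⟩ ((([3] : List Nat).map s).prod ^ 3) at this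
      rw [xp3] at this
      exact this
    · have := hg 4 (by decide)
      change act ρ (act ρ ⟨40, by decide⟩ ((([3] : List Nat).map s).prod ^ 4)) g = act ρ ⟨40, by decide⟩ ((([3] : List Nat).map s).prod ^ 4) at this
      rw [xp4] at this
      exact this
    · have := hg 5 (by decide)
      change act ρ (act ρ ⟨40, by decide⟩ ((([3] : List Nat).map s).prod ^ 5)) g = act ρ ⟨40, by decide⟩ ((([3] : List Nat).map s).prod ^ 5) at this
      rw [xp5] at this
      exact this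
  have hen : ∀ g : LtMcL.G, x * g = g * x → ∃ a : Nat, ((act ρ ⟨40, by decide⟩ (g * x ^ a) : Fin 275) : Nat) ∈ ([40] : List Nat) := by
    intro g hg
    exact conj_enum s tok ρ hρ xw xw (by decide) (by decide) ⟨40, by decide⟩ 6 6 xK0 xrej ([40] : List Nat) rfl
      (fun q hq => OT.ckCand_sound _ _ _ _ q (allR_zero _ _ xS q hq)) g hg
  obtain ⟨w, hw, a, _, rfl⟩ := OT.cent_list ρ x 11 (by decide) x_pow ⟨40, by decide⟩ 6 hb ([40] : List Nat) hen
    ((List.range 11).map fun i => x ^ i) (by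
    intro q hq
    have key : ∀ q ∈ ([40] : List Nat), ∃ i < 11, (trN T' xw)^[i] 40 = q := by decide +kernel
    obtain ⟨i, hi, h⟩ := key q hq
    refine ⟨x ^ i, List.mem_map.2 ⟨i, List.mem_range.2 hi, rfl⟩, by rw [← pow_succ', pow_succ], ?_⟩
    unfold x
    rw [OT.iter_fin s tok ρ xw (by decide) hρ]
    exact h) g h
  obtain ⟨i, _, rfl⟩ := List.mem_map.1 hw
  exact mul_mem (Subgroup.pow_mem _ (Subgroup.mem_zpowers x) i) (Subgroup.pow_mem _ (Subgroup.mem_zpowers x) a)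

/-- centraliser representatives. -/
def svW : List (Nat × List Nat) := [(1, [22, 24, 24]), (2, [23, 23]), (9, [21, 21, 24]), (28, [23]), (37, [])]
def cands : List (List Nat) := [[22, 24, 24], [22, 24, 24, 25], [22, 24, 24, 25, 25], [22, 24, 24, 25, 25, 25], [22, 24, 24, 25, 25, 25, 25], [23, 23], [23, 23, 25], [23, 23, 25, 25], [23, 23, 25, 25, 25], [23, 23, 25, 25, 25, 25], [21, 21, 24], [21, 21, 24, 25], [21, 21, 24, 25, 25], [21, 21, 24, 25, 25, 25], [21, 21, 24, 25, 25, 25, 25], [23], [23, 25], [23, 25, 25], [23, 25, 25, 25], [23, 25, 25, 25, 25], [], [25], [25, 25], [25, 25, 25], [25, 25, 25, 25]]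
def rels3 : List (List Nat × Nat) := [([2, 0], 7), ([2, 1, 0], 11)]

def codes1 : List Nat := [1, 1, 1, 1, 1, 1, 1, 1, 1, 1, 1, 1, 1, 0, 1, 0, 1, 1, 1, 1, 1, 1, 1, 1, 1]
def good1 : List (List Nat) := [[21, 21, 24, 25, 25, 25], [23]]
theorem tests1 : OT.ckTests T' (wpow xw 1) fw rels3 good1 cands codes1 = true := by decide +kernel
def codes2 : List Nat := [1, 1, 1, 1, 1, 1, 17, 1, 1, 1, 1, 1, 1, 2, 1, 2, 1, 1, 1, 1, 1, 1, 1, 1, 1]
def good2 : List (List Nat) := []
theorem tests2 : OT.ckTests T' (wpow xw 2) fw rels3 good2 cands codes2 = true := by decide +kernel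

theorem rels3_ok : ∀ q ∈ rels3, (((OT.sub3 xw fw yw q.1).map s).prod) ^ q.2 = 1 := by
  intro q hq
  rw [← wpow_prod]
  apply weq1
  · revert q hq; decide
  · revert q hq; decide +kernel

theorem svW_ok : ∀ q ∈ svW, F * (q.2.map s).prod = (q.2.map s).prod * F ∧
    ((act ρ ⟨37, by decide⟩ (q.2.map s).prod : Fin 275) : Nat) = q.1 := by
  intro q hq
  constructor
  · have h := weq (Fw ++ q.2) (q.2 ++ Fw) (by revert q hq; decide) (by revert q hq; decide) (by revert q hq; decide +kernel)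
    rw [List.map_append, List.prod_append, List.map_append, List.prod_append] at h
    exact h
  · rw [act_word s tok ρ hρ _ _ (by revert q hq; decide)]
    revert q hq; decide +kernel

theorem cent_cands (g : LtMcL.G) (h : F * g = g * F) : ∃ w ∈ cands, g = (w.map s).prod := by
  have hb : ∀ g : LtMcL.G, (∀ i < 5, act ρ (act ρ ⟨37, by decide⟩ (F ^ i)) g = act ρ ⟨37, by decide⟩ (F ^ i)) → g = 1 := by
    intro g hg
    refine Fbase g ?_ ?_ ?_ ?_ ?_
    · have := hg 0 (by decide)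
      change act ρ (act ρ ⟨37, by decide⟩ ((([25] : List Nat).map s).prod ^ 0)) g = act ρ ⟨37, by decide⟩ ((([25] : List Nat).map s).prod ^ 0) at this
      rw [Fp0] at this
      exact this
    · have := hg 1 (by decide)
      change act ρ (act ρ ⟨37, by decide⟩ ((([25] : List Nat).map s).prod ^ 1)) g = act ρ ⟨37, by decide⟩ ((([25] : List Nat).map s).prod ^ 1) at this
      rw [Fp1] at this
      exact this
    · have := hg 2 (by decide)
      change act ρ (act ρ ⟨37, by decide⟩ ((([25] : List Nat).map s).prod ^ 2)) g = act ρ ⟨37, by decide⟩ ((([25] : List Nat).map s).prod ^ 2) at this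
      rw [Fp2] at this
      exact this
    · have := hg 3 (by decide)
      change act ρ (act ρ ⟨37, by decide⟩ ((([25] : List Nat).map s).prod ^ 3)) g = act ρ ⟨37, by decide⟩ ((([25] : List Nat).map s).prod ^ 3) at this
      rw [Fp3] at this
      exact this
    · have := hg 4 (by decide)
      change act ρ (act ρ ⟨37, by decide⟩ ((([25] : List Nat).map s).prod ^ 4)) g = act ρ ⟨37, by decide⟩ ((([25] : List Nat).map s).prod ^ 4) at this
      rw [Fp4] at this
      exact this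
  have hen : ∀ g : LtMcL.G, F * g = g * F → ∃ a : Nat, ((act ρ ⟨37, by decide⟩ (g * F ^ a) : Fin 275) : Nat) ∈ svW.map Prod.fst := by
    intro g hg
    exact conj_enum s tok ρ hρ Fw Fw (by decide) (by decide) ⟨37, by decide⟩ 5 5 FK0 Frej (svW.map Prod.fst) rfl
      (fun q hq => OT.ckCand_sound _ _ _ _ q (allR_zero _ _ FS q hq)) g hg
  obtain ⟨w, hw, a, ha, rfl⟩ := OT.cent_list ρ F 5 (by decide) F_pow ⟨37, by decide⟩ 5 hb _ hen
    (svW.map fun q => (q.2.map s).prod) (by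
    intro q hq
    obtain ⟨z, hz, rfl⟩ := List.mem_map.1 hq
    exact ⟨_, List.mem_map.2 ⟨z, hz, rfl⟩, svW_ok z hz⟩) g h
  obtain ⟨z, hz, rfl⟩ := List.mem_map.1 hw
  refine ⟨z.2 ++ wpow Fw a, ?_, ?_⟩
  · have key : ∀ z ∈ svW, ∀ a < 5, z.2 ++ wpow Fw a ∈ cands := by decide +kernel
    exact key z hz a ha
  · rw [List.map_append, List.prod_append, wpow_prod]
    rfl


/-- straight-line program for the letters of the chain. -/
def prog : List (Nat × List Nat) := [(27, [23, 3, 3, 3, 23, 21, 4, 24, 4]), (28, [3, 23, 3, 22, 24, 4, 4, 4, 24]), (29, [23, 3, 24, 22]), (30, [21, 23, 4, 24]), (31, [28, 29, 28, 30, 27, 30, 28, 29, 27]), (32, [28, 30, 27, 29, 28, 29, 27, 30, 27]), (33, [29, 28, 30, 27, 29, 28]), (34, [27, 30, 28, 29, 27, 30]), (35, [33, 33, 31, 33, 33, 33, 33, 31, 33, 32, 33, 32, 33]), (36, [34, 31, 34, 31, 34, 32, 34, 34, 34, 34, 32, 34, 34]), (37, [33, 32, 33, 33, 33, 31, 31]), (38, [32, 32, 34, 34, 34, 31, 34]), (39, [31, 34,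 34, 32]), (40, [31, 33, 33, 32]), (41, [39, 37, 36, 38]), (42, [37, 35, 38, 40])]

theorem inv_letter (l l' : Nat) (h1 : l < 59) (h2 : l' < 59) (h : ∀ i ∈ ([37, 145, 70, 97, 96] : List Nat), trN T' [l, l'] i = i) : s l' = (s l)⁻¹ := by
  have := weq1 [l, l'] (by intro k hk; simp only [List.mem_cons, List.not_mem_nil, or_false] at hk; rcases hk with rfl | rfl <;> assumption) h
  rw [List.map_cons, List.map_singleton, List.prod_cons, List.prod_singleton] at this
  exact eq_inv_of_mul_eq_one_right this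

theorem s_x : s 3 = x := by unfold x xw; simp
theorem s_f : s 21 = f := by unfold f fw; simp
theorem s_y : s 23 = y := by unfold y yw; simp
theorem s_x' : s 4 = x⁻¹ := by rw [← s_x]; exact inv_letter 3 4 (by decide) (by decide) (by decide +kernel)
theorem s_f' : s 22 = f⁻¹ := by rw [← s_f]; exact inv_letter 21 22 (by decide) (by decide) (by decide +kernel)
theorem s_y' : s 24 = y⁻¹ := by rw [← s_y]; exact inv_letter 23 24 (by decide) (by decide) (by decide +kernel)

theorem prog_ok : ∀ e ∈ prog, s e.1 = (e.2.map s).prod := by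
  intro e he
  have h := weq [e.1] e.2 (by revert e he; decide) (by revert e he; decide) (by revert e he; decide +kernel)
  rw [List.map_singleton, List.prod_singleton] at h
  exact h

theorem gen_top : Subgroup.closure ({x, f, y} : Set LtMcL.G) = ⊤ := by
  rw [eq_top_iff, ← Fchain.1]
  have hx : x ∈ Subgroup.closure ({x, f, y} : Set LtMcL.G) := Subgroup.subset_closure (Or.inl rfl)
  have hf : f ∈ Subgroup.closure ({x, f, y} : Set LtMcL.G) := Subgroup.subset_closure (Or.inr (Or.inl rfl))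
  have hy : y ∈ Subgroup.closure ({x, f, y} : Set LtMcL.G) := Subgroup.subset_closure (Or.inr (Or.inr rfl))
  have h0 : ∀ l ∈ ([3, 21, 23, 4, 22, 24] : List Nat), s l ∈ Subgroup.closure ({x, f, y} : Set LtMcL.G) := by
    intro l hl
    simp only [List.mem_cons, List.not_mem_nil, or_false] at hl
    rcases hl with rfl | rfl | rfl | rfl | rfl | rfl
    · rw [s_x]; exact hx
    · rw [s_f]; exact hf
    · rw [s_y]; exact hy
    · rw [s_x']; exact inv_mem hx
    · rw [s_f']; exact inv_mem hf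
    · rw [s_y']; exact inv_mem hy
  have h1 := OT.slp_mem s (Subgroup.closure ({x, f, y} : Set LtMcL.G)) prog _ h0 (by decide) prog_ok
  unfold wordGroup
  rw [Subgroup.closure_le]
  rintro _ ⟨w, hw, rfl⟩
  have key : ∀ w ∈ FG0, ∃ l, w = [l] ∧ (l ∈ ([3, 21, 23, 4, 22, 24] : List Nat) ∨ l ∈ prog.map Prod.fst) := by
    intro w hw
    have key2 : ∀ w ∈ FG0, w = [w.headD 0] ∧ (w.headD 0 ∈ ([3, 21, 23, 4, 22, 24] : List Nat) ∨ w.headD 0 ∈ prog.map Prod.fst) := by decide
    exact ⟨_, key2 w hw⟩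
  obtain ⟨l, rfl, hl⟩ := key w hw
  rw [List.map_singleton, List.prod_singleton]
  rcases hl with hl | hl
  · exact h0 l hl
  · obtain ⟨e, he, rfl⟩ := List.mem_map.1 hl
    exact h1 e he


theorem out_le : Finite (Cfsg.Out LtMcL.G) ∧ Nat.card (Cfsg.Out LtMcL.G) ≤ 2 := by
  haveI : Finite LtMcL.G := Nat.finite_of_card_ne_zero (by rw [cardG]; decide)
  refine OT.out_card_le 11 x f y x_order (by rw [cardG]; decide) Cx 9 xf (by decide) [1, 2] ?_ gen_top
    ([(1, ((([21, 21, 24, 25, 25, 25] : List Nat).map s).prod)), (1, ((([23] : List Nat).map s).prod))]) ?_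
  · have key : ∀ k : ZMod 11, k ≠ 0 → ∃ j ∈ ([1, 2] : List ℕ), ∃ i < 11, k = (j : ZMod 11) * (9 : ZMod 11) ^ i := by decide +kernel
    intro k hk
    obtain ⟨j, hj, i, _, h⟩ := key k hk
    exact ⟨j, hj, i, by push_cast; exact h⟩
  · intro j hj β hβx hβf
    have hβF : β F = F := by rw [F_eq, map_pow, hβf]
    have hc : F * β y = β y * F := by
      have := congrArg β Fy
      rw [map_mul, map_mul, hβF] at this
      exact this
    obtain ⟨w, hw, hwy⟩ := cent_cands (β y) hc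
    simp only [List.mem_cons, List.not_mem_nil, or_false] at hj
    rcases hj with rfl | rfl
    · have h := OT.good_of_tests s tok ρ hρ 1 xw fw yw (by decide) (by decide) rels3 rels3_ok good1 cands codes1 (by decide)
        (by decide) tests1 β hβx hβf w hw hwy
      unfold good1 at h
      simp only [List.mem_cons, List.not_mem_nil, or_false] at h
      rcases h with rfl | rfl
      · rw [hwy]; simp
      · rw [hwy]; simp
    · have h := OT.good_of_tests s tok ρ hρ 2 xw fw yw (by decide) (by decide) rels3 rels3_ok good2 cands codes2 (by decide)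
        (by decide) tests2 β hβx hβf w hw hwy
      exact absurd h (by unfold good2; exact List.not_mem_nil)

/-- images of the letters. -/
def ab : Nat → List Nat := fun l => [[42, 36, 39, 38, 33, 31, 30, 28, 28, 30, 28], [41, 39, 36, 38, 31, 31, 31, 29, 29, 28, 30, 22, 22, 3, 24], [42, 35, 38, 39, 32, 33, 31, 28, 29, 29, 27, 4, 24, 24]].getD l []
def aw : Nat → List Nat := fun l => [[42, 36, 39, 38, 33, 31, 30, 28, 28, 30, 28], [41, 39, 36, 38, 31, 31, 31, 29, 29, 28, 30, 22, 22, 3, 24], [42, 35, 38, 39, 32, 33, 31, 28, 29, 29, 27, 4, 24, 24], [3], [4], [41, 37, 36, 38, 31, 31, 33, 32, 32, 28, 28, 30, 30, 28, 4, 23, 3, 24], [23, 4, 24, 3, 27, 29, 29, 27, 27, 31, 31, 34, 32, 32, 37, 35, 38, 42], [41, 35, 38, 36, 32, 34, 32, 28, 29, 29, 3, 21, 21, 24], [23, 22, 22, 4, 30, 30, 27, 31, 33, 31, 35, 37, 36, 42], [36, 37, 39, 33, 32, 33, 32, 34, 28, 28, 30, 28, 30, 21, 24, 24], [23, 23, 22, 29, 27, 29, 27, 27, 33, 31, 34, 31, 34, 40, 38,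 35], [42, 39, 35, 38, 33, 31, 33, 30, 28, 28, 30, 28, 4, 4, 24, 4], [3, 23, 3, 3, 27, 29, 27, 27, 29, 34, 32, 34, 37, 36, 40, 41], [42, 38, 36, 39, 34, 32, 33, 29, 29, 28, 30, 30], [29, 29, 27, 30, 30, 34, 31, 33, 40, 35, 37, 41], [41, 35, 37, 34, 31, 33, 32, 29, 27, 29, 28, 29], [30, 27, 30, 28, 30, 31, 34, 32, 33, 38, 36, 42], [36, 39, 37, 36, 32, 34, 29, 29, 28, 30, 30], [29, 29, 27, 30, 30, 33, 31, 35, 38, 40, 35], [41, 36, 38, 33, 32, 29, 27, 30, 27, 29], [30, 28, 29, 28, 30, 31, 34, 37, 35, 42], [21], [22], [24], [23]].getD l []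

noncomputable def t : Nat → LtMcL.G := fun l => ((ab l).map s).prod

noncomputable def PTc0 : Nat := nat_lit 0x560f1c2b26da396b0371bc93e4954bd8e6a13a2055a9258015bd0f85b9a24a87bb7dfb01713a54ea67dc08c6972ba609c674a9e4fa0663888488c140b10e08679689e38058b4143e0c00d7a0f2e010907f480c9f278573f108eb82acddaff4424de6e46eb714a4b269d5e0667ac26103a3da24d8d66c189a66d553b046b721be80ecc4190934ab649f888b145c01dc095c219a2454d919a4b41515544ef7892a20702ec1d28992dc1862526a280200d6ca581c5819930debb35b18a2606b94cec542b1a0b25062b55465e521c9e8b91b1e8f88547a2842291cb021afe822707ec40c91c60342fad8d2350d8b984ca009dc80cb1004804cd48b3882270a830341c178746ebf000443e130a0982c655e184c81e61b0500c846b41d4ba5f0945617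
noncomputable def PTc1 : Nat := nat_lit 0x3961471744387b0c73c453c9d371a95e3b7c369c082
noncomputable def PT : Nat → Nat := (fun h => @Nat.rec (fun _ => Nat → Nat)
 (fun i => Nat.land (Nat.shiftRight PTc0 (Nat.mul (nat_lit 9) (Nat.land i (nat_lit 255)))) (nat_lit 511))
 (fun _ _ => (fun i => Nat.land (Nat.shiftRight PTc1 (Nat.mul (nat_lit 9) (Nat.land i (nat_lit 255)))) (nat_lit 511))) (Nat.land h (nat_lit 256)) h)
noncomputable def PIc0 : Nat := nat_lit 0x560f1c2b26da396b0371bc93e4954bd8e6a13a2055a9258015bd0f85b9a24a87bb7dfb01713a54ea67dc08c6972ba609c674a9e4fa0663888488c140b10e08679689e38058b4143e0c00d7a0f2e010907f480c9f278573f108eb82acddaff4424de6e46eb714a4b269d5e0667ac26103a3da24d8d66c189a66d553b046b721be80ecc4190934ab649f888b145c01dc095c219a2454d919a4b41515544ef7892a20702ec1d28992dc1862526a280200d6ca581c5819930debb35b18a2606b94cec542b1a0b25062b55465e521c9e8b91b1e8f88547a2842291cb021afe822707ec40c91c60342fad8d2350d8b984ca009dc80cb1004804cd48b3882270a830341c178746ebf000443e130a0982c655e184c81e61b0500c846b41d4ba5f0945617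
noncomputable def PIc1 : Nat := nat_lit 0x3961471744387b0c73c453c9d371a95e3b7c369c082
noncomputable def PI : Nat → Nat := (fun h => @Nat.rec (fun _ => Nat → Nat)
 (fun i => Nat.land (Nat.shiftRight PIc0 (Nat.mul (nat_lit 9) (Nat.land i (nat_lit 255)))) (nat_lit 511))
 (fun _ _ => (fun i => Nat.land (Nat.shiftRight PIc1 (Nat.mul (nat_lit 9) (Nat.land i (nat_lit 255)))) (nat_lit 511))) (Nat.land h (nat_lit 256)) h)

theorem pi1 : allR (ckPerm (nat_lit 275) PT PI) (nat_lit 0) (nat_lit 275) = true := by decide +kernel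
theorem pi2 : allR (ckPerm (nat_lit 275) PI PT) (nat_lit 0) (nat_lit 275) = true := by decide +kernel

theorem piC : ∀ l < 3, ∀ i < 275, trN T' (ab l) (PT i) = PT (T' l i) := by decide +kernel

def progB : List (Nat × List Nat) := [(3, [0, 2, 1]), (4, [1, 2, 0]), (5, [2, 3]), (6, [4, 2]), (7, [2, 1, 2, 4, 0, 1, 2, 4]), (8, [3, 2, 1, 0, 3, 2, 1, 2]), (9, [8, 8, 5, 8, 5, 7, 5, 5, 7, 7]), (10, [8, 8, 6, 6, 8, 6, 7, 6, 7, 7]), (11, [6, 8]), (12, [7, 5]), (13, [9, 12, 12, 9, 9, 12, 10, 12, 9, 12, 10]), (14, [9, 11, 10, 11, 9, 11, 10, 10, 11, 11, 10]), (15, [10, 10, 11, 10, 12, 12, 9, 11, 10]), (16, [9, 12, 10, 11, 11, 9, 12, 9, 9]), (17, [12, 10, 10, 11, 11, 9, 12, 9]), (18, [10, 11, 10, 12, 12, 9, 9, 11]), (19, [17, 14, 15, 13]), (20, [14, 16, 13, 18]), (21, [19, 14, 17, 13, 9, 11, 10, 11, 5, 5, 7, 7, 6, 8, 3, 3, 0, 1, 0, 2]), (22, [2, 0, 1, 0, 4, 4, 7, 5, 8, 8, 6, 6, 12, 9, 12, 10, 14, 18, 13, 20]), (23, [19, 18, 15, 10, 12, 10, 10,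 12, 5, 5, 8, 8, 5, 7, 7, 2, 4, 1, 3, 3, 2, 4]), (24, [3, 2, 4, 4, 1, 3, 2, 8, 8, 6, 7, 7, 6, 6, 11, 9, 9, 11, 9, 16, 17, 20])]

theorem progB_ok : ∀ e ∈ progB, s e.1 = (e.2.map s).prod := by
  intro e he
  have h := weq [e.1] e.2 (by revert e he; decide) (by revert e he; decide) (by revert e he; decide +kernel)
  rw [List.map_singleton, List.prod_singleton] at h
  exact h

theorem base_top : Subgroup.closure {g : LtMcL.G | ∃ l < 3, g = s l} = ⊤ := by
  rw [eq_top_iff, ← gen_top, Subgroup.closure_le]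
  have h0 : ∀ l ∈ ([0, 1, 2] : List Nat), s l ∈ Subgroup.closure {g : LtMcL.G | ∃ l < 3, g = s l} := by
    intro l hl
    have key : ∀ l ∈ ([0, 1, 2] : List Nat), l < 3 := by decide
    exact Subgroup.subset_closure ⟨l, key l hl, rfl⟩
  have h1 := OT.slp_mem s (Subgroup.closure {g : LtMcL.G | ∃ l < 3, g = s l}) progB _ h0 (by decide) progB_ok
  have h2 : ∀ l ∈ progB.map Prod.fst, s l ∈ Subgroup.closure {g : LtMcL.G | ∃ l < 3, g = s l} := by
    intro l hl
    obtain ⟨e, he, rfl⟩ := List.mem_map.1 hl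
    exact h1 e he
  rintro g (rfl | rfl | rfl)
  · rw [← s_x]; exact h2 3 (by decide)
  · rw [← s_f]; exact h2 21 (by decide)
  · rw [← s_y]; exact h2 23 (by decide)

theorem φ_ex : ∃ φ : LtMcL.G →* LtMcL.G, ∀ l < 3, φ (s l) = ((ab l).map s).prod :=
  norm_hom s tok ρ hρ inj PT PI (fun i hi => ckPerm_sound _ _ _ _ (allR_zero _ _ pi1 i hi))
    (fun i hi => ckPerm_sound _ _ _ _ (allR_zero _ _ pi2 i hi)) 3 (by decide) ab (by decide) piC base_top

noncomputable def φ : LtMcL.G →* LtMcL.G := φ_ex.choose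

theorem φ_base (l : Nat) (hl : l < 3) : φ (s l) = t l := φ_ex.choose_spec l hl


def progA : List (Nat × List Nat) := [(3, [0, 2, 1]), (4, [1, 2, 0]), (5, [2, 3]), (6, [4, 2]), (7, [2, 1, 2, 4, 0, 1, 2, 4]), (8, [3, 2, 1, 0, 3, 2, 1, 2]), (9, [8, 8, 5, 8, 5, 7, 5, 5, 7, 7]), (10, [8, 8, 6, 6, 8, 6, 7, 6, 7, 7]), (11, [6, 8]), (12, [7, 5]), (13, [9, 12, 12, 9, 9, 12, 10, 12, 9, 12, 10]), (14, [9, 11, 10, 11, 9, 11, 10, 10, 11, 11, 10]), (15, [10, 10, 11, 10, 12, 12, 9, 11, 10]), (16, [9, 12, 10, 11, 11, 9, 12, 9, 9]), (17, [12, 10, 10, 11, 11, 9, 12, 9]), (18, [10, 11, 10, 12, 12, 9, 9, 11]), (19, [17, 14, 15, 13]), (20, [14, 16, 13, 18]), (21, [19, 14, 17, 13, 9, 11, 10, 11, 5, 5, 7, 7, 6, 8, 3, 3, 0, 1, 0, 2]), (22, [2, 0, 1, 0, 4, 4, 7, 5, 8, 8, 6, 6, 12, 9, 12, 10, 14, 18, 13, 20]), (23, [19, 18, 15, 10, 12, 10, 10, 12, 5, 5, 8, 8, 5, 7, 7, 2, 4, 1, 3, 3, 2, 4]), (24, [3, 2, 4, 4, 1, 3, 2, 8, 8, 6, 7, 7, 6, 6, 11, 9, 9, 11, 9,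 16, 17, 20])]

theorem progA_ok : ∀ e ∈ progA, s e.1 = (e.2.map s).prod := by
  intro e he
  have h := weq [e.1] e.2 (by revert e he; decide) (by revert e he; decide) (by revert e he; decide +kernel)
  rw [List.map_singleton, List.prod_singleton] at h
  exact h

theorem progA_im : ∀ e ∈ progA, ((aw e.1).map s).prod = (e.2.map fun l => ((aw l).map s).prod).prod := by
  intro e he
  rw [← OT.flatMap_prod s aw e.2]
  exact weq _ _ (by revert e he; decide) (by revert e he; decide +kernel) (by revert e he; decide +kernel)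

theorem ab_aw : ∀ l < 3, ab l = aw l := by decide

theorem φs : ∀ e ∈ progA, φ (s e.1) = ((aw e.1).map s).prod :=
  OT.slp_hom φ s (fun l => ((aw l).map s).prod) progA [0, 1, 2] (by
    intro l hl
    have h : l < 3 := by
      have key : ∀ l ∈ ([0, 1, 2] : List Nat), l < 3 := by decide
      exact key l hl
    rw [φ_base l h]
    unfold t
    rw [ab_aw l h]) (by decide) progA_ok progA_im

theorem φs' (l : Nat) (h : l ∈ progA.map Prod.fst) : φ (s l) = ((aw l).map s).prod := by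
  obtain ⟨e, he, rfl⟩ := List.mem_map.1 h
  exact φs e he

theorem φx : φ x = x ^ 1 := by
  rw [← s_x, φs' 3 (by decide), s_x]
  unfold x
  rw [← wpow_prod]
  exact weq _ _ (by decide +kernel) (by decide) (by decide +kernel)

theorem φf : φ f = f := by
  rw [← s_f, φs' 21 (by decide), s_f]
  unfold f
  exact weq _ _ (by decide +kernel) (by decide) (by decide +kernel)

theorem φ_bij : Function.Bijective φ := by
  haveI : Finite LtMcL.G := Nat.finite_of_card_ne_zero (by rw [cardG]; decide)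
  have h1 : Function.Injective φ := injective_of_simple Cfsg.Agent.H8.LtMcL.simple φ x (by
    rw [φx]
    intro h
    have h2 := orderOf_dvd_of_pow_eq_one h
    rw [x_order] at h2
    exact absurd h2 (by decide))
  exact ⟨h1, Finite.surjective_of_injective h1⟩

noncomputable def α : MulAut LtMcL.G := MulEquiv.ofBijective φ φ_bij


theorem φy : φ y ≠ y := by
  rw [← s_y, φs' 23 (by decide)]
  intro h
  have h1 := act_word s tok ρ hρ ⟨0, by decide⟩ (aw 23) (by decide +kernel)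
  rw [h, s_y] at h1
  have h2 := act_word s tok ρ hρ ⟨0, by decide⟩ yw (by decide)
  have h3 : (yw.map s).prod = y := rfl
  rw [h3, h1] at h2
  exact absurd h2 (by decide +kernel)

theorem α_outer (g : LtMcL.G) : α ≠ MulAut.conj g := by
  intro h
  have hx : g * x * g⁻¹ = x := by
    have := DFunLike.congr_fun h x
    have e : α x = φ x := rfl
    rw [e, φx, pow_one] at this
    exact this.symm
  have hf : g * f * g⁻¹ = f := by
    have := DFunLike.congr_fun h f
    have e : α f = φ f := rfl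
    rw [e, φf] at this
    exact this.symm
  have hg := OT.inner_trivial 11 x f x_order Cx 9 xf (by decide) g hx hf
  have := DFunLike.congr_fun h y
  have e : α y = φ y := rfl
  rw [e, hg] at this
  apply φy
  rw [this]; simp


theorem out_eq : Nat.card (Cfsg.Out LtMcL.G) = 2 := by
  have h1 := out_le
  have h2 := OT.one_lt_out h1.1 α α_outer
  omega


end Cfsg.Agent.H8.McLO
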