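import Cfsg.Agent.H8.RelGroup
import Cfsg.Agent.H8.IndexTwo
import Cfsg.Agent.H8.T.ONHt
import Cfsg.Agent.H8.T.ONHBt
import Cfsg.Agent.H8.T.ONLtP
import Cfsg.Agent.H8.T.ONLtL
import Cfsg.Agent.H5.PSLSimple

/-!
# The group `L₃(7):2` by a Coxeter type presentation
-/

set_option autoImplicit false
set_option linter.all false
set_option maxRecDepth 100000
set_option maxHeartbeats 400000

namespace Cfsg.Agent.H8.ONH

open Matrix

/-- the presented group. -/
abbrev HG : Type := RG 6 ONLt.rels2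

def x : Nat → HG := RG.gen 6 ONLt.rels2

theorem x_sq (l : Nat) : x l * x l = 1 := RG.gen_mul_self _ _ l
theorem x_inv (l : Nat) : x l = (x l)⁻¹ := RG.gen_inv _ _ l
theorem x_ge (l : Nat) (h : 6 ≤ l) : x l = 1 := RG.gen_ge _ _ l h
theorem x_31 : x 31 = 1 := x_ge 31 (by decide)
theorem x_top : letterGroup x 6 = ⊤ := RG.letterGroup_top _ _

theorem relsH : ∀ p ∈ ONHt.rels2, ((p.1.map x).prod) ^ p.2 = 1 := by
  have e : ONHt.rels2 = ONLt.rels2 := by decide
  rw [e]
  exact RG.gen_rels _ _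

/-- Upper bound, for any letters satisfying the relations. -/
theorem upperG {G : Type*} [Group G] (s : Nat → G) (s_inv : ∀ l, s l = (s l)⁻¹) (s_31 : s 31 = 1)
    (base : ∀ p ∈ ONHt.rels2, ((p.1.map s).prod) ^ p.2 = 1) :
    Finite (letterGroup s 6) ∧ Nat.card (letterGroup s 6) ≤ 3753792 := by
  have h1 := ONHBt.upper (subS s [0, 1, 2, 3, 5]) (subS_inv s _ s_inv) (subS_31 s _ s_31)
    (rels_sub s [0, 1, 2, 3, 5] _ _ base (by decide)) ⊥ (by intro w hw; exact absurd hw (by decide +revert)) inferInstance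
  have h2 := ONHt.upper s s_inv s_31 base (letterGroup (subS s [0, 1, 2, 3, 5]) 5) (by
    intro w hw
    have h : ∀ w ∈ ONHt.subw, ∃ l < 5, w = [([0, 1, 2, 3, 5] : List Nat).getD l 31] := by decide
    obtain ⟨l, hl, rfl⟩ := h w hw
    refine Subgroup.subset_closure ⟨l, hl, ?_⟩
    simp [subS]) h1.1
  refine ⟨h2.1, ?_⟩
  have e1 : Nat.card (⊥ : Subgroup G) = 1 := by simp
  rw [e1] at h1
  omega

theorem finite_and_card_le : Finite HG ∧ Nat.card HG ≤ 3753792 := by
  have h := upperG x x_inv x_31 relsH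
  rw [x_top] at h
  refine ⟨?_, ?_⟩
  · have := h.1
    exact Finite.of_equiv _ Subgroup.topEquiv.toEquiv
  · rw [Subgroup.card_top] at h
    exact h.2

instance hg_finite : Finite HG := finite_and_card_le.1

/-- the action on points and lines. -/
noncomputable def σ : HG →* Equiv.Perm (Fin 114) :=
  RG.lift 6 ONLt.rels2 (permL ONLt.tok) (permL_sq ONLt.tok) (fun l hl => permL_ge ONLt.tok l (by omega)) ONLt.relp

theorem σ_x (l : Nat) : σ (x l) = permL ONLt.tok l := RG.lift_gen _ _ _ _ _ _ l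

theorem lowerP : 3753792 ≤ Nat.card (wordGroup (permL ONLt.tok) ONLt.chG0) := by
  have h1 := ONLt.ch_lower (permL ONLt.tok) (MonoidHom.id _) (fun l _ => rfl)
  omega

theorem σ_injective : Function.Injective σ := by
  apply injective_of_card σ (wordGroup (permL ONLt.tok) ONLt.chG0)
  · rw [← RG.map_wordGroup σ x _ σ_x ONLt.chG0]
    rintro _ ⟨y, _, rfl⟩
    exact ⟨y, rfl⟩
  · exact le_trans finite_and_card_le.2 lowerP
  · infer_instance

theorem card_hg : Nat.card HG = 3753792 := by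
  apply le_antisymm finite_and_card_le.2
  refine le_trans lowerP ?_
  have h0 := RG.map_wordGroup σ x _ σ_x ONLt.chG0
  rw [← h0]
  exact card_map_le' σ _

/-! ### Vectors and matrices -/

instance : Fact (Nat.Prime 7) := ⟨by norm_num⟩

noncomputable def dig (c k : Nat) : Nat := Nat.land (Nat.shiftRight c (Nat.mul (nat_lit 3) k)) (nat_lit 7)

/-- the vector of a code. -/
noncomputable def vec (c : Nat) : Fin 3 → ZMod 7 := fun k => ((dig c k : Nat) : ZMod 7)

/-- the matrix of a code. -/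
noncomputable def mat (m : Nat) : Matrix (Fin 3) (Fin 3) (ZMod 7) := fun i j => ((dig m (3 * i + j) : Nat) : ZMod 7)

noncomputable def eq7 (a b : Nat) : Bool := Nat.beq (Nat.mod a (nat_lit 7)) (Nat.mod b (nat_lit 7))

theorem eq7_sound (a b : Nat) (h : eq7 a b = true) : ((a : Nat) : ZMod 7) = (b : Nat) := by
  rw [ZMod.natCast_eq_natCast_iff']
  exact Nat.eq_of_beq_eq_true h

noncomputable def dot (a0 a1 a2 b0 b1 b2 : Nat) : Nat := Nat.add (Nat.mul a0 b0) (Nat.add (Nat.mul a1 b1) (Nat.mul a2 b2))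

/-- `M v = a w`. -/
noncomputable def ckR (m c c' a : Nat) : Bool :=
  band (eq7 (dot (dig m 0) (dig m 1) (dig m 2) (dig c 0) (dig c 1) (dig c 2)) (Nat.mul a (dig c' 0)))
    (band (eq7 (dot (dig m 3) (dig m 4) (dig m 5) (dig c 0) (dig c 1) (dig c 2)) (Nat.mul a (dig c' 1)))
      (eq7 (dot (dig m 6) (dig m 7) (dig m 8) (dig c 0) (dig c 1) (dig c 2)) (Nat.mul a (dig c' 2))))

/-- `v M = a w`. -/
noncomputable def ckC (m c c' a : Nat) : Bool :=
  band (eq7 (dot (dig m 0) (dig m 3) (dig m 6) (dig c 0) (dig c 1) (dig c 2)) (Nat.mul a (dig c' 0)))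
    (band (eq7 (dot (dig m 1) (dig m 4) (dig m 7) (dig c 0) (dig c 1) (dig c 2)) (Nat.mul a (dig c' 1)))
      (eq7 (dot (dig m 2) (dig m 5) (dig m 8) (dig c 0) (dig c 1) (dig c 2)) (Nat.mul a (dig c' 2))))

theorem dot_cast (a0 a1 a2 b0 b1 b2 : Nat) : ((dot a0 a1 a2 b0 b1 b2 : Nat) : ZMod 7) =
    (a0 : ZMod 7) * b0 + ((a1 : ZMod 7) * b1 + (a2 : ZMod 7) * b2) := by
  show ((a0 * b0 + (a1 * b1 + a2 * b2) : Nat) : ZMod 7) = _
  push_cast
  rfl

theorem ckR_sound (m c c' a : Nat) (h : ckR m c c' a = true) : mat m *ᵥ vec c = (a : ZMod 7) • vec c' := by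
  unfold ckR at h
  rw [band_eq_true, band_eq_true] at h
  obtain ⟨h0, h1, h2⟩ := h
  have e : ∀ (i : Fin 3) (r : Nat), eq7 (dot (dig m (3 * i + 0)) (dig m (3 * i + 1)) (dig m (3 * i + 2)) (dig c 0)
      (dig c 1) (dig c 2)) (Nat.mul a (dig c' i)) = true → (mat m *ᵥ vec c) i = ((a : ZMod 7) • vec c') i := by
    intro i r h
    have h2 := eq7_sound _ _ h
    rw [dot_cast] at h2
    have h3 : ((Nat.mul a (dig c' i) : Nat) : ZMod 7) = (a : ZMod 7) * (dig c' i : Nat) := by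
      show ((a * dig c' i : Nat) : ZMod 7) = _
      push_cast
      rfl
    rw [h3] at h2
    show (mat m *ᵥ vec c) i = (a : ZMod 7) * (dig c' i : Nat)
    rw [← h2]
    simp only [Matrix.mulVec, dotProduct, Fin.sum_univ_three]
    rw [add_assoc]
    rfl
  funext i
  fin_cases i
  · exact e 0 0 h0
  · exact e 1 0 h1
  · exact e 2 0 h2

theorem ckC_sound (m c c' a : Nat) (h : ckC m c c' a = true) : vec c ᵥ* mat m = (a : ZMod 7) • vec c' := by
  unfold ckC at h
  rw [band_eq_true, band_eq_true] at h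
  obtain ⟨h0, h1, h2⟩ := h
  have e : ∀ (i : Fin 3) (r : Nat), eq7 (dot (dig m (3 * 0 + i)) (dig m (3 * 1 + i)) (dig m (3 * 2 + i)) (dig c 0)
      (dig c 1) (dig c 2)) (Nat.mul a (dig c' i)) = true → (vec c ᵥ* mat m) i = ((a : ZMod 7) • vec c') i := by
    intro i r h
    have h2 := eq7_sound _ _ h
    rw [dot_cast] at h2
    have h3 : ((Nat.mul a (dig c' i) : Nat) : ZMod 7) = (a : ZMod 7) * (dig c' i : Nat) := by
      show ((a * dig c' i : Nat) : ZMod 7) = _
      push_cast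
      rfl
    rw [h3] at h2
    show (vec c ᵥ* mat m) i = (a : ZMod 7) * (dig c' i : Nat)
    rw [← h2]
    simp only [Matrix.vecMul, dotProduct, Fin.sum_univ_three]
    rw [add_assoc]
    congr 1
    · exact mul_comm _ _
    congr 1
    · exact mul_comm _ _
    · exact mul_comm _ _
  funext i
  fin_cases i
  · exact e 0 0 h0
  · exact e 1 0 h1
  · exact e 2 0 h2

/-- some multiple in `1..6`. -/
noncomputable def anyA (f : Nat → Bool) : Bool :=
  @Bool.rec (fun _ => Bool) (@Bool.rec (fun _ => Bool) (@Bool.rec (fun _ => Bool) (@Bool.rec (fun _ => Bool)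
    (@Bool.rec (fun _ => Bool) (f (nat_lit 6)) true (f (nat_lit 5))) true (f (nat_lit 4))) true (f (nat_lit 3)))
    true (f (nat_lit 2))) true (f (nat_lit 1))

theorem anyA_sound (f : Nat → Bool) (h : anyA f = true) : ∃ a : Nat, ((a : Nat) : ZMod 7) ≠ 0 ∧ f a = true := by
  unfold anyA at h
  cases h1 : f (nat_lit 1) with
  | true => exact ⟨1, by decide, h1⟩
  | false =>
    rw [h1] at h
    cases h2 : f (nat_lit 2) with
    | true => exact ⟨2, by decide, h2⟩
    | false =>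
      rw [h2] at h
      cases h3 : f (nat_lit 3) with
      | true => exact ⟨3, by decide, h3⟩
      | false =>
        rw [h3] at h
        cases h4 : f (nat_lit 4) with
        | true => exact ⟨4, by decide, h4⟩
        | false =>
          rw [h4] at h
          cases h5 : f (nat_lit 5) with
          | true => exact ⟨5, by decide, h5⟩
          | false =>
            rw [h5] at h
            exact ⟨6, by decide, h⟩

/-- vector of a point or line. -/
noncomputable def V (i : Nat) : Fin 3 → ZMod 7 := vec (ONLt.vc i)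

/-- check of a matrix against a permutation. -/
noncomputable def ckM (m : Nat) (P : Nat → Nat) (i : Nat) : Bool :=
  force (P i) fun j => force (ONLt.vc i) fun c => force (ONLt.vc j) fun c' =>
  @Bool.rec (fun _ => Bool)
    (band (Nat.ble (nat_lit 57) j) (anyA (ckC m c' c)))
    (band (Nat.ble (Nat.succ j) (nat_lit 57)) (anyA (ckR m c c'))) (Nat.ble (Nat.succ i) (nat_lit 57))

theorem ckM_sound (m : Nat) (P : Nat → Nat) (i : Nat) (h : ckM m P i = true) :
    (i < 57 → P i < 57 ∧ ∃ a : ZMod 7, a ≠ 0 ∧ mat m *ᵥ V i = a • V (P i)) ∧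
    (57 ≤ i → 57 ≤ P i ∧ ∃ a : ZMod 7, a ≠ 0 ∧ V (P i) ᵥ* mat m = a • V i) := by
  unfold ckM at h
  rw [force_eq, force_eq, force_eq] at h
  cases hb : Nat.ble (Nat.succ i) (nat_lit 57) with
  | true =>
    rw [hb] at h
    have hi : i < 57 := Nat.le_of_ble_eq_true hb
    refine ⟨fun _ => ?_, fun h2 => by omega⟩
    have h' : band (Nat.ble (Nat.succ (P i)) (nat_lit 57)) (anyA (ckR m (ONLt.vc i) (ONLt.vc (P i)))) = true := h
    rw [band_eq_true] at h'
    obtain ⟨a, ha, h3⟩ := anyA_sound _ h'.2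
    exact ⟨Nat.le_of_ble_eq_true h'.1, _, ha, ckR_sound _ _ _ _ h3⟩
  | false =>
    rw [hb] at h
    have hi : ¬ i < 57 := by
      intro h2
      have h3 : Nat.ble (Nat.succ i) (nat_lit 57) = true := Nat.ble_eq_true_of_le h2
      rw [h3] at hb
      exact absurd hb (by decide)
    refine ⟨fun h2 => absurd h2 hi, fun _ => ?_⟩
    have h' : band (Nat.ble (nat_lit 57) (P i)) (anyA (ckC m (ONLt.vc (P i)) (ONLt.vc i))) = true := h
    rw [band_eq_true] at h'
    obtain ⟨a, ha, h3⟩ := anyA_sound _ h'.2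
    exact ⟨Nat.le_of_ble_eq_true h'.1, _, ha, ckC_sound _ _ _ _ h3⟩

abbrev SL := Matrix.SpecialLinearGroup (Fin 3) (ZMod 7)
abbrev MM := Matrix (Fin 3) (Fin 3) (ZMod 7)

/-- the relation between the presented group and matrices. -/
def RM (h : HG) (M : SL) : Prop := ∀ i : Fin 114,
  ((i : Nat) < 57 → ((σ h i : Fin 114) : Nat) < 57 ∧ ∃ a : ZMod 7, a ≠ 0 ∧ (M : MM) *ᵥ V i = a • V (σ h i : Fin 114)) ∧
  (57 ≤ (i : Nat) → 57 ≤ ((σ h i : Fin 114) : Nat) ∧ ∃ a : ZMod 7, a ≠ 0 ∧ V (σ h i : Fin 114) ᵥ* (M : MM) = a • V i)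

theorem RM_one : RM 1 1 := by
  intro i
  rw [map_one]
  refine ⟨fun h => ⟨h, 1, one_ne_zero, ?_⟩, fun h => ⟨h, 1, one_ne_zero, ?_⟩⟩
  · show (1 : MM) *ᵥ V i = _
    rw [Matrix.one_mulVec, one_smul]
    rfl
  · show _ ᵥ* (1 : MM) = _
    rw [Matrix.vecMul_one, one_smul]
    rfl

theorem RM_mul (h : HG) (M : SL) (h' : HG) (M' : SL) (H1 : RM h M) (H2 : RM h' M') : RM (h * h') (M * M') := by
  intro i
  rw [map_mul, Equiv.Perm.mul_apply]
  refine ⟨fun hi => ?_, fun hi => ?_⟩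
  · obtain ⟨h1, a, ha, h2⟩ := (H2 i).1 hi
    obtain ⟨h3, b, hb, h4⟩ := (H1 (σ h' i)).1 h1
    refine ⟨h3, a * b, mul_ne_zero ha hb, ?_⟩
    show ((M : MM) * (M' : MM)) *ᵥ V i = _
    rw [← Matrix.mulVec_mulVec, h2, Matrix.mulVec_smul, h4, smul_smul]
  · obtain ⟨h1, a, ha, h2⟩ := (H2 i).2 hi
    obtain ⟨h3, b, hb, h4⟩ := (H1 (σ h' i)).2 h1
    refine ⟨h3, b * a, mul_ne_zero hb ha, ?_⟩
    show _ ᵥ* ((M : MM) * (M' : MM)) = _
    rw [← Matrix.vecMul_vecMul, h4, Matrix.smul_vecMul, h2, smul_smul]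

theorem inv_mul_coe (M : SL) : ((M⁻¹ : SL) : MM) * (M : MM) = 1 := by
  have : (M⁻¹ * M : SL) = 1 := inv_mul_cancel M
  exact congrArg Subtype.val this

theorem mul_inv_coe (M : SL) : (M : MM) * ((M⁻¹ : SL) : MM) = 1 := by
  have : (M * M⁻¹ : SL) = 1 := mul_inv_cancel M
  exact congrArg Subtype.val this

/-- inverting `M v = a w`. -/
theorem inv_mulVec (M : SL) (v w : Fin 3 → ZMod 7) (a : ZMod 7) (ha : a ≠ 0) (h : (M : MM) *ᵥ v = a • w) :
    ((M⁻¹ : SL) : MM) *ᵥ w = a⁻¹ • v := by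
  have h4 := congrArg (fun u => ((M⁻¹ : SL) : MM) *ᵥ u) h
  simp only [Matrix.mulVec_mulVec, inv_mul_coe, Matrix.one_mulVec, Matrix.mulVec_smul] at h4
  rw [h4, smul_smul, inv_mul_cancel₀ ha, one_smul]

theorem inv_vecMul (M : SL) (v w : Fin 3 → ZMod 7) (a : ZMod 7) (ha : a ≠ 0) (h : v ᵥ* (M : MM) = a • w) :
    w ᵥ* ((M⁻¹ : SL) : MM) = a⁻¹ • v := by
  have h4 := congrArg (fun u => u ᵥ* ((M⁻¹ : SL) : MM)) h
  simp only [Matrix.vecMul_vecMul, mul_inv_coe, Matrix.vecMul_one, Matrix.smul_vecMul] at h4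
  rw [h4, smul_smul, inv_mul_cancel₀ ha, one_smul]

theorem RM_inv (h : HG) (M : SL) (H1 : RM h M) : RM h⁻¹ M⁻¹ := by
  intro i
  set j := σ h⁻¹ i with hj
  have e : σ h j = i := by
    rw [hj, ← Equiv.Perm.mul_apply, ← map_mul, mul_inv_cancel, map_one]; rfl
  refine ⟨fun hi => ?_, fun hi => ?_⟩
  · have h1 : (j : Nat) < 57 := by
      by_contra h2
      have h3 := ((H1 j).2 (by omega)).1
      rw [e] at h3
      omega
    obtain ⟨_, a, ha, h2⟩ := (H1 j).1 h1
    rw [e] at h2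
    exact ⟨h1, a⁻¹, inv_ne_zero ha, inv_mulVec M _ _ a ha h2⟩
  · have h1 : 57 ≤ (j : Nat) := by
      by_contra h2
      have h3 := ((H1 j).1 (by omega)).1
      rw [e] at h3
      omega
    obtain ⟨_, a, ha, h2⟩ := (H1 j).2 h1
    rw [e] at h2
    exact ⟨h1, a⁻¹, inv_ne_zero ha, inv_vecMul M _ _ a ha h2⟩

theorem v8 : V 8 = ![1, 0, 0] := by
  have h : band (eq7 (dig (ONLt.vc 8) 0) 1) (band (eq7 (dig (ONLt.vc 8) 1) 0) (eq7 (dig (ONLt.vc 8) 2) 0)) = true := by
    decide +kernel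
  rw [band_eq_true, band_eq_true] at h
  funext k
  fin_cases k
  · exact (eq7_sound _ _ h.1).trans (by norm_num)
  · exact (eq7_sound _ _ h.2.1).trans (by norm_num)
  · exact (eq7_sound _ _ h.2.2).trans (by norm_num)

theorem v1 : V 1 = ![0, 1, 0] := by
  have h : band (eq7 (dig (ONLt.vc 1) 0) 0) (band (eq7 (dig (ONLt.vc 1) 1) 1) (eq7 (dig (ONLt.vc 1) 2) 0)) = true := by
    decide +kernel
  rw [band_eq_true, band_eq_true] at h
  funext k
  fin_cases k
  · exact (eq7_sound _ _ h.1).trans (by norm_num)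
  · exact (eq7_sound _ _ h.2.1).trans (by norm_num)
  · exact (eq7_sound _ _ h.2.2).trans (by norm_num)

theorem v0 : V 0 = ![0, 0, 1] := by
  have h : band (eq7 (dig (ONLt.vc 0) 0) 0) (band (eq7 (dig (ONLt.vc 0) 1) 0) (eq7 (dig (ONLt.vc 0) 2) 1)) = true := by
    decide +kernel
  rw [band_eq_true, band_eq_true] at h
  funext k
  fin_cases k
  · exact (eq7_sound _ _ h.1).trans (by norm_num)
  · exact (eq7_sound _ _ h.2.1).trans (by norm_num)
  · exact (eq7_sound _ _ h.2.2).trans (by norm_num)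

theorem v15 : V 15 = ![1, 1, 0] := by
  have h : band (eq7 (dig (ONLt.vc 15) 0) 1) (band (eq7 (dig (ONLt.vc 15) 1) 1) (eq7 (dig (ONLt.vc 15) 2) 0)) = true := by
    decide +kernel
  rw [band_eq_true, band_eq_true] at h
  funext k
  fin_cases k
  · exact (eq7_sound _ _ h.1).trans (by norm_num)
  · exact (eq7_sound _ _ h.2.1).trans (by norm_num)
  · exact (eq7_sound _ _ h.2.2).trans (by norm_num)

theorem v9 : V 9 = ![1, 0, 1] := by
  have h : band (eq7 (dig (ONLt.vc 9) 0) 1) (band (eq7 (dig (ONLt.vc 9) 1) 0) (eq7 (dig (ONLt.vc 9) 2) 1)) = true := by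
    decide +kernel
  rw [band_eq_true, band_eq_true] at h
  funext k
  fin_cases k
  · exact (eq7_sound _ _ h.1).trans (by norm_num)
  · exact (eq7_sound _ _ h.2.1).trans (by norm_num)
  · exact (eq7_sound _ _ h.2.2).trans (by norm_num)

theorem scalar_of (M : MM) (h : ∀ p < 57, ∃ a : ZMod 7, a ≠ 0 ∧ M *ᵥ V p = a • V p) :
    ∃ a : ZMod 7, M = a • (1 : MM) := by
  obtain ⟨a0, _, h0⟩ := h 8 (by decide)
  obtain ⟨a1, _, h1⟩ := h 1 (by decide)
  obtain ⟨a2, _, h2⟩ := h 0 (by decide)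
  obtain ⟨b1, _, k1⟩ := h 15 (by decide)
  obtain ⟨b2, _, k2⟩ := h 9 (by decide)
  rw [v8] at h0
  rw [v1] at h1
  rw [v0] at h2
  rw [v15] at k1
  rw [v9] at k2
  have e1 : (![1, 1, 0] : Fin 3 → ZMod 7) = ![1, 0, 0] + ![0, 1, 0] := by
    funext k; fin_cases k <;> simp
  have e2 : (![1, 0, 1] : Fin 3 → ZMod 7) = ![1, 0, 0] + ![0, 0, 1] := by
    funext k; fin_cases k <;> simp
  rw [e1, Matrix.mulVec_add, h0, h1] at k1
  rw [e2, Matrix.mulVec_add, h0, h2] at k2
  have p1 := congrFun k1 0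
  have q1 := congrFun k1 1
  have p2 := congrFun k2 0
  have q2 := congrFun k2 2
  simp at p1 q1 p2 q2
  refine ⟨a0, ?_⟩
  have s1 : a1 = a0 := by rw [p1, q1]
  have s2 : a2 = a0 := by rw [p2, q2]
  rw [s1] at h1
  rw [s2] at h2
  ext i j
  have hj : M *ᵥ (Pi.single j 1) = a0 • (Pi.single j 1 : Fin 3 → ZMod 7) := by
    have g0 : (![1, 0, 0] : Fin 3 → ZMod 7) = Pi.single 0 1 := by
      funext k; fin_cases k <;> simp [Pi.single_apply]
    have g1 : (![0, 1, 0] : Fin 3 → ZMod 7) = Pi.single 1 1 := by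
      funext k; fin_cases k <;> simp [Pi.single_apply]
    have g2 : (![0, 0, 1] : Fin 3 → ZMod 7) = Pi.single 2 1 := by
      funext k; fin_cases k <;> simp [Pi.single_apply]
    rw [g0] at h0
    rw [g1] at h1
    rw [g2] at h2
    fin_cases j
    · exact h0
    · exact h1
    · exact h2
  rw [Matrix.mulVec_single_one] at hj
  have := congrFun hj i
  rw [Matrix.smul_apply, Matrix.one_apply]
  have h5 : M i j = a0 • (Pi.single j 1 : Fin 3 → ZMod 7) i := this
  rw [h5, Pi.single_apply]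

/-- injectivity of the normalised vectors. -/
noncomputable def ckInj (p : Nat) : Bool :=
  force (ONLt.vc p) fun c =>
  allR (fun q => @Bool.rec (fun _ => Bool)
    (force (ONLt.vc q) fun c' => allR (fun a => @Bool.rec (fun _ => Bool) true false
      (band (eq7 (dig c 0) (Nat.mul a (dig c' 0))) (band (eq7 (dig c 1) (Nat.mul a (dig c' 1)))
        (eq7 (dig c 2) (Nat.mul a (dig c' 2)))))) (nat_lit 0) (nat_lit 7)) true (Nat.beq p q)) (nat_lit 0) (nat_lit 57)

theorem ckInj_all : allR ckInj (nat_lit 0) (nat_lit 57) = true := by decide +kernel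

theorem V_inj (p q : Nat) (hp : p < 57) (hq : q < 57) (a : ZMod 7) (h : V p = a • V q) : p = q := by
  have h1 := allR_zero _ _ ckInj_all p hp
  unfold ckInj at h1
  rw [force_eq] at h1
  have h2 := allR_zero _ _ h1 q hq
  cases hb : Nat.beq p q with
  | true => exact Nat.eq_of_beq_eq_true hb
  | false =>
    exfalso
    simp only [hb] at h2
    rw [force_eq] at h2
    have h3 := allR_zero _ _ h2 a.val (ZMod.val_lt a)
    have key : ∀ k : Fin 3, eq7 (dig (ONLt.vc p) k) (Nat.mul a.val (dig (ONLt.vc q) k)) = true := by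
      intro k
      have h4 := congrFun h k
      have h5 : ((dig (ONLt.vc p) k : Nat) : ZMod 7) = a * (dig (ONLt.vc q) k : Nat) := h4
      have h6 : ((dig (ONLt.vc p) k : Nat) : ZMod 7) = ((a.val * dig (ONLt.vc q) k : Nat) : ZMod 7) := by
        rw [h5, Nat.cast_mul, ZMod.natCast_zmod_val]
      rw [ZMod.natCast_eq_natCast_iff'] at h6
      unfold eq7
      have h7 : Nat.mod (dig (ONLt.vc p) k) (nat_lit 7) = Nat.mod (Nat.mul a.val (dig (ONLt.vc q) k)) (nat_lit 7) := h6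
      rw [h7]
      exact Nat.beq_refl _
    have k0 := key 0
    have k1 := key 1
    have k2 := key 2
    have h7 : band (eq7 (dig (ONLt.vc p) 0) (Nat.mul a.val (dig (ONLt.vc q) 0)))
      (band (eq7 (dig (ONLt.vc p) 1) (Nat.mul a.val (dig (ONLt.vc q) 1)))
        (eq7 (dig (ONLt.vc p) 2) (Nat.mul a.val (dig (ONLt.vc q) 2)))) = true := by
      rw [band_eq_true, band_eq_true]
      exact ⟨k0, k1, k2⟩
    simp only [h7] at h3
    exact absurd h3 (by decide)

end Cfsg.Agent.H8.ONH
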