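import Cfsg.Agent.H8.ONH

/-!
# The group `L₃(7):2`: index two subgroup, centre
-/

set_option autoImplicit false
set_option linter.all false
set_option maxRecDepth 100000
set_option maxHeartbeats 400000

namespace Cfsg.Agent.H8.ONH

open Matrix

/-- `PSL₃(7)`. -/
abbrev PS := Matrix.ProjectiveSpecialLinearGroup (Fin 3) (ZMod 7)

/-- the projection. -/
def mk : SL →* PS := QuotientGroup.mk' (Subgroup.center SL)

theorem mk_eq_one (M : SL) : mk M = 1 ↔ ∃ a : ZMod 7, (M : MM) = a • (1 : MM) := by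
  have h0 : mk M = 1 ↔ M ∈ Subgroup.center SL := QuotientGroup.eq_one_iff M
  rw [h0, Matrix.SpecialLinearGroup.mem_center_iff]
  constructor
  · rintro ⟨r, _, hr⟩
    refine ⟨r, ?_⟩
    rw [← hr, Matrix.scalar_apply, Matrix.smul_one_eq_diagonal]
  · rintro ⟨a, ha⟩
    refine ⟨a, ?_, ?_⟩
    · have h2 := M.2
      have h3 : ((M : SL) : MM).det = 1 := h2
      rw [ha, Matrix.det_smul, Matrix.det_one, mul_one] at h3
      exact h3
    · rw [ha, Matrix.scalar_apply, Matrix.smul_one_eq_diagonal]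

/-- the relation with `PSL₃(7)`. -/
def R (h : HG) (y : PS) : Prop := ∃ M : SL, mk M = y ∧ RM h M

theorem R_one : R 1 1 := ⟨1, map_one _, RM_one⟩

theorem R_mul (h : HG) (M : PS) (h' : HG) (M' : PS) (H1 : R h M) (H2 : R h' M') : R (h * h') (M * M') := by
  obtain ⟨A, rfl, hA⟩ := H1
  obtain ⟨B, rfl, hB⟩ := H2
  exact ⟨A * B, map_mul _ _ _, RM_mul _ _ _ _ hA hB⟩

theorem R_inv (h : HG) (M : PS) (H1 : R h M) : R h⁻¹ M⁻¹ := by
  obtain ⟨A, rfl, hA⟩ := H1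
  exact ⟨A⁻¹, map_inv _ _, RM_inv _ _ hA⟩

theorem R_uniq (M : PS) (H : R 1 M) : M = 1 := by
  obtain ⟨A, rfl, hA⟩ := H
  rw [mk_eq_one]
  apply scalar_of
  intro p hp
  obtain ⟨_, a, ha, h⟩ := (hA ⟨p, by omega⟩).1 hp
  rw [map_one] at h
  exact ⟨a, ha, h⟩

theorem R_faith (h : HG) (H : R h 1) : h = 1 := by
  obtain ⟨A, hA1, hA⟩ := H
  obtain ⟨r, hr⟩ := (mk_eq_one A).1 hA1
  have hr0 : r ≠ 0 := by
    rintro rfl
    have h2 : ((A : SL) : MM).det = 1 := A.2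
    rw [hr, zero_smul, Matrix.det_zero] at h2
    exact absurd h2 (by decide)
  apply σ_injective
  rw [map_one]
  ext i
  show ((σ h i : Fin 114) : Nat) = i
  have hvc : ∀ k < 57, ONLt.vc (57 + k) = ONLt.vc k := by
    intro k hk
    have h3 : allR (fun k => Nat.beq (ONLt.vc (Nat.add (nat_lit 57) k)) (ONLt.vc k)) (nat_lit 0) (nat_lit 57) = true := by
      decide +kernel
    exact Nat.eq_of_beq_eq_true (allR_zero _ _ h3 k hk)
  rcases Nat.lt_or_ge (i : Nat) 57 with hi | hi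
  · obtain ⟨h1, a, ha, h2⟩ := (hA i).1 hi
    rw [hr, Matrix.smul_mulVec, Matrix.one_mulVec] at h2
    have h3 : V i = (r⁻¹ * a) • V (σ h i : Fin 114) := by
      rw [mul_smul, ← h2, smul_smul, inv_mul_cancel₀ hr0, one_smul]
    exact (V_inj _ _ hi h1 _ h3).symm
  · obtain ⟨h1, a, ha, h2⟩ := (hA i).2 hi
    rw [hr, Matrix.vecMul_smul, Matrix.vecMul_one] at h2
    have h3 : V (σ h i : Fin 114) = (r⁻¹ * a) • V i := by
      rw [mul_smul, ← h2, smul_smul, inv_mul_cancel₀ hr0, one_smul]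
    have hi2 : (i : Nat) - 57 < 57 := by have := i.2; omega
    have hj2 : ((σ h i : Fin 114) : Nat) - 57 < 57 := by have := (σ h i).2; omega
    have e1 : V i = V ((i : Nat) - 57) := by
      unfold V
      rw [← hvc _ hi2]
      congr 2
      omega
    have e2 : V (σ h i : Fin 114) = V (((σ h i : Fin 114) : Nat) - 57) := by
      unfold V
      rw [← hvc _ hj2]
      congr 2
      omega
    rw [e1, e2] at h3
    have := V_inj _ _ hj2 hi2 _ h3
    omega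

/-! ### The polarity -/

noncomputable def ckPol (i : Nat) : Bool :=
  band (@Bool.rec (fun _ => Bool) (Nat.beq (ONLt.T0 i) (Nat.sub i (nat_lit 57)))
    (Nat.beq (ONLt.T0 i) (Nat.add i (nat_lit 57))) (Nat.ble (Nat.succ i) (nat_lit 57)))
    (Nat.beq (ONLt.vc (ONLt.T0 i)) (ONLt.vc i))

theorem ckPol_all : allR ckPol (nat_lit 0) (nat_lit 114) = true := by decide +kernel

theorem σ0 (i : Fin 114) : ((σ (x 0) i : Fin 114) : Nat) = ONLt.T0 i := by
  rw [σ_x, permL_apply ONLt.tok 0 (by decide)]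
  rfl

theorem pol (i : Fin 114) : ((i : Nat) < 57 → 57 ≤ ((σ (x 0) i : Fin 114) : Nat)) ∧
    (57 ≤ (i : Nat) → ((σ (x 0) i : Fin 114) : Nat) < 57) ∧ V (σ (x 0) i : Fin 114) = V i := by
  have h := allR_zero _ _ ckPol_all i i.2
  unfold ckPol at h
  rw [band_eq_true] at h
  rw [σ0]
  obtain ⟨h1, h2⟩ := h
  refine ⟨fun hi => ?_, fun hi => ?_, ?_⟩
  · have hb : Nat.ble (Nat.succ i) (nat_lit 57) = true := Nat.ble_eq_true_of_le hi
    rw [hb] at h1
    have h3 : ONLt.T0 i = (i : Nat) + 57 := Nat.eq_of_beq_eq_true h1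
    omega
  · have hb : Nat.ble (Nat.succ i) (nat_lit 57) = false := by
      cases hb : Nat.ble (Nat.succ i) (nat_lit 57) with
      | false => rfl
      | true =>
        have h4 : (i : Nat) + 1 ≤ 57 := Nat.le_of_ble_eq_true hb
        omega
    rw [hb] at h1
    have h3 : ONLt.T0 i = (i : Nat) - 57 := Nat.eq_of_beq_eq_true h1
    have := i.2
    omega
  · unfold V
    rw [Nat.eq_of_beq_eq_true h2]

/-- the inverse transpose. -/
def it (M : SL) : SL := ⟨((M⁻¹ : SL) : MM)ᵀ, by rw [Matrix.det_transpose]; exact (M⁻¹).2⟩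

theorem RM_t (h : HG) (M : SL) (H : RM h M) : RM (x 0 * h * (x 0)⁻¹) (it M) := by
  intro i
  rw [← x_inv, map_mul, map_mul, Equiv.Perm.mul_apply, Equiv.Perm.mul_apply]
  obtain ⟨p1, p2, p3⟩ := pol i
  obtain ⟨q1, q2, q3⟩ := pol (σ h (σ (x 0) i))
  refine ⟨fun hi => ?_, fun hi => ?_⟩
  · obtain ⟨h1, a, ha, h2⟩ := (H (σ (x 0) i)).2 (p1 hi)
    refine ⟨q2 h1, a⁻¹, inv_ne_zero ha, ?_⟩
    show ((M⁻¹ : SL) : MM)ᵀ *ᵥ V i = _
    rw [Matrix.mulVec_transpose, q3, ← p3]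
    exact inv_vecMul M _ _ a ha h2
  · obtain ⟨h1, a, ha, h2⟩ := (H (σ (x 0) i)).1 (p2 hi)
    refine ⟨q1 h1, a⁻¹, inv_ne_zero ha, ?_⟩
    show _ ᵥ* ((M⁻¹ : SL) : MM)ᵀ = _
    rw [Matrix.vecMul_transpose, q3, ← p3]
    exact inv_mulVec M _ _ a ha h2

theorem R_t (h : HG) (M : PS) (H : R h M) : ∃ M', R (x 0 * h * (x 0)⁻¹) M' := by
  obtain ⟨A, rfl, hA⟩ := H
  exact ⟨mk (it A), it A, rfl, RM_t _ _ hA⟩

/-! ### Generators -/

noncomputable def detN (m : Nat) : Nat :=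
  Nat.add (Nat.mul (dig m 0) (Nat.add (Nat.mul (dig m 4) (dig m 8)) (Nat.mul (nat_lit 6) (Nat.mul (dig m 5) (dig m 7)))))
    (Nat.add (Nat.mul (dig m 1) (Nat.add (Nat.mul (dig m 5) (dig m 6)) (Nat.mul (nat_lit 6) (Nat.mul (dig m 3) (dig m 8)))))
      (Nat.mul (dig m 2) (Nat.add (Nat.mul (dig m 3) (dig m 7)) (Nat.mul (nat_lit 6) (Nat.mul (dig m 4) (dig m 6))))))

theorem detN_sound (m : Nat) (h : eq7 (detN m) 1 = true) : (mat m).det = 1 := by
  have h1 := eq7_sound _ _ h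
  have h2 : ((detN m : Nat) : ZMod 7) = (mat m).det := by
    rw [Matrix.det_fin_three]
    show (((dig m 0) * ((dig m 4) * (dig m 8) + 6 * ((dig m 5) * (dig m 7))) +
      ((dig m 1) * ((dig m 5) * (dig m 6) + 6 * ((dig m 3) * (dig m 8))) +
      (dig m 2) * ((dig m 3) * (dig m 7) + 6 * ((dig m 4) * (dig m 6)))) : Nat) : ZMod 7) =
      ((dig m 0 : Nat) : ZMod 7) * (dig m 4 : Nat) * (dig m 8 : Nat) - ((dig m 0 : Nat) : ZMod 7) * (dig m 5 : Nat) * (dig m 7 : Nat)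
      - ((dig m 1 : Nat) : ZMod 7) * (dig m 3 : Nat) * (dig m 8 : Nat) + ((dig m 1 : Nat) : ZMod 7) * (dig m 5 : Nat) * (dig m 6 : Nat)
      + ((dig m 2 : Nat) : ZMod 7) * (dig m 3 : Nat) * (dig m 7 : Nat) - ((dig m 2 : Nat) : ZMod 7) * (dig m 4 : Nat) * (dig m 6 : Nat)
    push_cast
    have h6 : (6 : ZMod 7) = -1 := by decide
    rw [h6]
    ring
  rw [← h2, h1]
  rfl

theorem RM_of (m : Nat) (hm : eq7 (detN m) 1 = true) (l : Nat) (hl : l < 6) (P : Nat → Nat) (hP : ONLt.T l = P)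
    (h : allR (ckM m (fun i => ONLt.T0 (P i))) (nat_lit 0) (nat_lit 114) = true) :
    RM (x 0 * x l) ⟨mat m, detN_sound m hm⟩ := by
  intro i
  have e : ((σ (x 0 * x l) i : Fin 114) : Nat) = ONLt.T0 (P i) := by
    rw [map_mul, Equiv.Perm.mul_apply, σ0, σ_x, permL_apply ONLt.tok l hl, ← hP]
    rfl
  rw [e]
  exact ckM_sound m _ i (allR_zero _ _ h i i.2)

theorem exM (l : Nat) (hl : l < 6) (hl0 : l ≠ 0) : ∃ M, R (x 0 * x l) M := by
  interval_cases l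
  · exact absurd rfl hl0
  · exact ⟨_, _, rfl, RM_of 67117057 (by decide +kernel) 1 (by decide) ONLt.T1 rfl (by decide +kernel)⟩
  · exact ⟨_, _, rfl, RM_of 27956369 (by decide +kernel) 2 (by decide) ONLt.T2 rfl (by decide +kernel)⟩
  · exact ⟨_, _, rfl, RM_of 798912 (by decide +kernel) 3 (by decide) ONLt.T3 rfl (by decide +kernel)⟩
  · exact ⟨_, _, rfl, RM_of 100663816 (by decide +kernel) 4 (by decide) ONLt.T4 rfl (by decide +kernel)⟩
  · exact ⟨_, _, rfl, RM_of 286784 (by decide +kernel) 5 (by decide) ONLt.T5 rfl (by decide +kernel)⟩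

theorem top_gen : Subgroup.closure ({x 0} ∪ {g | ∃ l, l < 6 ∧ l ≠ 0 ∧ g = x 0 * x l} : Set HG) = ⊤ := by
  rw [eq_top_iff, ← x_top]
  unfold letterGroup
  rw [Subgroup.closure_le]
  rintro _ ⟨l, hl, rfl⟩
  have h0 : x 0 ∈ Subgroup.closure ({x 0} ∪ {g | ∃ l, l < 6 ∧ l ≠ 0 ∧ g = x 0 * x l} : Set HG) :=
    Subgroup.subset_closure (Or.inl rfl)
  by_cases hl0 : l = 0
  · subst hl0; exact h0
  · have h1 : x 0 * x l ∈ Subgroup.closure ({x 0} ∪ {g | ∃ l, l < 6 ∧ l ≠ 0 ∧ g = x 0 * x l} : Set HG) :=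
      Subgroup.subset_closure (Or.inr ⟨l, hl, hl0, rfl⟩)
    have h2 := mul_mem h0 h1
    rw [← mul_assoc, x_sq, one_mul] at h2
    exact h2

theorem card_PS : Nat.card PS = 1876896 := by
  have h := Cfsg.Agent.H5.card_PSL_mul (F := ZMod 7) (q := 7) (by rw [ZMod.card]) 3 (by decide)
  rw [Fin.prod_univ_three] at h
  have h1 : Nat.gcd 3 (7 - 1) = 3 := by decide
  have h2 : ((7 ^ 3 - 7 ^ ((0 : Fin 3) : ℕ)) * (7 ^ 3 - 7 ^ ((1 : Fin 3) : ℕ)) * (7 ^ 3 - 7 ^ ((2 : Fin 3) : ℕ)) : ℕ) = 33784128 := by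
    decide
  rw [h1, h2] at h
  have h3 : 3 * ((7 - 1) * Nat.card PS) = 33784128 := h
  omega

theorem main : ∃ N : Subgroup HG, N.Normal ∧ N.index = 2 ∧ Nonempty (N ≃* PS) := by
  haveI : Finite PS := Nat.finite_of_card_ne_zero (by rw [card_PS]; decide)
  apply Ix2.index_two_iso R R_one R_mul R_inv R_uniq R_faith (x 0) (x_sq 0) R_t _ top_gen
  · rintro g (hg | ⟨l, hl, hl0, rfl⟩)
    · exact Or.inl hg
    · exact Or.inr (exM l hl hl0)
  · rw [card_hg, card_PS]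

/-! ### The centre -/

noncomputable def ckFix (i : Nat) : Bool :=
  @Bool.rec (fun _ => Bool) (@Bool.rec (fun _ => Bool) true (@Bool.rec (fun _ => Bool) true
    (@Bool.rec (fun _ => Bool) true false (Nat.beq (ONLt.T2 (ONLt.T5 i)) i)) (Nat.beq (ONLt.T1 (ONLt.T4 i)) i))
    (Nat.beq (ONLt.T1 (ONLt.T3 i)) i)) true (Nat.beq i (nat_lit 47))

theorem ckFix_all : allR ckFix (nat_lit 0) (nat_lit 114) = true := by decide +kernel

theorem ckFix_sound (i : Nat) (h : ckFix i = true) (h1 : ONLt.T1 (ONLt.T3 i) = i) (h2 : ONLt.T1 (ONLt.T4 i) = i)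
    (h3 : ONLt.T2 (ONLt.T5 i) = i) : i = 47 := by
  unfold ckFix at h
  cases hb : Nat.beq i (nat_lit 47) with
  | true => exact Nat.eq_of_beq_eq_true hb
  | false =>
    exfalso
    have e1 : Nat.beq (ONLt.T1 (ONLt.T3 i)) i = true := by rw [h1]; exact Nat.beq_refl _
    have e2 : Nat.beq (ONLt.T1 (ONLt.T4 i)) i = true := by rw [h2]; exact Nat.beq_refl _
    have e3 : Nat.beq (ONLt.T2 (ONLt.T5 i)) i = true := by rw [h3]; exact Nat.beq_refl _
    rw [hb, e1, e2, e3] at h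
    exact absurd h (by decide)

theorem centre (z : HG) (hz : ∀ g, g * z = z * g) : z = 1 := by
  have hcomm : ∀ (g : HG) (i : Fin 114), σ z (σ g i) = σ g (σ z i) := by
    intro g i
    rw [← Equiv.Perm.mul_apply, ← Equiv.Perm.mul_apply, ← map_mul, ← map_mul, hz g]
  have hw : ∀ (w : List Nat), (∀ l ∈ w, l < 6) → trN ONLt.T w 47 = 47 →
      trN ONLt.T w (σ z ⟨47, by decide⟩ : Fin 114) = ((σ z ⟨47, by decide⟩ : Fin 114) : Nat) := by
    intro w hw h47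
    have h1 : ((σ (w.map x).prod)⁻¹ ⟨47, by decide⟩ : Fin 114) = ⟨47, by decide⟩ :=
      Fin.ext ((rho_word x ONLt.tok σ (fun l _ => σ_x l) w hw ⟨47, by decide⟩).trans h47)
    have h2 := rho_word x ONLt.tok σ (fun l _ => σ_x l) w hw (σ z ⟨47, by decide⟩)
    rw [← h2, ← map_inv, ← hcomm, map_inv, h1]
  have h47 : ((σ z ⟨47, by decide⟩ : Fin 114) : Nat) = 47 := by
    apply ckFix_sound _ (allR_zero _ _ ckFix_all _ (σ z ⟨47, by decide⟩).2)
    · exact hw [3, 1] (by decide) (by decide +kernel)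
    · exact hw [4, 1] (by decide) (by decide +kernel)
    · exact hw [5, 2] (by decide) (by decide +kernel)
  have h47' : σ z ⟨47, by decide⟩ = ⟨47, by decide⟩ := Fin.ext h47
  apply σ_injective
  rw [map_one]
  ext i
  have hne : ∀ i < 114, ONLt.chQ0 i ≠ 0 := by
    intro i hi
    have h : allR (fun i => Nat.ble (nat_lit 1) (ONLt.chQ0 i)) (nat_lit 0) (nat_lit 114) = true := by decide +kernel
    have h2 : 1 ≤ ONLt.chQ0 i := Nat.le_of_ble_eq_true (allR_zero _ _ h i hi)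
    omega
  obtain ⟨g, _, hg⟩ := reach x ONLt.tok σ (fun l _ => σ_x l) ONLt.chQ0 ONLt.chG0 (by decide) ⟨47, by decide⟩
    (fun i hi => allR_zero _ _ ONLt.ch_r0 i hi) i (hne i i.2)
  rw [← hg, hcomm, h47']
  rfl

/-- `x 0 * x 1` is in every subgroup of index two. -/
theorem x01_mem (L : Subgroup HG) (hL : L.Normal) (h2 : L.index = 2) : x 0 * x 1 ∈ L := by
  rw [Subgroup.mul_mem_iff_of_index_two h2]
  have h := RG.gen_rels 6 ONLt.rels2 ([0, 1], 3) (by decide)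
  have h' : (x 0 * x 1) ^ 3 = 1 := by
    have : ((([0, 1] : List Nat).map x).prod) ^ 3 = 1 := h
    simpa using this
  have e : x 1 = (x 0 * x 1) * x 0 * (x 0 * x 1)⁻¹ := by
    have i0 : (x 0)⁻¹ = x 0 := (x_inv 0).symm
    have i1 : (x 1)⁻¹ = x 1 := (x_inv 1).symm
    rw [_root_.mul_inv_rev, i0, i1]
    have h3 : x 0 * x 1 * (x 0 * x 1) * (x 0 * x 1) = 1 := by simpa [pow_succ] using h'
    have h4 : x 0 * x 1 * x 0 * (x 1 * x 0) * x 1 = 1 := by
      simpa [mul_assoc] using h3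
    exact (mul_eq_one_iff_eq_inv.1 h4 |>.trans i1).symm
  constructor
  · intro h0
    rw [e]
    exact hL.conj_mem _ h0 _
  · intro h1
    obtain ⟨u, hu⟩ : ∃ u, u = x 0 * x 1 := ⟨_, rfl⟩
    rw [← hu] at e
    have e2 : x 0 = u⁻¹ * x 1 * (u⁻¹)⁻¹ := by
      rw [e]
      group
    rw [e2]
    exact hL.conj_mem _ h1 _

/-- normal subgroups of the group. -/
theorem normals : ∃ L : Subgroup HG, L.Normal ∧ L.index = 2 ∧ ∀ K : Subgroup HG, K.Normal → K = ⊥ ∨ L ≤ K := by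
  obtain ⟨L, hL, h2, ⟨e⟩⟩ := main
  refine ⟨L, hL, h2, ?_⟩
  have hs : IsSimpleGroup PS := Cfsg.Agent.H5.PSL_isSimple_of_three (by simp)
  have hs' : IsSimpleGroup L := e.isSimpleGroup
  exact fun K hK => Ix2.normal_of_index_two L hL h2 hs' centre K hK

end Cfsg.Agent.H8.ONH
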