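import Cfsg.Agent.H8.ONPres
import Cfsg.Agent.H8.ONH2
import Cfsg.Agent.H8.T.ONtO

/-!
# The presented O'Nan group: order, simplicity, the subgroup `L₃(7):2`
-/

set_option autoImplicit false
set_option linter.all false
set_option maxRecDepth 100000
set_option maxHeartbeats 400000

namespace Cfsg.Agent.H8.ONP

open Cfsg.Spor

theorem permL_invL {n L : Nat} {T : Nat → Nat → Nat} {inv : Nat → Nat} (hT : TableOK n L T inv) (l : Nat)
    (hl : l < L) : permL hT (inv l) = (permL hT l)⁻¹ := by
  ext i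
  rw [permL_inv_apply hT l hl, permL_apply hT (inv l) (hT.inv_lt l hl), hT.inv_inv l hl]

theorem tsq : ∀ l < 6, permL ONt.tok l * permL ONt.tok l = 1 := by
  intro l hl
  have h := permL_invL ONt.tok l (by omega)
  have e : ONt.inv l = l := by
    obtain ⟨v0, v1, v2, v3, v4, v5, _, _⟩ := inv_vals
    interval_cases l <;> assumption
  rw [e] at h
  nth_rw 1 [h]
  exact inv_mul_cancel _

theorem t7 : permL ONt.tok 7 = (permL ONt.tok 6)⁻¹ := by
  have h := permL_invL ONt.tok 6 (by omega)
  have e : ONt.inv 6 = 7 := inv_vals.2.2.2.2.2.2.1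
  rw [e] at h
  exact h

/-- the action on the cosets. -/
noncomputable def ρ : ON →* Equiv.Perm (Fin 122760) := homOf (permL ONt.tok) tsq t7 ONt.relp

theorem hρ : ∀ l < 8, ρ (s l) = permL ONt.tok l := homOf_s _ _ _ _

abbrev H : Subgroup ON := wordGroup s ONt.clG

theorem index_stab : H.index = 122760 ∧ H = stabOf ρ ⟨0, by decide⟩ := by
  have hle : H ≤ stabOf ρ ⟨0, by decide⟩ :=
    wordGroup_le_stabOf s ONt.tok ρ hρ _ _ (by decide +kernel)
  have h2 := ONt.upperIndex s s_inv s_31 base H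
    (fun w hw => mem_wordGroup s _ w (by revert w hw; decide)) s_top
  exact index_and_stab ρ _ _ hle (ONt.rho_tr s ρ hρ) h2 (by decide)

theorem coatom : IsCoatom (stabOf ρ ⟨0, by decide⟩) := ONt.cl_coatom s ρ hρ index_stab.2.symm

/-! ### The stabiliser -/

/-- the letters below six. -/
def t6 : Nat → ON := fun l => if l < 6 then s l else 1

theorem t6_lt (l : Nat) (h : l < 6) : t6 l = s l := if_pos h

theorem t6_sq (l : Nat) : t6 l * t6 l = 1 := by
  unfold t6
  split
  · rename_i h; exact s_sq l h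
  · exact one_mul 1

theorem t6_rel : ∀ p ∈ ONLt.rels2, ((p.1.map t6).prod) ^ p.2 = 1 := by
  intro p hp
  have h1 : ∀ p ∈ ONLt.rels2, p ∈ ONt.relsP ∧ ∀ l ∈ p.1, l < 6 := by decide
  obtain ⟨h2, h3⟩ := h1 p hp
  have h4 := baseP p h2
  have e : p.1.map t6 = p.1.map s := List.map_congr_left fun l hl => t6_lt l (h3 l hl)
  rw [e]
  exact h4

noncomputable def φ : ONH.HG →* ON :=
  RG.lift 6 ONLt.rels2 t6 t6_sq (fun l hl => if_neg (by omega)) t6_rel

theorem φ_x (l : Nat) : φ (ONH.x l) = t6 l := RG.lift_gen _ _ _ _ _ _ l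

theorem φ_range : φ.range = H := by
  have h1 := RG.map_wordGroup φ ONH.x t6 φ_x ONt.clG
  have h2 : wordGroup ONH.x ONt.clG = ⊤ := by
    rw [← letterGroup_eq_wordGroup ONH.x 6 ONt.clG (by decide) (by decide), ONH.x_top]
  have h3 : wordGroup t6 ONt.clG = H := by
    have hl : ∀ w ∈ ONt.clG, ∀ l ∈ w, l < 6 := by decide
    unfold H wordGroup
    congr 1
    ext g
    constructor
    · rintro ⟨w, hw, rfl⟩
      exact ⟨w, hw, by rw [List.map_congr_left fun l hl' => t6_lt l (hl w hw l hl')]⟩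
    · rintro ⟨w, hw, rfl⟩
      exact ⟨w, hw, by rw [List.map_congr_left fun l hl' => t6_lt l (hl w hw l hl')]⟩
  rw [h2, h3] at h1
  rw [← h1, MonoidHom.range_eq_map]

theorem moved : ρ (s 0 * s 1) ≠ 1 := by
  intro h
  have h1 := rho_word s ONt.tok ρ hρ [0, 1] (by decide) ⟨1, by decide⟩
  have e : (([0, 1] : List Nat).map s).prod = s 0 * s 1 := by simp
  rw [e, h] at h1
  have h2 : trN ONt.T [0, 1] 1 = 2 := by decide +kernel
  have h3 : ((((1 : Equiv.Perm (Fin 122760))⁻¹ ⟨1, by decide⟩ : Fin 122760)) : Nat) = 1 := by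
    rw [inv_one]; rfl
  have h4 : trN ONt.T [0, 1] 1 = 1 := h1.symm.trans h3
  rw [h2] at h4
  exact absurd h4 (by decide)

/-- a normal subgroup of `HG` dying in the permutation group is trivial. -/
theorem normal_trivial (K : Subgroup ONH.HG) (hK : K.Normal) (h : ∀ y ∈ K, ρ (φ y) = 1) : K = ⊥ := by
  obtain ⟨L, hL, h2, hn⟩ := ONH.normals
  rcases hn K hK with h1 | h1
  · exact h1
  · exfalso
    have h3 := h _ (h1 (ONH.x01_mem L hL h2))
    rw [map_mul, φ_x, φ_x, t6_lt 0 (by decide), t6_lt 1 (by decide)] at h3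
    exact moved h3

theorem φ_injective : Function.Injective φ := by
  rw [← MonoidHom.ker_eq_bot_iff]
  apply normal_trivial _ inferInstance
  intro y hy
  rw [MonoidHom.mem_ker.1 hy, map_one]

theorem ρ_injective : Function.Injective ρ := by
  rw [← MonoidHom.ker_eq_bot_iff, eq_bot_iff]
  intro g hg
  have hgH : g ∈ H := by
    rw [index_stab.2, mem_stabOf, MonoidHom.mem_ker.1 hg]
    rfl
  rw [← φ_range] at hgH
  obtain ⟨y, rfl⟩ := hgH
  have h1 : (ρ.ker.comap φ) = ⊥ := normal_trivial _ inferInstance (fun y hy => hy)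
  have h2 : y ∈ ρ.ker.comap φ := hg
  rw [h1, Subgroup.mem_bot] at h2
  rw [h2, map_one]
  exact Subgroup.mem_bot.2 rfl

noncomputable def eH : ONH.HG ≃* H := (MonoidHom.ofInjective φ_injective).trans (MulEquiv.subgroupCongr φ_range)

theorem card_H : Nat.card H = 3753792 := by
  rw [← Nat.card_congr eH.toEquiv]
  exact ONH.card_hg

theorem card_on : Nat.card ON = 460815505920 := by
  have h1 := Subgroup.card_mul_index H
  rw [index_stab.1, card_H] at h1
  exact h1.symm

instance on_finite : Finite ON := Nat.finite_of_card_ne_zero (by rw [card_on]; decide)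

theorem nontrivial_on : Nontrivial ON := by
  apply Finite.one_lt_card_iff_nontrivial.1
  rw [card_on]; decide

theorem l37 : ∃ N : Subgroup H, N.Normal ∧ N.index = 2 ∧
    Nonempty (N ≃* Matrix.ProjectiveSpecialLinearGroup (Fin 3) (ZMod 7)) :=
  Ix2.transport eH ONH.main

theorem normalsH (K : Subgroup H) (hK : K.Normal) : K = ⊥ ∨ ∀ x y : H, x * y * x⁻¹ * y⁻¹ ∈ K := by
  obtain ⟨L, hL, h2, hn⟩ := ONH.normals
  rcases hn (K.comap eH.toMonoidHom) inferInstance with h | h
  · left
    rw [eq_bot_iff]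
    intro g hg
    obtain ⟨y, rfl⟩ := eH.surjective g
    have h3 : y ∈ K.comap eH.toMonoidHom := hg
    rw [h, Subgroup.mem_bot] at h3
    rw [h3, map_one]
    exact Subgroup.mem_bot.2 rfl
  · right
    intro x y
    obtain ⟨x, rfl⟩ := eH.surjective x
    obtain ⟨y, rfl⟩ := eH.surjective y
    have h3 : x * y * x⁻¹ * y⁻¹ ∈ L := by
      have hm := fun a b => Subgroup.mul_mem_iff_of_index_two (a := a) (b := b) h2
      rw [hm, hm, hm, inv_mem_iff, inv_mem_iff]
      tauto
    have h4 : x * y * x⁻¹ * y⁻¹ ∈ K.comap eH.toMonoidHom := h h3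
    have h5 : eH (x * y * x⁻¹ * y⁻¹) ∈ K := h4
    rw [map_mul, map_mul, map_mul, map_inv, map_inv] at h5
    exact h5

/-! ### Perfectness -/

theorem collapse_comm {P : Type*} [CommGroup P] (t : Nat → P) (hsq : ∀ l < 6, t l * t l = 1) (h7 : t 7 = (t 6)⁻¹)
    (hrel : ∀ p ∈ ONt.relsP, ((p.1.map t).prod) ^ p.2 = 1) : ∀ l < 8, t l = 1 := by
  have cube : ∀ x y : P, x * x = 1 → y * y = 1 → (x * y) ^ 3 = 1 → x = y := by
    intro x y hx hy h
    have h1 : (x * y) * (x * y) = 1 := by
      calc (x * y) * (x * y) = (x * x) * (y * y) := by simp only [mul_assoc, mul_left_comm, mul_comm]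
        _ = 1 := by rw [hx, hy, one_mul]
    have h2 : x * y = 1 := eq_one_of_sq_of_odd (x * y) 1 h1 h
    calc x = x * (y * y) := by rw [hy, mul_one]
      _ = y := by rw [← mul_assoc, h2, one_mul]
  have s0 := hsq 0 (by decide)
  have s1 := hsq 1 (by decide)
  have s2 := hsq 2 (by decide)
  have s3 := hsq 3 (by decide)
  have s4 := hsq 4 (by decide)
  have s5 := hsq 5 (by decide)
  have e01 : t 0 = t 1 := cube _ _ s0 s1 (by simpa using hrel ([0, 1], 3) (by decide))
  have e12 : t 1 = t 2 := cube _ _ s1 s2 (by simpa using hrel ([1, 2], 3) (by decide))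
  have e34 : t 3 = t 4 := cube _ _ s3 s4 (by simpa using hrel ([3, 4], 3) (by decide))
  have e45 : t 4 = t 5 := cube _ _ s4 s5 (by simpa using hrel ([4, 5], 3) (by decide))
  have h05 : t 0 = t 5 := by
    have r := hrel ([0, 5, 3, 2, 3, 2, 3, 2, 3, 2], 1) (by decide)
    have e : (([0, 5, 3, 2, 3, 2, 3, 2, 3, 2] : List Nat).map t).prod =
        (t 0 * t 5) * ((t 3 * t 3) * (t 3 * t 3) * ((t 2 * t 2) * (t 2 * t 2))) := by
      simp only [List.map_cons, List.map_nil, List.prod_cons, List.prod_nil, mul_one]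
      simp only [mul_assoc, mul_left_comm, mul_comm]
    have r' : ((([0, 5, 3, 2, 3, 2, 3, 2, 3, 2] : List Nat).map t).prod) ^ 1 = 1 := r
    rw [e, s3, s2, one_mul, one_mul, mul_one, pow_one] at r'
    calc t 0 = t 0 * (t 5 * t 5) := by rw [s5, mul_one]
      _ = t 5 := by rw [← mul_assoc, r', one_mul]
  have g2 : t 6 * t 6 = 1 := by
    have r := hrel ([0, 5, 7, 7], 1) (by decide)
    have r' : ((([0, 5, 7, 7] : List Nat).map t).prod) ^ 1 = 1 := r
    have e : (([0, 5, 7, 7] : List Nat).map t).prod = (t 0 * t 5) * (t 7 * t 7) := by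
      simp [mul_assoc]
    rw [e, pow_one, h05, s5, one_mul, h7, ← mul_inv_rev, inv_eq_one] at r'
    exact r'
  have h4 : t 4 = 1 := by
    have r := hrel ([6, 4, 3, 6, 3, 4, 6, 4, 3, 6, 3], 1) (by decide)
    have r' : ((([6, 4, 3, 6, 3, 4, 6, 4, 3, 6, 3] : List Nat).map t).prod) ^ 1 = 1 := r
    have e : (([6, 4, 3, 6, 3, 4, 6, 4, 3, 6, 3] : List Nat).map t).prod =
        t 4 * ((t 4 * t 4) * ((t 3 * t 3) * (t 3 * t 3)) * ((t 6 * t 6) * (t 6 * t 6))) := by
      simp only [List.map_cons, List.map_nil, List.prod_cons, List.prod_nil, mul_one]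
      simp only [mul_assoc, mul_left_comm, mul_comm]
    rw [e, s4, s3, g2, one_mul, one_mul, one_mul, mul_one, pow_one] at r'
    exact r'
  have h5 : t 5 = 1 := by rw [← e45, h4]
  have h3 : t 3 = 1 := by rw [e34, h4]
  have h0 : t 0 = 1 := by rw [h05, h5]
  have h1 : t 1 = 1 := by rw [← e01, h0]
  have h2 : t 2 = 1 := by rw [← e12, h1]
  have h6 : t 6 = 1 := by
    have r := hrel ([1, 2, 3, 6], 5) (by decide)
    have r' : ((([1, 2, 3, 6] : List Nat).map t).prod) ^ 5 = 1 := r
    have e : (([1, 2, 3, 6] : List Nat).map t).prod = t 6 := by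
      simp [h1, h2, h3]
    rw [e] at r'
    exact eq_one_of_sq_of_odd (t 6) 2 g2 r'
  have h7' : t 7 = 1 := by rw [h7, h6, inv_one]
  intro l hl
  interval_cases l <;> assumption

theorem perfect : commutator ON = ⊤ := by
  apply perfect_of_letters s 8 s_top
  apply collapse_comm (fun l => (Abelianization.of (s l) : Abelianization ON))
  · intro l hl
    rw [← map_mul, s_sq l hl, map_one]
  · show Abelianization.of (s 7) = (Abelianization.of (s 6))⁻¹
    rw [s_7, map_inv]
  · intro p hp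
    have := baseP p hp
    have h2 := congrArg (Abelianization.of (G := ON)) this
    rw [map_pow, map_list_prod, List.map_map, map_one] at h2
    exact h2

/-! ### Simplicity -/

theorem simple : IsSimpleGroup ON := by
  haveI := nontrivial_on
  have hst : stabOf ρ ⟨0, by decide⟩ = H := index_stab.2.symm
  refine Ix2.simple_of_coatom_almost (stabOf ρ ⟨0, by decide⟩) coatom
    (core_free ρ _ ρ_injective (ONt.rho_tr s ρ hρ)) ?_ perfect ?_
  · rw [hst]
    exact normalsH
  · intro N hNn _ hN hsup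
    exact no_regular_of_sylow ρ _ coatom N hNn hN hsup (ONt.rho_tr s ρ hρ) 31 1 3960 (by norm_num) (by decide)
      (by decide) (by decide) (by decide) (by
        intro d hd h31
        have h : ∀ d < 3961, d ∣ 3960 → d % 31 = 1 → d = 1 := by decide +kernel
        exact h d (Nat.lt_succ_of_le (Nat.le_of_dvd (by decide) hd)) hd h31)

theorem H_eq : ((Subgroup.closure ({ON.a, ON.b, ON.c, ON.d, ON.e, ON.f} : Set (FreeGroup ON.Gen))).map
    (PresentedGroup.mk (coxRelators ON.edges ∪ {r | r ∈ ON.extra}))) = wordGroup s ONt.clG := by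
  apply map_closure_eq
  · intro x hx
    simp only [Set.mem_insert_iff, Set.mem_singleton_iff] at hx
    rcases hx with rfl | rfl | rfl | rfl | rfl | rfl
    · exact ⟨[0], by decide, by simp [s, sF, PresentedGroup.of]⟩
    · exact ⟨[1], by decide, by simp [s, sF, PresentedGroup.of]⟩
    · exact ⟨[2], by decide, by simp [s, sF, PresentedGroup.of]⟩
    · exact ⟨[3], by decide, by simp [s, sF, PresentedGroup.of]⟩
    · exact ⟨[4], by decide, by simp [s, sF, PresentedGroup.of]⟩
    · exact ⟨[5], by decide, by simp [s, sF, PresentedGroup.of]⟩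
  · intro w hw
    simp only [ONt.clG, List.mem_cons, List.not_mem_nil, or_false] at hw
    rcases hw with rfl | rfl | rfl | rfl | rfl | rfl
    · exact ⟨ON.a, by simp, by simp [s, sF, PresentedGroup.of]⟩
    · exact ⟨ON.b, by simp, by simp [s, sF, PresentedGroup.of]⟩
    · exact ⟨ON.c, by simp, by simp [s, sF, PresentedGroup.of]⟩
    · exact ⟨ON.d, by simp, by simp [s, sF, PresentedGroup.of]⟩
    · exact ⟨ON.e, by simp, by simp [s, sF, PresentedGroup.of]⟩
    · exact ⟨ON.f, by simp, by simp [s, sF, PresentedGroup.of]⟩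

end Cfsg.Agent.H8.ONP
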