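import Cfsg.Agent.H8.T.ONOx
import Cfsg.Agent.H8.T.ONOF
import Cfsg.Agent.H8.T.ONOb
import Cfsg.Agent.H8.ONMain

/-!
# Automorphisms of the group ON
-/

set_option Elab.async false
set_option autoImplicit false
set_option linter.all false
set_option maxRecDepth 100000
set_option maxHeartbeats 2000000

namespace Cfsg.Agent.H8.ONO

open Cfsg.Spor
open Cfsg.Agent.H8

noncomputable def s : Nat → ON := OT.extI Cfsg.Agent.H8.ONP.s 8 bws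

theorem s_lt (l : Nat) (h : l < 8) : s l = Cfsg.Agent.H8.ONP.s l := OT.extI_lt _ _ _ l h

noncomputable def ρ : ON →* Equiv.Perm (Fin 122760) := Cfsg.Agent.H8.ONP.ρ

theorem hρ : ∀ l < 20, ρ (s l) = permL tok l :=
  OT.extI_rho tok ρ bws Cfsg.Agent.H8.ONP.s 8 (by
    intro l hl
    have h0 : ρ (Cfsg.Agent.H8.ONP.s l) = permL Cfsg.Agent.H8.ONt.tok l := Cfsg.Agent.H8.ONP.hρ l hl
    rw [h0]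
    ext j
    rw [permL_apply Cfsg.Agent.H8.ONt.tok l hl, permL_apply tok l (lt_trans hl (by decide)), hii l hl,
      hTT _ (Cfsg.Agent.H8.ONt.tok.inv_lt l hl)]) (by decide) hwb

theorem inj : Function.Injective ρ := Cfsg.Agent.H8.ONP.ρ_injective

theorem cardG : Nat.card ON = 460815505920 := Cfsg.Agent.H8.ONP.card_on

theorem xchain : wordGroup s xG0 = ⊤ ∧ (∀ g ∈ wordGroup s xG0, xQ0 (act ρ ⟨0, by decide⟩ g : Fin 122760) ≠ 0) ∧ (∀ g ∈ wordGroup s xG0, act ρ ⟨0, by decide⟩ g = ⟨0, by decide⟩ → g ∈ wordGroup s xG1) ∧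
    (∀ g ∈ wordGroup s xG1, xQ1 (act ρ ⟨1, by decide⟩ g : Fin 122760) ≠ 0) ∧ (∀ g ∈ wordGroup s xG1, act ρ ⟨1, by decide⟩ g = ⟨1, by decide⟩ → g ∈ wordGroup s xG2) ∧
    (∀ g ∈ wordGroup s xG2, xQ2 (act ρ ⟨1409, by decide⟩ g : Fin 122760) ≠ 0) ∧ (∀ g ∈ wordGroup s xG2, act ρ ⟨1409, by decide⟩ g = ⟨1409, by decide⟩ → g ∈ wordGroup s xG3) ∧
    (∀ g ∈ wordGroup s xG3, xQ3 (act ρ ⟨554, by decide⟩ g : Fin 122760) ≠ 0) ∧ (∀ g ∈ wordGroup s xG3, act ρ ⟨554, by decide⟩ g = ⟨554, by decide⟩ → g ∈ wordGroup s ([] : List (List Nat))) := by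
  haveI : Finite ON := Nat.finite_of_card_ne_zero (by rw [cardG]; decide)
  have k0 := card_step s tok ρ hρ xQ0 122760 xG0 xG1 (by decide) ⟨0, by decide⟩ xr0 xc0
    (by decide) (by decide +kernel) inferInstance
  have k1 := card_step s tok ρ hρ xQ1 58653 xG1 xG2 (by decide) ⟨1, by decide⟩ xr1 xc1
    (by decide) (by decide +kernel) inferInstance
  have k2 := card_step s tok ρ hρ xQ2 64 xG2 xG3 (by decide) ⟨1409, by decide⟩ xr2 xc2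
    (by decide) (by decide +kernel) inferInstance
  have k3 := card_step s tok ρ hρ xQ3 1 xG3 ([] : List (List Nat)) (by decide) ⟨554, by decide⟩ xr3 xc3
    (by decide) (by decide +kernel) inferInstance
  have k : Nat.card (wordGroup s xG0) ≤ 460815505920 := by rw [← cardG]; exact Subgroup.card_le_card_group _
  have kl : 0 < Nat.card (wordGroup s ([] : List (List Nat))) := Nat.card_pos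
  have e0 : Nat.card (wordGroup s xG0) = 460815505920 := by omega
  have e1 : Nat.card (wordGroup s xG1) = 3753792 := by omega
  have e2 : Nat.card (wordGroup s xG2) = 64 := by omega
  have e3 : Nat.card (wordGroup s xG3) = 1 := by omega
  have e4 : Nat.card (wordGroup s ([] : List (List Nat))) = 1 := by omega
  have x0 := exact_step s tok ρ xQ0 122760 xG0 xG1 (by decide) ⟨0, by decide⟩ xr0 xc0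
    (by decide) (by decide +kernel) inferInstance hρ (by rw [e0, e1])
  have x1 := exact_step s tok ρ xQ1 58653 xG1 xG2 (by decide) ⟨1, by decide⟩ xr1 xc1
    (by decide) (by decide +kernel) inferInstance hρ (by rw [e1, e2])
  have x2 := exact_step s tok ρ xQ2 64 xG2 xG3 (by decide) ⟨1409, by decide⟩ xr2 xc2
    (by decide) (by decide +kernel) inferInstance hρ (by rw [e2, e3])
  have x3 := exact_step s tok ρ xQ3 1 xG3 ([] : List (List Nat)) (by decide) ⟨554, by decide⟩ xr3 xc3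
    (by decide) (by decide +kernel) inferInstance hρ (by rw [e3, e4])
  exact ⟨Subgroup.eq_top_of_card_eq _ (by rw [e0, cardG]), x0.1, x0.2, x1.1, x1.2, x2.1, x2.2, x3.1, x3.2⟩

theorem xbot : wordGroup s ([] : List (List Nat)) = ⊥ := by
  unfold wordGroup
  rw [eq_bot_iff, Subgroup.closure_le]
  rintro g ⟨w, hw, _⟩
  simp at hw

theorem xp0 : act ρ ⟨0, by decide⟩ ((([8] : List Nat).map s).prod ^ 0) = (⟨0, by decide⟩ : Fin 122760) :=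
  Fin.ext (by rw [OT.iter_fin s tok ρ [8] (by decide) hρ]; decide +kernel)
theorem xp1 : act ρ ⟨0, by decide⟩ ((([8] : List Nat).map s).prod ^ 1) = (⟨1, by decide⟩ : Fin 122760) :=
  Fin.ext (by rw [OT.iter_fin s tok ρ [8] (by decide) hρ]; decide +kernel)
theorem xp2 : act ρ ⟨0, by decide⟩ ((([8] : List Nat).map s).prod ^ 2) = (⟨1409, by decide⟩ : Fin 122760) :=
  Fin.ext (by rw [OT.iter_fin s tok ρ [8] (by decide) hρ]; decide +kernel)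
theorem xp3 : act ρ ⟨0, by decide⟩ ((([8] : List Nat).map s).prod ^ 3) = (⟨554, by decide⟩ : Fin 122760) :=
  Fin.ext (by rw [OT.iter_fin s tok ρ [8] (by decide) hρ]; decide +kernel)

/-- an element fixing the base is trivial. -/
theorem xbase (g : ON) (h0 : act ρ ⟨0, by decide⟩ g = (⟨0, by decide⟩ : Fin 122760)) (h1 : act ρ ⟨1, by decide⟩ g = (⟨1, by decide⟩ : Fin 122760)) (h2 : act ρ ⟨1409, by decide⟩ g = (⟨1409, by decide⟩ : Fin 122760)) (h3 : act ρ ⟨554, by decide⟩ g = (⟨554, by decide⟩ : Fin 122760)) : g = 1 := by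
  have g0 : g ∈ wordGroup s xG0 := by rw [xchain.1]; exact Subgroup.mem_top g
  have g1 := xchain.2.2.1 g g0 h0
  have g2 := xchain.2.2.2.2.1 g g1 h1
  have g3 := xchain.2.2.2.2.2.2.1 g g2 h2
  have g4 := xchain.2.2.2.2.2.2.2.2 g g3 h3
  rw [xbot] at g4
  exact Subgroup.mem_bot.1 g4

theorem xrej : Rej ρ (⊤ : Subgroup ON) ((List.range 4).map fun i => act ρ ⟨0, by decide⟩ ((([8] : List Nat).map s).prod ^ i)) xK0 := by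
  have e : ((List.range 4).map fun i => act ρ (⟨0, by decide⟩ : Fin 122760) ((([8] : List Nat).map s).prod ^ i)) = [(⟨0, by decide⟩ : Fin 122760), (⟨1, by decide⟩ : Fin 122760), (⟨1409, by decide⟩ : Fin 122760), (⟨554, by decide⟩ : Fin 122760)] := by
    change [act ρ (⟨0, by decide⟩ : Fin 122760) ((([8] : List Nat).map s).prod ^ 0), act ρ (⟨0, by decide⟩ : Fin 122760) ((([8] : List Nat).map s).prod ^ 1), act ρ (⟨0, by decide⟩ : Fin 122760) ((([8] : List Nat).map s).prod ^ 2), act ρ (⟨0, by decide⟩ : Fin 122760) ((([8] : List Nat).map s).prod ^ 3)] = _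
    rw [xp0, xp1, xp2, xp3]
  rw [e, ← xchain.1]
  exact (Rej_step s tok ρ hρ (wordGroup s xG0) (wordGroup s xG1) ⟨0, by decide⟩ [(⟨1, by decide⟩ : Fin 122760), (⟨1409, by decide⟩ : Fin 122760), (⟨554, by decide⟩ : Fin 122760)] _ xQ0 xG0 31 (by decide)
    (fun w hw => mem_wordGroup s _ w hw) xchain.2.1 xchain.2.2.1 (Rej_step s tok ρ hρ (wordGroup s xG1) (wordGroup s xG2) ⟨1, by decide⟩ [(⟨1409, by decide⟩ : Fin 122760), (⟨554, by decide⟩ : Fin 122760)] _ xQ1 xG1 31 (by decide)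
    (fun w hw => mem_wordGroup s _ w hw) xchain.2.2.2.1 xchain.2.2.2.2.1 (Rej_step s tok ρ hρ (wordGroup s xG2) (wordGroup s xG3) ⟨1409, by decide⟩ [(⟨554, by decide⟩ : Fin 122760)] _ xQ2 xG2 31 (by decide)
    (fun w hw => mem_wordGroup s _ w hw) xchain.2.2.2.2.2.1 xchain.2.2.2.2.2.2.1 (Rej_step s tok ρ hρ (wordGroup s xG3) (wordGroup s ([] : List (List Nat))) ⟨554, by decide⟩ [] _ xQ3 xG3 31 (by decide)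
    (fun w hw => mem_wordGroup s _ w hw) xchain.2.2.2.2.2.2.2.1 xchain.2.2.2.2.2.2.2.2 (Rej_nil ρ _ _)))))
theorem Fchain : wordGroup s FG0 = ⊤ ∧ (∀ g ∈ wordGroup s FG0, FQ0 (act ρ ⟨0, by decide⟩ g : Fin 122760) ≠ 0) ∧ (∀ g ∈ wordGroup s FG0, act ρ ⟨0, by decide⟩ g = ⟨0, by decide⟩ → g ∈ wordGroup s FG1) ∧
    (∀ g ∈ wordGroup s FG1, FQ1 (act ρ ⟨101354, by decide⟩ g : Fin 122760) ≠ 0) ∧ (∀ g ∈ wordGroup s FG1, act ρ ⟨101354, by decide⟩ g = ⟨101354, by decide⟩ → g ∈ wordGroup s FG2) ∧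
    (∀ g ∈ wordGroup s FG2, FQ2 (act ρ ⟨28335, by decide⟩ g : Fin 122760) ≠ 0) ∧ (∀ g ∈ wordGroup s FG2, act ρ ⟨28335, by decide⟩ g = ⟨28335, by decide⟩ → g ∈ wordGroup s ([] : List (List Nat))) := by
  haveI : Finite ON := Nat.finite_of_card_ne_zero (by rw [cardG]; decide)
  have k0 := card_step s tok ρ hρ FQ0 122760 FG0 FG1 (by decide) ⟨0, by decide⟩ Fr0 Fc0
    (by decide) (by decide +kernel) inferInstance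
  have k1 := card_step s tok ρ hρ FQ1 52136 FG1 FG2 (by decide) ⟨101354, by decide⟩ Fr1 Fc1
    (by decide) (by decide +kernel) inferInstance
  have k2 := card_step s tok ρ hρ FQ2 72 FG2 ([] : List (List Nat)) (by decide) ⟨28335, by decide⟩ Fr2 Fc2
    (by decide) (by decide +kernel) inferInstance
  have k : Nat.card (wordGroup s FG0) ≤ 460815505920 := by rw [← cardG]; exact Subgroup.card_le_card_group _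
  have kl : 0 < Nat.card (wordGroup s ([] : List (List Nat))) := Nat.card_pos
  have e0 : Nat.card (wordGroup s FG0) = 460815505920 := by omega
  have e1 : Nat.card (wordGroup s FG1) = 3753792 := by omega
  have e2 : Nat.card (wordGroup s FG2) = 72 := by omega
  have e3 : Nat.card (wordGroup s ([] : List (List Nat))) = 1 := by omega
  have x0 := exact_step s tok ρ FQ0 122760 FG0 FG1 (by decide) ⟨0, by decide⟩ Fr0 Fc0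
    (by decide) (by decide +kernel) inferInstance hρ (by rw [e0, e1])
  have x1 := exact_step s tok ρ FQ1 52136 FG1 FG2 (by decide) ⟨101354, by decide⟩ Fr1 Fc1
    (by decide) (by decide +kernel) inferInstance hρ (by rw [e1, e2])
  have x2 := exact_step s tok ρ FQ2 72 FG2 ([] : List (List Nat)) (by decide) ⟨28335, by decide⟩ Fr2 Fc2
    (by decide) (by decide +kernel) inferInstance hρ (by rw [e2, e3])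
  exact ⟨Subgroup.eq_top_of_card_eq _ (by rw [e0, cardG]), x0.1, x0.2, x1.1, x1.2, x2.1, x2.2⟩

theorem Fbot : wordGroup s ([] : List (List Nat)) = ⊥ := by
  unfold wordGroup
  rw [eq_bot_iff, Subgroup.closure_le]
  rintro g ⟨w, hw, _⟩
  simp at hw

theorem Fp0 : act ρ ⟨0, by decide⟩ ((([14] : List Nat).map s).prod ^ 0) = (⟨0, by decide⟩ : Fin 122760) :=
  Fin.ext (by rw [OT.iter_fin s tok ρ [14] (by decide) hρ]; decide +kernel)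
theorem Fp1 : act ρ ⟨0, by decide⟩ ((([14] : List Nat).map s).prod ^ 1) = (⟨101354, by decide⟩ : Fin 122760) :=
  Fin.ext (by rw [OT.iter_fin s tok ρ [14] (by decide) hρ]; decide +kernel)
theorem Fp2 : act ρ ⟨0, by decide⟩ ((([14] : List Nat).map s).prod ^ 2) = (⟨28335, by decide⟩ : Fin 122760) :=
  Fin.ext (by rw [OT.iter_fin s tok ρ [14] (by decide) hρ]; decide +kernel)
theorem Fp3 : act ρ ⟨0, by decide⟩ ((([14] : List Nat).map s).prod ^ 3) = (⟨53674, by decide⟩ : Fin 122760) :=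
  Fin.ext (by rw [OT.iter_fin s tok ρ [14] (by decide) hρ]; decide +kernel)

/-- an element fixing the base is trivial. -/
theorem Fbase (g : ON) (h0 : act ρ ⟨0, by decide⟩ g = (⟨0, by decide⟩ : Fin 122760)) (h1 : act ρ ⟨101354, by decide⟩ g = (⟨101354, by decide⟩ : Fin 122760)) (h2 : act ρ ⟨28335, by decide⟩ g = (⟨28335, by decide⟩ : Fin 122760)) : g = 1 := by
  have g0 : g ∈ wordGroup s FG0 := by rw [Fchain.1]; exact Subgroup.mem_top g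
  have g1 := Fchain.2.2.1 g g0 h0
  have g2 := Fchain.2.2.2.2.1 g g1 h1
  have g3 := Fchain.2.2.2.2.2.2 g g2 h2
  rw [Fbot] at g3
  exact Subgroup.mem_bot.1 g3

theorem Frej : Rej ρ (⊤ : Subgroup ON) ((List.range 4).map fun i => act ρ ⟨0, by decide⟩ ((([14] : List Nat).map s).prod ^ i)) FK0 := by
  have e : ((List.range 4).map fun i => act ρ (⟨0, by decide⟩ : Fin 122760) ((([14] : List Nat).map s).prod ^ i)) = [(⟨0, by decide⟩ : Fin 122760), (⟨101354, by decide⟩ : Fin 122760), (⟨28335, by decide⟩ : Fin 122760), (⟨53674, by decide⟩ : Fin 122760)] := by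
    change [act ρ (⟨0, by decide⟩ : Fin 122760) ((([14] : List Nat).map s).prod ^ 0), act ρ (⟨0, by decide⟩ : Fin 122760) ((([14] : List Nat).map s).prod ^ 1), act ρ (⟨0, by decide⟩ : Fin 122760) ((([14] : List Nat).map s).prod ^ 2), act ρ (⟨0, by decide⟩ : Fin 122760) ((([14] : List Nat).map s).prod ^ 3)] = _
    rw [Fp0, Fp1, Fp2, Fp3]
  rw [e, ← Fchain.1]
  exact (Rej_step s tok ρ hρ (wordGroup s FG0) (wordGroup s FG1) ⟨0, by decide⟩ [(⟨101354, by decide⟩ : Fin 122760), (⟨28335, by decide⟩ : Fin 122760), (⟨53674, by decide⟩ : Fin 122760)] _ FQ0 FG0 28 (by decide)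
    (fun w hw => mem_wordGroup s _ w hw) Fchain.2.1 Fchain.2.2.1 (Rej_step s tok ρ hρ (wordGroup s FG1) (wordGroup s FG2) ⟨101354, by decide⟩ [(⟨28335, by decide⟩ : Fin 122760), (⟨53674, by decide⟩ : Fin 122760)] _ FQ1 FG1 28 (by decide)
    (fun w hw => mem_wordGroup s _ w hw) Fchain.2.2.2.1 Fchain.2.2.2.2.1 (Rej_step s tok ρ hρ (wordGroup s FG2) (wordGroup s ([] : List (List Nat))) ⟨28335, by decide⟩ [(⟨53674, by decide⟩ : Fin 122760)] _ FQ2 FG2 28 (by decide)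
    (fun w hw => mem_wordGroup s _ w hw) Fchain.2.2.2.2.2.1 Fchain.2.2.2.2.2.2 (Rej_nil ρ _ _))))

/-- word identities are checked on the base. -/
theorem weq (u v : List Nat) (hu : ∀ l ∈ u, l < 20) (hv : ∀ l ∈ v, l < 20)
    (h : ∀ i ∈ ([0, 101354, 28335] : List Nat), trN T' u i = trN T' v i) : (u.map s).prod = (v.map s).prod := by
  have key : ∀ b : Fin 122760, (b : Nat) ∈ ([0, 101354, 28335] : List Nat) → act ρ b ((u.map s).prod * ((v.map s).prod)⁻¹) = b := by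
    intro b hb
    have h1 : act ρ b (u.map s).prod = act ρ b (v.map s).prod := by
      apply Fin.ext
      rw [act_word s tok ρ hρ b u hu, act_word s tok ρ hρ b v hv]
      exact h b hb
    rw [act_mul, h1, ← act_mul, mul_inv_cancel, act_one]
  exact mul_inv_eq_one.1 (Fbase _ (key ⟨0, by decide⟩ (by decide)) (key ⟨101354, by decide⟩ (by decide)) (key ⟨28335, by decide⟩ (by decide)))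

theorem weq1 (u : List Nat) (hu : ∀ l ∈ u, l < 20)
    (h : ∀ i ∈ ([0, 101354, 28335] : List Nat), trN T' u i = i) : (u.map s).prod = 1 :=
  weq u [] hu (by simp) h

def xw : List Nat := [8]
def fw : List Nat := [12, 11, 12, 1, 0, 2, 1, 3, 2, 1, 3, 4, 3, 2, 1, 3, 2, 6, 3, 4, 3, 2, 1, 3, 6, 2, 1, 4, 6]
def Fw : List Nat := [14]
def yw : List Nat := [11, 12, 1, 2, 3, 2, 4, 3, 2, 1, 3, 2, 4, 3, 2, 1, 0, 3, 2, 3, 4, 3, 5, 6, 1, 0, 2, 1, 3, 2, 4, 3, 5, 4, 6, 4]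
noncomputable def x : ON := (xw.map s).prod
noncomputable def f : ON := (fw.map s).prod
noncomputable def F : ON := (Fw.map s).prod
noncomputable def y : ON := (yw.map s).prod

theorem x_pow : x ^ 11 = 1 := by
  unfold x
  rw [← wpow_prod]
  exact weq1 _ (by decide) (by decide +kernel)

theorem x_ne : x ≠ 1 := by
  intro h
  have h1 := act_word s tok ρ hρ ⟨0, by decide⟩ xw (by decide)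
  have h2 : act ρ ⟨0, by decide⟩ (xw.map s).prod = (⟨0, by decide⟩ : Fin 122760) := by
    change act ρ ⟨0, by decide⟩ x = _
    rw [h, act_one]
  rw [h2] at h1
  exact absurd h1 (by decide +kernel)

instance prime_p : Fact (Nat.Prime 11) := ⟨by norm_num⟩

theorem x_order : orderOf x = 11 := orderOf_eq_prime x_pow x_ne

theorem xf : x * f = f * x ^ 2 := by
  have h := weq (xw ++ fw) (fw ++ wpow xw 2) (by decide) (by decide) (by decide +kernel)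
  rw [List.map_append, List.prod_append, List.map_append, List.prod_append, wpow_prod] at h
  exact h

theorem F_eq : F = f ^ 2 := by
  unfold F f
  rw [← wpow_prod]
  exact weq _ _ (by decide) (by decide) (by decide +kernel)

theorem F_pow : F ^ 5 = 1 := by
  unfold F
  rw [← wpow_prod]
  exact weq1 _ (by decide) (by decide +kernel)

theorem Fy : F * y = y * F := by
  have h := weq (Fw ++ yw) (yw ++ Fw) (by decide) (by decide) (by decide +kernel)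
  rw [List.map_append, List.prod_append, List.map_append, List.prod_append] at h
  exact h

theorem Cx (g : ON) (h : x * g = g * x) : g ∈ Subgroup.zpowers x := by
  have hb : ∀ g : ON, (∀ i < 4, act ρ (act ρ ⟨0, by decide⟩ (x ^ i)) g = act ρ ⟨0, by decide⟩ (x ^ i)) → g = 1 := by
    intro g hg
    refine xbase g ?_ ?_ ?_ ?_
    · have := hg 0 (by decide)
      change act ρ (act ρ ⟨0, by decide⟩ ((([8] : List Nat).map s).prod ^ 0)) g = act ρ ⟨0, by decide⟩ ((([8] : List Nat).map s).prod ^ 0) at this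
      rw [xp0] at this
      exact this
    · have := hg 1 (by decide)
      change act ρ (act ρ ⟨0, by decide⟩ ((([8] : List Nat).map s).prod ^ 1)) g = act ρ ⟨0, by decide⟩ ((([8] : List Nat).map s).prod ^ 1) at this
      rw [xp1] at this
      exact this
    · have := hg 2 (by decide)
      change act ρ (act ρ ⟨0, by decide⟩ ((([8] : List Nat).map s).prod ^ 2)) g = act ρ ⟨0, by decide⟩ ((([8] : List Nat).map s).prod ^ 2) at this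
      rw [xp2] at this
      exact this
    · have := hg 3 (by decide)
      change act ρ (act ρ ⟨0, by decide⟩ ((([8] : List Nat).map s).prod ^ 3)) g = act ρ ⟨0, by decide⟩ ((([8] : List Nat).map s).prod ^ 3) at this
      rw [xp3] at this
      exact this
  have hen : ∀ g : ON, x * g = g * x → ∃ a : Nat, ((act ρ ⟨0, by decide⟩ (g * x ^ a) : Fin 122760) : Nat) ∈ ([0, 1, 554, 2452] : List Nat) := by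
    intro g hg
    exact conj_enum s tok ρ hρ xw xw (by decide) (by decide) ⟨0, by decide⟩ 4 4 xK0 xrej ([0, 1, 554, 2452] : List Nat) rfl
      (fun q hq => OT.ckCand_sound _ _ _ _ q (allR_zero _ _ xS q hq)) g hg
  obtain ⟨w, hw, a, _, rfl⟩ := OT.cent_list ρ x 11 (by decide) x_pow ⟨0, by decide⟩ 4 hb ([0, 1, 554, 2452] : List Nat) hen
    ((List.range 11).map fun i => x ^ i) (by
    intro q hq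
    have key : ∀ q ∈ ([0, 1, 554, 2452] : List Nat), ∃ i < 11, (trN T' xw)^[i] 0 = q := by decide +kernel
    obtain ⟨i, hi, h⟩ := key q hq
    refine ⟨x ^ i, List.mem_map.2 ⟨i, List.mem_range.2 hi, rfl⟩, by rw [← pow_succ', pow_succ], ?_⟩
    unfold x
    rw [OT.iter_fin s tok ρ xw (by decide) hρ]
    exact h) g h
  obtain ⟨i, _, rfl⟩ := List.mem_map.1 hw
  exact mul_mem (Subgroup.pow_mem _ (Subgroup.mem_zpowers x) i) (Subgroup.pow_mem _ (Subgroup.mem_zpowers x) a)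

/-- centraliser representatives. -/
def svW : List (Nat × List Nat) := [(0, []), (1346, [5, 10, 12, 11, 12, 2, 1, 0, 4, 3, 2, 1, 5, 4, 3, 2, 3, 2, 1, 0, 4, 3, 2, 1, 0, 5, 6, 1, 2, 3, 2, 1, 3, 2, 6, 2]), (2463, [5, 12, 5, 12, 5, 12, 11, 1, 0, 2, 1, 0, 3, 2, 1, 4, 3, 2, 1, 3, 2, 3, 4, 3, 5, 4, 3, 6, 1, 3, 2, 3, 2, 1, 4, 6, 2]), (4198, [12, 5, 12, 10, 12, 1, 2, 1, 4, 3, 2, 1, 3, 2, 4, 3, 2, 1, 0, 5, 4, 3, 2, 3, 4, 6, 1, 0, 2, 1, 3, 2, 1, 0, 4, 3]), (5210, [10, 10, 12, 1, 2, 1, 0, 3, 4, 3, 2, 3, 2, 1, 4, 3, 2, 1, 3, 2, 4, 3, 2, 6, 4, 3, 2, 3, 7, 1, 0, 4]), (6779, [12, 5, 12, 11, 12, 2, 3, 4, 3, 2, 1, 3, 2, 3, 4, 3, 2, 6, 1, 4, 3, 2, 6, 1, 6, 2, 4, 3, 6]), (7749, [5, 12, 5, 12, 11, 1, 0, 2, 1, 0, 3, 4, 3, 2, 1, 3, 5, 4, 3, 6, 1, 0, 2, 3, 4, 6, 2, 3, 7, 1]), (8293, [12,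 5, 12, 10, 12, 11, 12, 1, 0, 3, 2, 1, 3, 4, 3, 2, 1, 0, 3, 2, 1, 0, 4, 3, 2, 3, 6, 1, 2, 6, 3, 2, 6, 1, 4, 3, 5, 4, 7]), (9949, [12, 5, 1, 2, 3, 2, 1, 4, 3, 2, 3, 2, 1, 4, 3, 2, 1, 0, 3, 2, 4, 5, 6, 1, 0, 2, 1, 3, 2, 3, 6, 4, 7, 3, 4, 5]), (10235, [10, 1, 3, 2, 3, 2, 1, 4, 3, 2, 1, 0, 3, 2, 4, 3, 5, 6, 1, 2, 3, 2, 1, 4, 3, 7, 1, 4, 3, 6]), (10425, [5, 12, 11, 12, 1, 0, 2, 3, 2, 1, 4, 3, 2, 1, 5, 4, 3, 2, 1, 0, 3, 6, 1, 2, 7, 3, 2, 4, 6, 1, 0, 3, 4, 5]), (14579, [5, 4, 3, 2, 1, 3, 2, 3, 2, 4, 3, 2, 1, 0, 3, 2, 1, 6, 1, 2, 3, 7, 2, 4, 3, 6, 1, 4, 7, 2]), (14782, [10, 1, 3, 4, 3, 2, 1, 3, 2, 3, 2, 1, 6, 1, 0, 2, 3, 4, 3, 6, 2, 6, 1, 6]), (14899, [5, 12, 5, 12, 10, 12, 11, 12, 1, 3, 2, 1, 0, 3, 4, 3, 2, 1, 0, 3, 2, 1, 0, 4, 3, 2, 6, 1, 2, 1, 4, 3, 2, 1, 0, 6, 4]), (15853,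 [5, 12, 5, 12, 5, 1, 0, 2, 1, 4, 3, 2, 1, 0, 3, 5, 4, 3, 2, 1, 3, 2, 3, 2, 1, 6, 1, 0, 2, 4, 6, 3, 2, 1, 6]), (16017, [12, 11, 12, 1, 0, 4, 3, 2, 1, 3, 2, 1, 3, 4, 3, 2, 3, 2, 4, 6, 1, 0, 2, 4, 3, 6, 2, 1, 3, 2, 7]), (16748, [5, 12, 5, 12, 11, 1, 3, 4, 3, 2, 1, 3, 2, 1, 4, 3, 2, 1, 5, 4, 3, 2, 1, 0, 3, 2, 1, 4, 6, 1, 0, 2, 1, 3, 2, 4, 3, 2, 3, 6]), (17425, [11, 1, 2, 3, 2, 4, 3, 2, 1, 3, 2, 3, 2, 1, 4, 3, 2, 1, 0, 3, 5, 4, 6, 1, 0, 2, 3, 4, 6, 2, 3, 4, 3, 7]), (18992, [12, 10, 12, 11, 1, 0, 4, 3, 2, 3, 2, 1, 4, 3, 2, 1, 0, 3, 2, 5, 6, 1, 4, 7, 2, 1, 6, 3, 2, 1, 4, 6]), (19138, [5, 12, 5, 12, 10, 12, 1, 0, 3, 2, 1, 3, 2, 3, 4, 3, 2, 1, 5, 4, 3, 2, 3, 6, 1, 0, 2, 1, 3, 4, 7, 3, 2, 1, 3, 4, 3]), (19154, [12, 10, 12, 1, 0, 4, 3, 2, 1, 3, 2, 3, 4, 3, 2, 1, 0, 3, 6, 1,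 0, 2, 3, 4, 6, 3, 2, 6, 1, 7, 2, 3]), (20345, [12, 5, 12, 5, 12, 5, 1, 3, 4, 3, 2, 1, 3, 2, 1, 3, 2, 4, 6, 1, 2, 4, 3, 6, 2, 1, 3, 6, 4, 6]), (20502, [5, 10, 10, 12, 2, 3, 4, 3, 2, 1, 3, 2, 3, 4, 3, 2, 1, 0, 3, 5, 4, 3, 2, 3, 6, 1, 4, 3, 2, 1, 3, 4, 7, 1, 2, 7]), (22417, [5, 12, 10, 12, 11, 1, 3, 2, 4, 3, 2, 1, 3, 2, 3, 2, 4, 3, 2, 1, 0, 3, 2, 1, 3, 4, 3, 2, 1, 3, 5, 6, 4, 3, 6, 2, 1, 0, 3, 2, 1, 6, 3]), (24239, [12, 11, 12, 2, 1, 4, 3, 2, 3, 2, 1, 4, 3, 2, 3, 2, 4, 6, 1, 4, 3, 2, 3, 2, 1, 6, 2, 7, 3]), (30016, [12, 11, 1, 0, 2, 1, 3, 4, 3, 2, 1, 0, 3, 2, 1, 4, 3, 2, 5, 4, 3, 2, 3, 4, 6, 1, 0, 4, 3, 2, 1, 3, 4, 6, 2, 7]), (30175, [11, 12, 2, 4, 3, 2, 1, 0, 5, 4, 3, 2, 1, 3, 2, 3, 4, 3, 2, 1, 0, 3, 6, 4, 3, 2, 1, 3, 2, 1, 3, 7, 1, 2]), (34711, [12, 11, 12, 1, 0, 2,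 1, 3, 2, 1, 3, 4, 3, 2, 1, 3, 2, 6, 3, 4, 3, 2, 1, 3, 6, 2, 1, 4, 6]), (36921, [5, 12, 5, 12, 11, 12, 1, 0, 2, 1, 4, 3, 2, 1, 3, 2, 1, 4, 3, 2, 1, 0, 3, 6, 1, 2, 6, 3, 2, 4, 3, 7, 1, 2, 3, 7]), (37073, [5, 12, 5, 12, 5, 1, 0, 4, 3, 2, 3, 2, 1, 4, 3, 2, 1, 3, 2, 5, 4, 3, 2, 1, 0, 6, 1, 2, 3, 2, 1, 4, 3, 7, 1, 2, 1, 0]), (37545, [5, 10, 12, 2, 1, 0, 4, 3, 2, 1, 0, 3, 2, 3, 4, 3, 2, 1, 3, 2, 3, 2, 1, 4, 5, 6, 1, 2, 3, 2, 1, 7, 4, 7, 3, 2, 4, 6]), (38084, [5, 10, 10, 12, 1, 2, 1, 0, 3, 4, 3, 2, 1, 3, 2, 3, 5, 4, 3, 2, 3, 6, 1, 0, 2, 3, 2, 1, 0, 4, 3, 2, 6, 3, 4, 3]), (40524, [5, 12, 10, 12, 1, 0, 3, 4, 3, 2, 1, 3, 2, 3, 2, 4, 3, 2, 5, 4, 3, 6, 1, 2, 3, 2, 1, 4, 3, 2, 7, 1, 4, 7, 4, 3]), (44391, [12, 10, 1, 3, 4, 3, 2, 1, 3, 5, 4, 3, 2, 1, 3, 2, 1, 3, 4, 3, 2, 5, 4, 6,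 1, 2, 3, 2, 1, 3, 6, 4, 3, 2, 6, 4, 3]), (44583, [12, 5, 12, 5, 12, 11, 3, 4, 3, 2, 1, 3, 2, 3, 4, 3, 2, 6, 4, 3, 2, 1, 3, 2, 3, 4, 3, 2, 3, 4]), (70982, [5, 10, 10, 12, 1, 2, 1, 3, 2, 1, 4, 3, 2, 5, 4, 3, 2, 1, 3, 2, 3, 2, 1, 4, 6, 1, 2, 1, 3, 2, 1, 7, 4, 3, 2, 1, 6])]
def cands : List (List Nat) := [[], [14], [14, 14], [14, 14, 14], [14, 14, 14, 14], [5, 10, 12, 11, 12, 2, 1, 0, 4, 3, 2, 1, 5, 4, 3, 2, 3, 2, 1, 0, 4, 3, 2, 1, 0, 5, 6, 1, 2, 3, 2, 1, 3, 2, 6, 2], [5, 10, 12, 11, 12, 2, 1, 0, 4, 3, 2, 1, 5, 4, 3, 2, 3, 2, 1, 0, 4, 3, 2, 1, 0, 5, 6, 1, 2, 3, 2, 1, 3, 2, 6, 2, 14], [5, 10, 12, 11, 12, 2, 1, 0, 4, 3, 2, 1, 5, 4, 3, 2, 3, 2, 1, 0, 4, 3, 2, 1, 0, 5, 6, 1, 2, 3, 2, 1, 3, 2, 6, 2, 14, 14], [5, 10, 12, 11, 12, 2, 1, 0, 4, 3, 2, 1, 5, 4, 3, 2, 3, 2, 1, 0,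 4, 3, 2, 1, 0, 5, 6, 1, 2, 3, 2, 1, 3, 2, 6, 2, 14, 14, 14], [5, 10, 12, 11, 12, 2, 1, 0, 4, 3, 2, 1, 5, 4, 3, 2, 3, 2, 1, 0, 4, 3, 2, 1, 0, 5, 6, 1, 2, 3, 2, 1, 3, 2, 6, 2, 14, 14, 14, 14], [5, 12, 5, 12, 5, 12, 11, 1, 0, 2, 1, 0, 3, 2, 1, 4, 3, 2, 1, 3, 2, 3, 4, 3, 5, 4, 3, 6, 1, 3, 2, 3, 2, 1, 4, 6, 2], [5, 12, 5, 12, 5, 12, 11, 1, 0, 2, 1, 0, 3, 2, 1, 4, 3, 2, 1, 3, 2, 3, 4, 3, 5, 4, 3, 6, 1, 3, 2, 3, 2, 1, 4, 6, 2, 14], [5, 12, 5, 12, 5, 12, 11, 1, 0, 2, 1, 0, 3, 2, 1, 4, 3, 2, 1, 3, 2, 3, 4, 3, 5, 4, 3, 6, 1, 3, 2, 3, 2, 1, 4, 6, 2, 14, 14], [5, 12, 5, 12, 5, 12, 11, 1, 0, 2, 1, 0, 3, 2, 1, 4, 3, 2, 1, 3, 2, 3, 4, 3, 5, 4, 3, 6, 1, 3, 2, 3, 2, 1, 4, 6, 2, 14, 14, 14], [5, 12, 5, 12, 5, 12, 11, 1, 0, 2, 1, 0, 3, 2, 1, 4, 3, 2, 1, 3, 2, 3, 4, 3, 5, 4, 3, 6, 1,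 3, 2, 3, 2, 1, 4, 6, 2, 14, 14, 14, 14], [12, 5, 12, 10, 12, 1, 2, 1, 4, 3, 2, 1, 3, 2, 4, 3, 2, 1, 0, 5, 4, 3, 2, 3, 4, 6, 1, 0, 2, 1, 3, 2, 1, 0, 4, 3], [12, 5, 12, 10, 12, 1, 2, 1, 4, 3, 2, 1, 3, 2, 4, 3, 2, 1, 0, 5, 4, 3, 2, 3, 4, 6, 1, 0, 2, 1, 3, 2, 1, 0, 4, 3, 14], [12, 5, 12, 10, 12, 1, 2, 1, 4, 3, 2, 1, 3, 2, 4, 3, 2, 1, 0, 5, 4, 3, 2, 3, 4, 6, 1, 0, 2, 1, 3, 2, 1, 0, 4, 3, 14, 14], [12, 5, 12, 10, 12, 1, 2, 1, 4, 3, 2, 1, 3, 2, 4, 3, 2, 1, 0, 5, 4, 3, 2, 3, 4, 6, 1, 0, 2, 1, 3, 2, 1, 0, 4, 3, 14, 14, 14], [12, 5, 12, 10, 12, 1, 2, 1, 4, 3, 2, 1, 3, 2, 4, 3, 2, 1, 0, 5, 4, 3, 2, 3, 4, 6, 1, 0, 2, 1, 3, 2, 1, 0, 4, 3, 14, 14, 14, 14], [10, 10, 12, 1, 2, 1, 0, 3, 4, 3, 2, 3, 2, 1, 4, 3, 2, 1, 3, 2, 4, 3, 2, 6, 4, 3, 2, 3, 7, 1, 0, 4], [10, 10, 12, 1, 2, 1,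 0, 3, 4, 3, 2, 3, 2, 1, 4, 3, 2, 1, 3, 2, 4, 3, 2, 6, 4, 3, 2, 3, 7, 1, 0, 4, 14], [10, 10, 12, 1, 2, 1, 0, 3, 4, 3, 2, 3, 2, 1, 4, 3, 2, 1, 3, 2, 4, 3, 2, 6, 4, 3, 2, 3, 7, 1, 0, 4, 14, 14], [10, 10, 12, 1, 2, 1, 0, 3, 4, 3, 2, 3, 2, 1, 4, 3, 2, 1, 3, 2, 4, 3, 2, 6, 4, 3, 2, 3, 7, 1, 0, 4, 14, 14, 14], [10, 10, 12, 1, 2, 1, 0, 3, 4, 3, 2, 3, 2, 1, 4, 3, 2, 1, 3, 2, 4, 3, 2, 6, 4, 3, 2, 3, 7, 1, 0, 4, 14, 14, 14, 14], [12, 5, 12, 11, 12, 2, 3, 4, 3, 2, 1, 3, 2, 3, 4, 3, 2, 6, 1, 4, 3, 2, 6, 1, 6, 2, 4, 3, 6], [12, 5, 12, 11, 12, 2, 3, 4, 3, 2, 1, 3, 2, 3, 4, 3, 2, 6, 1, 4, 3, 2, 6, 1, 6, 2, 4, 3, 6, 14], [12, 5, 12, 11, 12, 2, 3, 4, 3, 2, 1, 3, 2, 3, 4, 3, 2, 6, 1, 4, 3, 2, 6, 1, 6, 2, 4, 3, 6, 14, 14], [12, 5, 12, 11, 12, 2, 3, 4, 3, 2, 1, 3, 2, 3, 4, 3, 2, 6, 1,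 4, 3, 2, 6, 1, 6, 2, 4, 3, 6, 14, 14, 14], [12, 5, 12, 11, 12, 2, 3, 4, 3, 2, 1, 3, 2, 3, 4, 3, 2, 6, 1, 4, 3, 2, 6, 1, 6, 2, 4, 3, 6, 14, 14, 14, 14], [5, 12, 5, 12, 11, 1, 0, 2, 1, 0, 3, 4, 3, 2, 1, 3, 5, 4, 3, 6, 1, 0, 2, 3, 4, 6, 2, 3, 7, 1], [5, 12, 5, 12, 11, 1, 0, 2, 1, 0, 3, 4, 3, 2, 1, 3, 5, 4, 3, 6, 1, 0, 2, 3, 4, 6, 2, 3, 7, 1, 14], [5, 12, 5, 12, 11, 1, 0, 2, 1, 0, 3, 4, 3, 2, 1, 3, 5, 4, 3, 6, 1, 0, 2, 3, 4, 6, 2, 3, 7, 1, 14, 14], [5, 12, 5, 12, 11, 1, 0, 2, 1, 0, 3, 4, 3, 2, 1, 3, 5, 4, 3, 6, 1, 0, 2, 3, 4, 6, 2, 3, 7, 1, 14, 14, 14], [5, 12, 5, 12, 11, 1, 0, 2, 1, 0, 3, 4, 3, 2, 1, 3, 5, 4, 3, 6, 1, 0, 2, 3, 4, 6, 2, 3, 7, 1, 14, 14, 14, 14], [12, 5, 12, 10, 12, 11, 12, 1, 0, 3, 2, 1, 3, 4, 3, 2, 1, 0, 3, 2, 1, 0, 4, 3, 2, 3, 6, 1, 2, 6, 3, 2, 6, 1,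 4, 3, 5, 4, 7], [12, 5, 12, 10, 12, 11, 12, 1, 0, 3, 2, 1, 3, 4, 3, 2, 1, 0, 3, 2, 1, 0, 4, 3, 2, 3, 6, 1, 2, 6, 3, 2, 6, 1, 4, 3, 5, 4, 7, 14], [12, 5, 12, 10, 12, 11, 12, 1, 0, 3, 2, 1, 3, 4, 3, 2, 1, 0, 3, 2, 1, 0, 4, 3, 2, 3, 6, 1, 2, 6, 3, 2, 6, 1, 4, 3, 5, 4, 7, 14, 14], [12, 5, 12, 10, 12, 11, 12, 1, 0, 3, 2, 1, 3, 4, 3, 2, 1, 0, 3, 2, 1, 0, 4, 3, 2, 3, 6, 1, 2, 6, 3, 2, 6, 1, 4, 3, 5, 4, 7, 14, 14, 14], [12, 5, 12, 10, 12, 11, 12, 1, 0, 3, 2, 1, 3, 4, 3, 2, 1, 0, 3, 2, 1, 0, 4, 3, 2, 3, 6, 1, 2, 6, 3, 2, 6, 1, 4, 3, 5, 4, 7, 14, 14, 14, 14], [12, 5, 1, 2, 3, 2, 1, 4, 3, 2, 3, 2, 1, 4, 3, 2, 1, 0, 3, 2, 4, 5, 6, 1, 0, 2, 1, 3, 2, 3, 6, 4, 7, 3, 4, 5], [12, 5, 1, 2, 3, 2, 1, 4, 3, 2, 3, 2, 1, 4, 3, 2, 1, 0, 3, 2, 4, 5, 6, 1, 0, 2, 1, 3, 2, 3, 6, 4, 7, 3, 4,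 5, 14], [12, 5, 1, 2, 3, 2, 1, 4, 3, 2, 3, 2, 1, 4, 3, 2, 1, 0, 3, 2, 4, 5, 6, 1, 0, 2, 1, 3, 2, 3, 6, 4, 7, 3, 4, 5, 14, 14], [12, 5, 1, 2, 3, 2, 1, 4, 3, 2, 3, 2, 1, 4, 3, 2, 1, 0, 3, 2, 4, 5, 6, 1, 0, 2, 1, 3, 2, 3, 6, 4, 7, 3, 4, 5, 14, 14, 14], [12, 5, 1, 2, 3, 2, 1, 4, 3, 2, 3, 2, 1, 4, 3, 2, 1, 0, 3, 2, 4, 5, 6, 1, 0, 2, 1, 3, 2, 3, 6, 4, 7, 3, 4, 5, 14, 14, 14, 14], [10, 1, 3, 2, 3, 2, 1, 4, 3, 2, 1, 0, 3, 2, 4, 3, 5, 6, 1, 2, 3, 2, 1, 4, 3, 7, 1, 4, 3, 6], [10, 1, 3, 2, 3, 2, 1, 4, 3, 2, 1, 0, 3, 2, 4, 3, 5, 6, 1, 2, 3, 2, 1, 4, 3, 7, 1, 4, 3, 6, 14], [10, 1, 3, 2, 3, 2, 1, 4, 3, 2, 1, 0, 3, 2, 4, 3, 5, 6, 1, 2, 3, 2, 1, 4, 3, 7, 1, 4, 3, 6, 14, 14], [10, 1, 3, 2, 3, 2, 1, 4, 3, 2, 1, 0, 3, 2, 4, 3, 5, 6, 1, 2, 3, 2, 1, 4, 3, 7, 1, 4, 3, 6, 14, 14, 14], [10,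 1, 3, 2, 3, 2, 1, 4, 3, 2, 1, 0, 3, 2, 4, 3, 5, 6, 1, 2, 3, 2, 1, 4, 3, 7, 1, 4, 3, 6, 14, 14, 14, 14], [5, 12, 11, 12, 1, 0, 2, 3, 2, 1, 4, 3, 2, 1, 5, 4, 3, 2, 1, 0, 3, 6, 1, 2, 7, 3, 2, 4, 6, 1, 0, 3, 4, 5], [5, 12, 11, 12, 1, 0, 2, 3, 2, 1, 4, 3, 2, 1, 5, 4, 3, 2, 1, 0, 3, 6, 1, 2, 7, 3, 2, 4, 6, 1, 0, 3, 4, 5, 14], [5, 12, 11, 12, 1, 0, 2, 3, 2, 1, 4, 3, 2, 1, 5, 4, 3, 2, 1, 0, 3, 6, 1, 2, 7, 3, 2, 4, 6, 1, 0, 3, 4, 5, 14, 14], [5, 12, 11, 12, 1, 0, 2, 3, 2, 1, 4, 3, 2, 1, 5, 4, 3, 2, 1, 0, 3, 6, 1, 2, 7, 3, 2, 4, 6, 1, 0, 3, 4, 5, 14, 14, 14], [5, 12, 11, 12, 1, 0, 2, 3, 2, 1, 4, 3, 2, 1, 5, 4, 3, 2, 1, 0, 3, 6, 1, 2, 7, 3, 2, 4, 6, 1, 0, 3, 4, 5, 14, 14, 14, 14], [5, 4, 3, 2, 1, 3, 2, 3, 2, 4, 3, 2, 1, 0, 3, 2, 1, 6, 1, 2, 3, 7, 2, 4, 3, 6, 1, 4, 7, 2], [5,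 4, 3, 2, 1, 3, 2, 3, 2, 4, 3, 2, 1, 0, 3, 2, 1, 6, 1, 2, 3, 7, 2, 4, 3, 6, 1, 4, 7, 2, 14], [5, 4, 3, 2, 1, 3, 2, 3, 2, 4, 3, 2, 1, 0, 3, 2, 1, 6, 1, 2, 3, 7, 2, 4, 3, 6, 1, 4, 7, 2, 14, 14], [5, 4, 3, 2, 1, 3, 2, 3, 2, 4, 3, 2, 1, 0, 3, 2, 1, 6, 1, 2, 3, 7, 2, 4, 3, 6, 1, 4, 7, 2, 14, 14, 14], [5, 4, 3, 2, 1, 3, 2, 3, 2, 4, 3, 2, 1, 0, 3, 2, 1, 6, 1, 2, 3, 7, 2, 4, 3, 6, 1, 4, 7, 2, 14, 14, 14, 14], [10, 1, 3, 4, 3, 2, 1, 3, 2, 3, 2, 1, 6, 1, 0, 2, 3, 4, 3, 6, 2, 6, 1, 6], [10, 1, 3, 4, 3, 2, 1, 3, 2, 3, 2, 1, 6, 1, 0, 2, 3, 4, 3, 6, 2, 6, 1, 6, 14], [10, 1, 3, 4, 3, 2, 1, 3, 2, 3, 2, 1, 6, 1, 0, 2, 3, 4, 3, 6, 2, 6, 1, 6, 14, 14], [10, 1, 3, 4, 3, 2, 1, 3, 2, 3, 2, 1, 6, 1, 0, 2, 3, 4, 3, 6, 2, 6, 1, 6, 14, 14, 14], [10, 1, 3, 4, 3, 2, 1, 3, 2, 3, 2, 1, 6, 1, 0,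 2, 3, 4, 3, 6, 2, 6, 1, 6, 14, 14, 14, 14], [5, 12, 5, 12, 10, 12, 11, 12, 1, 3, 2, 1, 0, 3, 4, 3, 2, 1, 0, 3, 2, 1, 0, 4, 3, 2, 6, 1, 2, 1, 4, 3, 2, 1, 0, 6, 4], [5, 12, 5, 12, 10, 12, 11, 12, 1, 3, 2, 1, 0, 3, 4, 3, 2, 1, 0, 3, 2, 1, 0, 4, 3, 2, 6, 1, 2, 1, 4, 3, 2, 1, 0, 6, 4, 14], [5, 12, 5, 12, 10, 12, 11, 12, 1, 3, 2, 1, 0, 3, 4, 3, 2, 1, 0, 3, 2, 1, 0, 4, 3, 2, 6, 1, 2, 1, 4, 3, 2, 1, 0, 6, 4, 14, 14], [5, 12, 5, 12, 10, 12, 11, 12, 1, 3, 2, 1, 0, 3, 4, 3, 2, 1, 0, 3, 2, 1, 0, 4, 3, 2, 6, 1, 2, 1, 4, 3, 2, 1, 0, 6, 4, 14, 14, 14], [5, 12, 5, 12, 10, 12, 11, 12, 1, 3, 2, 1, 0, 3, 4, 3, 2, 1, 0, 3, 2, 1, 0, 4, 3, 2, 6, 1, 2, 1, 4, 3, 2, 1, 0, 6, 4, 14, 14, 14, 14], [5, 12, 5, 12, 5, 1, 0, 2, 1, 4, 3, 2, 1, 0, 3, 5, 4, 3, 2, 1, 3, 2, 3, 2, 1, 6, 1, 0, 2, 4, 6,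 3, 2, 1, 6], [5, 12, 5, 12, 5, 1, 0, 2, 1, 4, 3, 2, 1, 0, 3, 5, 4, 3, 2, 1, 3, 2, 3, 2, 1, 6, 1, 0, 2, 4, 6, 3, 2, 1, 6, 14], [5, 12, 5, 12, 5, 1, 0, 2, 1, 4, 3, 2, 1, 0, 3, 5, 4, 3, 2, 1, 3, 2, 3, 2, 1, 6, 1, 0, 2, 4, 6, 3, 2, 1, 6, 14, 14], [5, 12, 5, 12, 5, 1, 0, 2, 1, 4, 3, 2, 1, 0, 3, 5, 4, 3, 2, 1, 3, 2, 3, 2, 1, 6, 1, 0, 2, 4, 6, 3, 2, 1, 6, 14, 14, 14], [5, 12, 5, 12, 5, 1, 0, 2, 1, 4, 3, 2, 1, 0, 3, 5, 4, 3, 2, 1, 3, 2, 3, 2, 1, 6, 1, 0, 2, 4, 6, 3, 2, 1, 6, 14, 14, 14, 14], [12, 11, 12, 1, 0, 4, 3, 2, 1, 3, 2, 1, 3, 4, 3, 2, 3, 2, 4, 6, 1, 0, 2, 4, 3, 6, 2, 1, 3, 2, 7], [12, 11, 12, 1, 0, 4, 3, 2, 1, 3, 2, 1, 3, 4, 3, 2, 3, 2, 4, 6, 1, 0, 2, 4, 3, 6, 2, 1, 3, 2, 7, 14], [12, 11, 12, 1, 0, 4, 3, 2, 1, 3, 2, 1, 3, 4, 3, 2, 3, 2, 4, 6, 1, 0, 2, 4, 3, 6, 2,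 1, 3, 2, 7, 14, 14], [12, 11, 12, 1, 0, 4, 3, 2, 1, 3, 2, 1, 3, 4, 3, 2, 3, 2, 4, 6, 1, 0, 2, 4, 3, 6, 2, 1, 3, 2, 7, 14, 14, 14], [12, 11, 12, 1, 0, 4, 3, 2, 1, 3, 2, 1, 3, 4, 3, 2, 3, 2, 4, 6, 1, 0, 2, 4, 3, 6, 2, 1, 3, 2, 7, 14, 14, 14, 14], [5, 12, 5, 12, 11, 1, 3, 4, 3, 2, 1, 3, 2, 1, 4, 3, 2, 1, 5, 4, 3, 2, 1, 0, 3, 2, 1, 4, 6, 1, 0, 2, 1, 3, 2, 4, 3, 2, 3, 6], [5, 12, 5, 12, 11, 1, 3, 4, 3, 2, 1, 3, 2, 1, 4, 3, 2, 1, 5, 4, 3, 2, 1, 0, 3, 2, 1, 4, 6, 1, 0, 2, 1, 3, 2, 4, 3, 2, 3, 6, 14], [5, 12, 5, 12, 11, 1, 3, 4, 3, 2, 1, 3, 2, 1, 4, 3, 2, 1, 5, 4, 3, 2, 1, 0, 3, 2, 1, 4, 6, 1, 0, 2, 1, 3, 2, 4, 3, 2, 3, 6, 14, 14], [5, 12, 5, 12, 11, 1, 3, 4, 3, 2, 1, 3, 2, 1, 4, 3, 2, 1, 5, 4, 3, 2, 1, 0, 3, 2, 1, 4, 6, 1, 0, 2, 1, 3, 2, 4, 3, 2, 3, 6, 14, 14, 14], [5, 12,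 5, 12, 11, 1, 3, 4, 3, 2, 1, 3, 2, 1, 4, 3, 2, 1, 5, 4, 3, 2, 1, 0, 3, 2, 1, 4, 6, 1, 0, 2, 1, 3, 2, 4, 3, 2, 3, 6, 14, 14, 14, 14], [11, 1, 2, 3, 2, 4, 3, 2, 1, 3, 2, 3, 2, 1, 4, 3, 2, 1, 0, 3, 5, 4, 6, 1, 0, 2, 3, 4, 6, 2, 3, 4, 3, 7], [11, 1, 2, 3, 2, 4, 3, 2, 1, 3, 2, 3, 2, 1, 4, 3, 2, 1, 0, 3, 5, 4, 6, 1, 0, 2, 3, 4, 6, 2, 3, 4, 3, 7, 14], [11, 1, 2, 3, 2, 4, 3, 2, 1, 3, 2, 3, 2, 1, 4, 3, 2, 1, 0, 3, 5, 4, 6, 1, 0, 2, 3, 4, 6, 2, 3, 4, 3, 7, 14, 14], [11, 1, 2, 3, 2, 4, 3, 2, 1, 3, 2, 3, 2, 1, 4, 3, 2, 1, 0, 3, 5, 4, 6, 1, 0, 2, 3, 4, 6, 2, 3, 4, 3, 7, 14, 14, 14], [11, 1, 2, 3, 2, 4, 3, 2, 1, 3, 2, 3, 2, 1, 4, 3, 2, 1, 0, 3, 5, 4, 6, 1, 0, 2, 3, 4, 6, 2, 3, 4, 3, 7, 14, 14, 14, 14], [12, 10, 12, 11, 1, 0, 4, 3, 2, 3, 2, 1, 4, 3, 2, 1, 0, 3, 2, 5, 6, 1, 4, 7,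 2, 1, 6, 3, 2, 1, 4, 6], [12, 10, 12, 11, 1, 0, 4, 3, 2, 3, 2, 1, 4, 3, 2, 1, 0, 3, 2, 5, 6, 1, 4, 7, 2, 1, 6, 3, 2, 1, 4, 6, 14], [12, 10, 12, 11, 1, 0, 4, 3, 2, 3, 2, 1, 4, 3, 2, 1, 0, 3, 2, 5, 6, 1, 4, 7, 2, 1, 6, 3, 2, 1, 4, 6, 14, 14], [12, 10, 12, 11, 1, 0, 4, 3, 2, 3, 2, 1, 4, 3, 2, 1, 0, 3, 2, 5, 6, 1, 4, 7, 2, 1, 6, 3, 2, 1, 4, 6, 14, 14, 14], [12, 10, 12, 11, 1, 0, 4, 3, 2, 3, 2, 1, 4, 3, 2, 1, 0, 3, 2, 5, 6, 1, 4, 7, 2, 1, 6, 3, 2, 1, 4, 6, 14, 14, 14, 14], [5, 12, 5, 12, 10, 12, 1, 0, 3, 2, 1, 3, 2, 3, 4, 3, 2, 1, 5, 4, 3, 2, 3, 6, 1, 0, 2, 1, 3, 4, 7, 3, 2, 1, 3, 4, 3], [5, 12, 5, 12, 10, 12, 1, 0, 3, 2, 1, 3, 2, 3, 4, 3, 2, 1, 5, 4, 3, 2, 3, 6, 1, 0, 2, 1, 3, 4, 7, 3, 2, 1, 3, 4, 3, 14], [5, 12, 5, 12, 10, 12, 1, 0, 3, 2, 1, 3, 2, 3, 4, 3, 2, 1, 5, 4,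 3, 2, 3, 6, 1, 0, 2, 1, 3, 4, 7, 3, 2, 1, 3, 4, 3, 14, 14], [5, 12, 5, 12, 10, 12, 1, 0, 3, 2, 1, 3, 2, 3, 4, 3, 2, 1, 5, 4, 3, 2, 3, 6, 1, 0, 2, 1, 3, 4, 7, 3, 2, 1, 3, 4, 3, 14, 14, 14], [5, 12, 5, 12, 10, 12, 1, 0, 3, 2, 1, 3, 2, 3, 4, 3, 2, 1, 5, 4, 3, 2, 3, 6, 1, 0, 2, 1, 3, 4, 7, 3, 2, 1, 3, 4, 3, 14, 14, 14, 14], [12, 10, 12, 1, 0, 4, 3, 2, 1, 3, 2, 3, 4, 3, 2, 1, 0, 3, 6, 1, 0, 2, 3, 4, 6, 3, 2, 6, 1, 7, 2, 3], [12, 10, 12, 1, 0, 4, 3, 2, 1, 3, 2, 3, 4, 3, 2, 1, 0, 3, 6, 1, 0, 2, 3, 4, 6, 3, 2, 6, 1, 7, 2, 3, 14], [12, 10, 12, 1, 0, 4, 3, 2, 1, 3, 2, 3, 4, 3, 2, 1, 0, 3, 6, 1, 0, 2, 3, 4, 6, 3, 2, 6, 1, 7, 2, 3, 14, 14], [12, 10, 12, 1, 0, 4, 3, 2, 1, 3, 2, 3, 4, 3, 2, 1, 0, 3, 6, 1, 0, 2, 3, 4, 6, 3, 2, 6, 1, 7, 2, 3, 14, 14, 14], [12, 10, 12, 1, 0, 4, 3,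 2, 1, 3, 2, 3, 4, 3, 2, 1, 0, 3, 6, 1, 0, 2, 3, 4, 6, 3, 2, 6, 1, 7, 2, 3, 14, 14, 14, 14], [12, 5, 12, 5, 12, 5, 1, 3, 4, 3, 2, 1, 3, 2, 1, 3, 2, 4, 6, 1, 2, 4, 3, 6, 2, 1, 3, 6, 4, 6], [12, 5, 12, 5, 12, 5, 1, 3, 4, 3, 2, 1, 3, 2, 1, 3, 2, 4, 6, 1, 2, 4, 3, 6, 2, 1, 3, 6, 4, 6, 14], [12, 5, 12, 5, 12, 5, 1, 3, 4, 3, 2, 1, 3, 2, 1, 3, 2, 4, 6, 1, 2, 4, 3, 6, 2, 1, 3, 6, 4, 6, 14, 14], [12, 5, 12, 5, 12, 5, 1, 3, 4, 3, 2, 1, 3, 2, 1, 3, 2, 4, 6, 1, 2, 4, 3, 6, 2, 1, 3, 6, 4, 6, 14, 14, 14], [12, 5, 12, 5, 12, 5, 1, 3, 4, 3, 2, 1, 3, 2, 1, 3, 2, 4, 6, 1, 2, 4, 3, 6, 2, 1, 3, 6, 4, 6, 14, 14, 14, 14], [5, 10, 10, 12, 2, 3, 4, 3, 2, 1, 3, 2, 3, 4, 3, 2, 1, 0, 3, 5, 4, 3, 2, 3, 6, 1, 4, 3, 2, 1, 3, 4, 7, 1, 2, 7], [5, 10, 10, 12, 2, 3, 4, 3, 2, 1, 3, 2, 3, 4, 3, 2, 1,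 0, 3, 5, 4, 3, 2, 3, 6, 1, 4, 3, 2, 1, 3, 4, 7, 1, 2, 7, 14], [5, 10, 10, 12, 2, 3, 4, 3, 2, 1, 3, 2, 3, 4, 3, 2, 1, 0, 3, 5, 4, 3, 2, 3, 6, 1, 4, 3, 2, 1, 3, 4, 7, 1, 2, 7, 14, 14], [5, 10, 10, 12, 2, 3, 4, 3, 2, 1, 3, 2, 3, 4, 3, 2, 1, 0, 3, 5, 4, 3, 2, 3, 6, 1, 4, 3, 2, 1, 3, 4, 7, 1, 2, 7, 14, 14, 14], [5, 10, 10, 12, 2, 3, 4, 3, 2, 1, 3, 2, 3, 4, 3, 2, 1, 0, 3, 5, 4, 3, 2, 3, 6, 1, 4, 3, 2, 1, 3, 4, 7, 1, 2, 7, 14, 14, 14, 14], [5, 12, 10, 12, 11, 1, 3, 2, 4, 3, 2, 1, 3, 2, 3, 2, 4, 3, 2, 1, 0, 3, 2, 1, 3, 4, 3, 2, 1, 3, 5, 6, 4, 3, 6, 2, 1, 0, 3, 2, 1, 6, 3], [5, 12, 10, 12, 11, 1, 3, 2, 4, 3, 2, 1, 3, 2, 3, 2, 4, 3, 2, 1, 0, 3, 2, 1, 3, 4, 3, 2, 1, 3, 5, 6, 4, 3, 6, 2, 1, 0, 3, 2, 1, 6, 3, 14], [5, 12, 10, 12, 11, 1, 3, 2, 4, 3, 2, 1, 3, 2, 3, 2, 4, 3, 2, 1,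 0, 3, 2, 1, 3, 4, 3, 2, 1, 3, 5, 6, 4, 3, 6, 2, 1, 0, 3, 2, 1, 6, 3, 14, 14], [5, 12, 10, 12, 11, 1, 3, 2, 4, 3, 2, 1, 3, 2, 3, 2, 4, 3, 2, 1, 0, 3, 2, 1, 3, 4, 3, 2, 1, 3, 5, 6, 4, 3, 6, 2, 1, 0, 3, 2, 1, 6, 3, 14, 14, 14], [5, 12, 10, 12, 11, 1, 3, 2, 4, 3, 2, 1, 3, 2, 3, 2, 4, 3, 2, 1, 0, 3, 2, 1, 3, 4, 3, 2, 1, 3, 5, 6, 4, 3, 6, 2, 1, 0, 3, 2, 1, 6, 3, 14, 14, 14, 14], [12, 11, 12, 2, 1, 4, 3, 2, 3, 2, 1, 4, 3, 2, 3, 2, 4, 6, 1, 4, 3, 2, 3, 2, 1, 6, 2, 7, 3], [12, 11, 12, 2, 1, 4, 3, 2, 3, 2, 1, 4, 3, 2, 3, 2, 4, 6, 1, 4, 3, 2, 3, 2, 1, 6, 2, 7, 3, 14], [12, 11, 12, 2, 1, 4, 3, 2, 3, 2, 1, 4, 3, 2, 3, 2, 4, 6, 1, 4, 3, 2, 3, 2, 1, 6, 2, 7, 3, 14, 14], [12, 11, 12, 2, 1, 4, 3, 2, 3, 2, 1, 4, 3, 2, 3, 2, 4, 6, 1, 4, 3, 2, 3, 2, 1, 6, 2, 7, 3, 14, 14, 14], [12, 11,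 12, 2, 1, 4, 3, 2, 3, 2, 1, 4, 3, 2, 3, 2, 4, 6, 1, 4, 3, 2, 3, 2, 1, 6, 2, 7, 3, 14, 14, 14, 14], [12, 11, 1, 0, 2, 1, 3, 4, 3, 2, 1, 0, 3, 2, 1, 4, 3, 2, 5, 4, 3, 2, 3, 4, 6, 1, 0, 4, 3, 2, 1, 3, 4, 6, 2, 7], [12, 11, 1, 0, 2, 1, 3, 4, 3, 2, 1, 0, 3, 2, 1, 4, 3, 2, 5, 4, 3, 2, 3, 4, 6, 1, 0, 4, 3, 2, 1, 3, 4, 6, 2, 7, 14], [12, 11, 1, 0, 2, 1, 3, 4, 3, 2, 1, 0, 3, 2, 1, 4, 3, 2, 5, 4, 3, 2, 3, 4, 6, 1, 0, 4, 3, 2, 1, 3, 4, 6, 2, 7, 14, 14], [12, 11, 1, 0, 2, 1, 3, 4, 3, 2, 1, 0, 3, 2, 1, 4, 3, 2, 5, 4, 3, 2, 3, 4, 6, 1, 0, 4, 3, 2, 1, 3, 4, 6, 2, 7, 14, 14, 14], [12, 11, 1, 0, 2, 1, 3, 4, 3, 2, 1, 0, 3, 2, 1, 4, 3, 2, 5, 4, 3, 2, 3, 4, 6, 1, 0, 4, 3, 2, 1, 3, 4, 6, 2, 7, 14, 14, 14, 14], [11, 12, 2, 4, 3, 2, 1, 0, 5, 4, 3, 2, 1, 3, 2, 3, 4, 3, 2, 1, 0, 3, 6, 4,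 3, 2, 1, 3, 2, 1, 3, 7, 1, 2], [11, 12, 2, 4, 3, 2, 1, 0, 5, 4, 3, 2, 1, 3, 2, 3, 4, 3, 2, 1, 0, 3, 6, 4, 3, 2, 1, 3, 2, 1, 3, 7, 1, 2, 14], [11, 12, 2, 4, 3, 2, 1, 0, 5, 4, 3, 2, 1, 3, 2, 3, 4, 3, 2, 1, 0, 3, 6, 4, 3, 2, 1, 3, 2, 1, 3, 7, 1, 2, 14, 14], [11, 12, 2, 4, 3, 2, 1, 0, 5, 4, 3, 2, 1, 3, 2, 3, 4, 3, 2, 1, 0, 3, 6, 4, 3, 2, 1, 3, 2, 1, 3, 7, 1, 2, 14, 14, 14], [11, 12, 2, 4, 3, 2, 1, 0, 5, 4, 3, 2, 1, 3, 2, 3, 4, 3, 2, 1, 0, 3, 6, 4, 3, 2, 1, 3, 2, 1, 3, 7, 1, 2, 14, 14, 14, 14], [12, 11, 12, 1, 0, 2, 1, 3, 2, 1, 3, 4, 3, 2, 1, 3, 2, 6, 3, 4, 3, 2, 1, 3, 6, 2, 1, 4, 6], [12, 11, 12, 1, 0, 2, 1, 3, 2, 1, 3, 4, 3, 2, 1, 3, 2, 6, 3, 4, 3, 2, 1, 3, 6, 2, 1, 4, 6, 14], [12, 11, 12, 1, 0, 2, 1, 3, 2, 1, 3, 4, 3, 2, 1, 3, 2, 6, 3, 4, 3, 2, 1, 3, 6, 2, 1, 4, 6,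 14, 14], [12, 11, 12, 1, 0, 2, 1, 3, 2, 1, 3, 4, 3, 2, 1, 3, 2, 6, 3, 4, 3, 2, 1, 3, 6, 2, 1, 4, 6, 14, 14, 14], [12, 11, 12, 1, 0, 2, 1, 3, 2, 1, 3, 4, 3, 2, 1, 3, 2, 6, 3, 4, 3, 2, 1, 3, 6, 2, 1, 4, 6, 14, 14, 14, 14], [5, 12, 5, 12, 11, 12, 1, 0, 2, 1, 4, 3, 2, 1, 3, 2, 1, 4, 3, 2, 1, 0, 3, 6, 1, 2, 6, 3, 2, 4, 3, 7, 1, 2, 3, 7], [5, 12, 5, 12, 11, 12, 1, 0, 2, 1, 4, 3, 2, 1, 3, 2, 1, 4, 3, 2, 1, 0, 3, 6, 1, 2, 6, 3, 2, 4, 3, 7, 1, 2, 3, 7, 14], [5, 12, 5, 12, 11, 12, 1, 0, 2, 1, 4, 3, 2, 1, 3, 2, 1, 4, 3, 2, 1, 0, 3, 6, 1, 2, 6, 3, 2, 4, 3, 7, 1, 2, 3, 7, 14, 14], [5, 12, 5, 12, 11, 12, 1, 0, 2, 1, 4, 3, 2, 1, 3, 2, 1, 4, 3, 2, 1, 0, 3, 6, 1, 2, 6, 3, 2, 4, 3, 7, 1, 2, 3, 7, 14, 14, 14], [5, 12, 5, 12, 11, 12, 1, 0, 2, 1, 4, 3, 2, 1, 3, 2, 1, 4, 3, 2, 1, 0, 3,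 6, 1, 2, 6, 3, 2, 4, 3, 7, 1, 2, 3, 7, 14, 14, 14, 14], [5, 12, 5, 12, 5, 1, 0, 4, 3, 2, 3, 2, 1, 4, 3, 2, 1, 3, 2, 5, 4, 3, 2, 1, 0, 6, 1, 2, 3, 2, 1, 4, 3, 7, 1, 2, 1, 0], [5, 12, 5, 12, 5, 1, 0, 4, 3, 2, 3, 2, 1, 4, 3, 2, 1, 3, 2, 5, 4, 3, 2, 1, 0, 6, 1, 2, 3, 2, 1, 4, 3, 7, 1, 2, 1, 0, 14], [5, 12, 5, 12, 5, 1, 0, 4, 3, 2, 3, 2, 1, 4, 3, 2, 1, 3, 2, 5, 4, 3, 2, 1, 0, 6, 1, 2, 3, 2, 1, 4, 3, 7, 1, 2, 1, 0, 14, 14], [5, 12, 5, 12, 5, 1, 0, 4, 3, 2, 3, 2, 1, 4, 3, 2, 1, 3, 2, 5, 4, 3, 2, 1, 0, 6, 1, 2, 3, 2, 1, 4, 3, 7, 1, 2, 1, 0, 14, 14, 14], [5, 12, 5, 12, 5, 1, 0, 4, 3, 2, 3, 2, 1, 4, 3, 2, 1, 3, 2, 5, 4, 3, 2, 1, 0, 6, 1, 2, 3, 2, 1, 4, 3, 7, 1, 2, 1, 0, 14, 14, 14, 14], [5, 10, 12, 2, 1, 0, 4, 3, 2, 1, 0, 3, 2, 3, 4, 3, 2, 1, 3, 2, 3, 2, 1, 4, 5, 6, 1, 2, 3,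 2, 1, 7, 4, 7, 3, 2, 4, 6], [5, 10, 12, 2, 1, 0, 4, 3, 2, 1, 0, 3, 2, 3, 4, 3, 2, 1, 3, 2, 3, 2, 1, 4, 5, 6, 1, 2, 3, 2, 1, 7, 4, 7, 3, 2, 4, 6, 14], [5, 10, 12, 2, 1, 0, 4, 3, 2, 1, 0, 3, 2, 3, 4, 3, 2, 1, 3, 2, 3, 2, 1, 4, 5, 6, 1, 2, 3, 2, 1, 7, 4, 7, 3, 2, 4, 6, 14, 14], [5, 10, 12, 2, 1, 0, 4, 3, 2, 1, 0, 3, 2, 3, 4, 3, 2, 1, 3, 2, 3, 2, 1, 4, 5, 6, 1, 2, 3, 2, 1, 7, 4, 7, 3, 2, 4, 6, 14, 14, 14], [5, 10, 12, 2, 1, 0, 4, 3, 2, 1, 0, 3, 2, 3, 4, 3, 2, 1, 3, 2, 3, 2, 1, 4, 5, 6, 1, 2, 3, 2, 1, 7, 4, 7, 3, 2, 4, 6, 14, 14, 14, 14], [5, 10, 10, 12, 1, 2, 1, 0, 3, 4, 3, 2, 1, 3, 2, 3, 5, 4, 3, 2, 3, 6, 1, 0, 2, 3, 2, 1, 0, 4, 3, 2, 6, 3, 4, 3], [5, 10, 10, 12, 1, 2, 1, 0, 3, 4, 3, 2, 1, 3, 2, 3, 5, 4, 3, 2, 3, 6, 1, 0, 2, 3, 2, 1, 0, 4, 3, 2, 6, 3, 4, 3, 14], [5,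 10, 10, 12, 1, 2, 1, 0, 3, 4, 3, 2, 1, 3, 2, 3, 5, 4, 3, 2, 3, 6, 1, 0, 2, 3, 2, 1, 0, 4, 3, 2, 6, 3, 4, 3, 14, 14], [5, 10, 10, 12, 1, 2, 1, 0, 3, 4, 3, 2, 1, 3, 2, 3, 5, 4, 3, 2, 3, 6, 1, 0, 2, 3, 2, 1, 0, 4, 3, 2, 6, 3, 4, 3, 14, 14, 14], [5, 10, 10, 12, 1, 2, 1, 0, 3, 4, 3, 2, 1, 3, 2, 3, 5, 4, 3, 2, 3, 6, 1, 0, 2, 3, 2, 1, 0, 4, 3, 2, 6, 3, 4, 3, 14, 14, 14, 14], [5, 12, 10, 12, 1, 0, 3, 4, 3, 2, 1, 3, 2, 3, 2, 4, 3, 2, 5, 4, 3, 6, 1, 2, 3, 2, 1, 4, 3, 2, 7, 1, 4, 7, 4, 3], [5, 12, 10, 12, 1, 0, 3, 4, 3, 2, 1, 3, 2, 3, 2, 4, 3, 2, 5, 4, 3, 6, 1, 2, 3, 2, 1, 4, 3, 2, 7, 1, 4, 7, 4, 3, 14], [5, 12, 10, 12, 1, 0, 3, 4, 3, 2, 1, 3, 2, 3, 2, 4, 3, 2, 5, 4, 3, 6, 1, 2, 3, 2, 1, 4, 3, 2, 7, 1, 4, 7, 4, 3, 14, 14], [5, 12, 10, 12, 1, 0, 3, 4, 3, 2, 1, 3, 2, 3, 2, 4,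 3, 2, 5, 4, 3, 6, 1, 2, 3, 2, 1, 4, 3, 2, 7, 1, 4, 7, 4, 3, 14, 14, 14], [5, 12, 10, 12, 1, 0, 3, 4, 3, 2, 1, 3, 2, 3, 2, 4, 3, 2, 5, 4, 3, 6, 1, 2, 3, 2, 1, 4, 3, 2, 7, 1, 4, 7, 4, 3, 14, 14, 14, 14], [12, 10, 1, 3, 4, 3, 2, 1, 3, 5, 4, 3, 2, 1, 3, 2, 1, 3, 4, 3, 2, 5, 4, 6, 1, 2, 3, 2, 1, 3, 6, 4, 3, 2, 6, 4, 3], [12, 10, 1, 3, 4, 3, 2, 1, 3, 5, 4, 3, 2, 1, 3, 2, 1, 3, 4, 3, 2, 5, 4, 6, 1, 2, 3, 2, 1, 3, 6, 4, 3, 2, 6, 4, 3, 14], [12, 10, 1, 3, 4, 3, 2, 1, 3, 5, 4, 3, 2, 1, 3, 2, 1, 3, 4, 3, 2, 5, 4, 6, 1, 2, 3, 2, 1, 3, 6, 4, 3, 2, 6, 4, 3, 14, 14], [12, 10, 1, 3, 4, 3, 2, 1, 3, 5, 4, 3, 2, 1, 3, 2, 1, 3, 4, 3, 2, 5, 4, 6, 1, 2, 3, 2, 1, 3, 6, 4, 3, 2, 6, 4, 3, 14, 14, 14], [12, 10, 1, 3, 4, 3, 2, 1, 3, 5, 4, 3, 2, 1, 3, 2, 1, 3, 4, 3, 2, 5, 4, 6, 1, 2, 3, 2, 1,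 3, 6, 4, 3, 2, 6, 4, 3, 14, 14, 14, 14], [12, 5, 12, 5, 12, 11, 3, 4, 3, 2, 1, 3, 2, 3, 4, 3, 2, 6, 4, 3, 2, 1, 3, 2, 3, 4, 3, 2, 3, 4], [12, 5, 12, 5, 12, 11, 3, 4, 3, 2, 1, 3, 2, 3, 4, 3, 2, 6, 4, 3, 2, 1, 3, 2, 3, 4, 3, 2, 3, 4, 14], [12, 5, 12, 5, 12, 11, 3, 4, 3, 2, 1, 3, 2, 3, 4, 3, 2, 6, 4, 3, 2, 1, 3, 2, 3, 4, 3, 2, 3, 4, 14, 14], [12, 5, 12, 5, 12, 11, 3, 4, 3, 2, 1, 3, 2, 3, 4, 3, 2, 6, 4, 3, 2, 1, 3, 2, 3, 4, 3, 2, 3, 4, 14, 14, 14], [12, 5, 12, 5, 12, 11, 3, 4, 3, 2, 1, 3, 2, 3, 4, 3, 2, 6, 4, 3, 2, 1, 3, 2, 3, 4, 3, 2, 3, 4, 14, 14, 14, 14], [5, 10, 10, 12, 1, 2, 1, 3, 2, 1, 4, 3, 2, 5, 4, 3, 2, 1, 3, 2, 3, 2, 1, 4, 6, 1, 2, 1, 3, 2, 1, 7, 4, 3, 2, 1, 6], [5, 10, 10, 12, 1, 2, 1, 3, 2, 1, 4, 3, 2, 5, 4, 3, 2, 1, 3, 2, 3, 2, 1, 4, 6, 1, 2, 1, 3, 2, 1,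 7, 4, 3, 2, 1, 6, 14], [5, 10, 10, 12, 1, 2, 1, 3, 2, 1, 4, 3, 2, 5, 4, 3, 2, 1, 3, 2, 3, 2, 1, 4, 6, 1, 2, 1, 3, 2, 1, 7, 4, 3, 2, 1, 6, 14, 14], [5, 10, 10, 12, 1, 2, 1, 3, 2, 1, 4, 3, 2, 5, 4, 3, 2, 1, 3, 2, 3, 2, 1, 4, 6, 1, 2, 1, 3, 2, 1, 7, 4, 3, 2, 1, 6, 14, 14, 14], [5, 10, 10, 12, 1, 2, 1, 3, 2, 1, 4, 3, 2, 5, 4, 3, 2, 1, 3, 2, 3, 2, 1, 4, 6, 1, 2, 1, 3, 2, 1, 7, 4, 3, 2, 1, 6, 14, 14, 14, 14]]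
def rels3 : List (List Nat × Nat) := [([2], 15), ([2, 0], 16), ([2, 1], 2), ([2, 0, 0], 16)]

def codes1 : List Nat := [2, 2, 2, 2, 2, 2, 2, 0, 3, 2, 3, 2, 2, 2, 4, 4, 3, 2, 2, 2, 2, 2, 0, 3, 2, 1, 1, 1, 1, 1, 1, 1, 1, 1, 1, 1, 1, 1, 1, 1, 1, 1, 1, 1, 1, 2, 2, 2, 2, 2, 1, 1, 1, 1, 1, 1, 1, 1, 1, 1, 1, 1, 1, 1, 1, 1, 1, 1, 1, 1, 2, 2, 2, 2, 2, 1, 1, 1, 1, 1, 1, 1, 1, 1, 1, 1, 1, 1, 1, 1, 2, 2, 2, 2, 2, 1, 1, 1, 1, 1, 1, 1, 1, 1, 1, 1, 1, 1, 1, 1, 1, 1, 1, 1, 1, 1, 1, 1, 1, 1, 1, 1, 1, 1, 1, 1, 1, 1, 1, 1, 1, 1, 1, 1, 1, 1, 1, 1, 1, 1, 1, 1, 1, 1, 1, 1, 1, 1, 1, 1, 1, 1, 1, 1, 1, 1, 1, 1, 1, 1, 2, 2, 2, 2, 2, 1, 1, 1, 1, 1, 1, 1, 1, 1, 1, 1, 1, 1, 1, 1]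
def good1 : List (List Nat) := [[5, 10, 12, 11, 12, 2, 1, 0, 4, 3, 2, 1, 5, 4, 3, 2, 3, 2, 1, 0, 4, 3, 2, 1, 0, 5, 6, 1, 2, 3, 2, 1, 3, 2, 6, 2, 14, 14], [10, 10, 12, 1, 2, 1, 0, 3, 4, 3, 2, 3, 2, 1, 4, 3, 2, 1, 3, 2, 4, 3, 2, 6, 4, 3, 2, 3, 7, 1, 0, 4, 14, 14]]
theorem tests1 : OT.ckTests T' (wpow xw 1) fw rels3 good1 cands codes1 = true := by decide +kernel

theorem rels3_ok : ∀ q ∈ rels3, (((OT.sub3 xw fw yw q.1).map s).prod) ^ q.2 = 1 := by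
  intro q hq
  rw [← wpow_prod]
  apply weq1
  · revert q hq; decide
  · revert q hq; decide +kernel

theorem svW_ok : ∀ q ∈ svW, F * (q.2.map s).prod = (q.2.map s).prod * F ∧
    ((act ρ ⟨0, by decide⟩ (q.2.map s).prod : Fin 122760) : Nat) = q.1 := by
  intro q hq
  constructor
  · have h := weq (Fw ++ q.2) (q.2 ++ Fw) (by revert q hq; decide) (by revert q hq; decide) (by revert q hq; decide +kernel)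
    rw [List.map_append, List.prod_append, List.map_append, List.prod_append] at h
    exact h
  · rw [act_word s tok ρ hρ _ _ (by revert q hq; decide)]
    revert q hq; decide +kernel

theorem cent_cands (g : ON) (h : F * g = g * F) : ∃ w ∈ cands, g = (w.map s).prod := by
  have hb : ∀ g : ON, (∀ i < 4, act ρ (act ρ ⟨0, by decide⟩ (F ^ i)) g = act ρ ⟨0, by decide⟩ (F ^ i)) → g = 1 := by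
    intro g hg
    refine Fbase g ?_ ?_ ?_
    · have := hg 0 (by decide)
      change act ρ (act ρ ⟨0, by decide⟩ ((([14] : List Nat).map s).prod ^ 0)) g = act ρ ⟨0, by decide⟩ ((([14] : List Nat).map s).prod ^ 0) at this
      rw [Fp0] at this
      exact this
    · have := hg 1 (by decide)
      change act ρ (act ρ ⟨0, by decide⟩ ((([14] : List Nat).map s).prod ^ 1)) g = act ρ ⟨0, by decide⟩ ((([14] : List Nat).map s).prod ^ 1) at this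
      rw [Fp1] at this
      exact this
    · have := hg 2 (by decide)
      change act ρ (act ρ ⟨0, by decide⟩ ((([14] : List Nat).map s).prod ^ 2)) g = act ρ ⟨0, by decide⟩ ((([14] : List Nat).map s).prod ^ 2) at this
      rw [Fp2] at this
      exact this
  have hen : ∀ g : ON, F * g = g * F → ∃ a : Nat, ((act ρ ⟨0, by decide⟩ (g * F ^ a) : Fin 122760) : Nat) ∈ svW.map Prod.fst := by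
    intro g hg
    exact conj_enum s tok ρ hρ Fw Fw (by decide) (by decide) ⟨0, by decide⟩ 4 4 FK0 Frej (svW.map Prod.fst) rfl
      (fun q hq => OT.ckCand_sound _ _ _ _ q (allR_zero _ _ FS q hq)) g hg
  obtain ⟨w, hw, a, ha, rfl⟩ := OT.cent_list ρ F 5 (by decide) F_pow ⟨0, by decide⟩ 4 hb _ hen
    (svW.map fun q => (q.2.map s).prod) (by
    intro q hq
    obtain ⟨z, hz, rfl⟩ := List.mem_map.1 hq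
    exact ⟨_, List.mem_map.2 ⟨z, hz, rfl⟩, svW_ok z hz⟩) g h
  obtain ⟨z, hz, rfl⟩ := List.mem_map.1 hw
  refine ⟨z.2 ++ wpow Fw a, ?_, ?_⟩
  · have key : ∀ z ∈ svW, ∀ a < 5, z.2 ++ wpow Fw a ∈ cands := by decide +kernel
    exact key z hz a ha
  · rw [List.map_append, List.prod_append, wpow_prod]
    rfl


theorem inv_letter (l l' : Nat) (h1 : l < 20) (h2 : l' < 20) (h : ∀ i ∈ ([0, 101354, 28335] : List Nat), trN T' [l, l'] i = i) : s l' = (s l)⁻¹ := by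
  have := weq1 [l, l'] (by intro k hk; simp only [List.mem_cons, List.not_mem_nil, or_false] at hk; rcases hk with rfl | rfl <;> assumption) h
  rw [List.map_cons, List.map_singleton, List.prod_cons, List.prod_singleton] at this
  exact eq_inv_of_mul_eq_one_right this

theorem s_x : s 8 = x := by unfold x xw; simp
theorem s_x' : s 9 = x⁻¹ := by rw [← s_x]; exact inv_letter 8 9 (by decide) (by decide) (by decide +kernel)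

/-- symbols `x f y x⁻¹ f⁻¹ y⁻¹`. -/
def vals : Nat → List Nat := fun c => [xw, fw, yw, [9], [7, 4, 1, 2, 7, 3, 1, 2, 3, 4, 3, 7, 2, 3, 1, 2, 3, 4, 3, 1, 2, 3, 1, 2, 0, 1, 13, 10, 13], [4, 7, 4, 5, 3, 4, 2, 3, 1, 2, 0, 1, 7, 5, 3, 4, 3, 2, 3, 0, 1, 2, 3, 4, 2, 3, 1, 2, 3, 4, 2, 3, 2, 1, 13, 10]].getD c []

def lw : Nat → List Nat := fun l => [[1, 0, 5, 1, 3, 2, 3, 5, 0, 5, 3, 3, 2, 3, 2, 3, 2, 3, 3, 5, 3], [5, 3, 5, 0, 2, 0, 5, 3, 3, 3, 5, 3, 5, 3, 5, 1, 3, 5, 3, 2, 0, 2], [4, 3, 5, 0, 2, 1, 0, 2, 3, 2, 3, 5, 3, 5, 0, 4, 5, 0, 4, 5, 0], [3, 2, 3, 2, 3, 2, 2, 0, 2, 4, 0, 2, 0, 2, 0, 2, 3, 2, 3, 5, 1, 5], [3, 1, 5, 3, 1, 2, 0, 2, 3, 3, 1, 5, 3, 2, 0, 0, 5, 1, 0, 2, 4], [3, 5, 1, 2, 0, 2, 0, 5, 0, 2, 3, 5, 0, 2, 0, 5, 0, 5, 4, 2, 0, 0], [1, 5, 0, 0, 5, 0, 2, 3, 2, 0,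 2, 3, 5, 1, 0, 5, 0, 0, 1, 5, 3], [0, 2, 4, 3, 3, 2, 3, 4, 2, 0, 5, 3, 5, 0, 5, 3, 2, 3, 3, 2, 4]].getD l []

theorem lett : ∀ l < 8, ∀ i ∈ ([0, 101354, 28335] : List Nat), trN T' [l] i = trN T' ((lw l).flatMap vals) i := by decide +kernel

theorem gen_top : Subgroup.closure ({x, f, y} : Set ON) = ⊤ := by
  rw [eq_top_iff, ← Cfsg.Agent.H8.ONP.s_top]
  unfold letterGroup
  rw [Subgroup.closure_le]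
  rintro _ ⟨l, hl, rfl⟩
  have hx : x ∈ Subgroup.closure ({x, f, y} : Set ON) := Subgroup.subset_closure (Or.inl rfl)
  have hf : f ∈ Subgroup.closure ({x, f, y} : Set ON) := Subgroup.subset_closure (Or.inr (Or.inl rfl))
  have hy : y ∈ Subgroup.closure ({x, f, y} : Set ON) := Subgroup.subset_closure (Or.inr (Or.inr rfl))
  have hv : ∀ c < 6, ((vals c).map s).prod ∈ Subgroup.closure ({x, f, y} : Set ON) := by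
    intro c hc
    interval_cases c
    · exact hx
    · exact hf
    · exact hy
    · change (([9] : List Nat).map s).prod ∈ _
      rw [List.map_singleton, List.prod_singleton, s_x']; exact inv_mem hx
    · have e : (([7, 4, 1, 2, 7, 3, 1, 2, 3, 4, 3, 7, 2, 3, 1, 2, 3, 4, 3, 1, 2, 3, 1, 2, 0, 1, 13, 10, 13] : List Nat).map s).prod = f⁻¹ := by
        rw [eq_inv_iff_mul_eq_one]
        have := weq1 ([7, 4, 1, 2, 7, 3, 1, 2, 3, 4, 3, 7, 2, 3, 1, 2, 3, 4, 3, 1, 2, 3, 1, 2, 0, 1, 13, 10, 13] ++ fw) (by decide) (by decide +kernel)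
        rw [List.map_append, List.prod_append] at this
        exact this
      change (([7, 4, 1, 2, 7, 3, 1, 2, 3, 4, 3, 7, 2, 3, 1, 2, 3, 4, 3, 1, 2, 3, 1, 2, 0, 1, 13, 10, 13] : List Nat).map s).prod ∈ _
      rw [e]; exact inv_mem hf
    · have e : (([4, 7, 4, 5, 3, 4, 2, 3, 1, 2, 0, 1, 7, 5, 3, 4, 3, 2, 3, 0, 1, 2, 3, 4, 2, 3, 1, 2, 3, 4, 2, 3, 2, 1, 13, 10] : List Nat).map s).prod = y⁻¹ := by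
        rw [eq_inv_iff_mul_eq_one]
        have := weq1 ([4, 7, 4, 5, 3, 4, 2, 3, 1, 2, 0, 1, 7, 5, 3, 4, 3, 2, 3, 0, 1, 2, 3, 4, 2, 3, 1, 2, 3, 4, 2, 3, 2, 1, 13, 10] ++ yw) (by decide) (by decide +kernel)
        rw [List.map_append, List.prod_append] at this
        exact this
      change (([4, 7, 4, 5, 3, 4, 2, 3, 1, 2, 0, 1, 7, 5, 3, 4, 3, 2, 3, 0, 1, 2, 3, 4, 2, 3, 1, 2, 3, 4, 2, 3, 2, 1, 13, 10] : List Nat).map s).prod ∈ _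
      rw [e]; exact inv_mem hy
  have h1 : s l = (((lw l).flatMap vals).map s).prod := by
    have := weq [l] ((lw l).flatMap vals) (by intro k hk; rw [List.mem_singleton] at hk; rw [hk]; exact lt_trans hl (by decide)) (by
      have key : ∀ l < 8, ∀ k ∈ (lw l).flatMap vals, k < 20 := by decide +kernel
      exact key l hl) (lett l hl)
    rw [List.map_singleton, List.prod_singleton] at this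
    exact this
  rw [SetLike.mem_coe, ← s_lt l hl, h1]
  have hc : ∀ c ∈ lw l, c < 6 := by
    have key : ∀ l < 8, ∀ c ∈ lw l, c < 6 := by decide
    exact key l hl
  clear h1
  generalize lw l = u at hc
  induction u with
  | nil => simp
  | cons c u ih =>
    rw [List.flatMap_cons, List.map_append, List.prod_append]
    exact mul_mem (hv c (hc c List.mem_cons_self)) (ih fun c' hc' => hc c' (List.mem_cons_of_mem _ hc'))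


theorem out_le : Finite (Cfsg.Out ON) ∧ Nat.card (Cfsg.Out ON) ≤ 2 := by
  haveI : Finite ON := Nat.finite_of_card_ne_zero (by rw [cardG]; decide)
  refine OT.out_card_le 11 x f y x_order (by rw [cardG]; decide) Cx 2 xf (by decide) [1] ?_ gen_top
    ([(1, ((([5, 10, 12, 11, 12, 2, 1, 0, 4, 3, 2, 1, 5, 4, 3, 2, 3, 2, 1, 0, 4, 3, 2, 1, 0, 5, 6, 1, 2, 3, 2, 1, 3, 2, 6, 2, 14, 14] : List Nat).map s).prod)), (1, ((([10, 10, 12, 1, 2, 1, 0, 3, 4, 3, 2, 3, 2, 1, 4, 3, 2, 1, 3, 2, 4, 3, 2, 6, 4, 3, 2, 3, 7, 1, 0, 4, 14, 14] : List Nat).map s).prod))]) ?_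
  · have key : ∀ k : ZMod 11, k ≠ 0 → ∃ j ∈ ([1] : List ℕ), ∃ i < 11, k = (j : ZMod 11) * (2 : ZMod 11) ^ i := by decide +kernel
    intro k hk
    obtain ⟨j, hj, i, _, h⟩ := key k hk
    exact ⟨j, hj, i, by push_cast; exact h⟩
  · intro j hj β hβx hβf
    have hβF : β F = F := by rw [F_eq, map_pow, hβf]
    have hc : F * β y = β y * F := by
      have := congrArg β Fy
      rw [map_mul, map_mul, hβF] at this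
      exact this
    obtain ⟨w, hw, hwy⟩ := cent_cands (β y) hc
    simp only [List.mem_cons, List.not_mem_nil, or_false] at hj
    subst hj
    · have h := OT.good_of_tests s tok ρ hρ 1 xw fw yw (by decide) (by decide) rels3 rels3_ok good1 cands codes1 (by decide)
        (by decide) tests1 β hβx hβf w hw hwy
      unfold good1 at h
      simp only [List.mem_cons, List.not_mem_nil, or_false] at h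
      rcases h with rfl | rfl
      · rw [hwy]; simp
      · rw [hwy]; simp

/-- images of the letters. -/
def ab : Nat → List Nat := fun l => [[5, 12, 5, 12, 10, 12, 1, 2, 3, 4, 3, 2, 1, 3, 2, 1, 4, 3, 2, 1, 5, 4, 3, 2, 3, 4, 5, 6, 4, 3, 7, 2, 1, 3, 2, 3, 4, 3, 6, 2, 1, 4], [5, 12, 5, 12, 10, 12, 11, 1, 0, 2, 1, 0, 3, 4, 3, 2, 1, 0, 3, 2, 1, 4, 3, 5, 4, 6, 1, 4, 7, 3, 2, 3, 4, 3, 2, 1, 6, 3, 6], [5, 10, 12, 11, 12, 1, 2, 1, 3, 2, 1, 0, 3, 2, 4, 3, 2, 5, 4, 6, 4, 7, 3, 4, 7, 1, 2, 3, 2, 1, 0], [12, 5, 12, 5, 12, 11, 12, 1, 2, 3, 2, 1, 4, 3, 2, 1, 0, 3, 2, 1, 4, 3, 2, 5, 4, 3, 2, 1, 0, 6, 1, 4, 7, 2, 1, 3, 2, 1, 3, 2, 4, 6], [3, 4, 3, 2, 1, 0, 3, 2, 1, 0, 3, 4, 3, 2, 3, 5, 6, 1, 2, 7, 3, 2, 1, 4, 3, 2, 3, 4], [5, 12, 3, 4, 3, 2, 3, 2, 1, 4, 3, 2, 5, 6, 1, 0, 3, 2,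 1, 3, 4, 3, 2, 1, 7, 1, 6], [5, 11, 12, 1, 3, 4, 3, 2, 1, 3, 2, 1, 3, 4, 3, 2, 3, 2, 1, 6, 1, 4, 3, 2, 7, 3, 4, 7, 3, 2], [5, 12, 5, 12, 11, 12, 4, 3, 2, 1, 3, 5, 4, 3, 2, 1, 3, 2, 1, 4, 3, 2, 3, 2, 4, 5, 6, 3, 4, 3, 2, 1, 0, 3, 2, 1, 4, 6, 2]].getD l []
def aw : Nat → List Nat := fun l => [[5, 12, 5, 12, 10, 12, 1, 2, 3, 4, 3, 2, 1, 3, 2, 1, 4, 3, 2, 1, 5, 4, 3, 2, 3, 4, 5, 6, 4, 3, 7, 2, 1, 3, 2, 3, 4, 3, 6, 2, 1, 4], [5, 12, 5, 12, 10, 12, 11, 1, 0, 2, 1, 0, 3, 4, 3, 2, 1, 0, 3, 2, 1, 4, 3, 5, 4, 6, 1, 4, 7, 3, 2, 3, 4, 3, 2, 1, 6, 3, 6], [5, 10, 12, 11, 12, 1, 2, 1, 3, 2, 1, 0, 3, 2, 4, 3, 2, 5, 4, 6, 4, 7, 3, 4, 7, 1, 2, 3, 2, 1, 0], [12, 5, 12, 5, 12, 11, 12, 1, 2, 3, 2, 1, 4, 3, 2, 1, 0, 3, 2, 1, 4, 3, 2, 5, 4, 3, 2, 1, 0, 6, 1, 4, 7, 2, 1, 3, 2, 1, 3, 2, 4,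 6], [3, 4, 3, 2, 1, 0, 3, 2, 1, 0, 3, 4, 3, 2, 3, 5, 6, 1, 2, 7, 3, 2, 1, 4, 3, 2, 3, 4], [5, 12, 3, 4, 3, 2, 3, 2, 1, 4, 3, 2, 5, 6, 1, 0, 3, 2, 1, 3, 4, 3, 2, 1, 7, 1, 6], [5, 11, 12, 1, 3, 4, 3, 2, 1, 3, 2, 1, 3, 4, 3, 2, 3, 2, 1, 6, 1, 4, 3, 2, 7, 3, 4, 7, 3, 2], [5, 12, 5, 12, 11, 12, 4, 3, 2, 1, 3, 5, 4, 3, 2, 1, 3, 2, 1, 4, 3, 2, 3, 2, 4, 5, 6, 3, 4, 3, 2, 1, 0, 3, 2, 1, 4, 6, 2], [8], [9], [5, 12, 11, 12, 1, 0, 3, 4, 3, 2, 1, 3, 2, 1, 3, 4, 3, 2, 1, 3, 5, 4, 3, 2, 3, 6, 1, 0, 2, 3, 2, 1, 0, 4, 3, 7, 2, 1, 0, 4], [4, 0, 1, 2, 6, 3, 4, 0, 1, 2, 3, 2, 0, 1, 7, 3, 2, 3, 4, 5, 3, 1, 2, 3, 4, 3, 1, 2, 3, 1, 2, 3, 4, 3, 0, 1, 13, 10, 13, 5], [5, 12, 5, 12, 5, 12, 1, 0, 4, 3, 2, 1, 5, 4, 3, 2, 6, 1, 0, 2, 4, 3, 2, 3, 7, 1, 2, 4, 7], [6, 4, 2, 1, 6, 3, 2, 3, 4, 2,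 0, 1, 7, 2, 3, 4, 5, 1, 2, 3, 4, 0, 1, 13, 5, 13, 5, 13, 5]].getD l []

noncomputable def t : Nat → ON := fun l => ((ab l).map s).prod

theorem t_sq : ∀ l < 6, t l * t l = 1 := by
  intro l hl
  unfold t
  have h1 := weq1 (ab l ++ ab l) (by
    have key : ∀ l < 6, ∀ k ∈ ab l ++ ab l, k < 20 := by decide
    exact key l hl) (by
    have key : ∀ l < 6, ∀ i ∈ (([0, 101354, 28335] : List Nat) : List Nat), trN T' (ab l ++ ab l) i = i := by decide +kernel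
    exact key l hl)
  rw [List.map_append, List.prod_append] at h1
  exact h1

theorem t_7 : t 7 = (t 6)⁻¹ := by
  unfold t
  have h1 := weq1 (ab 7 ++ ab 6) (by decide) (by decide +kernel)
  rw [List.map_append, List.prod_append] at h1
  exact eq_inv_of_mul_eq_one_left h1

theorem t_word (w : List Nat) : (w.map t).prod = ((w.flatMap ab).map s).prod := (OT.flatMap_prod s ab w).symm

theorem t_rel : ∀ q ∈ Cfsg.Agent.H8.ONt.relsP, ((q.1.map t).prod) ^ q.2 = 1 := by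
  intro q hq
  rw [t_word, ← wpow_prod]
  apply weq1
  · have key : ∀ q ∈ Cfsg.Agent.H8.ONt.relsP, ∀ k ∈ wpow (q.1.flatMap ab) q.2, k < 20 := by decide +kernel
    exact key q hq
  · have key : ∀ q ∈ Cfsg.Agent.H8.ONt.relsP, ∀ i ∈ (([0, 101354, 28335] : List Nat) : List Nat), trN T' (wpow (q.1.flatMap ab) q.2) i = i := by decide +kernel
    exact key q hq

noncomputable def φ : ON →* ON := Cfsg.Agent.H8.ONP.homOf t t_sq t_7 t_rel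

theorem φ_base (l : Nat) (hl : l < 8) : φ (s l) = t l := by
  rw [s_lt l hl]
  exact Cfsg.Agent.H8.ONP.homOf_s t t_sq t_7 t_rel l hl


def progA : List (Nat × List Nat) := [(8, [1, 2, 3, 4, 6]), (9, [7, 4, 3, 2, 1]), (10, [2, 3, 2, 3]), (11, [3, 2, 3, 2]), (12, [1, 2, 3, 2, 1, 0, 3, 2, 3, 4, 3, 2, 1, 0, 3, 2, 3, 4, 3, 2, 1, 3, 2, 3, 2, 1]), (13, [1, 2, 3, 2, 3, 1, 2, 3, 4, 3, 2, 3, 0, 1, 2, 3, 4, 3, 2, 3, 0, 1, 2, 3, 2, 1])]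

theorem progA_ok : ∀ e ∈ progA, s e.1 = (e.2.map s).prod := by
  intro e he
  have h := weq [e.1] e.2 (by revert e he; decide) (by revert e he; decide) (by revert e he; decide +kernel)
  rw [List.map_singleton, List.prod_singleton] at h
  exact h

theorem progA_im : ∀ e ∈ progA, ((aw e.1).map s).prod = (e.2.map fun l => ((aw l).map s).prod).prod := by
  intro e he
  rw [← OT.flatMap_prod s aw e.2]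
  exact weq _ _ (by revert e he; decide) (by revert e he; decide +kernel) (by revert e he; decide +kernel)

theorem ab_aw : ∀ l < 8, ab l = aw l := by decide

theorem φs : ∀ e ∈ progA, φ (s e.1) = ((aw e.1).map s).prod :=
  OT.slp_hom φ s (fun l => ((aw l).map s).prod) progA [0, 1, 2, 3, 4, 5, 6, 7] (by
    intro l hl
    have h : l < 8 := by
      have key : ∀ l ∈ ([0, 1, 2, 3, 4, 5, 6, 7] : List Nat), l < 8 := by decide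
      exact key l hl
    rw [φ_base l h]
    unfold t
    rw [ab_aw l h]) (by decide) progA_ok progA_im

theorem φs' (l : Nat) (h : l ∈ progA.map Prod.fst) : φ (s l) = ((aw l).map s).prod := by
  obtain ⟨e, he, rfl⟩ := List.mem_map.1 h
  exact φs e he

theorem φx : φ x = x ^ 1 := by
  rw [← s_x, φs' 8 (by decide), s_x]
  unfold x
  rw [← wpow_prod]
  exact weq _ _ (by decide +kernel) (by decide) (by decide +kernel)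

theorem φ_let (l : Nat) (h : l < 14) : φ (s l) = ((aw l).map s).prod := by
  rcases Nat.lt_or_ge l 8 with h1 | h1
  · rw [φ_base l h1]
    unfold t
    rw [ab_aw l h1]
  · exact φs' l (by
      have key : ∀ l < 14, 8 ≤ l → l ∈ progA.map Prod.fst := by decide
      exact key l h h1)

theorem φ_word (w : List Nat) (hw : ∀ l ∈ w, l < 14) : φ ((w.map s).prod) = ((w.flatMap aw).map s).prod := by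
  rw [OT.flatMap_prod s aw w, map_list_prod, List.map_map]
  congr 1
  apply List.map_congr_left
  intro l hl
  exact φ_let l (hw l hl)

theorem φf : φ f = f := by
  unfold f
  rw [φ_word _ (by decide)]
  exact weq _ _ (by decide +kernel) (by decide) (by decide +kernel)

theorem φ_bij : Function.Bijective φ := by
  haveI : Finite ON := Nat.finite_of_card_ne_zero (by rw [cardG]; decide)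
  have h1 : Function.Injective φ := injective_of_simple Cfsg.Agent.H8.ONP.simple φ x (by
    rw [φx]
    intro h
    have h2 := orderOf_dvd_of_pow_eq_one h
    rw [x_order] at h2
    exact absurd h2 (by decide))
  exact ⟨h1, Finite.surjective_of_injective h1⟩

noncomputable def α : MulAut ON := MulEquiv.ofBijective φ φ_bij


theorem φy : φ y ≠ y := by
  unfold y
  rw [φ_word _ (by decide)]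
  intro h
  have h1 := act_word s tok ρ hρ ⟨0, by decide⟩ (yw.flatMap aw) (by decide +kernel)
  rw [h] at h1
  have h2 := act_word s tok ρ hρ ⟨0, by decide⟩ yw (by decide)
  rw [h1] at h2
  exact absurd h2 (by decide +kernel)

theorem α_outer (g : ON) : α ≠ MulAut.conj g := by
  intro h
  have hx : g * x * g⁻¹ = x := by
    have := DFunLike.congr_fun h x
    have e : α x = φ x := rfl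
    rw [e, φx, pow_one] at this
    exact this.symm
  have hf : g * f * g⁻¹ = f := by
    have := DFunLike.congr_fun h f
    have e : α f = φ f := rfl
    rw [e, φf] at this
    exact this.symm
  have hg := OT.inner_trivial 11 x f x_order Cx 2 xf (by decide) g hx hf
  have := DFunLike.congr_fun h y
  have e : α y = φ y := rfl
  rw [e, hg] at this
  apply φy
  rw [this]; simp


theorem out_eq : Nat.card (Cfsg.Out ON) = 2 := by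
  have h1 := out_le
  have h2 := OT.one_lt_out h1.1 α α_outer
  omega


end Cfsg.Agent.H8.ONO
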