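import Cfsg.Agent.H8.RelGroup
import Cfsg.Agent.H8.T.ONRel
import Cfsg.Agent.H8.T.ONt
import Cfsg.Prelude.Def_Spor_ON
import Cfsg.Prelude.Def_Sporadic

/-!
# The presented O'Nan group
-/

set_option autoImplicit false
set_option linter.all false
set_option maxRecDepth 100000
set_option maxHeartbeats 400000

namespace Cfsg.Agent.H8.ONP

open Cfsg.Spor

/-- letter function. -/
def sF {P : Type*} [Group P] (f : ON.Gen → P) : Nat → P
  | 0 => f .a
  | 1 => f .b
  | 2 => f .c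
  | 3 => f .d
  | 4 => f .e
  | 5 => f .f
  | 6 => f .g
  | 7 => (f .g)⁻¹
  | _ => 1

theorem inv_ge (l : Nat) (h : 8 ≤ l) : ONt.inv l = l := by
  have h7 : Nat.beq l (nat_lit 7) = false := by
    cases hb : Nat.beq l (nat_lit 7) with
    | false => rfl
    | true =>
      have h2 : l = 7 := Nat.eq_of_beq_eq_true hb
      omega
  have h6 : Nat.beq l (nat_lit 6) = false := by
    cases hb : Nat.beq l (nat_lit 6) with
    | false => rfl
    | true =>
      have h2 : l = 6 := Nat.eq_of_beq_eq_true hb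
      omega
  unfold ONt.inv
  rw [h7, h6]

theorem inv_vals : ONt.inv 0 = 0 ∧ ONt.inv 1 = 1 ∧ ONt.inv 2 = 2 ∧ ONt.inv 3 = 3 ∧ ONt.inv 4 = 4 ∧ ONt.inv 5 = 5 ∧
    ONt.inv 6 = 7 ∧ ONt.inv 7 = 6 := by decide +kernel

/-- compatibility with inversion. -/
theorem inv_of {P : Type*} [Group P] (t : Nat → P) (h : ∀ l < 6, t l * t l = 1) (h7 : t 7 = (t 6)⁻¹)
    (h8 : ∀ l, 8 ≤ l → t l = 1) : ∀ l, t (ONt.inv l) = (t l)⁻¹ := by
  obtain ⟨v0, v1, v2, v3, v4, v5, v6, v7⟩ := inv_vals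
  intro l
  rcases Nat.lt_or_ge l 8 with hl | hl
  · interval_cases l
    · rw [v0]; exact eq_inv_of_mul_eq_one_left (h 0 (by decide))
    · rw [v1]; exact eq_inv_of_mul_eq_one_left (h 1 (by decide))
    · rw [v2]; exact eq_inv_of_mul_eq_one_left (h 2 (by decide))
    · rw [v3]; exact eq_inv_of_mul_eq_one_left (h 3 (by decide))
    · rw [v4]; exact eq_inv_of_mul_eq_one_left (h 4 (by decide))
    · rw [v5]; exact eq_inv_of_mul_eq_one_left (h 5 (by decide))
    · rw [v6]; exact h7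
    · rw [v7, h7, inv_inv]
  · rw [inv_ge l hl, h8 l hl, inv_one]

theorem base_of {P : Type*} [Group P] (f : ON.Gen → P)
    (hc : ∀ x y m, x ≠ .g → y ≠ .g → coxLabel ON.edges x y = m → (f x * f y) ^ m = 1)
    (hsq : ∀ x, x ≠ .g → f x * f x = 1)
    (h1 : (f .a * f .f) * ((f .g ^ 2)⁻¹) = 1)
    (h2 : (f .a * f .f) * (((f .c * f .d) ^ 4)⁻¹) = 1)
    (h3 : f .c * ((f .d * f .g * f .d * f .g)⁻¹ * f .c * (f .d * f .g * f .d * f .g)) = 1)
    (h4 : f .d * ((f .c * f .g * f .c * f .g)⁻¹ * f .d * (f .c * f .g * f .c * f .g)) = 1)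
    (h5 : (f .b * f .c * f .d * f .g) ^ 5 = 1)
    (h6 : f .g * f .b * ((f .c)⁻¹ * f .g * f .c) * ((f .b)⁻¹ * f .g * f .b) * ((f .c)⁻¹ * f .g * f .c) = 1)
    (h7 : f .g * f .e * ((f .d)⁻¹ * f .g * f .d) * ((f .e)⁻¹ * f .g * f .e) * ((f .d)⁻¹ * f .g * f .d) = 1)
    : ∀ p ∈ ONt.relsP, ((p.1.map (sF f)).prod) ^ p.2 = 1 := by
  have ib : (f .b)⁻¹ = f .b := (eq_inv_of_mul_eq_one_left (hsq .b (by decide))).symm
  have ic : (f .c)⁻¹ = f .c := (eq_inv_of_mul_eq_one_left (hsq .c (by decide))).symm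
  have id : (f .d)⁻¹ = f .d := (eq_inv_of_mul_eq_one_left (hsq .d (by decide))).symm
  have ie : (f .e)⁻¹ = f .e := (eq_inv_of_mul_eq_one_left (hsq .e (by decide))).symm
  refine List.forall_mem_cons.2 ⟨(show (f .a * (f .b * 1)) ^ 3 = 1 from by rw [mul_one]; exact hc _ _ _ (by decide) (by decide) (by decide)), ?_⟩
  refine List.forall_mem_cons.2 ⟨(show (f .a * (f .c * 1)) ^ 2 = 1 from by rw [mul_one]; exact hc _ _ _ (by decide) (by decide) (by decide)), ?_⟩
  refine List.forall_mem_cons.2 ⟨(show (f .a * (f .d * 1)) ^ 2 = 1 from by rw [mul_one]; exact hc _ _ _ (by decide) (by decide) (by decide)), ?_⟩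
  refine List.forall_mem_cons.2 ⟨(show (f .a * (f .e * 1)) ^ 2 = 1 from by rw [mul_one]; exact hc _ _ _ (by decide) (by decide) (by decide)), ?_⟩
  refine List.forall_mem_cons.2 ⟨(show (f .a * (f .f * 1)) ^ 2 = 1 from by rw [mul_one]; exact hc _ _ _ (by decide) (by decide) (by decide)), ?_⟩
  refine List.forall_mem_cons.2 ⟨(show (f .b * (f .c * 1)) ^ 3 = 1 from by rw [mul_one]; exact hc _ _ _ (by decide) (by decide) (by decide)), ?_⟩
  refine List.forall_mem_cons.2 ⟨(show (f .b * (f .d * 1)) ^ 2 = 1 from by rw [mul_one]; exact hc _ _ _ (by decide) (by decide) (by decide)), ?_⟩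
  refine List.forall_mem_cons.2 ⟨(show (f .b * (f .e * 1)) ^ 2 = 1 from by rw [mul_one]; exact hc _ _ _ (by decide) (by decide) (by decide)), ?_⟩
  refine List.forall_mem_cons.2 ⟨(show (f .b * (f .f * 1)) ^ 2 = 1 from by rw [mul_one]; exact hc _ _ _ (by decide) (by decide) (by decide)), ?_⟩
  refine List.forall_mem_cons.2 ⟨(show (f .c * (f .d * 1)) ^ 8 = 1 from by rw [mul_one]; exact hc _ _ _ (by decide) (by decide) (by decide)), ?_⟩
  refine List.forall_mem_cons.2 ⟨(show (f .c * (f .e * 1)) ^ 2 = 1 from by rw [mul_one]; exact hc _ _ _ (by decide) (by decide) (by decide)), ?_⟩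
  refine List.forall_mem_cons.2 ⟨(show (f .c * (f .f * 1)) ^ 2 = 1 from by rw [mul_one]; exact hc _ _ _ (by decide) (by decide) (by decide)), ?_⟩
  refine List.forall_mem_cons.2 ⟨(show (f .d * (f .e * 1)) ^ 3 = 1 from by rw [mul_one]; exact hc _ _ _ (by decide) (by decide) (by decide)), ?_⟩
  refine List.forall_mem_cons.2 ⟨(show (f .d * (f .f * 1)) ^ 2 = 1 from by rw [mul_one]; exact hc _ _ _ (by decide) (by decide) (by decide)), ?_⟩
  refine List.forall_mem_cons.2 ⟨(show (f .e * (f .f * 1)) ^ 3 = 1 from by rw [mul_one]; exact hc _ _ _ (by decide) (by decide) (by decide)), ?_⟩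
  refine List.forall_mem_cons.2 ⟨?_, ?_⟩
  · have e : (([0, 5, 7, 7] : List Nat).map (sF f)).prod = (f .a * f .f) * ((f .g ^ 2)⁻¹) := by
      simp [sF, pow_succ, mul_assoc, ib, ic, id, ie]
    change ((([0, 5, 7, 7] : List Nat).map (sF f)).prod) ^ 1 = 1
    rw [e, h1, one_pow]
  refine List.forall_mem_cons.2 ⟨?_, ?_⟩
  · have e : (([0, 5, 3, 2, 3, 2, 3, 2, 3, 2] : List Nat).map (sF f)).prod = (f .a * f .f) * (((f .c * f .d) ^ 4)⁻¹) := by
      simp [sF, pow_succ, mul_assoc, ib, ic, id, ie]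
    change ((([0, 5, 3, 2, 3, 2, 3, 2, 3, 2] : List Nat).map (sF f)).prod) ^ 1 = 1
    rw [e, h2, one_pow]
  refine List.forall_mem_cons.2 ⟨?_, ?_⟩
  · have e : (([2, 7, 3, 7, 3, 2, 3, 6, 3, 6] : List Nat).map (sF f)).prod = f .c * ((f .d * f .g * f .d * f .g)⁻¹ * f .c * (f .d * f .g * f .d * f .g)) := by
      simp [sF, pow_succ, mul_assoc, ib, ic, id, ie]
    change ((([2, 7, 3, 7, 3, 2, 3, 6, 3, 6] : List Nat).map (sF f)).prod) ^ 1 = 1
    rw [e, h3, one_pow]
  refine List.forall_mem_cons.2 ⟨?_, ?_⟩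
  · have e : (([3, 7, 2, 7, 2, 3, 2, 6, 2, 6] : List Nat).map (sF f)).prod = f .d * ((f .c * f .g * f .c * f .g)⁻¹ * f .d * (f .c * f .g * f .c * f .g)) := by
      simp [sF, pow_succ, mul_assoc, ib, ic, id, ie]
    change ((([3, 7, 2, 7, 2, 3, 2, 6, 2, 6] : List Nat).map (sF f)).prod) ^ 1 = 1
    rw [e, h4, one_pow]
  refine List.forall_mem_cons.2 ⟨?_, ?_⟩
  · have e : (([1, 2, 3, 6] : List Nat).map (sF f)).prod = f .b * f .c * f .d * f .g := by
      simp [sF, pow_succ, mul_assoc, ib, ic, id, ie]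
    change ((([1, 2, 3, 6] : List Nat).map (sF f)).prod) ^ 5 = 1
    rw [e, h5]
  refine List.forall_mem_cons.2 ⟨?_, ?_⟩
  · have e : (([6, 1, 2, 6, 2, 1, 6, 1, 2, 6, 2] : List Nat).map (sF f)).prod = f .g * f .b * ((f .c)⁻¹ * f .g * f .c) * ((f .b)⁻¹ * f .g * f .b) * ((f .c)⁻¹ * f .g * f .c) := by
      simp [sF, pow_succ, mul_assoc, ib, ic, id, ie]
    change ((([6, 1, 2, 6, 2, 1, 6, 1, 2, 6, 2] : List Nat).map (sF f)).prod) ^ 1 = 1
    rw [e, h6, one_pow]
  refine List.forall_mem_cons.2 ⟨?_, ?_⟩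
  · have e : (([6, 4, 3, 6, 3, 4, 6, 4, 3, 6, 3] : List Nat).map (sF f)).prod = f .g * f .e * ((f .d)⁻¹ * f .g * f .d) * ((f .e)⁻¹ * f .g * f .e) * ((f .d)⁻¹ * f .g * f .d) := by
      simp [sF, pow_succ, mul_assoc, ib, ic, id, ie]
    change ((([6, 4, 3, 6, 3, 4, 6, 4, 3, 6, 3] : List Nat).map (sF f)).prod) ^ 1 = 1
    rw [e, h7, one_pow]
  intro c hc
  exact absurd hc List.not_mem_nil

def pl : List (ON.Gen × ℕ × ON.Gen) := [(.a, 1, .a), (.b, 1, .b), (.c, 1, .c), (.d, 1, .d), (.e, 1, .e), (.f, 1, .f), (.a, 3, .b), (.a, 2, .c), (.a, 2, .d), (.a, 2, .e), (.a, 2, .f), (.b, 3, .c), (.b, 2, .d), (.b, 2, .e), (.b, 2, .f), (.c, 8, .d), (.c, 2, .e), (.c, 2, .f), (.d, 3, .e), (.d, 2, .f), (.e, 3, .f)]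

theorem pl_cov : ∀ x ∈ coxNodes ON.edges, ∀ y ∈ coxNodes ON.edges,
    (x, coxLabel ON.edges x y, y) ∈ pl ∨ (y, coxLabel ON.edges x y, x) ∈ pl := by
  decide

theorem lift_of {P : Type*} [Group P] (f : ON.Gen → P) (hsq : ∀ x, x ≠ .g → f x * f x = 1)
    (hb : ∀ p ∈ ONt.relsP, ((p.1.map (sF f)).prod) ^ p.2 = 1) :
    ∀ r ∈ coxRelators ON.edges ∪ {r | r ∈ ON.extra}, FreeGroup.lift f r = 1 := by
  have ib : (f .b)⁻¹ = f .b := (eq_inv_of_mul_eq_one_left (hsq .b (by decide))).symm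
  have ic : (f .c)⁻¹ = f .c := (eq_inv_of_mul_eq_one_left (hsq .c (by decide))).symm
  have id : (f .d)⁻¹ = f .d := (eq_inv_of_mul_eq_one_left (hsq .d (by decide))).symm
  have ie : (f .e)⁻¹ = f .e := (eq_inv_of_mul_eq_one_left (hsq .e (by decide))).symm
  rintro r (hr | hr)
  · refine cox_lift ON.edges f pl pl_cov ?_ r hr
    unfold pl
    refine List.forall_mem_cons.2 ⟨(show (f .a * f .a) ^ 1 = 1 from by rw [pow_one]; exact hsq _ (by decide)), ?_⟩
    refine List.forall_mem_cons.2 ⟨(show (f .b * f .b) ^ 1 = 1 from by rw [pow_one]; exact hsq _ (by decide)), ?_⟩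
    refine List.forall_mem_cons.2 ⟨(show (f .c * f .c) ^ 1 = 1 from by rw [pow_one]; exact hsq _ (by decide)), ?_⟩
    refine List.forall_mem_cons.2 ⟨(show (f .d * f .d) ^ 1 = 1 from by rw [pow_one]; exact hsq _ (by decide)), ?_⟩
    refine List.forall_mem_cons.2 ⟨(show (f .e * f .e) ^ 1 = 1 from by rw [pow_one]; exact hsq _ (by decide)), ?_⟩
    refine List.forall_mem_cons.2 ⟨(show (f .f * f .f) ^ 1 = 1 from by rw [pow_one]; exact hsq _ (by decide)), ?_⟩
    refine List.forall_mem_cons.2 ⟨(show (f .a * f .b) ^ 3 = 1 from by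
      have h : (f .a * (f .b * 1)) ^ 3 = 1 := hb ([0, 1], 3) (by decide)
      rwa [mul_one] at h), ?_⟩
    refine List.forall_mem_cons.2 ⟨(show (f .a * f .c) ^ 2 = 1 from by
      have h : (f .a * (f .c * 1)) ^ 2 = 1 := hb ([0, 2], 2) (by decide)
      rwa [mul_one] at h), ?_⟩
    refine List.forall_mem_cons.2 ⟨(show (f .a * f .d) ^ 2 = 1 from by
      have h : (f .a * (f .d * 1)) ^ 2 = 1 := hb ([0, 3], 2) (by decide)
      rwa [mul_one] at h), ?_⟩
    refine List.forall_mem_cons.2 ⟨(show (f .a * f .e) ^ 2 = 1 from by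
      have h : (f .a * (f .e * 1)) ^ 2 = 1 := hb ([0, 4], 2) (by decide)
      rwa [mul_one] at h), ?_⟩
    refine List.forall_mem_cons.2 ⟨(show (f .a * f .f) ^ 2 = 1 from by
      have h : (f .a * (f .f * 1)) ^ 2 = 1 := hb ([0, 5], 2) (by decide)
      rwa [mul_one] at h), ?_⟩
    refine List.forall_mem_cons.2 ⟨(show (f .b * f .c) ^ 3 = 1 from by
      have h : (f .b * (f .c * 1)) ^ 3 = 1 := hb ([1, 2], 3) (by decide)
      rwa [mul_one] at h), ?_⟩
    refine List.forall_mem_cons.2 ⟨(show (f .b * f .d) ^ 2 = 1 from by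
      have h : (f .b * (f .d * 1)) ^ 2 = 1 := hb ([1, 3], 2) (by decide)
      rwa [mul_one] at h), ?_⟩
    refine List.forall_mem_cons.2 ⟨(show (f .b * f .e) ^ 2 = 1 from by
      have h : (f .b * (f .e * 1)) ^ 2 = 1 := hb ([1, 4], 2) (by decide)
      rwa [mul_one] at h), ?_⟩
    refine List.forall_mem_cons.2 ⟨(show (f .b * f .f) ^ 2 = 1 from by
      have h : (f .b * (f .f * 1)) ^ 2 = 1 := hb ([1, 5], 2) (by decide)
      rwa [mul_one] at h), ?_⟩
    refine List.forall_mem_cons.2 ⟨(show (f .c * f .d) ^ 8 = 1 from by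
      have h : (f .c * (f .d * 1)) ^ 8 = 1 := hb ([2, 3], 8) (by decide)
      rwa [mul_one] at h), ?_⟩
    refine List.forall_mem_cons.2 ⟨(show (f .c * f .e) ^ 2 = 1 from by
      have h : (f .c * (f .e * 1)) ^ 2 = 1 := hb ([2, 4], 2) (by decide)
      rwa [mul_one] at h), ?_⟩
    refine List.forall_mem_cons.2 ⟨(show (f .c * f .f) ^ 2 = 1 from by
      have h : (f .c * (f .f * 1)) ^ 2 = 1 := hb ([2, 5], 2) (by decide)
      rwa [mul_one] at h), ?_⟩
    refine List.forall_mem_cons.2 ⟨(show (f .d * f .e) ^ 3 = 1 from by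
      have h : (f .d * (f .e * 1)) ^ 3 = 1 := hb ([3, 4], 3) (by decide)
      rwa [mul_one] at h), ?_⟩
    refine List.forall_mem_cons.2 ⟨(show (f .d * f .f) ^ 2 = 1 from by
      have h : (f .d * (f .f * 1)) ^ 2 = 1 := hb ([3, 5], 2) (by decide)
      rwa [mul_one] at h), ?_⟩
    refine List.forall_mem_cons.2 ⟨(show (f .e * f .f) ^ 3 = 1 from by
      have h : (f .e * (f .f * 1)) ^ 3 = 1 := hb ([4, 5], 3) (by decide)
      rwa [mul_one] at h), ?_⟩
    intro c hc
    exact absurd hc List.not_mem_nil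
  · unfold ON.extra at hr
    simp only [Set.mem_ofPred_eq, List.mem_cons, List.not_mem_nil, or_false] at hr
    rcases hr with rfl | rfl | rfl | rfl | rfl | rfl | rfl
    · have h : ((([0, 5, 7, 7] : List Nat).map (sF f)).prod) ^ 1 = 1 := hb ([0, 5, 7, 7], 1) (by decide)
      have e : (([0, 5, 7, 7] : List Nat).map (sF f)).prod = (f .a * f .f) * ((f .g ^ 2)⁻¹) := by
        simp [sF, pow_succ, mul_assoc, ib, ic, id, ie]
      rw [e, pow_one] at h
      simp only [map_mul, map_pow, map_inv, FreeGroup.lift_apply_of]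
      exact h
    · have h : ((([0, 5, 3, 2, 3, 2, 3, 2, 3, 2] : List Nat).map (sF f)).prod) ^ 1 = 1 := hb ([0, 5, 3, 2, 3, 2, 3, 2, 3, 2], 1) (by decide)
      have e : (([0, 5, 3, 2, 3, 2, 3, 2, 3, 2] : List Nat).map (sF f)).prod = (f .a * f .f) * (((f .c * f .d) ^ 4)⁻¹) := by
        simp [sF, pow_succ, mul_assoc, ib, ic, id, ie]
      rw [e, pow_one] at h
      simp only [map_mul, map_pow, map_inv, FreeGroup.lift_apply_of]
      exact h
    · have h : ((([2, 7, 3, 7, 3, 2, 3, 6, 3, 6] : List Nat).map (sF f)).prod) ^ 1 = 1 := hb ([2, 7, 3, 7, 3, 2, 3, 6, 3, 6], 1) (by decide)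
      have e : (([2, 7, 3, 7, 3, 2, 3, 6, 3, 6] : List Nat).map (sF f)).prod = f .c * ((f .d * f .g * f .d * f .g)⁻¹ * f .c * (f .d * f .g * f .d * f .g)) := by
        simp [sF, pow_succ, mul_assoc, ib, ic, id, ie]
      rw [e, pow_one] at h
      simp only [map_mul, map_pow, map_inv, FreeGroup.lift_apply_of]
      exact h
    · have h : ((([3, 7, 2, 7, 2, 3, 2, 6, 2, 6] : List Nat).map (sF f)).prod) ^ 1 = 1 := hb ([3, 7, 2, 7, 2, 3, 2, 6, 2, 6], 1) (by decide)
      have e : (([3, 7, 2, 7, 2, 3, 2, 6, 2, 6] : List Nat).map (sF f)).prod = f .d * ((f .c * f .g * f .c * f .g)⁻¹ * f .d * (f .c * f .g * f .c * f .g)) := by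
        simp [sF, pow_succ, mul_assoc, ib, ic, id, ie]
      rw [e, pow_one] at h
      simp only [map_mul, map_pow, map_inv, FreeGroup.lift_apply_of]
      exact h
    · have h : ((([1, 2, 3, 6] : List Nat).map (sF f)).prod) ^ 5 = 1 := hb ([1, 2, 3, 6], 5) (by decide)
      have e : (([1, 2, 3, 6] : List Nat).map (sF f)).prod = f .b * f .c * f .d * f .g := by
        simp [sF, pow_succ, mul_assoc, ib, ic, id, ie]
      rw [e] at h
      simp only [map_mul, map_pow, map_inv, FreeGroup.lift_apply_of]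
      exact h
    · have h : ((([6, 1, 2, 6, 2, 1, 6, 1, 2, 6, 2] : List Nat).map (sF f)).prod) ^ 1 = 1 := hb ([6, 1, 2, 6, 2, 1, 6, 1, 2, 6, 2], 1) (by decide)
      have e : (([6, 1, 2, 6, 2, 1, 6, 1, 2, 6, 2] : List Nat).map (sF f)).prod = f .g * f .b * ((f .c)⁻¹ * f .g * f .c) * ((f .b)⁻¹ * f .g * f .b) * ((f .c)⁻¹ * f .g * f .c) := by
        simp [sF, pow_succ, mul_assoc, ib, ic, id, ie]
      rw [e, pow_one] at h
      simp only [map_mul, map_pow, map_inv, FreeGroup.lift_apply_of]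
      exact h
    · have h : ((([6, 4, 3, 6, 3, 4, 6, 4, 3, 6, 3] : List Nat).map (sF f)).prod) ^ 1 = 1 := hb ([6, 4, 3, 6, 3, 4, 6, 4, 3, 6, 3], 1) (by decide)
      have e : (([6, 4, 3, 6, 3, 4, 6, 4, 3, 6, 3] : List Nat).map (sF f)).prod = f .g * f .e * ((f .d)⁻¹ * f .g * f .d) * ((f .e)⁻¹ * f .g * f .e) * ((f .d)⁻¹ * f .g * f .d) := by
        simp [sF, pow_succ, mul_assoc, ib, ic, id, ie]
      rw [e, pow_one] at h
      simp only [map_mul, map_pow, map_inv, FreeGroup.lift_apply_of]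
      exact h

/-- the letters of the presented group. -/
def s : Nat → ON := sF (fun x => (PresentedGroup.of x : ON))

theorem of_sq (x : ON.Gen) (hx : x ≠ .g) : (PresentedGroup.of x * PresentedGroup.of x : ON) = 1 := by
  have h := cox_rel ON.edges ON.extra x x 1 (by revert hx; cases x <;> decide) (by revert hx; cases x <;> decide)
    (by revert hx; cases x <;> decide)
  rwa [pow_one] at h

theorem s_sq : ∀ l < 6, s l * s l = 1 := by
  intro l hl
  interval_cases l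
  · exact of_sq .a (by decide)
  · exact of_sq .b (by decide)
  · exact of_sq .c (by decide)
  · exact of_sq .d (by decide)
  · exact of_sq .e (by decide)
  · exact of_sq .f (by decide)

theorem s_7 : s 7 = (s 6)⁻¹ := rfl

theorem s_ge : ∀ l, 8 ≤ l → s l = 1 := by
  intro l hl
  match l, hl with
  | (k + 8), _ => rfl

theorem s_inv : ∀ l, s (ONt.inv l) = (s l)⁻¹ := inv_of s s_sq s_7 s_ge

theorem s_31 : s 31 = 1 := rfl

theorem s_top : letterGroup s 8 = ⊤ := by
  rw [eq_top_iff]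
  have h : (⊤ : Subgroup ON) = Subgroup.closure (Set.range PresentedGroup.of) :=
    (PresentedGroup.closure_range_of _).symm
  rw [h, Subgroup.closure_le]
  rintro _ ⟨x, rfl⟩
  refine Subgroup.subset_closure ?_
  cases x
  · exact ⟨6, by decide, rfl⟩
  · exact ⟨0, by decide, rfl⟩
  · exact ⟨1, by decide, rfl⟩
  · exact ⟨2, by decide, rfl⟩
  · exact ⟨3, by decide, rfl⟩
  · exact ⟨4, by decide, rfl⟩
  · exact ⟨5, by decide, rfl⟩

/-- index of a generator. -/
def idx : ON.Gen → Nat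
  | .a => 0
  | .b => 1
  | .c => 2
  | .d => 3
  | .e => 4
  | .f => 5
  | .g => 6

theorem sF_idx {P : Type*} [Group P] (t : Nat → P) (h7 : t 7 = (t 6)⁻¹) :
    ∀ l < 8, sF (fun x => t (idx x)) l = t l := by
  intro l hl
  interval_cases l
  · rfl
  · rfl
  · rfl
  · rfl
  · rfl
  · rfl
  · rfl
  · exact h7.symm

/-- the homomorphism attached to letters satisfying the relations. -/
def homOf {P : Type*} [Group P] (t : Nat → P) (hsq : ∀ l < 6, t l * t l = 1) (h7 : t 7 = (t 6)⁻¹)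
    (hb : ∀ p ∈ ONt.relsP, ((p.1.map t).prod) ^ p.2 = 1) : ON →* P :=
  PresentedGroup.toGroup (f := fun x => t (idx x)) (lift_of _ (fun x hx => hsq _ (by
    revert hx; cases x <;> decide)) (by
    intro p hp
    have h1 := hb p hp
    have h2 : p.1.map (sF (fun x => t (idx x))) = p.1.map t := by
      apply List.map_congr_left
      intro l hl
      have : ∀ p ∈ ONt.relsP, ∀ l ∈ p.1, l < 8 := by decide
      exact sF_idx t h7 l (this p hp l hl)
    rw [h2]
    exact h1))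

theorem homOf_s {P : Type*} [Group P] (t : Nat → P) (hsq : ∀ l < 6, t l * t l = 1) (h7 : t 7 = (t 6)⁻¹)
    (hb : ∀ p ∈ ONt.relsP, ((p.1.map t).prod) ^ p.2 = 1) : ∀ l < 8, homOf t hsq h7 hb (s l) = t l := by
  intro l hl
  have key : ∀ x, homOf t hsq h7 hb (PresentedGroup.of x) = t (idx x) := fun x => PresentedGroup.toGroup.of _
  interval_cases l
  · exact key .a
  · exact key .b
  · exact key .c
  · exact key .d
  · exact key .e
  · exact key .f
  · exact key .g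
  · rw [s_7, map_inv, h7]
    exact congrArg _ (key .g)

theorem baseP : ∀ p ∈ ONt.relsP, ((p.1.map s).prod) ^ p.2 = 1 := by
  have ex : ∀ r ∈ ON.extra, (PresentedGroup.mk (coxRelators ON.edges ∪ {r | r ∈ ON.extra}) r) = 1 :=
    fun r hr => cox_extra ON.edges ON.extra r hr
  refine base_of _ (fun x y m hx hy hm => cox_rel ON.edges ON.extra x y m (by revert hx; cases x <;> decide)
    (by revert hy; cases y <;> decide) hm) of_sq ?_ ?_ ?_ ?_ ?_ ?_ ?_
  · have h := ex ((ON.a * ON.f) * ((ON.g ^ 2)⁻¹)) (by simp [ON.extra])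
    simp only [map_mul, map_pow, map_inv] at h
    exact h
  · have h := ex ((ON.a * ON.f) * (((ON.c * ON.d) ^ 4)⁻¹)) (by simp [ON.extra])
    simp only [map_mul, map_pow, map_inv] at h
    exact h
  · have h := ex (ON.c * ((ON.d * ON.g * ON.d * ON.g)⁻¹ * ON.c * (ON.d * ON.g * ON.d * ON.g))) (by simp [ON.extra])
    simp only [map_mul, map_pow, map_inv] at h
    exact h
  · have h := ex (ON.d * ((ON.c * ON.g * ON.c * ON.g)⁻¹ * ON.d * (ON.c * ON.g * ON.c * ON.g))) (by simp [ON.extra])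
    simp only [map_mul, map_pow, map_inv] at h
    exact h
  · have h := ex ((ON.b * ON.c * ON.d * ON.g) ^ 5) (by simp [ON.extra])
    simp only [map_mul, map_pow, map_inv] at h
    exact h
  · have h := ex (ON.g * ON.b * (ON.c⁻¹ * ON.g * ON.c) * (ON.b⁻¹ * ON.g * ON.b) * (ON.c⁻¹ * ON.g * ON.c))
      (by simp [ON.extra])
    simp only [map_mul, map_pow, map_inv] at h
    exact h
  · have h := ex (ON.g * ON.e * (ON.d⁻¹ * ON.g * ON.d) * (ON.e⁻¹ * ON.g * ON.e) * (ON.d⁻¹ * ON.g * ON.d))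
      (by simp [ON.extra])
    simp only [map_mul, map_pow, map_inv] at h
    exact h

/-- the relations used by the coset enumeration. -/
theorem rels_ext {P : Type*} [Group P] (t : Nat → P) (hinv : ∀ l, t (ONt.inv l) = (t l)⁻¹) (h31 : t 31 = 1)
    (hb : ∀ p ∈ ONt.relsP, ((p.1.map t).prod) ^ p.2 = 1) : ∀ p ∈ ONt.rels2, ((p.1.map t).prod) ^ p.2 = 1 := by
  have h1 := ONt.r1 t hinv h31 hb
  have h2 := ONt.r2 t hinv h31 hb h1
  have h3 := ONt.r3 t hinv h31 hb h1 h2
  have h4 := ONt.r4 t hinv h31 hb h1 h2 h3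
  have h5 := ONt.r5 t hinv h31 hb h1 h2 h3 h4
  have h6 := ONt.r6 t hinv h31 hb h1 h2 h3 h4 h5
  have e : ONt.rels2 = ONt.relsP ++ [([6], 4), ([5, 6, 5, 7], 1), ([0, 6, 0, 7], 1)] := by decide
  rw [e]
  intro p hp
  rcases List.mem_append.1 hp with hp | hp
  · exact hb p hp
  · revert p
    suffices H : ∀ p ∈ [(([6], 4) : List Nat × Nat), ([5, 6, 5, 7], 1), ([0, 6, 0, 7], 1)],
      ((p.1.map t).prod) ^ p.2 = 1 from fun p _ h => H p h
    refine List.forall_mem_cons.2 ⟨?_, ?_⟩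
    · have e : (ONt.r1w.map t).prod = (([6] : List Nat).map t).prod ^ 4 := by
        simp [ONt.r1w, pow_succ, mul_assoc]
      rw [← e]
      exact h1
    refine List.forall_mem_cons.2 ⟨?_, ?_⟩
    · show _ ^ 1 = _
      rw [pow_one]
      exact h5
    refine List.forall_mem_cons.2 ⟨?_, ?_⟩
    · show _ ^ 1 = _
      rw [pow_one]
      exact h6
    intro c hc
    exact absurd hc List.not_mem_nil

theorem base : ∀ p ∈ ONt.rels2, ((p.1.map s).prod) ^ p.2 = 1 := rels_ext s s_inv s_31 baseP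

end Cfsg.Agent.H8.ONP
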