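import Cfsg.Agent.H8.SiftTool
import Cfsg.Prelude.Def_KGroupFacts

/-!
# Bounding outer automorphism groups by kernel-checked enumeration
-/

set_option autoImplicit false
set_option linter.all false
set_option maxHeartbeats 400000

namespace Cfsg.Agent.H8.OT

/-! ### Extending a table by more letters -/

section ext

variable {G : Type*} [Group G] (s : Nat → G) {n L L' : Nat} {T T' : Nat → Nat → Nat} {inv inv' : Nat → Nat}

theorem tableOK_ext (hT : TableOK n L T inv) (hLL : L ≤ L') (hTT : ∀ l < L, T' l = T l) (hii : ∀ l < L, inv' l = inv l)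
    (h1 : ∀ l, L ≤ l → l < L' → inv' l < L' ∧ inv' (inv' l) = l)
    (h2 : ∀ l, L ≤ l → l < L' → ∀ i < n, T' l i < n ∧ T' (inv' l) (T' l i) = i) : TableOK n L' T' inv' where
  lt := by
    intro l hl i hi
    rcases Nat.lt_or_ge l L with h | h
    · rw [hTT l h]; exact hT.lt l h i hi
    · exact (h2 l h hl i hi).1
  inv_lt := by
    intro l hl
    rcases Nat.lt_or_ge l L with h | h
    · rw [hii l h]; exact lt_of_lt_of_le (hT.inv_lt l h) hLL
    · exact (h1 l h hl).1
  inv_inv := by
    intro l hl
    rcases Nat.lt_or_ge l L with h | h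
    · rw [hii l h, hii _ (hT.inv_lt l h)]; exact hT.inv_inv l h
    · exact (h1 l h hl).2
  inv_apply := by
    intro l hl i hi
    rcases Nat.lt_or_ge l L with h | h
    · rw [hii l h, hTT l h, hTT _ (hT.inv_lt l h)]; exact hT.inv_apply l h i hi
    · exact (h2 l h hl i hi).2

/-- the extended letters. -/
def ext (L : Nat) (bws : List (List Nat)) (l : Nat) : G :=
  if l < L then s l else if (l - L) % 2 = 0 then ((bws.getD ((l - L) / 2) []).map s).prod
    else (((bws.getD ((l - L) / 2) []).map s).prod)⁻¹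

theorem ext_lt (L : Nat) (bws : List (List Nat)) (l : Nat) (h : l < L) : ext s L bws l = s l := if_pos h

theorem ext_even (L : Nat) (bws : List (List Nat)) (i : Nat) :
    ext s L bws (L + 2 * i) = ((bws.getD i []).map s).prod := by
  have h1 : ¬ (L + 2 * i < L) := by omega
  have h2 : (L + 2 * i - L) % 2 = 0 := by omega
  have h3 : (L + 2 * i - L) / 2 = i := by omega
  unfold ext
  rw [if_neg h1, if_pos h2, h3]

theorem ext_odd (L : Nat) (bws : List (List Nat)) (i : Nat) :
    ext s L bws (L + 2 * i + 1) = (((bws.getD i []).map s).prod)⁻¹ := by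
  have h1 : ¬ (L + 2 * i + 1 < L) := by omega
  have h2 : ¬ (L + 2 * i + 1 - L) % 2 = 0 := by omega
  have h3 : (L + 2 * i + 1 - L) / 2 = i := by omega
  unfold ext
  rw [if_neg h1, if_neg h2, h3]

theorem ext_word (L : Nat) (bws : List (List Nat)) (w : List Nat) (h : ∀ l ∈ w, l < L) :
    (w.map (ext s L bws)).prod = (w.map s).prod := by
  congr 1
  exact List.map_congr_left fun l hl => ext_lt s L bws l (h l hl)

theorem ext_rho (hT : TableOK n L T inv) (hT' : TableOK n L' T' inv') (ρ : G →* Equiv.Perm (Fin n))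
    (hρ : ∀ l < L, ρ (s l) = permL hT l) (hTT : ∀ l < L, T' l = T l) (hii : ∀ l < L, inv' l = inv l)
    (bws : List (List Nat)) (hL' : L' = L + 2 * bws.length)
    (hbL : ∀ w ∈ bws, ∀ l ∈ w, l < L)
    (hinv : ∀ i < bws.length, inv' (L + 2 * i) = L + 2 * i + 1)
    (hw : ∀ i < bws.length, ∀ j < n, trN T (bws.getD i []) j = T' (L + 2 * i) j) :
    ∀ l < L', ρ (ext s L bws l) = permL hT' l := by
  have hev : ∀ i < bws.length, ρ (ext s L bws (L + 2 * i)) = permL hT' (L + 2 * i) := by
    intro i hi
    rw [ext_even]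
    have hmem : bws.getD i [] ∈ bws := by
      rw [List.getD_eq_getElem _ _ hi]; exact List.getElem_mem hi
    have h3 : (ρ ((bws.getD i []).map s).prod)⁻¹ = (permL hT' (L + 2 * i))⁻¹ := by
      ext j
      rw [rho_word s hT ρ hρ _ (hbL _ hmem) j, permL_inv_apply hT' _ (by omega)]
      exact hw i hi j j.2
    exact inv_injective h3
  intro l hl
  rcases Nat.lt_or_ge l L with h | h
  · rw [ext_lt s L bws l h, hρ l h]
    ext j
    rw [permL_apply hT l h, permL_apply hT' l hl, hii l h, hTT _ (hT.inv_lt l h)]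
  · obtain ⟨i, hi, rfl | rfl⟩ : ∃ i < bws.length, l = L + 2 * i ∨ l = L + 2 * i + 1 := by
      refine ⟨(l - L) / 2, by omega, by omega⟩
    · exact hev i hi
    · have e1 : ext s L bws (L + 2 * i + 1) = (ext s L bws (L + 2 * i))⁻¹ := by
        rw [ext_even, ext_odd]
      rw [e1, map_inv, hev i hi]
      ext j
      rw [permL_inv_apply hT' _ (by omega), permL_apply hT' _ hl]
      have : inv' (L + 2 * i + 1) = L + 2 * i := by
        rw [← hinv i hi]; exact hT'.inv_inv _ (by omega)
      rw [this]

end ext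

/-! ### Normal form of automorphisms -/

section abs

open scoped Pointwise

variable {G : Type*} [Group G] [Finite G]

theorem exists_conj_mem_zpowers (p : ℕ) [hp : Fact p.Prime] (x z : G) (hx : orderOf x = p) (hz : orderOf z = p)
    (hpG : ¬ p ^ 2 ∣ Nat.card G) : ∃ g : G, g * z * g⁻¹ ∈ Subgroup.zpowers x := by
  have hd : p ∣ Nat.card G := by rw [← hx]; exact orderOf_dvd_natCard x
  have hne : Nat.card G ≠ 0 := Nat.card_pos.ne'
  have hf : (Nat.card G).factorization p = 1 := by
    apply le_antisymm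
    · by_contra h
      push Not at h
      exact hpG ((hp.out.pow_dvd_iff_le_factorization hne).2 h)
    · exact (hp.out.pow_dvd_iff_le_factorization hne).1 (by rwa [pow_one])
  let P : Sylow p G := Sylow.ofCard (Subgroup.zpowers x) (by rw [Nat.card_zpowers, hx, hf, pow_one])
  let Q : Sylow p G := Sylow.ofCard (Subgroup.zpowers z) (by rw [Nat.card_zpowers, hz, hf, pow_one])
  obtain ⟨g, hg⟩ := MulAction.exists_smul_eq G Q P
  refine ⟨g, ?_⟩
  have h1 : z ∈ (Q : Subgroup G) := Subgroup.mem_zpowers z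
  have h2 : MulAut.conj g • z ∈ (g • Q : Sylow p G) := by
    have : (MulAut.conj g • z) ∈ MulAut.conj g • (Q : Subgroup G) := Subgroup.smul_mem_pointwise_smul _ _ _ h1
    exact this
  rw [hg] at h2
  exact h2

theorem exists_normal_form (p : ℕ) [hp : Fact p.Prime] (x f : G) (hx : orderOf x = p)
    (hpG : ¬ p ^ 2 ∣ Nat.card G) (hC : ∀ g : G, x * g = g * x → g ∈ Subgroup.zpowers x) (r : ℕ)
    (hf : x * f = f * x ^ r) (hr : (r : ZMod p) ≠ 1) (J : List ℕ)
    (hJ : ∀ k : ZMod p, k ≠ 0 → ∃ j ∈ J, ∃ i : ℕ, k = (j : ZMod p) * (r : ZMod p) ^ i) (α : MulAut G) :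
    ∃ g : G, ∃ j ∈ J, (MulAut.conj g * α) x = x ^ j ∧ (MulAut.conj g * α) f = f := by
  have hpw : ∀ a b : ℕ, x ^ a = x ^ b ↔ (a : ZMod p) = (b : ZMod p) := by
    intro a b
    rw [pow_eq_pow_iff_modEq, hx, ZMod.natCast_eq_natCast_iff]
  have hxf : ∀ a : ℕ, x ^ a * f = f * x ^ (a * r) := by
    intro a
    induction a with
    | zero => simp
    | succ a ih => rw [pow_succ', mul_assoc, ih, ← mul_assoc, hf, mul_assoc, ← pow_add]; congr 2; ring
  have hxfi : ∀ i a : ℕ, x ^ a * f ^ i = f ^ i * x ^ (a * r ^ i) := by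
    intro i
    induction i with
    | zero => intro a; simp
    | succ i ih => intro a; rw [pow_succ, ← mul_assoc, ih, mul_assoc, hxf, ← mul_assoc]; congr 2; ring
  have hmem : ∀ g : G, g ∈ Subgroup.zpowers x → ∃ k : ℕ, g = x ^ k := by
    intro g hg
    obtain ⟨k, hk⟩ := (mem_powers_iff_mem_zpowers).2 hg
    exact ⟨k, hk.symm⟩
  obtain ⟨g1, hg1⟩ := exists_conj_mem_zpowers p x (α x) hx (by rw [MulEquiv.orderOf_eq α x, hx]) hpG
  obtain ⟨k, hk⟩ := hmem _ hg1
  have hk0 : (k : ZMod p) ≠ 0 := by
    intro h0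
    have h1 : x ^ k = 1 := by
      rw [← pow_zero x, hpw, h0]; simp
    rw [h1] at hk
    have h2 : α x = 1 := by
      have : g1⁻¹ * (g1 * α x * g1⁻¹) * g1 = 1 := by rw [hk]; group
      have e : g1⁻¹ * (g1 * α x * g1⁻¹) * g1 = α x := by group
      rw [e] at this; exact this
    have h3 : x = 1 := by
      apply α.injective; rw [h2, map_one]
    rw [h3, orderOf_one] at hx
    exact hp.out.one_lt.ne hx
  obtain ⟨j, hjJ, i, hji⟩ := hJ k hk0
  have hj0 : (j : ZMod p) ≠ 0 := by
    intro h; rw [h, zero_mul] at hji; exact hk0 hji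
  have hβx : (f ^ i * g1) * α x * (f ^ i * g1)⁻¹ = x ^ j := by
    have e : (f ^ i * g1) * α x * (f ^ i * g1)⁻¹ = f ^ i * (g1 * α x * g1⁻¹) * (f ^ i)⁻¹ := by group
    rw [e, hk]
    have h1 : x ^ k = x ^ (j * r ^ i) := by
      rw [hpw, hji]; push_cast; ring
    rw [h1, ← hxfi]; group
  set g2 := f ^ i * g1 with hg2
  set β : MulAut G := MulAut.conj g2 * α with hβ
  have hβx' : β x = x ^ j := hβx
  have hβf : x ^ j * β f = β f * x ^ (j * r) := by
    have := congrArg β hf
    rw [map_mul, map_mul, map_pow, hβx', ← pow_mul] at this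
    exact this
  have hcomm : x ^ j * (β f * f⁻¹) = (β f * f⁻¹) * x ^ j := by
    have h1 : x ^ (j * r) * f⁻¹ = f⁻¹ * x ^ j := by
      have h2 := hxf j
      have : f⁻¹ * (x ^ j * f) * f⁻¹ = f⁻¹ * (f * x ^ (j * r)) * f⁻¹ := by rw [h2]
      have e1 : f⁻¹ * (x ^ j * f) * f⁻¹ = f⁻¹ * x ^ j := by group
      have e2 : f⁻¹ * (f * x ^ (j * r)) * f⁻¹ = x ^ (j * r) * f⁻¹ := by group
      rw [e1, e2] at this
      exact this.symm
    rw [← mul_assoc, hβf, mul_assoc, h1, ← mul_assoc]
  -- x is a power of x ^ j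
  obtain ⟨j', hj'⟩ : ∃ j' : ℕ, (x ^ j) ^ j' = x := by
    refine ⟨((j : ZMod p)⁻¹).val, ?_⟩
    conv_rhs => rw [← pow_one x]
    rw [← pow_mul, hpw]
    push_cast
    rw [ZMod.natCast_zmod_val, mul_inv_cancel₀ hj0]
  have hcomm' : x * (β f * f⁻¹) = (β f * f⁻¹) * x := by
    have h1 : Commute (x ^ j) (β f * f⁻¹) := hcomm
    have h2 := h1.pow_left j'
    rw [hj'] at h2
    exact h2
  obtain ⟨a, ha⟩ := hmem _ (hC _ hcomm')
  have hβf' : β f = x ^ a * f := by rw [← ha]; group
  obtain ⟨b, hb⟩ : ∃ b : ℕ, (b : ZMod p) = (r : ZMod p) * ((a : ZMod p) + (b : ZMod p)) := by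
    refine ⟨((1 - (r : ZMod p))⁻¹ * ((r : ZMod p) * a)).val, ?_⟩
    rw [ZMod.natCast_zmod_val]
    have h1 : (1 : ZMod p) - r ≠ 0 := sub_ne_zero.2 (Ne.symm hr)
    field_simp
    ring
  refine ⟨x ^ b * g2, j, hjJ, ?_, ?_⟩
  · have e : (MulAut.conj (x ^ b * g2) * α) x = x ^ b * β x * (x ^ b)⁻¹ := by
      rw [hβ]
      simp only [MulAut.mul_apply, MulAut.conj_apply, mul_inv_rev]
      group
    rw [e, hβx', ← pow_add, Nat.add_comm, pow_add, mul_assoc, mul_inv_cancel, mul_one]
  · have e : (MulAut.conj (x ^ b * g2) * α) f = x ^ b * β f * (x ^ b)⁻¹ := by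
      rw [hβ]
      simp only [MulAut.mul_apply, MulAut.conj_apply, mul_inv_rev]
      group
    rw [e, hβf']
    have h1 : x ^ b * (x ^ a * f) = f * x ^ b := by
      rw [← mul_assoc, ← pow_add, hxf]
      congr 1
      rw [hpw]; push_cast
      conv_rhs => rw [hb]
      ring
    rw [h1, mul_assoc, mul_inv_cancel, mul_one]

/-- counting classes of automorphisms. -/
theorem out_card_le (p : ℕ) [hp : Fact p.Prime] (x f y : G) (hx : orderOf x = p)
    (hpG : ¬ p ^ 2 ∣ Nat.card G) (hC : ∀ g : G, x * g = g * x → g ∈ Subgroup.zpowers x) (r : ℕ)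
    (hf : x * f = f * x ^ r) (hr : (r : ZMod p) ≠ 1) (J : List ℕ)
    (hJ : ∀ k : ZMod p, k ≠ 0 → ∃ j ∈ J, ∃ i : ℕ, k = (j : ZMod p) * (r : ZMod p) ^ i)
    (hgen : Subgroup.closure ({x, f, y} : Set G) = ⊤) (S : List (ℕ × G))
    (hS : ∀ j ∈ J, ∀ β : MulAut G, β x = x ^ j → β f = f → (j, β y) ∈ S) :
    Finite (Cfsg.Out G) ∧ Nat.card (Cfsg.Out G) ≤ S.length := by
  classical
  have hN : ∀ α : MulAut G, ∃ t : ℕ × G, t ∈ S ∧ ∃ g : G, (MulAut.conj g * α) x = x ^ t.1 ∧
      (MulAut.conj g * α) f = f ∧ (MulAut.conj g * α) y = t.2 := by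
    intro α
    obtain ⟨g, j, hj, h1, h2⟩ := exists_normal_form p x f hx hpG hC r hf hr J hJ α
    exact ⟨(j, (MulAut.conj g * α) y), hS j hj _ h1 h2, g, h1, h2, rfl⟩
  choose t htS g h1 h2 h3 using hN
  let Φ : Cfsg.Out G → {a // a ∈ S.toFinset} := fun q => ⟨t q.out, List.mem_toFinset.2 (htS _)⟩
  have hΦ : Function.Injective Φ := by
    intro q q' hq
    have hq' : t q.out = t q'.out := congrArg Subtype.val hq
    have heq : MulAut.conj (g q.out) * q.out = MulAut.conj (g q'.out) * q'.out := by
      have h4 : ((MulAut.conj (g q.out) * q.out : MulAut G) : G →* G) =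
          ((MulAut.conj (g q'.out) * q'.out : MulAut G) : G →* G) := by
        apply MonoidHom.eq_of_eqOn_dense hgen
        intro z hz
        rcases hz with rfl | rfl | hz
        · change (MulAut.conj (g q.out) * q.out) z = (MulAut.conj (g q'.out) * q'.out) z
          rw [h1, h1, hq']
        · change (MulAut.conj (g q.out) * q.out) z = (MulAut.conj (g q'.out) * q'.out) z
          rw [h2, h2]
        · rw [Set.mem_singleton_iff] at hz
          subst hz
          change (MulAut.conj (g q.out) * q.out) z = (MulAut.conj (g q'.out) * q'.out) z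
          rw [h3, h3, hq']
      apply MulEquiv.ext
      intro z
      exact DFunLike.congr_fun h4 z
    have hin : ∀ a : G, (QuotientGroup.mk (MulAut.conj a) : Cfsg.Out G) = 1 := by
      intro a
      rw [QuotientGroup.eq_one_iff]
      exact ⟨a, rfl⟩
    have h5 := congrArg (fun z : MulAut G => (QuotientGroup.mk z : Cfsg.Out G)) heq
    have h6 : ∀ (a : G) (q : Cfsg.Out G), (QuotientGroup.mk (MulAut.conj a * q.out) : Cfsg.Out G) = q := by
      intro a q
      rw [QuotientGroup.mk_mul, hin, one_mul]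
      exact QuotientGroup.out_eq' q
    simp only [h6] at h5
    exact h5
  haveI : Finite (Cfsg.Out G) := Finite.of_injective Φ hΦ
  refine ⟨inferInstance, ?_⟩
  calc Nat.card (Cfsg.Out G) ≤ Nat.card {a // a ∈ S.toFinset} := Nat.card_le_card_of_injective Φ hΦ
    _ = S.toFinset.card := by rw [Nat.card_eq_fintype_card, Fintype.card_coe]
    _ ≤ S.length := List.toFinset_card_le S

theorem one_lt_out (hfin : Finite (Cfsg.Out G)) (α : MulAut G) (h : ∀ g : G, α ≠ MulAut.conj g) :
    1 < Nat.card (Cfsg.Out G) := by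
  rw [Finite.one_lt_card_iff_nontrivial]
  refine ⟨⟨QuotientGroup.mk α, 1, ?_⟩⟩
  intro h1
  rw [QuotientGroup.eq_one_iff] at h1
  obtain ⟨g, hg⟩ := h1
  exact h g hg.symm

/-- an inner automorphism fixing `x` and `f` is trivial. -/
theorem inner_trivial (p : ℕ) [hp : Fact p.Prime] (x f : G) (hx : orderOf x = p)
    (hC : ∀ g : G, x * g = g * x → g ∈ Subgroup.zpowers x) (r : ℕ)
    (hf : x * f = f * x ^ r) (hr : (r : ZMod p) ≠ 1) (g : G) (h1 : g * x * g⁻¹ = x) (h2 : g * f * g⁻¹ = f) : g = 1 := by
  have hpw : ∀ a b : ℕ, x ^ a = x ^ b ↔ (a : ZMod p) = (b : ZMod p) := by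
    intro a b
    rw [pow_eq_pow_iff_modEq, hx, ZMod.natCast_eq_natCast_iff]
  have hxf : ∀ a : ℕ, x ^ a * f = f * x ^ (a * r) := by
    intro a
    induction a with
    | zero => simp
    | succ a ih => rw [pow_succ', mul_assoc, ih, ← mul_assoc, hf, mul_assoc, ← pow_add]; congr 2; ring
  have h1' : x * g = g * x := by
    conv_lhs => rw [← h1]
    group
  obtain ⟨a, ha⟩ := (mem_powers_iff_mem_zpowers).2 (hC g h1')
  have ha' : x ^ a = g := ha
  subst ha'
  have h3 : x ^ a * f = f * x ^ a := by
    conv_rhs => rw [← h2]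
    group
  rw [hxf] at h3
  have h4 := (hpw _ _).1 (mul_left_cancel h3)
  push_cast at h4
  have h5 : (a : ZMod p) * ((r : ZMod p) - 1) = 0 := by rw [mul_sub, h4]; ring
  rcases mul_eq_zero.1 h5 with h6 | h6
  · rw [← pow_zero x, hpw, h6]; simp
  · exact absurd (sub_eq_zero.1 h6) hr

end abs

/-! ### Testing candidates -/

section test

variable {G : Type*} [Group G]

/-- value of a symbol `0 = x`, `1 = f`, `2 = y`. -/
def val3 (X F Y : G) (c : Nat) : G := if c = 0 then X else if c = 1 then F else Y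

/-- substitution of words. -/
def sub3 (A B C : List Nat) : List Nat → List Nat
  | [] => []
  | c :: u => (if c = 0 then A else if c = 1 then B else C) ++ sub3 A B C u

theorem sub3_prod (s : Nat → G) (A B C u : List Nat) :
    ((sub3 A B C u).map s).prod = (u.map (val3 (A.map s).prod (B.map s).prod (C.map s).prod)).prod := by
  induction u with
  | nil => rfl
  | cons c u ih =>
    rw [sub3, List.map_append, List.prod_append, ih, List.map_cons, List.prod_cons]
    congr 1
    unfold val3
    split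
    · rfl
    · split <;> rfl

theorem val3_map {H : Type*} [Group H] (φ : G →* H) (X F Y : G) (u : List Nat) :
    φ ((u.map (val3 X F Y)).prod) = (u.map (val3 (φ X) (φ F) (φ Y))).prod := by
  rw [map_list_prod, List.map_map]
  congr 1
  apply List.map_congr_left
  intro c _
  unfold val3
  simp only [Function.comp_apply]
  split
  · rfl
  · split <;> rfl

/-- `u ^ k` moves the point. -/
noncomputable def nfx (fs : List (Nat → Nat)) (pt k : Nat) : Nat → Bool :=
  @Nat.rec (fun _ => Nat → Bool) (fun x => @Bool.rec (fun _ => Bool) true false (Nat.beq x pt))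
    (fun _ ih x => trT fs ih x) k

theorem nfx_sound (T : Nat → Nat → Nat) (w : List Nat) (pt k : Nat) : ∀ x, nfx (w.map T) pt k x = true →
    (trN T w)^[k] x ≠ pt := by
  induction k with
  | zero =>
    intro x h
    change @Bool.rec (fun _ => Bool) true false (Nat.beq x pt) = true at h
    cases hb : Nat.beq x pt with
    | true => rw [hb] at h; exact absurd (show false = true from h) (by decide)
    | false =>
      intro h1
      have h1' : x = pt := h1
      rw [h1'] at hb
      exact absurd hb (by simp)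
  | succ k ih =>
    intro x h
    have h' : trT (w.map T) (nfx (w.map T) pt k) x = true := h
    rw [trT_eq] at h'
    rw [Function.iterate_succ_apply]
    exact ih _ h'

/-- the tests: a candidate word is good or some relator moves some point. Codes: `0` good, else
`1 + rel + 16 * point`. -/
noncomputable def ckTests (T : Nat → Nat → Nat) (X F : List Nat) (rels : List (List Nat × Nat)) (good : List (List Nat)) :
    List (List Nat) → List Nat → Bool
  | [], _ => true
  | _ :: _, [] => false
  | w :: ws, c :: cs =>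
    (if c = 0 then good.contains w else
      nfx ((sub3 X F w (rels.getD ((c - 1) % 16) ([], 0)).1).map T) ((c - 1) / 16) (rels.getD ((c - 1) % 16) ([], 0)).2
        ((c - 1) / 16)) && ckTests T X F rels good ws cs

theorem ckTests_sound (T : Nat → Nat → Nat) (X F : List Nat) (rels : List (List Nat × Nat)) (good : List (List Nat))
    (ws : List (List Nat)) : ∀ cs, ckTests T X F rels good ws cs = true →
      ∀ w ∈ ws, w ∈ good ∨ ∃ i pt, (trN T (sub3 X F w (rels.getD i ([], 0)).1))^[(rels.getD i ([], 0)).2] pt ≠ pt ∧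
        pt ∈ cs.map (fun c => (c - 1) / 16) := by
  induction ws with
  | nil => intro cs _ w hw; simp at hw
  | cons w ws ih =>
    intro cs h
    cases cs with
    | nil => exact absurd h (by simp [ckTests])
    | cons c cs =>
      rw [ckTests, Bool.and_eq_true] at h
      intro w' hw'
      rcases List.mem_cons.1 hw' with rfl | hw'
      · by_cases hc : c = 0
        · rw [if_pos hc] at h
          exact Or.inl (List.contains_iff_mem.1 h.1)
        · rw [if_neg hc] at h
          exact Or.inr ⟨_, _, nfx_sound T _ _ _ _ h.1, by simp⟩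
      · rcases ih cs h.2 w' hw' with h1 | ⟨i, pt, h1, h2⟩
        · exact Or.inl h1
        · exact Or.inr ⟨i, pt, h1, by rw [List.map_cons]; exact List.mem_cons_of_mem _ h2⟩

end test

/-! ### Assembling -/

section asm

variable {G : Type*} [Group G] (s : Nat → G) {n L : Nat} {T : Nat → Nat → Nat} {inv : Nat → Nat}
  (hT : TableOK n L T inv) (ρ : G →* Equiv.Perm (Fin n)) (hρ : ∀ l < L, ρ (s l) = permL hT l)

theorem iter_fin (w : List Nat) (hw : ∀ l ∈ w, l < L) (hρ : ∀ l < L, ρ (s l) = permL hT l) (k : Nat) (i : Fin n) :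
    ((act ρ i ((w.map s).prod ^ k) : Fin n) : Nat) = (trN T w)^[k] i := by
  rw [act_pow]
  induction k with
  | zero => rfl
  | succ k ih =>
    rw [Function.iterate_succ_apply', Function.iterate_succ_apply', ← ih, act_word s hT ρ hρ _ w hw]

include hρ in
/-- the image of `y` under a normalised automorphism is in the good list. -/
theorem good_of_tests (j : Nat) (xw fw yw : List Nat) (hxL : ∀ l ∈ xw, l < L) (hfL : ∀ l ∈ fw, l < L)
    (rels : List (List Nat × Nat))
    (hrel : ∀ p ∈ rels, (((sub3 xw fw yw p.1).map s).prod) ^ p.2 = 1) (good cands : List (List Nat)) (codes : List Nat)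
    (hcL : ∀ w ∈ cands, ∀ l ∈ w, l < L) (hpt : ∀ c ∈ codes, (c - 1) / 16 < n)
    (hck : ckTests T (wpow xw j) fw rels good cands codes = true) (β : MulAut G)
    (hβx : β (xw.map s).prod = (xw.map s).prod ^ j) (hβf : β (fw.map s).prod = (fw.map s).prod) (w : List Nat)
    (hw : w ∈ cands) (hβy : β (yw.map s).prod = (w.map s).prod) : w ∈ good := by
  rcases ckTests_sound T _ _ _ _ _ _ hck w hw with h | ⟨i, pt, h1, h2⟩
  · exact h
  · exfalso
    obtain ⟨c, hc, hcpt⟩ := List.mem_map.1 h2
    have hptn : pt < n := by rw [← hcpt]; exact hpt c hc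
    by_cases hi : i < rels.length
    · have hm : rels.getD i ([], 0) ∈ rels := by
        rw [List.getD_eq_getElem _ _ hi]; exact List.getElem_mem hi
      set q := rels.getD i ([], 0) with hq
      have h3 := congrArg β (hrel q hm)
      rw [map_one, map_pow, sub3_prod] at h3
      have h4 := val3_map (β : G →* G) (xw.map s).prod (fw.map s).prod (yw.map s).prod q.1
      have h4' : β ((q.1.map (val3 (xw.map s).prod (fw.map s).prod (yw.map s).prod)).prod) =
        (q.1.map (val3 (β (xw.map s).prod) (β (fw.map s).prod) (β (yw.map s).prod))).prod := h4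
      rw [h4', hβx, hβf, hβy, ← wpow_prod s xw j, ← sub3_prod] at h3
      have hLL : ∀ l ∈ sub3 (wpow xw j) fw w q.1, l < L := by
        have hxw : ∀ j, ∀ l ∈ wpow xw j, l < L := by
          intro j
          induction j with
          | zero => intro l hl; simp [wpow] at hl
          | succ j ih =>
            intro l hl
            rw [wpow, List.mem_append] at hl
            rcases hl with hl | hl
            · exact hxL l hl
            · exact ih l hl
        intro l hl
        clear * - hl hxw hfL hcL hw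
        revert hl
        generalize q.1 = u
        induction u with
        | nil => intro hl; simp [sub3] at hl
        | cons c u ih =>
          intro hl
          rw [sub3, List.mem_append] at hl
          rcases hl with hl | hl
          · split at hl
            · exact hxw j l hl
            · split at hl
              · exact hfL l hl
              · exact hcL w hw l hl
          · exact ih hl
      apply h1
      rw [← iter_fin s hT ρ _ hLL hρ q.2 ⟨pt, hptn⟩, h3, act_one]
    · rw [List.getD_eq_default _ _ (by omega)] at h1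
      exact h1 rfl

include hρ in
/-- equality of a word power and another word through the table. -/
theorem word_eq_of_tr (hinj : Function.Injective ρ) (u v : List Nat) (hu : ∀ l ∈ u, l < L) (hv : ∀ l ∈ v, l < L)
    (h : ∀ i < n, trN T u i = trN T v i) : (u.map s).prod = (v.map s).prod := by
  apply hinj
  have : (ρ (u.map s).prod)⁻¹ = (ρ (v.map s).prod)⁻¹ := by
    ext i
    rw [rho_word s hT ρ hρ u hu i, rho_word s hT ρ hρ v hv i]
    exact h i i.2
  exact inv_injective this

/-- kernel check of equality of two words. -/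
noncomputable def ckEqW (fu fv : List (Nat → Nat)) (i : Nat) : Bool :=
  trT fu (fun a => trT fv (fun b => Nat.beq a b) i) i

theorem ckEqW_sound (u v : List Nat) (i : Nat) (h : ckEqW (u.map T) (v.map T) i = true) : trN T u i = trN T v i := by
  unfold ckEqW at h
  rw [trT_eq, trT_eq] at h
  exact Nat.eq_of_beq_eq_true h

include hρ in
theorem word_eq_of_ck (hinj : Function.Injective ρ) (u v : List Nat) (hu : ∀ l ∈ u, l < L) (hv : ∀ l ∈ v, l < L)
    (h : allR (ckEqW (u.map T) (v.map T)) 0 n = true) : (u.map s).prod = (v.map s).prod :=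
  word_eq_of_tr s hT ρ hρ hinj u v hu hv fun i hi => ckEqW_sound u v i (allR_zero _ _ h i hi)

/-- kernel check of the candidate points. -/
noncomputable def ckCand (fs : List (Nat → Nat)) (m : Nat) (k : List Nat → Bool) (sv : List Nat) (q : Nat) : Bool :=
  @Bool.rec (fun _ => Bool) (genF fs q m q k) true (memB q sv)

theorem ckCand_sound (fs : List (Nat → Nat)) (m : Nat) (k : List Nat → Bool) (sv : List Nat) (q : Nat)
    (h : ckCand fs m k sv q = true) : q ∈ sv ∨ genF fs q m q k = true := by
  unfold ckCand at h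
  cases hb : memB q sv with
  | true => exact Or.inl (memB_spec q sv hb)
  | false => rw [hb] at h; exact Or.inr h

/-- enumeration of a centraliser. -/
theorem cent_list (F : G) (o : Nat) (ho : 0 < o) (hF : F ^ o = 1) (b : Fin n) (m : Nat)
    (hbase : ∀ g : G, (∀ i < m, act ρ (act ρ b (F ^ i)) g = act ρ b (F ^ i)) → g = 1) (sv : List Nat)
    (henum : ∀ g : G, F * g = g * F → ∃ a : Nat, ((act ρ b (g * F ^ a) : Fin n) : Nat) ∈ sv)
    (W : List G) (hW : ∀ q ∈ sv, ∃ w ∈ W, F * w = w * F ∧ ((act ρ b w : Fin n) : Nat) = q) (g : G)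
    (hg : F * g = g * F) : ∃ w ∈ W, ∃ a < o, g = w * F ^ a := by
  obtain ⟨a, ha⟩ := henum g hg
  obtain ⟨w, hw, hwF, hwb⟩ := hW _ ha
  have h1 : g * F ^ a = w := by
    refine conj_unique ρ F F b m hbase _ _ ?_ hwF (Fin.ext hwb.symm)
    rw [← mul_assoc, hg, mul_assoc, mul_assoc, ← pow_succ, ← pow_succ']
  refine ⟨w, hw, (o - a % o) % o, Nat.mod_lt _ ho, ?_⟩
  have h2 : F ^ a * F ^ ((o - a % o) % o) = 1 := by
    have h3 : o ∣ a + (o - a % o) % o := by
      rcases Nat.eq_zero_or_pos (a % o) with h | h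
      · rw [h, Nat.sub_zero, Nat.mod_self, add_zero]; exact Nat.dvd_of_mod_eq_zero h
      · have h5 : (o - a % o) % o = o - a % o := Nat.mod_eq_of_lt (by have := Nat.mod_lt a ho; omega)
        rw [h5]
        refine ⟨a / o + 1, ?_⟩
        have h6 := Nat.div_add_mod a o
        have h7 := Nat.mod_lt a ho
        rw [Nat.mul_add, Nat.mul_one]
        omega
    obtain ⟨c, hc⟩ := h3
    rw [← pow_add, hc, pow_mul, hF, one_pow]
  rw [← h1, mul_assoc, h2, mul_one]

end asm

end Cfsg.Agent.H8.OT
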