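import Cfsg.Agent.H8.OutTool

/-!
# Extending a table by straight-line letters
-/

set_option autoImplicit false
set_option linter.all false
set_option maxHeartbeats 400000

namespace Cfsg.Agent.H8.OT

section extI

variable {G : Type*} [Group G]

/-- iterated extension of the letters: each word may use the earlier new letters. -/
def extI (s : Nat → G) (L : Nat) : List (List Nat) → Nat → G
  | [] => s
  | w :: ws => extI (fun l => if l = L then (w.map s).prod else if l = L + 1 then ((w.map s).prod)⁻¹ else s l) (L + 2) ws

theorem extI_lt (ws : List (List Nat)) : ∀ (s : Nat → G) (L l : Nat), l < L → extI s L ws l = s l := by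
  induction ws with
  | nil => intro s L l _; rfl
  | cons w ws ih =>
    intro s L l hl
    rw [extI, ih _ _ _ (by omega)]
    have h1 : l ≠ L := by omega
    have h2 : l ≠ L + 1 := by omega
    rw [if_neg h1, if_neg h2]

/-- images of words whose letters are controlled. -/
theorem rho_word' (s : Nat → G) {n L : Nat} {T : Nat → Nat → Nat} {inv : Nat → Nat} (hT : TableOK n L T inv)
    (ρ : G →* Equiv.Perm (Fin n)) (w : List Nat) (hw : ∀ l ∈ w, l < L) (hρ : ∀ l ∈ w, ρ (s l) = permL hT l) (i : Fin n) :
    (((ρ (w.map s).prod)⁻¹ i : Fin n) : Nat) = trN T w i := by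
  have : ρ (w.map s).prod = (w.map (permL hT)).prod := by
    rw [map_list_prod, List.map_map]
    congr 1
    exact List.map_congr_left fun l hl => hρ l hl
  rw [this]
  exact prod_inv_apply hT w hw i

theorem extI_rho {n L' : Nat} {T' : Nat → Nat → Nat} {inv' : Nat → Nat} (hT' : TableOK n L' T' inv')
    (ρ : G →* Equiv.Perm (Fin n)) (ws : List (List Nat)) : ∀ (s : Nat → G) (L : Nat),
    (∀ l < L, ρ (s l) = permL hT' l) → L' = L + 2 * ws.length →
    (∀ i < ws.length, (∀ l ∈ ws.getD i [], l < L + 2 * i) ∧ inv' (L + 2 * i) = L + 2 * i + 1 ∧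
      ∀ j < n, trN T' (ws.getD i []) j = T' (L + 2 * i) j) →
    ∀ l < L', ρ (extI s L ws l) = permL hT' l := by
  induction ws with
  | nil =>
    intro s L hs hL _ l hl
    exact hs l (by rw [hL] at hl; simpa using hl)
  | cons w ws ih =>
    intro s L hs hL hws l hl
    rw [List.length_cons] at hL
    have h0 := hws 0 (by simp)
    rw [List.getD_cons_zero, Nat.mul_zero, Nat.add_zero] at h0
    have hp : ρ ((w.map s).prod) = permL hT' L := by
      have h3 : (ρ ((w.map s).prod))⁻¹ = (permL hT' L)⁻¹ := by
        ext j
        rw [rho_word' s hT' ρ w (fun l hl => by have := h0.1 l hl; omega) (fun l hl => hs l (h0.1 l hl)) j,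
          permL_inv_apply hT' _ (by omega)]
        exact h0.2.2 j j.2
      exact inv_injective h3
    have hp' : ρ (((w.map s).prod)⁻¹) = permL hT' (L + 1) := by
      rw [map_inv, hp]
      ext j
      rw [permL_inv_apply hT' _ (by omega), permL_apply hT' _ (by omega)]
      have : inv' (L + 1) = L := by
        rw [← h0.2.1]; exact hT'.inv_inv _ (by omega)
      rw [this]
    rw [extI]
    refine ih _ (L + 2) ?_ (by omega) ?_ l hl
    · intro l hl
      by_cases h1 : l = L
      · rw [if_pos h1, hp, h1]
      · by_cases h2 : l = L + 1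
        · rw [if_neg h1, if_pos h2, hp', h2]
        · rw [if_neg h1, if_neg h2]
          exact hs l (by omega)
    · intro i hi
      have h := hws (i + 1) (by rw [List.length_cons]; omega)
      rw [List.getD_cons_succ] at h
      have e : L + 2 * (i + 1) = L + 2 + 2 * i := by ring
      rw [e] at h
      exact h

end extI

/-! ### Straight-line programs -/

section slp

/-- every word only uses earlier letters. -/
def ckProg : List Nat → List (Nat × List Nat) → Bool
  | _, [] => true
  | S0, e :: es => e.2.all (fun l => S0.contains l) && ckProg (e.1 :: S0) es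

theorem slp_mem {G : Type*} [Group G] (s : Nat → G) (C : Subgroup G) (prog : List (Nat × List Nat)) :
    ∀ S0 : List Nat, (∀ l ∈ S0, s l ∈ C) → ckProg S0 prog = true → (∀ e ∈ prog, s e.1 = (e.2.map s).prod) →
      ∀ e ∈ prog, s e.1 ∈ C := by
  induction prog with
  | nil => intro _ _ _ _ e he; simp at he
  | cons e es ih =>
    intro S0 h0 hp hw
    rw [ckProg, Bool.and_eq_true, List.all_eq_true] at hp
    have h1 : s e.1 ∈ C := by
      rw [hw e List.mem_cons_self]
      apply Subgroup.list_prod_mem
      intro g hg
      obtain ⟨l, hl, rfl⟩ := List.mem_map.1 hg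
      exact h0 l (List.contains_iff_mem.1 (hp.1 l hl))
    intro e' he'
    rcases List.mem_cons.1 he' with rfl | he'
    · exact h1
    · refine ih (e.1 :: S0) ?_ hp.2 (fun e hh => hw e (List.mem_cons_of_mem _ hh)) e' he'
      intro l hl
      rcases List.mem_cons.1 hl with rfl | hl
      · exact h1
      · exact h0 l hl

theorem slp_hom {G H : Type*} [Group G] [Group H] (φ : G →* H) (s : Nat → G) (t : Nat → H)
    (prog : List (Nat × List Nat)) : ∀ S0 : List Nat, (∀ l ∈ S0, φ (s l) = t l) → ckProg S0 prog = true →
      (∀ e ∈ prog, s e.1 = (e.2.map s).prod) → (∀ e ∈ prog, t e.1 = (e.2.map t).prod) →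
      ∀ e ∈ prog, φ (s e.1) = t e.1 := by
  induction prog with
  | nil => intro _ _ _ _ _ e he; simp at he
  | cons e es ih =>
    intro S0 h0 hp hw ht
    rw [ckProg, Bool.and_eq_true, List.all_eq_true] at hp
    have h1 : φ (s e.1) = t e.1 := by
      rw [hw e List.mem_cons_self, ht e List.mem_cons_self, map_list_prod, List.map_map]
      congr 1
      apply List.map_congr_left
      intro l hl
      exact h0 l (List.contains_iff_mem.1 (hp.1 l hl))
    intro e' he'
    rcases List.mem_cons.1 he' with rfl | he'
    · exact h1
    · refine ih (e.1 :: S0) ?_ hp.2 (fun e hh => hw e (List.mem_cons_of_mem _ hh))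
        (fun e hh => ht e (List.mem_cons_of_mem _ hh)) e' he'
      intro l hl
      rcases List.mem_cons.1 hl with rfl | hl
      · exact h1
      · exact h0 l hl

theorem flatMap_prod {G : Type*} [Group G] (s : Nat → G) (aw : Nat → List Nat) (w : List Nat) :
    ((w.flatMap aw).map s).prod = (w.map fun l => ((aw l).map s).prod).prod := by
  induction w with
  | nil => rfl
  | cons l w ih => rw [List.map_cons, List.prod_cons, ← ih, List.flatMap_cons, List.map_append, List.prod_append]

end slp

end Cfsg.Agent.H8.OT
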