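import Cfsg.Agent.H8.SuzPres

/-!
# The presented sporadic Suzuki group: order, rank 3 action, simplicity
-/

set_option autoImplicit false
set_option linter.all false
set_option maxRecDepth 100000

namespace Cfsg.Agent.H8.SuzP

open Cfsg.Spor

theorem suz_upper : Finite (letterGroup s 7) ∧ Nat.card (letterGroup s 7) ≤ 448345497600 := by
  have h1 := G24P.upper_of (subS s [0, 1, 2, 3, 4, 5]) (subS_inv s _ s_inv) (subS_31 s _ s_31)
    (rels_sub s _ _ _ base (by decide))
  have h4 := Suzt.upper s s_inv s_31 base (letterGroup (subS s [0, 1, 2, 3, 4, 5]) 6) (by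
    intro w hw
    have := sub_mem s [0, 1, 2, 3, 4, 5, 6] [0, 1, 2, 3, 4, 5] 6 Suzt.subw (by decide) w hw
    have h5 : w.map (subS s [0, 1, 2, 3, 4, 5, 6]) = w.map s := by
      apply List.map_congr_left
      intro l hl
      have : ∀ w ∈ Suzt.subw, ∀ l ∈ w, l < 7 := by decide
      exact subS_id s [0, 1, 2, 3, 4, 5, 6] 7 (by decide) l (this w hw l hl)
    rw [h5] at this
    exact this) h1.1
  refine ⟨h4.1, ?_⟩
  omega

theorem finite_and_card_le : Finite Suz ∧ Nat.card Suz ≤ 448345497600 := by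
  have h := suz_upper
  rw [s_top] at h
  refine ⟨?_, ?_⟩
  · have := h.1
    exact Finite.of_equiv _ Subgroup.topEquiv.toEquiv
  · rw [Subgroup.card_top] at h
    exact h.2

instance suz_finite : Finite Suz := finite_and_card_le.1

noncomputable def ρ : Suz →* Equiv.Perm (Fin 1782) :=
  homOf (permL Suzt.tok) (permL_sq Suzt.tok) Suzt.relp

theorem hρ : ∀ l < 7, ρ (s l) = permL Suzt.tok l := homOf_s _ _ _

theorem hρ' : ∀ l, ρ (s l) = permL Suzt.tok l := by
  intro l
  rcases Nat.lt_or_ge l 7 with h | h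
  · exact hρ l h
  · have h1 : s l = 1 := by
      match l, h with
      | (k + 7), _ => rfl
    rw [h1, map_one, permL_ge Suzt.tok l (by omega)]

/-- the map from `G₂(4)` to any group with the relations of Suz. -/
noncomputable def φof {P : Type*} [Group P] (t : Nat → P) (hsq : ∀ l, t l * t l = 1) (h31 : t 31 = 1)
    (hrel : ∀ p ∈ Suzt.rels2, ((p.1.map t).prod) ^ p.2 = 1) : G24P.J →* P :=
  RG.lift 6 G24t.rels2 (subS t [0, 1, 2, 3, 4, 5]) (fun _ => hsq _)
    (fun l hl => by
      unfold subS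
      rw [List.getD_eq_default _ _ (by simpa using hl), h31])
    (rels_sub t _ _ _ hrel (by decide))

theorem φof_gen {P : Type*} [Group P] (t : Nat → P) (hsq : ∀ l, t l * t l = 1) (h31 : t 31 = 1)
    (hrel : ∀ p ∈ Suzt.rels2, ((p.1.map t).prod) ^ p.2 = 1) (l : Nat) :
    φof t hsq h31 hrel (G24P.s l) = subS t [0, 1, 2, 3, 4, 5] l := RG.lift_gen 6 G24t.rels2 _ _ _ _ l

theorem φof_range {P : Type*} [Group P] (t : Nat → P) (hsq : ∀ l, t l * t l = 1) (h31 : t 31 = 1)
    (hrel : ∀ p ∈ Suzt.rels2, ((p.1.map t).prod) ^ p.2 = 1) :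
    (φof t hsq h31 hrel).range = wordGroup t [[0], [1], [2], [3], [4], [5]] := by
  have h1 : (⊤ : Subgroup G24P.J) = wordGroup G24P.s [[0], [1], [2], [3], [4], [5]] := by
    rw [← G24P.s_top]
    exact letterGroup_eq_wordGroup G24P.s 6 _ (by decide) (by decide)
  rw [MonoidHom.range_eq_map, h1,
    RG.map_wordGroup _ G24P.s (subS t [0, 1, 2, 3, 4, 5]) (φof_gen t hsq h31 hrel)]
  unfold wordGroup
  congr 1
  ext g
  constructor
  · rintro ⟨w, hw, rfl⟩
    refine ⟨w, hw, ?_⟩
    congr 1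
    apply List.map_congr_left
    intro l hl
    have : ∀ w ∈ [[0], [1], [2], [3], [4], [5]], ∀ l ∈ w, l < 6 := by decide
    exact subS_id t _ 6 (by decide) l (this w hw l hl)
  · rintro ⟨w, hw, rfl⟩
    refine ⟨w, hw, ?_⟩
    congr 1
    apply List.map_congr_left
    intro l hl
    have : ∀ w ∈ [[0], [1], [2], [3], [4], [5]], ∀ l ∈ w, l < 6 := by decide
    exact (subS_id t _ 6 (by decide) l (this w hw l hl)).symm

theorem card_image {P : Type*} [Group P] (t : Nat → P) (hsq : ∀ l, t l * t l = 1) (h31 : t 31 = 1)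
    (hrel : ∀ p ∈ Suzt.rels2, ((p.1.map t).prod) ^ p.2 = 1) (h0 : t 0 ≠ 1) :
    Function.Injective (φof t hsq h31 hrel) ∧
      Nat.card (wordGroup t [[0], [1], [2], [3], [4], [5]]) = 251596800 := by
  have hinj : Function.Injective (φof t hsq h31 hrel) := by
    apply injective_of_simple G24P.simple _ (G24P.s 0)
    rw [φof_gen]
    exact h0
  refine ⟨hinj, ?_⟩
  rw [← φof_range t hsq h31 hrel, ← G24P.card_J]
  exact (Nat.card_congr (MonoidHom.ofInjective hinj).toEquiv).symm

theorem perm0_ne : permL Suzt.tok 0 ≠ 1 := by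
  intro h
  have h1 := permL_apply Suzt.tok 0 (by decide) ⟨47, by decide⟩
  have h2 := permL_apply Suzt.tok 0 (by decide) ⟨48, by decide⟩
  have h3 := permL_apply Suzt.tok 0 (by decide) ⟨49, by decide⟩
  have h4 := permL_apply Suzt.tok 0 (by decide) ⟨50, by decide⟩
  rw [h] at h1 h2 h3 h4
  revert h1 h2 h3 h4
  decide +kernel

theorem perm31 : permL Suzt.tok 31 = 1 := permL_ge Suzt.tok 31 (by decide)

theorem lowerP : 448345497600 ≤ Nat.card (wordGroup (permL Suzt.tok) Suzt.chG0) := by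
  have h1 := Suzt.ch_lower (permL Suzt.tok) (MonoidHom.id _) (fun l _ => rfl)
  have h2 := (card_image (permL Suzt.tok) (permL_sq Suzt.tok) perm31 Suzt.relp perm0_ne).2
  have h3 : Suzt.chG1 = [[0], [1], [2], [3], [4], [5]] := rfl
  rw [h3, h2] at h1
  omega

theorem ρ_injective : Function.Injective ρ := by
  apply injective_of_card ρ (wordGroup (permL Suzt.tok) Suzt.chG0)
  · rw [← RG.map_wordGroup ρ s _ hρ' Suzt.chG0]
    rintro _ ⟨x, _, rfl⟩
    exact ⟨x, rfl⟩
  · exact le_trans finite_and_card_le.2 lowerP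
  · infer_instance

theorem card_suz : Nat.card Suz = 448345497600 := by
  apply le_antisymm finite_and_card_le.2
  refine le_trans lowerP ?_
  have h0 := RG.map_wordGroup ρ s _ hρ' Suzt.chG0
  rw [← h0]
  exact card_map_le' ρ _

theorem index_stab : (wordGroup s Suzt.clG).index = 1782 ∧
    wordGroup s Suzt.clG = stabOf ρ ⟨0, by decide⟩ := by
  have hle : wordGroup s Suzt.clG ≤ stabOf ρ ⟨0, by decide⟩ :=
    wordGroup_le_stabOf s Suzt.tok ρ hρ _ _ (by decide +kernel)
  have h2 := Suzt.upperIndex s s_inv s_31 base (wordGroup s Suzt.clG)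
    (fun w hw => mem_wordGroup s _ w (by revert w hw; decide)) s_top
  exact index_and_stab ρ _ _ hle (Suzt.rho_tr s ρ hρ) h2 (by decide)

theorem coatom : IsCoatom (stabOf ρ ⟨0, by decide⟩) := Suzt.cl_coatom s ρ hρ index_stab.2.symm

theorem s0_ne : s 0 ≠ 1 := by
  intro h
  apply perm0_ne
  rw [← hρ' 0, h, map_one]

theorem stab_simple : IsSimpleGroup (stabOf ρ ⟨0, by decide⟩) := by
  rw [← index_stab.2]
  have h1 := (card_image s s_sq s_31 base s0_ne).1
  have h2 : wordGroup s Suzt.clG = (φof s s_sq s_31 base).range := (φof_range s s_sq s_31 base).symm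
  rw [h2]
  have h3 := G24P.simple
  exact ((MonoidHom.ofInjective h1).symm.isSimpleGroup)

theorem nontrivial_suz : Nontrivial Suz := by
  apply Finite.one_lt_card_iff_nontrivial.1
  rw [card_suz]; decide

/-- rank 3 classes. -/
noncomputable def cls (i : Fin 1782) : Fin 3 := ⟨Suzt.clC i, Suzt.cl_lt i i.2⟩

theorem simple : IsSimpleGroup Suz := by
  haveI := nontrivial_suz
  refine simple_of_coatom_simple (stabOf ρ ⟨0, by decide⟩) coatom
    (core_free ρ _ ρ_injective (Suzt.rho_tr s ρ hρ)) stab_simple ?_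
  intro N hN hne hinf hsup
  refine no_regular_of_three_primes ρ _ N hN hinf hsup (Suzt.rho_tr s ρ hρ) (by decide) cls ?_ ?_ 2 3 11
    (by norm_num) (by norm_num) (by norm_num) (by decide) (by decide) (by decide) (by decide) (by decide) (by decide)
  · intro i hi
    have h1 : Suzt.clC i = 0 := congrArg Fin.val hi
    have h2 : allR (fun i => @Nat.rec (fun _ => Bool) (Nat.beq i 0) (fun _ _ => true) (Suzt.clC i)) 0 1782 = true := by
      decide +kernel
    have h3 := allR_zero _ _ h2 i i.2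
    rw [h1] at h3
    exact Fin.ext (Nat.eq_of_beq_eq_true h3)
  · intro i j hij
    have h1 : Suzt.clC i = Suzt.clC j := congrArg Fin.val hij
    rw [← index_stab.2]
    exact cls_trans s Suzt.tok ρ hρ Suzt.clC Suzt.clQ Suzt.clG Suzt.clR (by decide) Suzt.clOK i j h1

/-- orbit lengths of the subgroup `H` on its cosets. -/
theorem orbit_len (c k : Nat) (i : Fin 1782) (hi : Suzt.clC i = c)
    (hk : cntC Suzt.clC c k 1782 0 = true) :
    ∃ q : Suz ⧸ wordGroup s Suzt.clG, (MulAction.orbit (wordGroup s Suzt.clG) q).ncard = k := by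
  obtain ⟨g, hg⟩ := Suzt.rho_tr s ρ hρ i
  refine ⟨QuotientGroup.mk g, ?_⟩
  rw [orbit_ncard_eq ρ ⟨0, by decide⟩ _ index_stab.2 g, hg,
    cls_orbit s Suzt.tok ρ hρ Suzt.clC Suzt.clQ Suzt.clG Suzt.clR (by decide) Suzt.clOK i, hi]
  exact cntC_ncard _ _ _ _ hk

theorem H_eq : ((Subgroup.closure ({Suz.a, Suz.b, Suz.c, Suz.d, Suz.e, Suz.f} : Set (FreeGroup Suz.Gen))).map
    (PresentedGroup.mk (coxRelators Suz.edges ∪ {r | r ∈ Suz.extra}))) = wordGroup s Suzt.clG := by
  apply map_closure_eq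
  · intro x hx
    simp only [Set.mem_insert_iff, Set.mem_singleton_iff] at hx
    rcases hx with rfl | rfl | rfl | rfl | rfl | rfl
    · exact ⟨[0], by decide, by simp [s, sF, PresentedGroup.of]⟩
    · exact ⟨[1], by decide, by simp [s, sF, PresentedGroup.of]⟩
    · exact ⟨[2], by decide, by simp [s, sF, PresentedGroup.of]⟩
    · exact ⟨[3], by decide, by simp [s, sF, PresentedGroup.of]⟩
    · exact ⟨[4], by decide, by simp [s, sF, PresentedGroup.of]⟩
    · exact ⟨[5], by decide, by simp [s, sF, PresentedGroup.of]⟩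
  · intro w hw
    simp only [Suzt.clG, List.mem_cons, List.not_mem_nil, or_false] at hw
    rcases hw with rfl | rfl | rfl | rfl | rfl | rfl
    · exact ⟨Suz.a, by simp, by simp [s, sF, PresentedGroup.of]⟩
    · exact ⟨Suz.b, by simp, by simp [s, sF, PresentedGroup.of]⟩
    · exact ⟨Suz.c, by simp, by simp [s, sF, PresentedGroup.of]⟩
    · exact ⟨Suz.d, by simp, by simp [s, sF, PresentedGroup.of]⟩
    · exact ⟨Suz.e, by simp, by simp [s, sF, PresentedGroup.of]⟩
    · exact ⟨Suz.f, by simp, by simp [s, sF, PresentedGroup.of]⟩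

end Cfsg.Agent.H8.SuzP
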