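import Cfsg.Agent.H8.G24Pres
import Cfsg.Agent.H8.T.SuztO
import Cfsg.Agent.H8.T.SuztL
import Cfsg.Prelude.Def_Spor_Suz
import Cfsg.Prelude.Def_Sporadic

/-!
# The presented sporadic Suzuki group
-/

set_option autoImplicit false
set_option linter.all false

namespace Cfsg.Agent.H8.SuzP

open Cfsg.Spor

/-- letter function. -/
def sF {P : Type*} [Group P] (f : Suz.Gen → P) : Nat → P
  | 0 => f .a
  | 1 => f .b
  | 2 => f .c
  | 3 => f .d
  | 4 => f .e
  | 5 => f .f
  | 6 => f .g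
  | _ => 1

theorem sF_sq {P : Type*} [Group P] (f : Suz.Gen → P) (h : ∀ x, f x * f x = 1) : ∀ l, sF f l * sF f l = 1 := by
  intro l
  unfold sF
  split <;> first | exact h _ | exact one_mul 1

theorem base_of {P : Type*} [Group P] (f : Suz.Gen → P)
    (hc : ∀ x y m, coxLabel Suz.edges x y = m → (f x * f y) ^ m = 1)
    (h1 : f .a = (f .c * f .d) ^ 4)
    (h2 : f .a = (f .f * f .g) ^ 2)
    (h3 : (f .a * f .b * f .c * f .f) ^ 5 = 1)
    (h4 : (f .b * f .f * f .g) ^ 5 = 1)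
    (h5 : ((f .b * f .c * f .d * f .c * f .d) ^ 5 * f .e) ^ 3 = 1)
    (hsq : ∀ x, f x * f x = 1)
    : ∀ p ∈ Suzt.rels2, ((p.1.map (sF f)).prod) ^ p.2 = 1 := by
  refine List.forall_mem_cons.2 ⟨(show (f .a * (f .b * 1)) ^ 5 = 1 from by rw [mul_one]; exact hc _ _ _ (by decide)), ?_⟩
  refine List.forall_mem_cons.2 ⟨(show (f .a * (f .c * 1)) ^ 2 = 1 from by rw [mul_one]; exact hc _ _ _ (by decide)), ?_⟩
  refine List.forall_mem_cons.2 ⟨(show (f .a * (f .d * 1)) ^ 2 = 1 from by rw [mul_one]; exact hc _ _ _ (by decide)), ?_⟩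
  refine List.forall_mem_cons.2 ⟨(show (f .a * (f .e * 1)) ^ 2 = 1 from by rw [mul_one]; exact hc _ _ _ (by decide)), ?_⟩
  refine List.forall_mem_cons.2 ⟨(show (f .a * (f .f * 1)) ^ 2 = 1 from by rw [mul_one]; exact hc _ _ _ (by decide)), ?_⟩
  refine List.forall_mem_cons.2 ⟨(show (f .a * (f .g * 1)) ^ 2 = 1 from by rw [mul_one]; exact hc _ _ _ (by decide)), ?_⟩
  refine List.forall_mem_cons.2 ⟨(show (f .b * (f .c * 1)) ^ 3 = 1 from by rw [mul_one]; exact hc _ _ _ (by decide)), ?_⟩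
  refine List.forall_mem_cons.2 ⟨(show (f .b * (f .d * 1)) ^ 2 = 1 from by rw [mul_one]; exact hc _ _ _ (by decide)), ?_⟩
  refine List.forall_mem_cons.2 ⟨(show (f .b * (f .e * 1)) ^ 2 = 1 from by rw [mul_one]; exact hc _ _ _ (by decide)), ?_⟩
  refine List.forall_mem_cons.2 ⟨(show (f .b * (f .f * 1)) ^ 3 = 1 from by rw [mul_one]; exact hc _ _ _ (by decide)), ?_⟩
  refine List.forall_mem_cons.2 ⟨(show (f .b * (f .g * 1)) ^ 3 = 1 from by rw [mul_one]; exact hc _ _ _ (by decide)), ?_⟩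
  refine List.forall_mem_cons.2 ⟨(show (f .c * (f .d * 1)) ^ 8 = 1 from by rw [mul_one]; exact hc _ _ _ (by decide)), ?_⟩
  refine List.forall_mem_cons.2 ⟨(show (f .c * (f .e * 1)) ^ 2 = 1 from by rw [mul_one]; exact hc _ _ _ (by decide)), ?_⟩
  refine List.forall_mem_cons.2 ⟨(show (f .c * (f .f * 1)) ^ 2 = 1 from by rw [mul_one]; exact hc _ _ _ (by decide)), ?_⟩
  refine List.forall_mem_cons.2 ⟨(show (f .c * (f .g * 1)) ^ 2 = 1 from by rw [mul_one]; exact hc _ _ _ (by decide)), ?_⟩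
  refine List.forall_mem_cons.2 ⟨(show (f .d * (f .e * 1)) ^ 3 = 1 from by rw [mul_one]; exact hc _ _ _ (by decide)), ?_⟩
  refine List.forall_mem_cons.2 ⟨(show (f .d * (f .f * 1)) ^ 2 = 1 from by rw [mul_one]; exact hc _ _ _ (by decide)), ?_⟩
  refine List.forall_mem_cons.2 ⟨(show (f .d * (f .g * 1)) ^ 2 = 1 from by rw [mul_one]; exact hc _ _ _ (by decide)), ?_⟩
  refine List.forall_mem_cons.2 ⟨(show (f .e * (f .f * 1)) ^ 2 = 1 from by rw [mul_one]; exact hc _ _ _ (by decide)), ?_⟩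
  refine List.forall_mem_cons.2 ⟨(show (f .e * (f .g * 1)) ^ 2 = 1 from by rw [mul_one]; exact hc _ _ _ (by decide)), ?_⟩
  refine List.forall_mem_cons.2 ⟨(show (f .f * (f .g * 1)) ^ 4 = 1 from by rw [mul_one]; exact hc _ _ _ (by decide)), ?_⟩
  refine List.forall_mem_cons.2 ⟨?_, ?_⟩
  · have e : ([0, 2, 3, 2, 3, 2, 3, 2, 3].map (sF f)).prod = f .a * (f .c * f .d) ^ 4 := by
      simp [sF, pow_succ, mul_assoc]
    change (([0, 2, 3, 2, 3, 2, 3, 2, 3].map (sF f)).prod) ^ 1 = 1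
    rw [e, ← h1, hsq, one_pow]
  refine List.forall_mem_cons.2 ⟨?_, ?_⟩
  · have e : ([0, 5, 6, 5, 6].map (sF f)).prod = f .a * (f .f * f .g) ^ 2 := by
      simp [sF, pow_succ, mul_assoc]
    change (([0, 5, 6, 5, 6].map (sF f)).prod) ^ 1 = 1
    rw [e, ← h2, hsq, one_pow]
  refine List.forall_mem_cons.2 ⟨?_, ?_⟩
  · have e : ([0, 1, 2, 5].map (sF f)).prod = f .a * f .b * f .c * f .f := by simp [sF, mul_assoc]
    change (([0, 1, 2, 5].map (sF f)).prod) ^ 5 = 1
    rw [e, h3]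
  refine List.forall_mem_cons.2 ⟨?_, ?_⟩
  · have e : ([1, 5, 6].map (sF f)).prod = f .b * f .f * f .g := by simp [sF, mul_assoc]
    change (([1, 5, 6].map (sF f)).prod) ^ 5 = 1
    rw [e, h4]
  refine List.forall_mem_cons.2 ⟨?_, ?_⟩
  · have e : ((wpow [1, 2, 3, 2, 3] 5 ++ [4]).map (sF f)).prod = (f .b * f .c * f .d * f .c * f .d) ^ 5 * f .e := by
      rw [List.map_append, List.prod_append, wpow_prod]
      simp [sF, mul_assoc]
    change (((wpow [1, 2, 3, 2, 3] 5 ++ [4]).map (sF f)).prod) ^ 3 = 1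
    rw [e, h5]
  intro c hc
  exact absurd hc List.not_mem_nil

def pl : List (Suz.Gen × ℕ × Suz.Gen) := [(.a, 1, .a), (.b, 1, .b), (.c, 1, .c), (.d, 1, .d), (.e, 1, .e), (.f, 1, .f), (.g, 1, .g), (.a, 5, .b), (.a, 2, .c), (.a, 2, .d), (.a, 2, .e), (.a, 2, .f), (.a, 2, .g), (.b, 3, .c), (.b, 2, .d), (.b, 2, .e), (.b, 3, .f), (.b, 3, .g), (.c, 8, .d), (.c, 2, .e), (.c, 2, .f), (.c, 2, .g), (.d, 3, .e), (.d, 2, .f), (.d, 2, .g), (.e, 2, .f), (.e, 2, .g), (.f, 4, .g)]

theorem pl_cov : ∀ x y : Suz.Gen, (x, coxLabel Suz.edges x y, y) ∈ pl ∨ (y, coxLabel Suz.edges x y, x) ∈ pl := by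
  intro x y
  cases x <;> cases y <;> decide

theorem lift_of {P : Type*} [Group P] (f : Suz.Gen → P) (hsq : ∀ x, f x * f x = 1)
    (hb : ∀ p ∈ Suzt.relsP, ((p.1.map (sF f)).prod) ^ p.2 = 1) :
    ∀ r ∈ coxRelators Suz.edges ∪ {r | r ∈ Suz.extra}, FreeGroup.lift f r = 1 := by
  rintro r (hr | hr)
  · refine cox_lift Suz.edges f pl (fun x _ y _ => pl_cov x y) ?_ r hr
    unfold pl
    refine List.forall_mem_cons.2 ⟨(show (f .a * f .a) ^ 1 = 1 from by rw [pow_one]; exact hsq _), ?_⟩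
    refine List.forall_mem_cons.2 ⟨(show (f .b * f .b) ^ 1 = 1 from by rw [pow_one]; exact hsq _), ?_⟩
    refine List.forall_mem_cons.2 ⟨(show (f .c * f .c) ^ 1 = 1 from by rw [pow_one]; exact hsq _), ?_⟩
    refine List.forall_mem_cons.2 ⟨(show (f .d * f .d) ^ 1 = 1 from by rw [pow_one]; exact hsq _), ?_⟩
    refine List.forall_mem_cons.2 ⟨(show (f .e * f .e) ^ 1 = 1 from by rw [pow_one]; exact hsq _), ?_⟩
    refine List.forall_mem_cons.2 ⟨(show (f .f * f .f) ^ 1 = 1 from by rw [pow_one]; exact hsq _), ?_⟩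
    refine List.forall_mem_cons.2 ⟨(show (f .g * f .g) ^ 1 = 1 from by rw [pow_one]; exact hsq _), ?_⟩
    refine List.forall_mem_cons.2 ⟨(show (f .a * f .b) ^ 5 = 1 from by
      have h : (f .a * (f .b * 1)) ^ 5 = 1 := hb ([0, 1], 5) (by decide)
      rwa [mul_one] at h), ?_⟩
    refine List.forall_mem_cons.2 ⟨(show (f .a * f .c) ^ 2 = 1 from by
      have h : (f .a * (f .c * 1)) ^ 2 = 1 := hb ([0, 2], 2) (by decide)
      rwa [mul_one] at h), ?_⟩
    refine List.forall_mem_cons.2 ⟨(show (f .a * f .d) ^ 2 = 1 from by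
      have h : (f .a * (f .d * 1)) ^ 2 = 1 := hb ([0, 3], 2) (by decide)
      rwa [mul_one] at h), ?_⟩
    refine List.forall_mem_cons.2 ⟨(show (f .a * f .e) ^ 2 = 1 from by
      have h : (f .a * (f .e * 1)) ^ 2 = 1 := hb ([0, 4], 2) (by decide)
      rwa [mul_one] at h), ?_⟩
    refine List.forall_mem_cons.2 ⟨(show (f .a * f .f) ^ 2 = 1 from by
      have h : (f .a * (f .f * 1)) ^ 2 = 1 := hb ([0, 5], 2) (by decide)
      rwa [mul_one] at h), ?_⟩
    refine List.forall_mem_cons.2 ⟨(show (f .a * f .g) ^ 2 = 1 from by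
      have h : (f .a * (f .g * 1)) ^ 2 = 1 := hb ([0, 6], 2) (by decide)
      rwa [mul_one] at h), ?_⟩
    refine List.forall_mem_cons.2 ⟨(show (f .b * f .c) ^ 3 = 1 from by
      have h : (f .b * (f .c * 1)) ^ 3 = 1 := hb ([1, 2], 3) (by decide)
      rwa [mul_one] at h), ?_⟩
    refine List.forall_mem_cons.2 ⟨(show (f .b * f .d) ^ 2 = 1 from by
      have h : (f .b * (f .d * 1)) ^ 2 = 1 := hb ([1, 3], 2) (by decide)
      rwa [mul_one] at h), ?_⟩
    refine List.forall_mem_cons.2 ⟨(show (f .b * f .e) ^ 2 = 1 from by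
      have h : (f .b * (f .e * 1)) ^ 2 = 1 := hb ([1, 4], 2) (by decide)
      rwa [mul_one] at h), ?_⟩
    refine List.forall_mem_cons.2 ⟨(show (f .b * f .f) ^ 3 = 1 from by
      have h : (f .b * (f .f * 1)) ^ 3 = 1 := hb ([1, 5], 3) (by decide)
      rwa [mul_one] at h), ?_⟩
    refine List.forall_mem_cons.2 ⟨(show (f .b * f .g) ^ 3 = 1 from by
      have h : (f .b * (f .g * 1)) ^ 3 = 1 := hb ([1, 6], 3) (by decide)
      rwa [mul_one] at h), ?_⟩
    refine List.forall_mem_cons.2 ⟨(show (f .c * f .d) ^ 8 = 1 from by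
      have h : (f .c * (f .d * 1)) ^ 8 = 1 := hb ([2, 3], 8) (by decide)
      rwa [mul_one] at h), ?_⟩
    refine List.forall_mem_cons.2 ⟨(show (f .c * f .e) ^ 2 = 1 from by
      have h : (f .c * (f .e * 1)) ^ 2 = 1 := hb ([2, 4], 2) (by decide)
      rwa [mul_one] at h), ?_⟩
    refine List.forall_mem_cons.2 ⟨(show (f .c * f .f) ^ 2 = 1 from by
      have h : (f .c * (f .f * 1)) ^ 2 = 1 := hb ([2, 5], 2) (by decide)
      rwa [mul_one] at h), ?_⟩
    refine List.forall_mem_cons.2 ⟨(show (f .c * f .g) ^ 2 = 1 from by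
      have h : (f .c * (f .g * 1)) ^ 2 = 1 := hb ([2, 6], 2) (by decide)
      rwa [mul_one] at h), ?_⟩
    refine List.forall_mem_cons.2 ⟨(show (f .d * f .e) ^ 3 = 1 from by
      have h : (f .d * (f .e * 1)) ^ 3 = 1 := hb ([3, 4], 3) (by decide)
      rwa [mul_one] at h), ?_⟩
    refine List.forall_mem_cons.2 ⟨(show (f .d * f .f) ^ 2 = 1 from by
      have h : (f .d * (f .f * 1)) ^ 2 = 1 := hb ([3, 5], 2) (by decide)
      rwa [mul_one] at h), ?_⟩
    refine List.forall_mem_cons.2 ⟨(show (f .d * f .g) ^ 2 = 1 from by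
      have h : (f .d * (f .g * 1)) ^ 2 = 1 := hb ([3, 6], 2) (by decide)
      rwa [mul_one] at h), ?_⟩
    refine List.forall_mem_cons.2 ⟨(show (f .e * f .f) ^ 2 = 1 from by
      have h : (f .e * (f .f * 1)) ^ 2 = 1 := hb ([4, 5], 2) (by decide)
      rwa [mul_one] at h), ?_⟩
    refine List.forall_mem_cons.2 ⟨(show (f .e * f .g) ^ 2 = 1 from by
      have h : (f .e * (f .g * 1)) ^ 2 = 1 := hb ([4, 6], 2) (by decide)
      rwa [mul_one] at h), ?_⟩
    refine List.forall_mem_cons.2 ⟨(show (f .f * f .g) ^ 4 = 1 from by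
      have h : (f .f * (f .g * 1)) ^ 4 = 1 := hb ([5, 6], 4) (by decide)
      rwa [mul_one] at h), ?_⟩
    intro c hc
    exact absurd hc List.not_mem_nil
  · unfold Suz.extra at hr
    simp only [Set.mem_ofPred_eq, List.mem_cons, List.not_mem_nil, or_false] at hr
    rcases hr with rfl | rfl | rfl | rfl | rfl
    · have h : (([0, 2, 3, 2, 3, 2, 3, 2, 3].map (sF f)).prod) ^ 1 = 1 := hb ([0, 2, 3, 2, 3, 2, 3, 2, 3], 1) (by decide)
      have e : ([0, 2, 3, 2, 3, 2, 3, 2, 3].map (sF f)).prod = f .a * (f .c * f .d) ^ 4 := by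
        simp [sF, pow_succ, mul_assoc]
      rw [pow_one, e] at h
      simp only [map_mul, map_pow, map_inv, FreeGroup.lift_apply_of]
      have h' : (f .c * f .d) ^ 4 = f .a := by
        rw [← mul_left_cancel_iff (a := f .a), h, hsq]
      rw [h', mul_inv_cancel]
    · have h : (([0, 5, 6, 5, 6].map (sF f)).prod) ^ 1 = 1 := hb ([0, 5, 6, 5, 6], 1) (by decide)
      have e : ([0, 5, 6, 5, 6].map (sF f)).prod = f .a * (f .f * f .g) ^ 2 := by
        simp [sF, pow_succ, mul_assoc]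
      rw [pow_one, e] at h
      simp only [map_mul, map_pow, map_inv, FreeGroup.lift_apply_of]
      have h' : (f .f * f .g) ^ 2 = f .a := by
        rw [← mul_left_cancel_iff (a := f .a), h, hsq]
      rw [h', mul_inv_cancel]
    · have h : (([0, 1, 2, 5].map (sF f)).prod) ^ 5 = 1 := hb ([0, 1, 2, 5], 5) (by decide)
      have e : ([0, 1, 2, 5].map (sF f)).prod = f .a * f .b * f .c * f .f := by simp [sF, mul_assoc]
      rw [e] at h
      simp only [map_mul, map_pow, map_inv, FreeGroup.lift_apply_of]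
      exact h
    · have h : (([1, 5, 6].map (sF f)).prod) ^ 5 = 1 := hb ([1, 5, 6], 5) (by decide)
      have e : ([1, 5, 6].map (sF f)).prod = f .b * f .f * f .g := by simp [sF, mul_assoc]
      rw [e] at h
      simp only [map_mul, map_pow, map_inv, FreeGroup.lift_apply_of]
      exact h
    · have h : (((wpow [1, 2, 3, 2, 3] 5 ++ [4]).map (sF f)).prod) ^ 3 = 1 := hb (wpow [1, 2, 3, 2, 3] 5 ++ [4], 3) (by decide)
      have e : ((wpow [1, 2, 3, 2, 3] 5 ++ [4]).map (sF f)).prod = (f .b * f .c * f .d * f .c * f .d) ^ 5 * f .e := by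
        rw [List.map_append, List.prod_append, wpow_prod]
        simp [sF, mul_assoc]
      rw [e] at h
      simp only [map_mul, map_pow, map_inv, FreeGroup.lift_apply_of]
      exact h

section grp

/-- the letters of the presented group. -/
def s : Nat → Suz := sF (fun x => (PresentedGroup.of x : Suz))

theorem of_sq (x : Suz.Gen) : (PresentedGroup.of x * PresentedGroup.of x : Suz) = 1 := by
  have h := cox_rel Suz.edges Suz.extra x x 1 (by cases x <;> decide) (by cases x <;> decide) (by cases x <;> decide)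
  rwa [pow_one] at h

theorem s_sq : ∀ l, s l * s l = 1 := sF_sq _ of_sq

theorem s_inv : ∀ l, s l = (s l)⁻¹ := fun l => eq_inv_of_mul_eq_one_left (s_sq l)

theorem s_31 : s 31 = 1 := rfl

theorem s_top : letterGroup s 7 = ⊤ := by
  rw [eq_top_iff]
  have h : (⊤ : Subgroup Suz) = Subgroup.closure (Set.range PresentedGroup.of) :=
    (PresentedGroup.closure_range_of _).symm
  rw [h, Subgroup.closure_le]
  rintro _ ⟨x, rfl⟩
  refine Subgroup.subset_closure ?_
  cases x
  · exact ⟨0, by decide, rfl⟩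
  · exact ⟨1, by decide, rfl⟩
  · exact ⟨2, by decide, rfl⟩
  · exact ⟨3, by decide, rfl⟩
  · exact ⟨4, by decide, rfl⟩
  · exact ⟨5, by decide, rfl⟩
  · exact ⟨6, by decide, rfl⟩

/-- index of a generator. -/
def idx : Suz.Gen → Nat
  | .a => 0
  | .b => 1
  | .c => 2
  | .d => 3
  | .e => 4
  | .f => 5
  | .g => 6

theorem sF_idx {P : Type*} [Group P] (t : Nat → P) : ∀ l < 7, sF (fun x => t (idx x)) l = t l := by
  intro l hl
  interval_cases l <;> rfl

/-- the permutation representation attached to a checked table. -/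
def homOf {P : Type*} [Group P] (t : Nat → P) (hsq : ∀ l, t l * t l = 1)
    (hb : ∀ p ∈ Suzt.relsP, ((p.1.map t).prod) ^ p.2 = 1) : Suz →* P :=
  PresentedGroup.toGroup (f := fun x => t (idx x)) (lift_of _ (fun x => hsq _) (by
    intro p hp
    have h1 := hb p hp
    have h2 : p.1.map (sF (fun x => t (idx x))) = p.1.map t := by
      apply List.map_congr_left
      intro l hl
      have : ∀ p ∈ Suzt.relsP, ∀ l ∈ p.1, l < 7 := by decide
      exact sF_idx t l (this p hp l hl)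
    rw [h2]
    exact h1))

theorem homOf_s {P : Type*} [Group P] (t : Nat → P) (hsq : ∀ l, t l * t l = 1)
    (hb : ∀ p ∈ Suzt.relsP, ((p.1.map t).prod) ^ p.2 = 1) : ∀ l < 7, homOf t hsq hb (s l) = t l := by
  intro l hl
  have key : ∀ x, homOf t hsq hb (PresentedGroup.of x) = t (idx x) := fun x => PresentedGroup.toGroup.of _
  interval_cases l
  · exact key .a
  · exact key .b
  · exact key .c
  · exact key .d
  · exact key .e
  · exact key .f
  · exact key .g

end grp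

theorem base : ∀ p ∈ Suzt.rels2, ((p.1.map s).prod) ^ p.2 = 1 := by
  have ex : ∀ r ∈ Suz.extra, (PresentedGroup.mk (coxRelators Suz.edges ∪ {r | r ∈ Suz.extra}) r) = 1 :=
    fun r hr => cox_extra Suz.edges Suz.extra r hr
  refine base_of _ (fun x y m hm => cox_rel Suz.edges Suz.extra x y m (by cases x <;> decide)
    (by cases y <;> decide) hm) ?_ ?_ ?_ ?_ ?_ of_sq
  · have h := ex (Suz.a * ((Suz.c * Suz.d) ^ 4)⁻¹) (by simp [Suz.extra])
    simp only [map_mul, map_pow, map_inv] at h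
    exact mul_inv_eq_one.1 h
  · have h := ex (Suz.a * ((Suz.f * Suz.g) ^ 2)⁻¹) (by simp [Suz.extra])
    simp only [map_mul, map_pow, map_inv] at h
    exact mul_inv_eq_one.1 h
  · have h := ex ((Suz.a * Suz.b * Suz.c * Suz.f) ^ 5) (by simp [Suz.extra])
    simp only [map_mul, map_pow, map_inv] at h
    exact h
  · have h := ex ((Suz.b * Suz.f * Suz.g) ^ 5) (by simp [Suz.extra])
    simp only [map_mul, map_pow, map_inv] at h
    exact h
  · have h := ex (((Suz.b * Suz.c * Suz.d * Suz.c * Suz.d) ^ 5 * Suz.e) ^ 3) (by simp [Suz.extra])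
    simp only [map_mul, map_pow, map_inv] at h
    exact h

end Cfsg.Agent.H8.SuzP
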