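import Cfsg.Agent.H8.T.TiS
import Cfsg.Agent.H8.T.TiC
import Cfsg.Agent.S1068

/-!
# The group `²F₄(2)` acting on 1755 vectors
-/

set_option Elab.async false
set_option autoImplicit false
set_option linter.all false
set_option maxRecDepth 100000
set_option maxHeartbeats 400000

namespace Cfsg.Agent.H8.Tits

open Cfsg.Lie Matrix

def MA : Mt := chevF4.x (ZMod 2) 33 1 * chevF4.x (ZMod 2) 24 1
def MA_ : Mt := chevF4.x (ZMod 2) 14 1 * chevF4.x (ZMod 2) 23 1
def MB : Mt := chevF4.x (ZMod 2) 27 1 * (chevF4.x (ZMod 2) 25 1 * chevF4.x (ZMod 2) 28 1)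
def MB_ : Mt := chevF4.x (ZMod 2) 20 1 * (chevF4.x (ZMod 2) 22 1 * chevF4.x (ZMod 2) 19 1)

theorem cMA : ∀ j < 52, MA *ᵥ dec (2 ^ j) = dec (CA j) := mA
theorem cMA_ : ∀ j < 52, MA_ *ᵥ dec (2 ^ j) = dec (CA_ j) := mA_
theorem cMB : ∀ j < 52, MB *ᵥ dec (2 ^ j) = dec (CB j) := mB
theorem cMB_ : ∀ j < 52, MB_ *ᵥ dec (2 ^ j) = dec (CB_ j) := mB_
theorem cMB2 : ∀ j < 52, (MB * MB) *ᵥ dec (2 ^ j) = dec (CB2 j) := mul_cols _ _ _ _ _ cMB cMB lCB eBB
theorem cMB2_ : ∀ j < 52, (MB_ * MB_) *ᵥ dec (2 ^ j) = dec (CB2_ j) := mul_cols _ _ _ _ _ cMB_ cMB_ lCB_ eBB_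
theorem cMB3 : ∀ j < 52, (MB * MB * MB) *ᵥ dec (2 ^ j) = dec (CB3 j) := mul_cols _ _ _ _ _ cMB2 cMB lCB eB3
theorem cMB3_ : ∀ j < 52, (MB_ * MB_ * MB_) *ᵥ dec (2 ^ j) = dec (CB3_ j) := mul_cols _ _ _ _ _ cMB2_ cMB_ lCB_ eB3_

theorem eq_of_cols (M N : Mt) (C : ℕ → ℕ) (hM : ∀ j < 52, M *ᵥ dec (2 ^ j) = dec (C j))
    (hN : ∀ j < 52, N *ᵥ dec (2 ^ j) = dec (C j)) : M = N :=
  mat_ext M N fun j hj => by rw [hM j hj, hN j hj]

theorem AA : MA * MA = 1 := eq_of_cols _ _ two (mul_cols _ _ _ _ _ cMA cMA lCA eAA) two_cols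
theorem AA_ : MA_ * MA_ = 1 := eq_of_cols _ _ two (mul_cols _ _ _ _ _ cMA_ cMA_ lCA_ eAA_) two_cols
theorem B4 : MB * (MB * MB * MB) = 1 := eq_of_cols _ _ two (mul_cols _ _ _ _ _ cMB cMB3 lCB3 eB4) two_cols
theorem B5 : (MB * MB * MB) * MB = 1 := eq_of_cols _ _ two (mul_cols _ _ _ _ _ cMB3 cMB lCB eB5) two_cols
theorem B4_ : MB_ * (MB_ * MB_ * MB_) = 1 := eq_of_cols _ _ two (mul_cols _ _ _ _ _ cMB_ cMB3_ lCB3_ eB4_) two_cols
theorem B5_ : (MB_ * MB_ * MB_) * MB_ = 1 := eq_of_cols _ _ two (mul_cols _ _ _ _ _ cMB3_ cMB_ lCB_ eB5_) two_cols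

def gA : GL chevF4.Idx (ZMod 2) := ⟨MA, MA, AA, AA⟩
def gA_ : GL chevF4.Idx (ZMod 2) := ⟨MA_, MA_, AA_, AA_⟩
def gB : GL chevF4.Idx (ZMod 2) := ⟨MB, MB * MB * MB, B4, B5⟩
def gB_ : GL chevF4.Idx (ZMod 2) := ⟨MB_, MB_ * MB_ * MB_, B4_, B5_⟩

theorem x0 (r : ℕ) : chevF4.x (ZMod 2) r 0 = 1 := (Cfsg.Agent.H6.TF4.good.toSem).x_zero r

abbrev TG := ↥(twistedF4 (ZMod 2) 1)

theorem w2 (r r' : ℕ) (a b : ZMod 2) : chevF4.wordMat (ZMod 2) [(r, a), (r', b)] =
    chevF4.x (ZMod 2) r a * chevF4.x (ZMod 2) r' b := by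
  unfold ChevalleyDatum.wordMat
  rw [List.map_cons, List.map_cons, List.map_nil, List.prod_cons, List.prod_cons, List.prod_nil, mul_one]

theorem w4 (r r' r'' r''' : ℕ) (a b c d : ZMod 2) : chevF4.wordMat (ZMod 2) [(r, a), (r', b), (r'', c), (r''', d)] =
    chevF4.x (ZMod 2) r a * (chevF4.x (ZMod 2) r' b * (chevF4.x (ZMod 2) r'' c * chevF4.x (ZMod 2) r''' d)) := by
  unfold ChevalleyDatum.wordMat
  rw [List.map_cons, List.map_cons, List.map_cons, List.map_cons, List.map_nil, List.prod_cons, List.prod_cons, List.prod_cons,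
    List.prod_cons, List.prod_nil, mul_one]

theorem words (w : List (ℕ × ZMod 2)) (hw : w ∈ f4Words (ZMod 2) 1) :
    chevF4.wordMat (ZMod 2) w = 1 ∨ chevF4.wordMat (ZMod 2) w = MA ∨ chevF4.wordMat (ZMod 2) w = MA_ ∨
    chevF4.wordMat (ZMod 2) w = MB ∨ chevF4.wordMat (ZMod 2) w = MB_ ∨ chevF4.wordMat (ZMod 2) w = MB * MB ∨
    chevF4.wordMat (ZMod 2) w = MB_ * MB_ ∨ chevF4.wordMat (ZMod 2) w = MB * MB * MB ∨
    chevF4.wordMat (ZMod 2) w = MB_ * MB_ * MB_ := by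
  have h01 : ∀ t : ZMod 2, t = 0 ∨ t = 1 := by decide
  have z1 : (0 : ZMod 2) ^ 1 = 0 := by decide
  have z2 : (0 : ZMod 2) ^ (1 + 1) = 0 := by decide
  have z3 : (0 : ZMod 2) ^ (2 * 1) = 0 := by decide
  have o1 : (1 : ZMod 2) ^ 1 = 1 := by decide
  have o2 : (1 : ZMod 2) ^ (1 + 1) = 1 := by decide
  have o3 : (1 : ZMod 2) ^ (2 * 1) = 1 := by decide
  have s1 : (1 : ZMod 2) + 1 = 0 := by decide
  rcases hw with ⟨t, h | h⟩ | ⟨t, u, h | h⟩
  · rw [h, f4PairWord, w2]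
    rcases h01 t with rfl | rfl
    · left; rw [z1, x0, x0, mul_one]
    · right; left; rw [o1]; rfl
  · rw [h, f4PairWord, w2]
    rcases h01 t with rfl | rfl
    · left; rw [z1, x0, x0, mul_one]
    · right; right; left; rw [o1]; rfl
  · rw [h, b2ClassWord, w4]
    rcases h01 t with rfl | rfl <;> rcases h01 u with rfl | rfl
    · left; rw [z1, z2, add_zero, x0, x0, x0, x0]; simp
    · right; right; right; right; right; left
      rw [z1, z2, o3, zero_add, x0, x0, one_mul, one_mul]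
      exact eq_of_cols _ _ CB2 mB2 cMB2
    · right; right; right; left
      rw [o1, o2, z3, add_zero, x0, mul_one]
      rfl
    · right; right; right; right; right; right; right; left
      rw [o1, o2, s1, x0, one_mul]
      exact eq_of_cols _ _ CB3 mB3 cMB3
  · rw [h, b2ClassWord, w4]
    rcases h01 t with rfl | rfl <;> rcases h01 u with rfl | rfl
    · left; rw [z1, z2, add_zero, x0, x0, x0, x0]; simp
    · right; right; right; right; right; right; left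
      rw [z1, z2, o3, zero_add, x0, x0, one_mul, one_mul]
      exact eq_of_cols _ _ CB2_ mB2_ cMB2_
    · right; right; right; right; left
      rw [o1, o2, z3, add_zero, x0, mul_one]
      rfl
    · right; right; right; right; right; right; right; right
      rw [o1, o2, s1, x0, one_mul]
      exact eq_of_cols _ _ CB3_ mB3_ cMB3_

theorem mem_gA : gA ∈ twistedF4 (ZMod 2) 1 := by
  refine Subgroup.subset_closure ⟨f4PairWord 1 f4p1 f4p4 1, Or.inl ⟨1, Or.inl rfl⟩, ?_⟩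
  rw [f4PairWord, w2, pow_one]
  rfl

theorem mem_gA_ : gA_ ∈ twistedF4 (ZMod 2) 1 := by
  refine Subgroup.subset_closure ⟨f4PairWord 1 f4m1 f4m4 1, Or.inl ⟨1, Or.inr rfl⟩, ?_⟩
  rw [f4PairWord, w2, pow_one]
  rfl

theorem mem_gB : gB ∈ twistedF4 (ZMod 2) 1 := by
  refine Subgroup.subset_closure ⟨b2ClassWord 1 f4a f4b f4ab f4aab 1 0, Or.inr ⟨1, 0, Or.inl rfl⟩, ?_⟩
  have o2 : (1 : ZMod 2) ^ (1 + 1) = 1 := by decide
  have z3 : (0 : ZMod 2) ^ (2 * 1) = 0 := by decide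
  rw [b2ClassWord, w4, pow_one, o2, z3, add_zero, x0, mul_one]
  rfl

theorem mem_gB_ : gB_ ∈ twistedF4 (ZMod 2) 1 := by
  refine Subgroup.subset_closure ⟨b2ClassWord 1 f4ma f4mb f4mab f4maab 1 0, Or.inr ⟨1, 0, Or.inr rfl⟩, ?_⟩
  have o2 : (1 : ZMod 2) ^ (1 + 1) = 1 := by decide
  have z3 : (0 : ZMod 2) ^ (2 * 1) = 0 := by decide
  rw [b2ClassWord, w4, pow_one, o2, z3, add_zero, x0, mul_one]
  rfl

theorem card_TG : Nat.card TG = 35942400 := by
  have h := Cfsg.Agent.S1068.result (K := ZMod 2) (m := 0) (by rw [ZMod.card]; norm_num)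
  have e : (2 : ℕ) ^ 0 = 1 := rfl
  rw [e] at h
  rw [h]
  norm_num

instance finTG : Finite TG := Nat.finite_of_card_ne_zero (by rw [card_TG]; decide)

/-! ### The action -/

theorem VC_lt : ∀ i < 1755, VC i < 2 ^ 52 := by
  intro i hi
  by_cases h : i < 1754
  · have h1 := allR_zero _ _ vinc i h
    unfold ckInc at h1
    rw [band_eq_true] at h1
    exact Nat.le_of_ble_eq_true h1.1
  · have : i = 1754 := by omega
    rw [this]
    exact Nat.le_of_ble_eq_true vlast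

theorem VC_mono : ∀ i j : ℕ, i < j → j < 1755 → VC i < VC j := by
  intro i j hij hj
  induction j with
  | zero => omega
  | succ j ih =>
    have h1 := allR_zero _ _ vinc j (show j < 1754 by omega)
    unfold ckInc at h1
    rw [band_eq_true] at h1
    have h2 : VC j < VC (j + 1) := Nat.le_of_ble_eq_true h1.2
    rcases Nat.lt_or_ge i j with h | h
    · exact (ih h (by omega)).trans h2
    · have : i = j := by omega
      rw [this]; exact h2

noncomputable def fV (i : Fin 1755) : V := dec (VC i)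

theorem fV_inj : Function.Injective fV := by
  intro a b h
  have h1 := dec_inj _ _ (VC_lt a a.2) (VC_lt b b.2) h
  rcases Nat.lt_trichotomy a b with h2 | h2 | h2
  · have := VC_mono a b h2 b.2; omega
  · exact Fin.ext h2
  · have := VC_mono b a h2 a.2; omega

theorem act_of (M : Mt) (C t : ℕ → ℕ) (hM : ∀ j < 52, M *ᵥ dec (2 ^ j) = dec (C j))
    (h : allR (ckVec C t) (nat_lit 0) (nat_lit 1755) = true) (i : ℕ) (hi : i < 1755) : M *ᵥ dec (VC i) = dec (VC (t i)) := by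
  rw [mulVec_dec M C hM _ (VC_lt i hi)]
  congr 1
  exact Nat.eq_of_beq_eq_true (allR_zero _ _ h i hi)

theorem actA (i : ℕ) (hi : i < 1755) : MA *ᵥ dec (VC i) = dec (VC (T0 i)) := act_of MA CA T0 cMA vA i hi
theorem actA_ (i : ℕ) (hi : i < 1755) : MA_ *ᵥ dec (VC i) = dec (VC (T1 i)) := act_of MA_ CA_ T1 cMA_ vA_ i hi
theorem actB (i : ℕ) (hi : i < 1755) : MB *ᵥ dec (VC i) = dec (VC (T3 i)) := act_of MB CB T3 cMB vB i hi
theorem actB_ (i : ℕ) (hi : i < 1755) : MB_ *ᵥ dec (VC i) = dec (VC (T5 i)) := act_of MB_ CB_ T5 cMB_ vB_ i hi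

def PR (M : Mt) : Prop := ∀ i : Fin 1755, ∃ j : Fin 1755, M *ᵥ fV i = fV j

theorem PR.mul {M N : Mt} (h1 : PR M) (h2 : PR N) : PR (M * N) := by
  intro i
  obtain ⟨j, hj⟩ := h2 i
  obtain ⟨k, hk⟩ := h1 j
  exact ⟨k, by rw [← Matrix.mulVec_mulVec, hj, hk]⟩

theorem PR.one : PR 1 := fun i => ⟨i, Matrix.one_mulVec _⟩

theorem pk_lt (t t' : ℕ → ℕ) (h : allR (ckPerm (nat_lit 1755) t t') (nat_lit 0) (nat_lit 1755) = true) (i : ℕ) (hi : i < 1755) :
    t i < 1755 := (ckPerm_sound _ _ _ _ (allR_zero _ _ h i hi)).1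

theorem PRA : PR MA := fun i => ⟨⟨T0 i, pk_lt _ _ pk0 i i.2⟩, actA i i.2⟩
theorem PRA_ : PR MA_ := fun i => ⟨⟨T1 i, pk_lt _ _ pk1 i i.2⟩, actA_ i i.2⟩
theorem PRB : PR MB := fun i => ⟨⟨T3 i, pk_lt _ _ pk3 i i.2⟩, actB i i.2⟩
theorem PRB_ : PR MB_ := fun i => ⟨⟨T5 i, pk_lt _ _ pk5 i i.2⟩, actB_ i i.2⟩

theorem PR_all (g : GL chevF4.Idx (ZMod 2)) (hg : g ∈ twistedF4 (ZMod 2) 1) : PR (g : Mt) := by
  unfold twistedF4 ChevalleyDatum.genSubgroup at hg
  induction hg using Subgroup.closure_induction with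
  | mem x hx =>
    obtain ⟨w, hw, hx⟩ := hx
    rw [hx]
    rcases words w hw with h | h | h | h | h | h | h | h | h <;> rw [h]
    · exact PR.one
    · exact PRA
    · exact PRA_
    · exact PRB
    · exact PRB_
    · exact PRB.mul PRB
    · exact PRB_.mul PRB_
    · exact (PRB.mul PRB).mul PRB
    · exact (PRB_.mul PRB_).mul PRB_
  | one => exact PR.one
  | mul x y _ _ hx hy => rw [Units.val_mul]; exact hx.mul hy
  | inv x _ hx =>
    have hp : ∀ k : ℕ, PR ((x ^ k : GL chevF4.Idx (ZMod 2)) : Mt) := by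
      intro k
      induction k with
      | zero => rw [pow_zero]; exact PR.one
      | succ k ih => rw [pow_succ, Units.val_mul]; exact ih.mul hx
    have e : x⁻¹ = x ^ (orderOf x - 1) := by
      rw [eq_comm, ← mul_eq_one_iff_eq_inv, ← pow_succ, Nat.sub_add_cancel (orderOf_pos x), pow_orderOf_eq_one]
    rw [e]
    exact hp _

theorem exists_rho' {G : Type*} [Group G] {n : ℕ} (A : G → V → V) (h1 : ∀ v, A 1 v = v) (hm : ∀ g h v, A (g * h) v = A g (A h v))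
    (f : Fin n → V) (hf : Function.Injective f) (hG : ∀ (g : G) (i : Fin n), ∃ j, A g (f i) = f j) :
    ∃ ρ : G →* Equiv.Perm (Fin n), ∀ g i, f (ρ g i) = A g (f i) := by
  choose r hr using hG
  have h1' : ∀ i, r 1 i = i := fun i => hf (by rw [← hr, h1])
  have h2 : ∀ g h i, r (g * h) i = r g (r h i) := fun g h i => hf (by rw [← hr, hm, hr, hr])
  exact ⟨{ toFun := fun g => { toFun := r g, invFun := r g⁻¹, left_inv := fun i => by rw [← h2, inv_mul_cancel, h1'],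
                                right_inv := fun i => by rw [← h2, mul_inv_cancel, h1'] }
           map_one' := Equiv.ext h1'
           map_mul' := fun g h => Equiv.ext (h2 g h) }, fun g i => (hr g i).symm⟩

theorem rho_ex : ∃ ρ : TG →* Equiv.Perm (Fin 1755), ∀ g i, fV (ρ g i) = ((g : GL chevF4.Idx (ZMod 2)) : Mt) *ᵥ fV i :=
  exists_rho' (fun (g : TG) v => ((g : GL chevF4.Idx (ZMod 2)) : Mt) *ᵥ v) (fun v => Matrix.one_mulVec v)
    (fun g h v => by
      change (((g * h : TG) : GL chevF4.Idx (ZMod 2)) : Mt) *ᵥ v = _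
      rw [Subgroup.coe_mul, Units.val_mul, ← Matrix.mulVec_mulVec]) fV fV_inj (fun g i => PR_all g g.2 i)

noncomputable def ρ : TG →* Equiv.Perm (Fin 1755) := rho_ex.choose

theorem ρ_spec (g : TG) (i : Fin 1755) : fV (ρ g i) = ((g : GL chevF4.Idx (ZMod 2)) : Mt) *ᵥ fV i := rho_ex.choose_spec g i

noncomputable def eA : TG := ⟨gA, mem_gA⟩
noncomputable def eA_ : TG := ⟨gA_, mem_gA_⟩
noncomputable def eB : TG := ⟨gB, mem_gB⟩
noncomputable def eB_ : TG := ⟨gB_, mem_gB_⟩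

theorem eA_coe : ((eA : GL chevF4.Idx (ZMod 2)) : Mt) = MA := rfl
theorem eA__coe : ((eA_ : GL chevF4.Idx (ZMod 2)) : Mt) = MA_ := rfl
theorem eB_coe : ((eB : GL chevF4.Idx (ZMod 2)) : Mt) = MB := rfl
theorem eB__coe : ((eB_ : GL chevF4.Idx (ZMod 2)) : Mt) = MB_ := rfl

/-- the six basic letters -/
noncomputable def s0 (l : ℕ) : TG :=
  if l = 0 then eA else if l = 1 then eA_ else if l = 2 then eB else if l = 3 then eB⁻¹
  else if l = 4 then eB_ else eB_⁻¹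

theorem pk_inv (t t' : ℕ → ℕ) (h : allR (ckPerm (nat_lit 1755) t t') (nat_lit 0) (nat_lit 1755) = true) (i : ℕ) (hi : i < 1755) :
    t' (t i) = i := (ckPerm_sound _ _ _ _ (allR_zero _ _ h i hi)).2

theorem tok : TableOK 1755 18 T' inv' where
  lt := by
    intro l hl i hi
    interval_cases l
    · exact pk_lt _ _ pk0 i hi
    · exact pk_lt _ _ pk1 i hi
    · exact pk_lt _ _ pk2 i hi
    · exact pk_lt _ _ pk3 i hi
    · exact pk_lt _ _ pk4 i hi
    · exact pk_lt _ _ pk5 i hi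
    · exact pk_lt _ _ pk6 i hi
    · exact pk_lt _ _ pk7 i hi
    · exact pk_lt _ _ pk8 i hi
    · exact pk_lt _ _ pk9 i hi
    · exact pk_lt _ _ pk10 i hi
    · exact pk_lt _ _ pk11 i hi
    · exact pk_lt _ _ pk12 i hi
    · exact pk_lt _ _ pk13 i hi
    · exact pk_lt _ _ pk14 i hi
    · exact pk_lt _ _ pk15 i hi
    · exact pk_lt _ _ pk16 i hi
    · exact pk_lt _ _ pk17 i hi
  inv_lt := by decide
  inv_inv := by decide
  inv_apply := by
    intro l hl i hi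
    interval_cases l
    · exact pk_inv _ _ pk0 i hi
    · exact pk_inv _ _ pk1 i hi
    · exact pk_inv _ _ pk2 i hi
    · exact pk_inv _ _ pk3 i hi
    · exact pk_inv _ _ pk4 i hi
    · exact pk_inv _ _ pk5 i hi
    · exact pk_inv _ _ pk6 i hi
    · exact pk_inv _ _ pk7 i hi
    · exact pk_inv _ _ pk8 i hi
    · exact pk_inv _ _ pk9 i hi
    · exact pk_inv _ _ pk10 i hi
    · exact pk_inv _ _ pk11 i hi
    · exact pk_inv _ _ pk12 i hi
    · exact pk_inv _ _ pk13 i hi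
    · exact pk_inv _ _ pk14 i hi
    · exact pk_inv _ _ pk15 i hi
    · exact pk_inv _ _ pk16 i hi
    · exact pk_inv _ _ pk17 i hi

theorem rho_of (g : TG) (M : Mt) (hM : ((g : GL chevF4.Idx (ZMod 2)) : Mt) = M) (t : ℕ → ℕ)
    (h : ∀ i < 1755, M *ᵥ dec (VC i) = dec (VC (t i)))
    (i : Fin 1755) (hlt : t i < 1755) : ((ρ g i : Fin 1755) : ℕ) = t i := by
  have h1 := ρ_spec g i
  rw [hM] at h1
  have h2 : fV (ρ g i) = fV ⟨t i, hlt⟩ := h1.trans (h i i.2)
  exact congrArg Fin.val (fV_inj h2)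

theorem hA : ρ eA = permL tok 0 := by
  ext i
  rw [permL_apply tok 0 (by decide), rho_of eA MA eA_coe T0 actA i (pk_lt _ _ pk0 i i.2)]
  rfl
theorem hA_ : ρ eA_ = permL tok 1 := by
  ext i
  rw [permL_apply tok 1 (by decide), rho_of eA_ MA_ eA__coe T1 actA_ i (pk_lt _ _ pk1 i i.2)]
  rfl
theorem hB : ρ eB = permL tok 2 := by
  ext i
  rw [permL_apply tok 2 (by decide), rho_of eB MB eB_coe T3 actB i (pk_lt _ _ pk3 i i.2)]
  rfl
theorem hB_ : ρ eB_ = permL tok 4 := by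
  ext i
  rw [permL_apply tok 4 (by decide), rho_of eB_ MB_ eB__coe T5 actB_ i (pk_lt _ _ pk5 i i.2)]
  rfl

theorem hpi : ∀ l, l < 18 → inv' l < 18 → inv' (inv' l) = l → (permL tok l)⁻¹ = permL tok (inv' l) := by
  intro l h1 h2 h3
  ext i
  rw [permL_inv_apply tok _ h1, permL_apply tok _ h2, h3]

theorem hBi : ρ eB⁻¹ = permL tok 3 := by
  rw [map_inv, hB, hpi 2 (by decide) (by decide) (by decide)]
  rfl
theorem hBi_ : ρ eB_⁻¹ = permL tok 5 := by
  rw [map_inv, hB_, hpi 4 (by decide) (by decide) (by decide)]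
  rfl

theorem s0_0 : s0 0 = eA := if_pos rfl
theorem s0_1 : s0 1 = eA_ := by unfold s0; rw [if_neg (by decide), if_pos rfl]
theorem s0_2 : s0 2 = eB := by unfold s0; rw [if_neg (by decide), if_neg (by decide), if_pos rfl]
theorem s0_3 : s0 3 = eB⁻¹ := by unfold s0; rw [if_neg (by decide), if_neg (by decide), if_neg (by decide), if_pos rfl]
theorem s0_4 : s0 4 = eB_ := by
  unfold s0; rw [if_neg (by decide), if_neg (by decide), if_neg (by decide), if_neg (by decide), if_pos rfl]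
theorem s0_5 : s0 5 = eB_⁻¹ := by
  unfold s0; rw [if_neg (by decide), if_neg (by decide), if_neg (by decide), if_neg (by decide), if_neg (by decide)]

theorem hρ0 : ∀ l < 6, ρ (s0 l) = permL tok l := by
  intro l hl
  have : l = 0 ∨ l = 1 ∨ l = 2 ∨ l = 3 ∨ l = 4 ∨ l = 5 := by omega
  rcases this with rfl | rfl | rfl | rfl | rfl | rfl
  · rw [s0_0]; exact hA
  · rw [s0_1]; exact hA_
  · rw [s0_2]; exact hB
  · rw [s0_3]; exact hBi
  · rw [s0_4]; exact hB_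
  · rw [s0_5]; exact hBi_

theorem hwb : ∀ i < bws.length, (∀ l ∈ bws.getD i [], l < 6 + 2 * i) ∧ inv' (6 + 2 * i) = 6 + 2 * i + 1 ∧
    ∀ j < 1755, trN T' (bws.getD i []) j = T' (6 + 2 * i) j := by
  intro i hi
  have hl : bws.length = 6 := by decide
  rw [hl] at hi
  interval_cases i
  · exact ⟨by decide, by decide, fun j hj => OT.ckEqW_sound (T := T') [0, 1, 0, 2, 4, 3, 5] [6] j (allR_zero _ _ wk0 j hj)⟩
  · exact ⟨by decide, by decide, fun j hj => OT.ckEqW_sound (T := T') [0, 1, 2, 4, 1, 5, 2] [8] j (allR_zero _ _ wk1 j hj)⟩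
  · exact ⟨by decide, by decide, fun j hj => OT.ckEqW_sound (T := T') [8, 8, 8, 6, 8, 8, 7, 8, 8] [10] j (allR_zero _ _ wk2 j hj)⟩
  · exact ⟨by decide, by decide, fun j hj => OT.ckEqW_sound (T := T') [7, 7, 8, 8, 8, 8, 6, 8, 8] [12] j (allR_zero _ _ wk3 j hj)⟩
  · exact ⟨by decide, by decide, fun j hj => OT.ckEqW_sound (T := T') [10, 12, 11, 13, 11, 12, 11] [14] j (allR_zero _ _ wk4 j hj)⟩
  · exact ⟨by decide, by decide, fun j hj => OT.ckEqW_sound (T := T') [12, 12, 11, 13, 13, 11, 12, 12] [16] j (allR_zero _ _ wk5 j hj)⟩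

noncomputable def s : Nat → TG := OT.extI s0 6 bws

theorem hρ : ∀ l < 18, ρ (s l) = permL tok l := OT.extI_rho tok ρ bws s0 6 (fun l hl => hρ0 l hl) (by decide) hwb

theorem s_lt (l : Nat) (h : l < 6) : s l = s0 l := OT.extI_lt _ _ _ l h

end Cfsg.Agent.H8.Tits
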