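import Cfsg.Agent.H8.TitsMain

/-!
# Every involution of `²F₄(2)` lies in the derived subgroup
-/

set_option Elab.async false
set_option autoImplicit false
set_option linter.all false
set_option maxRecDepth 100000
set_option maxHeartbeats 1000000

namespace Cfsg.Agent.H8.Tits

open Cfsg.Lie

def K10 : List (List Nat) := [[], [16], [14], [14, 16], [14, 14], [14, 14, 16], [14, 14, 14], [14, 14, 14, 16], [14, 14, 14, 14], [14, 14, 14, 14, 16]]
def M10 : List (List Nat) := [[4], [4, 16], [4, 14], [4, 14, 16], [4, 14, 14], [4, 14, 14, 16], [4, 14, 14, 14], [4, 14, 14, 14, 16], [4, 14, 14, 14, 14], [4, 14, 14, 14, 14, 16]]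
def imgs : List Nat := [19, 54, 89, 35, 38, 90, 51, 22, 74, 73]

theorem imgs_ok : ∀ z < 1755, tQ2 z ≠ 0 → z ∈ imgs := by
  have h : allR (fun z => @Nat.rec (fun _ => Bool) true (fun _ _ => imgs.contains z) (tQ2 z)) (nat_lit 0) (nat_lit 1755) = true := by
    decide +kernel
  intro z hz h1
  have h2 := natrec_true (allR_zero _ _ h z hz) h1
  exact List.contains_iff_mem.1 h2

theorem imgs_word : ∀ z ∈ imgs, ∃ w ∈ K10, trN T' w 19 = z := by decide +kernel

theorem K10_of (k : TG) (hk : k ∈ wordGroup s tG2) : ∃ w ∈ K10, k = (w.map s).prod := by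
  have h1 := Tsift.orb2 k hk
  obtain ⟨w, hw, h2⟩ := imgs_word _ (imgs_ok _ (act ρ p2 k).2 h1)
  have hwL : ∀ w ∈ K10, ∀ l ∈ w, l < 18 := by decide
  have hw2 : ∀ w ∈ K10, trN T' w 0 = 0 ∧ trN T' w 731 = 731 := by decide +kernel
  refine ⟨w, hw, ?_⟩
  have hk0 : act ρ p0 k = p0 := by
    rw [act_eq_iff]
    exact wordGroup_le_stabOf s tok ρ hρ tG2 p0 (by decide +kernel) hk
  have hk1 : act ρ p1 k = p1 := by
    rw [act_eq_iff]
    exact wordGroup_le_stabOf s tok ρ hρ tG2 p1 (by decide +kernel) hk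
  have hw0 : act ρ p0 (w.map s).prod = p0 := by
    apply Fin.ext; rw [act_word s tok ρ hρ p0 w (hwL w hw)]; exact (hw2 w hw).1
  have hw1 : act ρ p1 (w.map s).prod = p1 := by
    apply Fin.ext; rw [act_word s tok ρ hρ p1 w (hwL w hw)]; exact (hw2 w hw).2
  have hw3 : act ρ p2 (w.map s).prod = act ρ p2 k := by
    apply Fin.ext; rw [act_word s tok ρ hρ p2 w (hwL w hw)]; exact h2
  have inv_act : ∀ (x y : Fin 1755) (g : TG), act ρ x g = y → act ρ y g⁻¹ = x := by
    intro x y g h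
    rw [← h, ← act_mul, mul_inv_cancel, act_one]
  apply mul_inv_eq_one.1
  apply Zbase
  · rw [act_mul, hk0]; exact inv_act _ _ _ hw0
  · rw [act_mul, hk1]; exact inv_act _ _ _ hw1
  · rw [act_mul]; exact inv_act _ _ _ hw3

theorem M10_of (m : TG) (hm : m ∉ wordGroup s tG0) (h0 : act ρ p0 m = p0) (h1 : act ρ p1 m = p1) :
    ∃ w ∈ M10, m = (w.map s).prod := by
  have inv_act : ∀ (x y : Fin 1755) (g : TG), act ρ x g = y → act ρ y g⁻¹ = x := by
    intro x y g h
    rw [← h, ← act_mul, mul_inv_cancel, act_one]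
  have hk : (s 4)⁻¹ * m ∈ wordGroup s tG0 := by
    rw [Subgroup.mul_mem_iff_of_index_two T_index, Subgroup.inv_mem_iff]
    exact iff_of_false s4_not hm
  have hk1 := Tsift.lev0 _ hk (by rw [act_mul, inv_act _ _ _ s4_fix.1]; exact h0)
  have hk2 := Tsift.lev1 _ hk1 (by rw [act_mul, inv_act _ _ _ s4_fix.2]; exact h1)
  obtain ⟨w, hw, h2⟩ := K10_of _ hk2
  have key : ∀ w ∈ K10, (4 :: w) ∈ M10 := by decide
  refine ⟨4 :: w, key w hw, ?_⟩
  rw [List.map_cons, List.prod_cons, ← h2, mul_inv_cancel_left]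

/-- for all words -/
noncomputable def allM (P : List (Nat → Nat) → Bool) (ms : List (List (Nat → Nat))) : Bool :=
  @List.rec (List (Nat → Nat)) (fun _ => Bool) true (fun m _ ih => band (P m) ih) ms

theorem allM_spec (P : List (Nat → Nat) → Bool) (ms : List (List (Nat → Nat))) (h : allM P ms = true) : ∀ m ∈ ms, P m = true := by
  induction ms with
  | nil => intro m hm; simp at hm
  | cons a l ih =>
    have h' : band (P a) (allM P l) = true := h
    rw [band_eq_true] at h'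
    intro m hm
    rcases List.mem_cons.1 hm with rfl | hm
    · exact h'.1
    · exact ih h'.2 m hm

/-- the square of the element moves the third base point -/
noncomputable def endI (m : List (Nat → Nat)) (b2 : Nat) (zs : List Nat) : Bool :=
  @List.rec Nat (fun _ => Bool) false (fun z _ _ => trT m (fun z' => @Bool.rec (fun _ => Bool) true false (Nat.beq z' b2)) z) zs

noncomputable def tstI (Q1 : Nat → Nat) (fg1 : List (List (Nat → Nat))) (b1 b2 fuel x y1 y2 : Nat) (m : List (Nat → Nat)) : Bool :=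
  trT m (fun z => @Bool.rec (fun _ => Bool) true (trT m (fun q => walkF Q1 fg1 b1 (endI m b2) fuel x [q]) y2) (Nat.beq z x)) y1

noncomputable def conI (Q1 : Nat → Nat) (fg1 : List (List (Nat → Nat))) (b1 b2 fuel : Nat) (ms : List (List (Nat → Nat))) (x : Nat)
    (ys : List Nat) : Bool :=
  @List.rec Nat (fun _ => Bool) false (fun y1 rest _ => @List.rec Nat (fun _ => Bool) false
    (fun y2 _ _ => allM (tstI Q1 fg1 b1 b2 fuel x y1 y2) ms) rest) ys

noncomputable def ckI (Q1 : Nat → Nat) (fg1 : List (List (Nat → Nat))) (b1 b2 fuel : Nat) (ms : List (List (Nat → Nat))) (x : Nat) : Bool :=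
  @Nat.rec (fun _ => Bool) true (fun _ _ => walkF Q1 fg1 b1 (conI Q1 fg1 b1 b2 fuel ms x) fuel x [b1, b2]) (Q1 x)

theorem inv_ck : allR (ckI tQ1 [[T10], [T11], [T12], [T13], [T14], [T15], [T16]] (nat_lit 731) (nat_lit 19) (nat_lit 12) [[T4], [T4, T16], [T4, T14], [T4, T14, T16], [T4, T14, T14], [T4, T14, T14, T16], [T4, T14, T14, T14], [T4, T14, T14, T14, T16], [T4, T14, T14, T14, T14], [T4, T14, T14, T14, T14, T16]]) (nat_lit 0) (nat_lit 1755) = true := by
  decide +kernel

theorem no_outer (g : TG) (hg : g ∉ wordGroup s tG0) (h0 : act ρ p0 g = p0) (h2 : g * g = 1) : False := by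
  have inv_act : ∀ (x y : Fin 1755) (g : TG), act ρ x g = y → act ρ y g⁻¹ = x := by
    intro x y g h
    rw [← h, ← act_mul, mul_inv_cancel, act_one]
  have hk : (s 4)⁻¹ * g ∈ wordGroup s tG0 := by
    rw [Subgroup.mul_mem_iff_of_index_two T_index, Subgroup.inv_mem_iff]
    exact iff_of_false s4_not hg
  have hk1 := Tsift.lev0 _ hk (by rw [act_mul, inv_act _ _ _ s4_fix.1]; exact h0)
  set x := act ρ p1 g with hx
  have hx1 : tQ1 (x : Fin 1755) ≠ 0 := by
    have h3 := Tsift.orb1 _ hk1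
    rwa [act_mul, inv_act _ _ _ s4_fix.2] at h3
  have hGL : ∀ w ∈ tG1, ∀ l ∈ w, l < 18 := by decide
  obtain ⟨v, hv, _, hspec⟩ := walk_spec s tok ρ hρ (wordGroup s tG1) p1 tQ1 tG1 hGL
    (fun w hw => mem_wordGroup s tG1 w hw) 12 x
  have hc := allR_zero _ _ inv_ck x x.2
  have hc' := natrec_true hc hx1
  obtain ⟨h3, h4⟩ := hspec _ [p1, p2] hc'
  have hvK : v ∈ wordGroup s tG0 := wordGroup_mono s tG0 tG1 (by decide) hv
  have hv0 : act ρ p0 v = p0 := by
    rw [act_eq_iff]
    exact wordGroup_le_stabOf s tok ρ hρ tG1 p0 (by decide +kernel) hv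
  -- `g = v m`
  have hm : v⁻¹ * g ∉ wordGroup s tG0 := by
    rw [Subgroup.mul_mem_iff_of_index_two T_index, Subgroup.inv_mem_iff]
    intro h; exact hg (h.1 hvK)
  have hgi : g⁻¹ = g := inv_eq_of_mul_eq_one_right h2
  obtain ⟨w, hw, hwm⟩ := M10_of (v⁻¹ * g) hm (by rw [act_mul, inv_act _ _ _ hv0]; exact h0)
    (by
      rw [act_mul, inv_act _ _ _ h3]
      have : act ρ (act ρ p1 g) g = p1 := by rw [← act_mul, h2, act_one]
      exact this)
  have hge : g = v * (w.map s).prod := by rw [← hwm, mul_inv_cancel_left]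
  have hML : ∀ w ∈ M10, ∀ l ∈ w, l < 18 := by decide
  have hwL := hML w hw
  have h5 : allM (tstI tQ1 (tG1.map (·.map T')) 731 19 12 x ((act ρ p1 v : Fin 1755) : Nat) ((act ρ p2 v : Fin 1755) : Nat))
    (M10.map (·.map T')) = true := h4
  have h6 := allM_spec _ _ h5 (w.map T') (List.mem_map.2 ⟨w, hw, rfl⟩)
  unfold tstI at h6
  rw [trT_eq] at h6
  have e1 : trN T' w ((act ρ p1 v : Fin 1755) : Nat) = x := by
    rw [← act_word s tok ρ hρ _ w hwL, ← act_mul, ← hge]
  rw [e1, Nat.beq_refl] at h6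
  have h6' : trT (w.map T') (fun q => walkF tQ1 (tG1.map (·.map T')) 731 (endI (w.map T') 19) 12 x [q])
    ((act ρ p2 v : Fin 1755) : Nat) = true := h6
  rw [trT_eq, ← act_word s tok ρ hρ _ w hwL, ← act_mul, ← hge] at h6'
  obtain ⟨_, h7⟩ := hspec _ [act ρ p2 g] h6'
  have h7' : trT (w.map T') (fun z' => @Bool.rec (fun _ => Bool) true false (Nat.beq z' 19))
    ((act ρ (act ρ p2 g) v : Fin 1755) : Nat) = true := h7
  rw [trT_eq, ← act_word s tok ρ hρ _ w hwL, ← act_mul, ← hge, ← act_mul, h2, act_one] at h7'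
  exact absurd h7' (by decide)

theorem invol (g : TG) (hg : orderOf g = 2) : g ∈ commutator TG := by
  by_contra hn
  have hg2 : g ^ 2 = 1 := orderOf_dvd_iff_pow_eq_one.mp (dvd_of_eq hg)
  haveI : Fact (Nat.Prime 2) := ⟨Nat.prime_two⟩
  obtain ⟨p, hp⟩ := Equiv.Perm.exists_fixed_point_of_prime (p := 2) (n := 1) (α := Fin 1755) (by rw [Fintype.card_fin]; decide)
    (σ := ρ g) (by rw [pow_one, ← map_pow, hg2, map_one])
  have hp' : act ρ p g = p := by rw [act_eq_iff]; exact hp
  obtain ⟨h, _, hh⟩ := reach s tok ρ hρ tQ0 tG0 (by decide) p0 (fun i hi => allR_zero _ _ tr0 i hi) p (by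
    have key : allR (fun i => Nat.ble (nat_lit 1) (tQ0 i)) (nat_lit 0) (nat_lit 1755) = true := by decide +kernel
    have h1 : 1 ≤ tQ0 p := Nat.le_of_ble_eq_true (allR_zero _ _ key p p.2)
    omega)
  -- `ρ h p0 = p`, i.e. `act p h = p0`
  have hh' : act ρ p h = p0 := by unfold act; rw [Equiv.Perm.inv_eq_iff_eq]; exact hh.symm
  have hh2 : act ρ p0 h⁻¹ = p := by rw [← hh', ← act_mul, mul_inv_cancel, act_one]
  apply no_outer (h⁻¹ * g * h)
  · intro hmem
    apply hn
    rw [comm_eq]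
    rw [← comm_eq] at hmem ⊢
    have := (inferInstance : (commutator TG).Normal).conj_mem _ hmem h
    have e : h * (h⁻¹ * g * h) * h⁻¹ = g := by group
    rwa [e] at this
  · rw [act_mul, act_mul, hh2, hp', hh']
  · have e : h⁻¹ * g * h * (h⁻¹ * g * h) = h⁻¹ * (g ^ 2) * h := by
      rw [pow_two]; simp only [mul_assoc, mul_inv_cancel_left]
    rw [e, hg2]; group

end Cfsg.Agent.H8.Tits
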