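import Cfsg.Agent.H8.TitsG
import Cfsg.Agent.H8.T.TiZ

/-!
# Stabiliser chains of `²F₄(2)` and of its derived subgroup
-/

set_option Elab.async false
set_option autoImplicit false
set_option linter.all false
set_option maxRecDepth 100000
set_option maxHeartbeats 1000000

namespace Cfsg.Agent.H8.Tits

open Cfsg.Lie

abbrev p0 : Fin 1755 := ⟨0, by decide⟩
abbrev p1 : Fin 1755 := ⟨731, by decide⟩
abbrev p2 : Fin 1755 := ⟨19, by decide⟩

theorem Zchain : wordGroup s zG0 = ⊤ ∧ (∀ g ∈ wordGroup s zG0, act ρ p0 g = p0 → g ∈ wordGroup s zG1) ∧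
    (∀ g ∈ wordGroup s zG1, act ρ p1 g = p1 → g ∈ wordGroup s zG2) ∧
    (∀ g ∈ wordGroup s zG2, act ρ p2 g = p2 → g ∈ wordGroup s ([] : List (List Nat))) := by
  have k0 := card_step s tok ρ hρ zQ0 1755 zG0 zG1 (by decide) p0 zr0 zc0 (by decide) (by decide +kernel) inferInstance
  have k1 := card_step s tok ρ hρ zQ1 1024 zG1 zG2 (by decide) p1 zr1 zc1 (by decide) (by decide +kernel) inferInstance
  have k2 := card_step s tok ρ hρ zQ2 20 zG2 ([] : List (List Nat)) (by decide) p2 zr2 zc2 (by decide) (by decide +kernel) inferInstance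
  have k : Nat.card (wordGroup s zG0) ≤ 35942400 := by rw [← card_TG]; exact Subgroup.card_le_card_group _
  have kl : 0 < Nat.card (wordGroup s ([] : List (List Nat))) := Nat.card_pos
  have e0 : Nat.card (wordGroup s zG0) = 35942400 := by omega
  have e1 : Nat.card (wordGroup s zG1) = 20480 := by omega
  have e2 : Nat.card (wordGroup s zG2) = 20 := by omega
  have e3 : Nat.card (wordGroup s ([] : List (List Nat))) = 1 := by omega
  have x0 := exact_step s tok ρ zQ0 1755 zG0 zG1 (by decide) p0 zr0 zc0 (by decide) (by decide +kernel) inferInstance hρ (by rw [e0, e1])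
  have x1 := exact_step s tok ρ zQ1 1024 zG1 zG2 (by decide) p1 zr1 zc1 (by decide) (by decide +kernel) inferInstance hρ (by rw [e1, e2])
  have x2 := exact_step s tok ρ zQ2 20 zG2 ([] : List (List Nat)) (by decide) p2 zr2 zc2 (by decide) (by decide +kernel) inferInstance hρ (by rw [e2, e3])
  exact ⟨Subgroup.eq_top_of_card_eq _ (by rw [e0, card_TG]), x0.2, x1.2, x2.2⟩

theorem Zbot : wordGroup s ([] : List (List Nat)) = ⊥ := by
  unfold wordGroup
  rw [eq_bot_iff, Subgroup.closure_le]
  rintro g ⟨w, hw, _⟩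
  simp at hw

/-- an element fixing the base is trivial. -/
theorem Zbase (g : TG) (h0 : act ρ p0 g = p0) (h1 : act ρ p1 g = p1) (h2 : act ρ p2 g = p2) : g = 1 := by
  have g0 : g ∈ wordGroup s zG0 := by rw [Zchain.1]; exact Subgroup.mem_top g
  have g1 := Zchain.2.1 g g0 h0
  have g2 := Zchain.2.2.1 g g1 h1
  have g3 := Zchain.2.2.2 g g2 h2
  rw [Zbot] at g3
  exact Subgroup.mem_bot.1 g3

theorem ρ_inj : Function.Injective ρ := by
  rw [injective_iff_map_eq_one]
  intro g hg
  have : ∀ i, act ρ i g = i := by intro i; unfold act; rw [hg]; rfl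
  exact Zbase g (this _) (this _) (this _)

theorem weq (u v : List Nat) (hu : ∀ l ∈ u, l < 18) (hv : ∀ l ∈ v, l < 18)
    (h : ∀ i ∈ ([0, 731, 19] : List Nat), trN T' u i = trN T' v i) : (u.map s).prod = (v.map s).prod := by
  have key : ∀ b : Fin 1755, (b : Nat) ∈ ([0, 731, 19] : List Nat) → act ρ b ((u.map s).prod * ((v.map s).prod)⁻¹) = b := by
    intro b hb
    have h1 : act ρ b (u.map s).prod = act ρ b (v.map s).prod := by
      apply Fin.ext
      rw [act_word s tok ρ hρ b u hu, act_word s tok ρ hρ b v hv]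
      exact h b hb
    rw [act_mul, h1, ← act_mul, mul_inv_cancel, act_one]
  exact mul_inv_eq_one.1 (Zbase _ (key p0 (by decide)) (key p1 (by decide)) (key p2 (by decide)))

theorem wd (l : Nat) : (([l] : List Nat).map s).prod = s l := by
  rw [List.map_singleton, List.prod_singleton]

theorem s_inv (l : Nat) (hl : l < 18) : s (inv' l) = (s l)⁻¹ := by
  apply ρ_inj
  rw [map_inv, hρ l hl, hρ _ (tok.inv_lt l hl), hpi l hl (tok.inv_lt l hl) (tok.inv_inv l hl)]

theorem wg_eq (g t : List (List Nat)) (h1 : ∀ w ∈ t, w ∈ g) (h2 : ∀ w ∈ g, ∃ l < 18, w = [l] ∧ ([l] ∈ t ∨ [inv' l] ∈ t)) :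
    wordGroup s g = wordGroup s t := by
  apply le_antisymm
  · unfold wordGroup
    rw [Subgroup.closure_le]
    rintro x ⟨w, hw, rfl⟩
    obtain ⟨l, hl, rfl, h | h⟩ := h2 w hw
    · exact Subgroup.subset_closure ⟨_, h, rfl⟩
    · have h3 : ((([inv' l] : List Nat)).map s).prod ∈ Subgroup.closure {g | ∃ w ∈ t, g = (w.map s).prod} :=
        Subgroup.subset_closure ⟨_, h, rfl⟩
      rw [wd, s_inv l hl] at h3
      have h4 := Subgroup.inv_mem _ h3
      rw [inv_inv] at h4
      rw [wd]
      exact h4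
  · exact wordGroup_mono s g t h1

/-! ### The derived subgroup -/

def t0 : List (List Nat) := [[6], [8], [10], [12], [14], [16]]
def t1 : List (List Nat) := [[10], [12], [14], [16]]
def t2 : List (List Nat) := [[14], [16]]

theorem Tsift : SiftOK ρ (wordGroup s tG0) (wordGroup s tG1) (wordGroup s tG2) p0 p1 p2 tQ1 tQ2 := by
  have hbd : ∀ i < 1755, U1 i < 1755 ∧ U2 i < 1755 ∧ V2 i < 1755 := by
    intro i hi
    have h := allR_zero _ _ sbd i hi
    rw [band_eq_true, band_eq_true] at h
    exact ⟨Nat.le_of_ble_eq_true h.1, Nat.le_of_ble_eq_true h.2.1, Nat.le_of_ble_eq_true h.2.2⟩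
  refine sift_ok s tok ρ hρ tG0 tG1 tG2 t0 t1 t2 p0 p1 p2 tQ0 tQ1 tQ2 U1 U2 V2 12 (by decide) (by decide) (by decide) (by decide) (by decide)
    (fun i hi => ⟨(hbd i hi).1, (hbd i hi).2.1⟩) (fun i hi => (hbd i hi).2.2) (by decide) (by decide) (by decide)
    (wg_eq _ _ (by decide) (by decide)) (wg_eq _ _ (by decide) (by decide)) (wg_eq _ _ (by decide) (by decide)) ?_ ?_ Zbase
    (by decide +kernel) (by decide +kernel) ?_ (fun i hi => allR_zero _ _ su i hi) (fun i hi => allR_zero _ _ sv i hi) ?_ ?_ ?_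
  · intro g hg
    rw [act_eq_iff]
    exact wordGroup_le_stabOf s tok ρ hρ tG1 p0 (by decide +kernel) hg
  · intro g hg
    rw [act_eq_iff]
    exact wordGroup_le_stabOf s tok ρ hρ tG2 p1 (by decide +kernel) hg
  · intro z hz
    obtain ⟨g, hg, h⟩ := reach s tok ρ hρ tQ2 tG2 (by decide) p2 (fun i hi => allR_zero _ _ tr2 i hi) z hz
    exact ⟨g⁻¹, Subgroup.inv_mem _ hg, by unfold act; rw [map_inv, inv_inv]; exact h⟩
  · intro w hw i hi
    simp only [t0, List.mem_cons, List.mem_nil_iff, or_false] at hw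
    rcases hw with rfl | rfl | rfl | rfl | rfl | rfl
    · exact allR_zero _ _ sa6 i hi
    · exact allR_zero _ _ sa8 i hi
    · exact allR_zero _ _ sa10 i hi
    · exact allR_zero _ _ sa12 i hi
    · exact allR_zero _ _ sa14 i hi
    · exact allR_zero _ _ sa16 i hi
  · intro w hw i hi
    simp only [t1, List.mem_cons, List.mem_nil_iff, or_false] at hw
    rcases hw with rfl | rfl | rfl | rfl
    · exact allR_zero _ _ sb10 i hi
    · exact allR_zero _ _ sb12 i hi
    · exact allR_zero _ _ sb14 i hi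
    · exact allR_zero _ _ sb16 i hi
  · intro w hw i hi
    simp only [t2, List.mem_cons, List.mem_nil_iff, or_false] at hw
    rcases hw with rfl | rfl
    · exact allR_zero _ _ sc14 i hi
    · exact allR_zero _ _ sc16 i hi

theorem s4_fix : act ρ p0 (s 4) = p0 ∧ act ρ p1 (s 4) = p1 := by
  constructor
  · apply Fin.ext
    have := act_word s tok ρ hρ p0 [4] (by decide)
    rw [wd] at this
    rw [this]
    decide +kernel
  · apply Fin.ext
    have := act_word s tok ρ hρ p1 [4] (by decide)
    rw [wd] at this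
    rw [this]
    decide +kernel

theorem s4_not : s 4 ∉ wordGroup s tG0 := by
  intro h
  have h1 := Tsift.lev0 _ h s4_fix.1
  have h2 := Tsift.lev1 _ h1 s4_fix.2
  have h3 := Tsift.orb2 _ h2
  have h4 := act_word s tok ρ hρ p2 [4] (by decide)
  rw [wd] at h4
  rw [h4] at h3
  exact h3 (by decide +kernel)

theorem T_ge : 17971200 ≤ Nat.card (wordGroup s tG0) := by
  have k0 := card_step s tok ρ hρ tQ0 1755 tG0 tG1 (by decide) p0 tr0 tc0 (by decide) (by decide +kernel) inferInstance
  have k1 := card_step s tok ρ hρ tQ1 1024 tG1 tG2 (by decide) p1 tr1 tc1 (by decide) (by decide +kernel) inferInstance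
  have k2 := card_step s tok ρ hρ tQ2 10 tG2 ([] : List (List Nat)) (by decide) p2 tr2 tc2 (by decide) (by decide +kernel) inferInstance
  have kl : 0 < Nat.card (wordGroup s ([] : List (List Nat))) := Nat.card_pos
  omega

theorem T_index : (wordGroup s tG0).index = 2 := by
  have h1 := (wordGroup s tG0).card_mul_index
  rw [card_TG] at h1
  have h2 := T_ge
  have h3 : (wordGroup s tG0).index ≠ 1 := by
    intro h
    rw [Subgroup.index_eq_one] at h
    exact s4_not (by rw [h]; exact Subgroup.mem_top _)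
  have h4 : (wordGroup s tG0).index ≠ 0 := Subgroup.index_ne_zero_of_finite
  have h5 : (wordGroup s tG0).index < 3 := by
    by_contra h
    push Not at h
    have : 17971200 * 3 ≤ Nat.card (wordGroup s tG0) * (wordGroup s tG0).index := Nat.mul_le_mul h2 h
    omega
  omega

theorem T_card : Nat.card (wordGroup s tG0) = 17971200 := by
  have h1 := (wordGroup s tG0).card_mul_index
  rw [card_TG, T_index] at h1
  omega

theorem comm_le : commutator TG ≤ wordGroup s tG0 := by
  have hi := T_index
  rw [commutator_def, Subgroup.commutator_le]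
  intro x _ y _
  rw [commutatorElement_def]
  have h := fun a b => @Subgroup.mul_mem_iff_of_index_two TG _ (wordGroup s tG0) hi a b
  rw [h, h, h, Subgroup.inv_mem_iff, Subgroup.inv_mem_iff]
  have key : ∀ P Q : Prop, (((P ↔ Q) ↔ P) ↔ Q) := by
    intro P Q
    by_cases hP : P <;> by_cases hQ : Q <;> simp [hP, hQ]
  exact key _ _

theorem ab_lemma {H : Type*} [CommGroup H] (a c b d : H) (a2 : a ^ 2 = 1) (c2 : c ^ 2 = 1) (b4 : b ^ 4 = 1) (d4 : d ^ 4 = 1)
    (r1 : (a * c) ^ 3 = 1) (r2 : (b * d⁻¹) ^ 5 = 1) (r3 : (a * (c * (a * (b * (d * (b⁻¹ * d⁻¹)))))) ^ 13 = 1)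
    (r4 : (a * (c * (b * (d * (c * (d⁻¹ * b)))))) ^ 13 = 1) : a = 1 ∧ c = 1 ∧ b = d ∧ b ^ 2 = 1 := by
  have h1 : a * c = 1 := by
    have : (a * c) ^ 3 = a * c := by rw [pow_succ, mul_pow, a2, c2, one_mul, one_mul]
    rw [← this, r1]
  have h2 : b * (d * (b⁻¹ * d⁻¹)) = 1 := by rw [← mul_inv, ← mul_assoc, mul_inv_cancel]
  have h3 : c = 1 := by
    have e : a * (c * (a * (b * (d * (b⁻¹ * d⁻¹))))) = c := by
      rw [h2, mul_one, mul_comm c a, ← mul_assoc, ← pow_two, a2, one_mul]
    rw [e] at r3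
    have : c ^ 13 = c := by
      calc c ^ 13 = (c ^ 2) ^ 6 * c := by rw [← pow_mul, ← pow_succ]
        _ = c := by rw [c2, one_pow, one_mul]
    rw [← this, r3]
  have h4 : a = 1 := by rwa [h3, mul_one] at h1
  have h5 : b * d⁻¹ = 1 := by
    have : (b * d⁻¹) ^ 5 = b * d⁻¹ := by rw [pow_succ, mul_pow, b4, inv_pow, d4, inv_one, one_mul, one_mul]
    rw [← this, r2]
  have h6 : b = d := mul_inv_eq_one.1 h5
  refine ⟨h4, h3, h6, ?_⟩
  rw [h4, h3, one_mul, one_mul, one_mul, ← h6, inv_mul_cancel, mul_one, ← pow_two] at r4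
  have : (b ^ 2) ^ 13 = b ^ 2 := by
    calc (b ^ 2) ^ 13 = (b ^ 4) ^ 6 * b ^ 2 := by rw [← pow_mul, ← pow_mul, ← pow_add]
      _ = b ^ 2 := by rw [b4, one_pow, one_mul]
  rw [← this, r4]

theorem ab_letters : ∀ l ∈ ([6, 7, 8, 9, 10, 11, 12, 13, 14, 15, 16] : List Nat), Abelianization.of (s l) = 1 := by
  set A : TG →* Abelianization TG := Abelianization.of with hA
  have rel : ∀ u : List Nat, (∀ l ∈ u, l < 18) → (∀ i ∈ ([0, 731, 19] : List Nat), trN T' u i = trN T' [] i) →
      (u.map fun l => A (s l)).prod = 1 := by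
    intro u hu h
    have h1 := weq u [] hu (by simp) h
    rw [List.map_nil, List.prod_nil] at h1
    have h2 := congrArg A h1
    rw [map_one, map_list_prod, List.map_map] at h2
    exact h2
  have inv : ∀ l < 18, A (s (inv' l)) = (A (s l))⁻¹ := by
    intro l hl
    rw [s_inv l hl, map_inv]
  have i3 : A (s 3) = (A (s 2))⁻¹ := inv 2 (by decide)
  have i5 : A (s 5) = (A (s 4))⁻¹ := inv 4 (by decide)
  have a2 : A (s 0) ^ 2 = 1 := by
    have := rel [0, 0] (by decide) (by decide +kernel)
    simpa [pow_succ] using this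
  have c2 : A (s 1) ^ 2 = 1 := by
    have := rel [1, 1] (by decide) (by decide +kernel)
    simpa [pow_succ] using this
  have b4 : A (s 2) ^ 4 = 1 := by
    have := rel [2, 2, 2, 2] (by decide) (by decide +kernel)
    simpa [pow_succ, mul_assoc] using this
  have d4 : A (s 4) ^ 4 = 1 := by
    have := rel [4, 4, 4, 4] (by decide) (by decide +kernel)
    simpa [pow_succ, mul_assoc] using this
  have wpow : ∀ (w : List Nat) (k : ℕ), (∀ l ∈ w, l < 18) →
      (∀ i ∈ ([0, 731, 19] : List Nat), (trN T' w)^[k] i = i) → ((w.map fun l => A (s l)).prod) ^ k = 1 := by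
    intro w k hw h
    have key : ∀ b : Fin 1755, (b : Nat) ∈ ([0, 731, 19] : List Nat) → act ρ b ((w.map s).prod ^ k) = b := by
      intro b hb
      apply Fin.ext
      rw [act_pow]
      have e : ∀ j : ℕ, ∀ x : Fin 1755, (((fun x => act ρ x (w.map s).prod)^[j] x : Fin 1755) : ℕ) = (trN T' w)^[j] x := by
        intro j
        induction j with
        | zero => intro x; rfl
        | succ j ih =>
          intro x
          rw [Function.iterate_succ_apply, Function.iterate_succ_apply, ih]
          congr 1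
          exact act_word s tok ρ hρ x w hw
      rw [e]
      exact h b hb
    have h1 := Zbase _ (key p0 (by decide)) (key p1 (by decide)) (key p2 (by decide))
    have h2 := congrArg A h1
    rw [map_one, map_pow, map_list_prod, List.map_map] at h2
    exact h2
  have r1 : (A (s 0) * A (s 1)) ^ 3 = 1 := by
    have := wpow [0, 1] 3 (by decide) (by decide +kernel)
    simpa using this
  have r2 : (A (s 2) * A (s 5)) ^ 5 = 1 := by
    have := wpow [2, 5] 5 (by decide) (by decide +kernel)
    simpa using this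
  have r3 : (A (s 0) * (A (s 1) * (A (s 0) * (A (s 2) * (A (s 4) * (A (s 3) * A (s 5))))))) ^ 13 = 1 := by
    have := wpow [0, 1, 0, 2, 4, 3, 5] 13 (by decide) (by decide +kernel)
    simpa using this
  have r4 : (A (s 0) * (A (s 1) * (A (s 2) * (A (s 4) * (A (s 1) * (A (s 5) * A (s 2))))))) ^ 13 = 1 := by
    have := wpow [0, 1, 2, 4, 1, 5, 2] 13 (by decide) (by decide +kernel)
    simpa using this
  rw [i5] at r2
  rw [i3, i5] at r3
  rw [i5] at r4
  obtain ⟨h0, h1, h24, h22⟩ := ab_lemma _ _ _ _ a2 c2 b4 d4 r1 r2 r3 r4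
  have wl : ∀ (l : Nat) (w : List Nat), l < 18 → (∀ l ∈ w, l < 18) →
      (∀ i ∈ ([0, 731, 19] : List Nat), trN T' [l] i = trN T' w i) → A (s l) = (w.map fun l => A (s l)).prod := by
    intro l w hl hw h
    have h1 := weq [l] w (by intro m hm; rw [List.mem_singleton] at hm; rw [hm]; exact hl) hw h
    rw [wd] at h1
    rw [h1, map_list_prod, List.map_map]
    rfl
  have e6 : A (s 6) = 1 := by
    rw [wl 6 [0, 1, 0, 2, 4, 3, 5] (by decide) (by decide) (by decide +kernel)]
    simp only [List.map_cons, List.map_nil, List.prod_cons, List.prod_nil]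
    rw [i3, i5, h0, h1, h24]
    simp
  have e8 : A (s 8) = 1 := by
    rw [wl 8 [0, 1, 2, 4, 1, 5, 2] (by decide) (by decide) (by decide +kernel)]
    simp only [List.map_cons, List.map_nil, List.prod_cons, List.prod_nil]
    rw [i5, h0, h1, ← h24]
    simp only [one_mul, mul_one, inv_mul_cancel]
    rw [← pow_two, h22]
  have e7 : A (s 7) = 1 := by rw [show A (s 7) = (A (s 6))⁻¹ from inv 6 (by decide), e6, inv_one]
  have e9 : A (s 9) = 1 := by rw [show A (s 9) = (A (s 8))⁻¹ from inv 8 (by decide), e8, inv_one]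
  have e10 : A (s 10) = 1 := by
    rw [wl 10 (bws.getD 2 []) (by decide) (by decide) (by decide +kernel)]
    simp only [bws, List.getD_cons_succ, List.getD_cons_zero, List.map_cons, List.map_nil, List.prod_cons, List.prod_nil, e6, e7, e8, e9, mul_one]
  have e12 : A (s 12) = 1 := by
    rw [wl 12 (bws.getD 3 []) (by decide) (by decide) (by decide +kernel)]
    simp only [bws, List.getD_cons_succ, List.getD_cons_zero, List.map_cons, List.map_nil, List.prod_cons, List.prod_nil, e6, e7, e8, e9, mul_one]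
  have e11 : A (s 11) = 1 := by rw [show A (s 11) = (A (s 10))⁻¹ from inv 10 (by decide), e10, inv_one]
  have e13 : A (s 13) = 1 := by rw [show A (s 13) = (A (s 12))⁻¹ from inv 12 (by decide), e12, inv_one]
  have e14 : A (s 14) = 1 := by
    rw [wl 14 (bws.getD 4 []) (by decide) (by decide) (by decide +kernel)]
    simp only [bws, List.getD_cons_succ, List.getD_cons_zero, List.map_cons, List.map_nil, List.prod_cons, List.prod_nil, e10, e11, e12, e13, mul_one]
  have e16 : A (s 16) = 1 := by
    rw [wl 16 (bws.getD 5 []) (by decide) (by decide) (by decide +kernel)]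
    simp only [bws, List.getD_cons_succ, List.getD_cons_zero, List.map_cons, List.map_nil, List.prod_cons, List.prod_nil, e10, e11, e12, e13, mul_one]
  have e15 : A (s 15) = 1 := by rw [show A (s 15) = (A (s 14))⁻¹ from inv 14 (by decide), e14, inv_one]
  intro l hl
  simp only [List.mem_cons, List.mem_nil_iff, or_false] at hl
  rcases hl with rfl | rfl | rfl | rfl | rfl | rfl | rfl | rfl | rfl | rfl | rfl
  · exact e6
  · exact e7
  · exact e8
  · exact e9
  · exact e10
  · exact e11
  · exact e12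
  · exact e13
  · exact e14
  · exact e15
  · exact e16

theorem letter_mem : ∀ l ∈ ([6, 7, 8, 9, 10, 11, 12, 13, 14, 15, 16] : List Nat), s l ∈ commutator TG := by
  intro l hl
  exact (QuotientGroup.eq_one_iff _).1 (ab_letters l hl)

theorem comm_eq : commutator TG = wordGroup s tG0 := by
  apply le_antisymm comm_le
  unfold wordGroup
  rw [Subgroup.closure_le]
  rintro g ⟨w, hw, rfl⟩
  have key : ∀ w ∈ tG0, ∃ l ∈ ([6, 7, 8, 9, 10, 11, 12, 13, 14, 15, 16] : List Nat), w = [l] := by decide
  obtain ⟨l, hl, rfl⟩ := key w hw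
  rw [wd]
  exact letter_mem l hl

theorem comm_index : (commutator TG).index = 2 := by rw [comm_eq]; exact T_index
theorem comm_card : Nat.card TitsGroup = 17971200 := by
  change Nat.card (commutator TG) = _
  rw [comm_eq]; exact T_card

end Cfsg.Agent.H8.Tits
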