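import Cfsg.Prelude.Def_LieTwisted
import Cfsg.Agent.H8.CosetPerm

/-!
# Coded vectors for the adjoint module of `F₄` over the field with two elements
-/

set_option autoImplicit false
set_option linter.all false
set_option maxRecDepth 100000

namespace Cfsg.Agent.H8.Tits

open Cfsg.Lie Matrix

abbrev V := chevF4.Idx → ZMod 2
abbrev Mt := Matrix chevF4.Idx chevF4.Idx (ZMod 2)

/-- bit of a code as an element of the field -/
def bitZ (c k : ℕ) : ZMod 2 := if c.testBit k then 1 else 0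

def pos : chevF4.Idx → ℕ
  | Sum.inl i => i
  | Sum.inr r => 4 + r

def ix (k : Fin 52) : chevF4.Idx :=
  if h : k.val < 4 then Sum.inl ⟨k.val, h⟩ else Sum.inr ⟨k.val - 4, by have := k.2; show k.val - 4 < 48; omega⟩

theorem pos_lt (i : chevF4.Idx) : pos i < 52 := by
  cases i with
  | inl i => have := i.2; change (i : ℕ) < 4 at this; change (i : ℕ) < 52; omega
  | inr r => have := r.2; change (r : ℕ) < 48 at this; change 4 + (r : ℕ) < 52; omega

theorem ix_pos (i : chevF4.Idx) : ix ⟨pos i, pos_lt i⟩ = i := by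
  cases i with
  | inl i =>
    have h : (i : ℕ) < 4 := i.2
    unfold ix
    rw [dif_pos (show (⟨pos (Sum.inl i), pos_lt (Sum.inl i)⟩ : Fin 52).val < 4 from h)]
    rfl
  | inr r =>
    unfold ix
    have h : ¬ ((⟨pos (Sum.inr r), pos_lt (Sum.inr r)⟩ : Fin 52).val < 4) := by
      change ¬ (4 + (r : ℕ) < 4); omega
    rw [dif_neg h]
    congr 1
    apply Fin.ext
    change 4 + (r : ℕ) - 4 = r
    omega

theorem pos_ix (k : Fin 52) : pos (ix k) = k := by
  unfold ix
  by_cases h : k.val < 4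
  · rw [dif_pos h]; rfl
  · rw [dif_neg h]
    change 4 + (k.val - 4) = k
    omega

/-- the vector with a given code -/
def dec (c : ℕ) : V := fun i => bitZ c (pos i)

theorem bitZ_xor (c d k : ℕ) : bitZ (c ^^^ d) k = bitZ c k + bitZ d k := by
  unfold bitZ
  rw [Nat.testBit_xor]
  cases c.testBit k <;> cases d.testBit k <;> decide

theorem dec_xor (c d : ℕ) : dec (c ^^^ d) = dec c + dec d := by
  funext i; exact bitZ_xor c d (pos i)

theorem dec_zero : dec 0 = 0 := by
  funext i; simp [dec, bitZ]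

theorem dec_inj (c d : ℕ) (hc : c < 2 ^ 52) (hd : d < 2 ^ 52) (h : dec c = dec d) : c = d := by
  apply Nat.eq_of_testBit_eq
  intro k
  by_cases hk : k < 52
  · have h1 := congrFun h (ix ⟨k, hk⟩)
    unfold dec bitZ at h1
    rw [pos_ix] at h1
    cases h2 : c.testBit k <;> cases h3 : d.testBit k
    · rfl
    · simp [h2, h3] at h1
    · simp [h2, h3] at h1
    · rfl
  · have hk' : 2 ^ 52 ≤ 2 ^ k := Nat.pow_le_pow_right (by norm_num) (by omega)
    rw [Nat.testBit_lt_two_pow (lt_of_lt_of_le hc hk'), Nat.testBit_lt_two_pow (lt_of_lt_of_le hd hk')]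

theorem dec_two_pow (j : ℕ) (hj : j < 52) : dec (2 ^ j) = Pi.single (ix ⟨j, hj⟩) 1 := by
  funext i
  unfold dec bitZ
  rw [Nat.testBit_two_pow]
  by_cases h : j = pos i
  · subst h
    rw [ix_pos, Pi.single_eq_same]
    simp
  · rw [Pi.single_eq_of_ne]
    · simp [h]
    · intro h1
      apply h
      rw [h1, pos_ix]

/-- apply a column table -/
noncomputable def appN (C : Nat → Nat) (c : Nat) (n : Nat) : Nat :=
  @Nat.rec (fun _ => Nat) (nat_lit 0)
    (fun j ih => Nat.xor ih (Nat.mul (Nat.land (Nat.shiftRight c j) (nat_lit 1)) (C j))) n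

theorem mod_succ_xor (c n : ℕ) : c % 2 ^ (n + 1) = (c % 2 ^ n) ^^^ (((c >>> n) &&& 1) * 2 ^ n) := by
  apply Nat.eq_of_testBit_eq
  intro k
  have h1 : (c >>> n) &&& 1 = if c.testBit n then 1 else 0 := by
    rw [Nat.and_one_is_mod, Nat.shiftRight_eq_div_pow, Nat.testBit_eq_decide_div_mod_eq]
    have := Nat.mod_two_eq_zero_or_one (c / 2 ^ n)
    rcases this with h | h <;> simp [h]
  rw [Nat.testBit_xor, Nat.testBit_mod_two_pow, Nat.testBit_mod_two_pow, h1]
  by_cases hb : c.testBit n = true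
  · rw [if_pos hb, one_mul, Nat.testBit_two_pow]
    rcases Nat.lt_trichotomy k n with h | h | h
    · have h2 : k < n + 1 := by omega
      have h3 : n ≠ k := by omega
      simp [h, h2, h3]
    · subst h
      simp [hb]
    · have h2 : ¬ k < n + 1 := by omega
      have h3 : ¬ k < n := by omega
      have h4 : n ≠ k := by omega
      simp [h2, h3, h4]
  · rw [if_neg hb, zero_mul, Nat.zero_testBit]
    rcases Nat.lt_trichotomy k n with h | h | h
    · have h2 : k < n + 1 := by omega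
      simp [h, h2]
    · subst h
      simp [hb]
    · have h2 : ¬ k < n + 1 := by omega
      have h3 : ¬ k < n := by omega
      simp [h2, h3]

theorem mulVec_mod (M : Mt) (C : ℕ → ℕ) (h : ∀ j < 52, M *ᵥ dec (2 ^ j) = dec (C j)) (c : ℕ) :
    ∀ n ≤ 52, M *ᵥ dec (c % 2 ^ n) = dec (appN C c n) := by
  intro n
  induction n with
  | zero =>
    intro _
    rw [pow_zero, Nat.mod_one, dec_zero, Matrix.mulVec_zero]
    exact dec_zero.symm
  | succ n ih =>
    intro hn
    have e : appN C c (n + 1) = appN C c n ^^^ (((c >>> n) &&& 1) * C n) := rfl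
    rw [e, mod_succ_xor, dec_xor, Matrix.mulVec_add, ih (by omega), dec_xor]
    refine congrArg (fun z => dec (appN C c n) + z) ?_
    have h1 := Nat.mod_two_eq_zero_or_one (c >>> n)
    rw [← Nat.and_one_is_mod] at h1
    rcases h1 with h1 | h1
    · rw [h1, zero_mul, zero_mul, dec_zero, Matrix.mulVec_zero]
    · rw [h1, one_mul, one_mul]
      exact h n (by omega)

theorem mulVec_dec' (M : Mt) (C : ℕ → ℕ) (h : ∀ j < 52, M *ᵥ dec (2 ^ j) = dec (C j)) (c n : ℕ) (hn : n ≤ 52) (hc : c < 2 ^ n) :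
    M *ᵥ dec c = dec (appN C c n) := by
  have h1 := mulVec_mod M C h c n hn
  rw [Nat.mod_eq_of_lt hc] at h1
  exact h1

theorem mulVec_dec (M : Mt) (C : ℕ → ℕ) (h : ∀ j < 52, M *ᵥ dec (2 ^ j) = dec (C j)) (c : ℕ) (hc : c < 2 ^ 52) :
    M *ᵥ dec c = dec (appN C c 52) := mulVec_dec' M C h c 52 (Nat.le_refl 52) hc

theorem mat_ext (M N : Mt) (h : ∀ j < 52, M *ᵥ dec (2 ^ j) = N *ᵥ dec (2 ^ j)) : M = N := by
  ext i j
  have h1 := h (pos j) (pos_lt j)
  rw [dec_two_pow _ (pos_lt j), ix_pos, Matrix.mulVec_single_one, Matrix.mulVec_single_one] at h1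
  exact congrFun h1 i

/-- columns of a root element from a table of entries -/
theorem root_cols (r : ℕ) (hr : r < 48) (C : ℕ → ℕ)
    (h : ∀ i j : Fin 52, chevF4.xMat (ZMod 2) ⟨r, hr⟩ 1 (ix i) (ix j) = bitZ (C j) i) :
    ∀ j < 52, chevF4.x (ZMod 2) r 1 *ᵥ dec (2 ^ j) = dec (C j) := by
  intro j hj
  have e : chevF4.x (ZMod 2) r 1 = chevF4.xMat (ZMod 2) ⟨r, hr⟩ 1 := dif_pos hr
  rw [dec_two_pow j hj, Matrix.mulVec_single_one, e]
  funext i
  have h1 := h ⟨pos i, pos_lt i⟩ ⟨j, hj⟩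
  rw [ix_pos] at h1
  exact h1

/-- check that the composite of two column tables is a third -/
noncomputable def ckMul (C D E : Nat → Nat) (j : Nat) : Bool := Nat.beq (appN C (D j) (nat_lit 52)) (E j)

theorem mul_cols (M N : Mt) (C D E : ℕ → ℕ) (hM : ∀ j < 52, M *ᵥ dec (2 ^ j) = dec (C j))
    (hN : ∀ j < 52, N *ᵥ dec (2 ^ j) = dec (D j)) (hD : ∀ j < 52, D j < 2 ^ 52) (h : ∀ j < 52, ckMul C D E j = true) :
    ∀ j < 52, (M * N) *ᵥ dec (2 ^ j) = dec (E j) := by
  intro j hj
  rw [← Matrix.mulVec_mulVec, hN j hj, mulVec_dec M C hM _ (hD j hj)]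
  congr 1
  exact Nat.eq_of_beq_eq_true (h j hj)

end Cfsg.Agent.H8.Tits
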