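import Cfsg.Agent.H8.RelGroup
import Cfsg.Agent.H8.T.Z322tL
import Cfsg.Agent.H8.T.O73dt
import Cfsg.Agent.H8.T.E6t
import Cfsg.Agent.H8.T.D5t
import Cfsg.Agent.H8.T.A4t
import Cfsg.Agent.H8.T.A3t
import Cfsg.Agent.H8.T.A2t
import Cfsg.Agent.H8.T.A1t

/-!
# The group with diagram `Y₃₂₂` and the spider relation: order 9170703360

Letters `b, c, d, e, f, g, h, i` are `0, …, 7`.
-/

set_option autoImplicit false
set_option linter.all false
set_option maxRecDepth 100000

namespace Cfsg.Agent.H8.ZP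

/-- upper bound, for any group with these relations. -/
theorem upper_of {G : Type*} [Group G] (s : Nat → G) (hinv : ∀ l, s l = (s l)⁻¹) (h31 : s 31 = 1)
    (base : ∀ p ∈ Z322t.rels2, ((p.1.map s).prod) ^ p.2 = 1) :
    Finite (letterGroup s 8) ∧ Nat.card (letterGroup s 8) ≤ 9170703360 := by
  have h1 := A1t.upper (subS s [0]) (subS_inv s _ hinv) (subS_31 s _ h31)
    (rels_sub s [0] _ _ base (by decide)) ⊥ (by intro w hw; exact absurd hw (by decide +revert)) inferInstance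
  have h2 := A2t.upper (subS s [0, 1]) (subS_inv s _ hinv) (subS_31 s _ h31)
    (rels_sub s [0, 1] _ _ base (by decide)) _ (sub_mem s [0, 1] [0] 1 _ (by decide)) h1.1
  have h3 := A3t.upper (subS s [0, 1, 2]) (subS_inv s _ hinv) (subS_31 s _ h31)
    (rels_sub s [0, 1, 2] _ _ base (by decide)) _ (sub_mem s [0, 1, 2] [0, 1] 2 _ (by decide)) h2.1
  have h4 := A4t.upper (subS s [0, 1, 2, 3]) (subS_inv s _ hinv) (subS_31 s _ h31)
    (rels_sub s [0, 1, 2, 3] _ _ base (by decide)) _ (sub_mem s [0, 1, 2, 3] [0, 1, 2] 3 _ (by decide)) h3.1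
  have h5 := D5t.upper (subS s [0, 1, 2, 3, 6]) (subS_inv s _ hinv) (subS_31 s _ h31)
    (rels_sub s [0, 1, 2, 3, 6] _ _ base (by decide)) _ (sub_mem s [0, 1, 2, 3, 6] [0, 1, 2, 3] 4 _ (by decide)) h4.1
  have h6 := E6t.upper (subS s [0, 1, 2, 3, 4, 6]) (subS_inv s _ hinv) (subS_31 s _ h31)
    (rels_sub s [0, 1, 2, 3, 4, 6] _ _ base (by decide)) _
    (sub_mem s [0, 1, 2, 3, 4, 6] [0, 1, 2, 3, 6] 5 _ (by decide)) h5.1
  have h7 := O73dt.upper (subS s [0, 1, 2, 3, 4, 6, 7]) (subS_inv s _ hinv) (subS_31 s _ h31)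
    (rels_sub s [0, 1, 2, 3, 4, 6, 7] _ _ base (by decide)) _
    (sub_mem s [0, 1, 2, 3, 4, 6, 7] [0, 1, 2, 3, 4, 6] 6 _ (by decide)) h6.1
  have h8 := Z322t.upper s hinv h31 base (letterGroup (subS s [0, 1, 2, 3, 4, 6, 7]) 7) (by
    intro w hw
    have := sub_mem s [0, 1, 2, 3, 4, 5, 6, 7] [0, 1, 2, 3, 4, 6, 7] 7 Z322t.subw (by decide) w hw
    have h5 : w.map (subS s [0, 1, 2, 3, 4, 5, 6, 7]) = w.map s := by
      apply List.map_congr_left
      intro l hl
      have : ∀ w ∈ Z322t.subw, ∀ l ∈ w, l < 8 := by decide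
      exact subS_id s [0, 1, 2, 3, 4, 5, 6, 7] 8 (by decide) l (this w hw l hl)
    rw [h5] at this
    exact this) h7.1
  refine ⟨h8.1, ?_⟩
  have e1 : Nat.card (⊥ : Subgroup G) = 1 := by simp
  rw [e1] at h1
  omega

/-- the abstract presented group. -/
abbrev J : Type := RG 8 Z322t.rels2

noncomputable def s : Nat → J := RG.gen 8 Z322t.rels2

theorem s_inv : ∀ l, s l = (s l)⁻¹ := RG.gen_inv 8 Z322t.rels2
theorem s_31 : s 31 = 1 := RG.gen_ge 8 Z322t.rels2 31 (by decide)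
theorem s_rels : ∀ p ∈ Z322t.rels2, ((p.1.map s).prod) ^ p.2 = 1 := RG.gen_rels 8 Z322t.rels2
theorem s_top : letterGroup s 8 = ⊤ := RG.letterGroup_top 8 Z322t.rels2

theorem finite_and_card_le : Finite J ∧ Nat.card J ≤ 9170703360 := by
  have h := upper_of s s_inv s_31 s_rels
  rw [s_top] at h
  refine ⟨?_, ?_⟩
  · have := h.1
    exact Finite.of_equiv _ Subgroup.topEquiv.toEquiv
  · rw [Subgroup.card_top] at h
    exact h.2

instance J_finite : Finite J := finite_and_card_le.1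

noncomputable def ρ : J →* Equiv.Perm (Fin 728) :=
  RG.lift 8 Z322t.rels2 (permL Z322t.tok) (permL_sq Z322t.tok)
    (fun l hl => permL_ge Z322t.tok l (by omega)) Z322t.relp

theorem hρ' : ∀ l, ρ (s l) = permL Z322t.tok l := fun l => RG.lift_gen 8 Z322t.rels2 _ _ _ _ l
theorem hρ : ∀ l < 8, ρ (s l) = permL Z322t.tok l := fun l _ => hρ' l

theorem lowerP : 9170703360 ≤ Nat.card (wordGroup (permL Z322t.tok) Z322t.chG0) := by
  have h1 := Z322t.ch_lower (permL Z322t.tok) (MonoidHom.id _) (fun l _ => rfl)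
  omega

theorem ρ_injective : Function.Injective ρ := by
  apply injective_of_card ρ (wordGroup (permL Z322t.tok) Z322t.chG0)
  · rw [← RG.map_wordGroup ρ s _ hρ' Z322t.chG0]
    rintro _ ⟨x, _, rfl⟩
    exact ⟨x, rfl⟩
  · exact le_trans finite_and_card_le.2 lowerP
  · infer_instance

theorem wd (w : List Nat) (hw : ∀ l ∈ w, l < 8)
    (h : allR (fun i => powT (w.map Z322t.T) i 1 i) 0 728 = true) : (w.map s).prod = 1 :=
  word_eq_one s Z322t.tok ρ hρ ρ_injective w hw h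

/-- transfer of an identity to any group with these relations. -/
theorem tr {P : Type*} [Group P] (t : Nat → P) (hsq : ∀ l, t l * t l = 1) (hge : ∀ l, 8 ≤ l → t l = 1)
    (hrel : ∀ p ∈ Z322t.rels2, ((p.1.map t).prod) ^ p.2 = 1) (w : List Nat) (hw : ∀ l ∈ w, l < 8)
    (h : allR (fun i => powT (w.map Z322t.T) i 1 i) 0 728 = true) : (w.map t).prod = 1 := by
  have h1 := congrArg (RG.lift 8 Z322t.rels2 t hsq hge hrel) (wd w hw h)
  rw [map_one, map_list_prod, List.map_map] at h1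
  have h2 : (⇑(RG.lift 8 Z322t.rels2 t hsq hge hrel) ∘ s) = t := by
    funext l
    exact RG.lift_gen 8 Z322t.rels2 _ _ _ _ l
  rw [h2] at h1
  exact h1

/-- the central word `(bcdefgh)⁹`. -/
def zw : List Nat := wpow [0, 1, 2, 3, 4, 5, 6] 9

theorem k1 : allR (fun i => powT ((zw ++ wpow [1, 2, 3, 4, 5, 6, 7] 9).map Z322t.T) i 1 i) 0 728 = true := by decide +kernel
theorem k2 : allR (fun i => powT ((zw ++ zw).map Z322t.T) i 1 i) 0 728 = true := by decide +kernel
theorem k3_0 : allR (fun i => powT (([0] ++ zw ++ [0] ++ zw).map Z322t.T) i 1 i) 0 728 = true := by decide +kernel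
theorem k3_1 : allR (fun i => powT (([1] ++ zw ++ [1] ++ zw).map Z322t.T) i 1 i) 0 728 = true := by decide +kernel
theorem k3_2 : allR (fun i => powT (([2] ++ zw ++ [2] ++ zw).map Z322t.T) i 1 i) 0 728 = true := by decide +kernel
theorem k3_3 : allR (fun i => powT (([3] ++ zw ++ [3] ++ zw).map Z322t.T) i 1 i) 0 728 = true := by decide +kernel
theorem k3_4 : allR (fun i => powT (([4] ++ zw ++ [4] ++ zw).map Z322t.T) i 1 i) 0 728 = true := by decide +kernel
theorem k3_5 : allR (fun i => powT (([5] ++ zw ++ [5] ++ zw).map Z322t.T) i 1 i) 0 728 = true := by decide +kernel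
theorem k3_6 : allR (fun i => powT (([6] ++ zw ++ [6] ++ zw).map Z322t.T) i 1 i) 0 728 = true := by decide +kernel
theorem k3_7 : allR (fun i => powT (([7] ++ zw ++ [7] ++ zw).map Z322t.T) i 1 i) 0 728 = true := by decide +kernel
theorem k4 : allR (fun i => powT ((wpow [5, 4, 3, 2, 1, 0, 6] 9 ++ (wpow [1, 2, 6, 7, 3, 4, 5] 9).reverse).map Z322t.T) i 1 i) 0 728 = true := by
  decide +kernel
theorem k5 : allR (fun i => powT ((wpow [2, 3, 4, 2, 1, 0, 2, 6, 7] 10).map Z322t.T) i 1 i) 0 728 = true := by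
  decide +kernel

end Cfsg.Agent.H8.ZP
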